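import Cfsg.Agent.Lib.FourFree.K.Bound
import Cfsg.Prelude.Def_LocalEven

/-!
# Sections isomorphic to the symmetric groups of degree three and four
-/

set_option autoImplicit false
set_option linter.unusedSectionVars false
set_option linter.style.haveILetI false

namespace CfsgLib.ReeType

open Subgroup Cfsg

universe u

variable {G : Type u} [Group G] [Finite G]

/-- A section as a homomorphism. -/
theorem exists_hom_of_involves {X : Type*} [Group X] (h : Cfsg.Involves X G) :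
    ∃ (K : Subgroup G) (f : K →* X), Function.Surjective f := by
  obtain ⟨K, R, hR, ⟨e⟩⟩ := h
  haveI := hR
  exact ⟨K, e.toMonoidHom.comp (QuotientGroup.mk' _),
    e.surjective.comp (QuotientGroup.mk'_surjective _)⟩

theorem four_syl : ∃ a b : Equiv.Perm (Fin 4), a * a = 1 ∧ b * b * b * b = 1 ∧ a * b * a = b * b * b ∧
    a * b ≠ b * a := by decide +kernel

/-- Abelian Sylow `2`-subgroups exclude `S₄`. -/
theorem no_four_of_comm_sylow (h : ∀ P : Sylow 2 G, ∀ a ∈ (P : Subgroup G), ∀ b ∈ (P : Subgroup G),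
    a * b = b * a) : ¬ Cfsg.Involves (Equiv.Perm (Fin 4)) G := by
  intro hi
  haveI : Fact (Nat.Prime 2) := ⟨Nat.prime_two⟩
  obtain ⟨K, f, hf⟩ := exists_hom_of_involves hi
  obtain ⟨a, b, ha, hb, hab, hne⟩ := four_syl
  set D := closure ({a, b} : Set (Equiv.Perm (Fin 4))) with hD
  obtain ⟨P⟩ : Nonempty (Sylow 2 K) := inferInstance
  let Q := Sylow.mapSurjective hf P
  have hQ : ∀ x ∈ (Q : Subgroup (Equiv.Perm (Fin 4))), ∀ y ∈ (Q : Subgroup (Equiv.Perm (Fin 4))),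
      x * y = y * x := by
    rintro _ ⟨x, hx, rfl⟩ _ ⟨y, hy, rfl⟩
    obtain ⟨S, hS⟩ := (P.2.map K.subtype).exists_le_sylow
    have := h S x (hS (mem_map_of_mem _ hx)) y (hS (mem_map_of_mem _ hy))
    rw [← map_mul, ← map_mul, show x * y = y * x from Subtype.ext this]
  have hDP : IsPGroup 2 D := by
    have hA : IsPGroup 2 (zpowers a) := by
      rintro ⟨g, i, rfl⟩
      refine ⟨1, Subtype.ext ?_⟩
      show (a ^ i) ^ (2 ^ 1) = 1
      rw [← zpow_natCast, ← zpow_mul, mul_comm, zpow_mul, pow_one, zpow_natCast, pow_two, ha, one_zpow]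
    have hB : IsPGroup 2 (zpowers b) := by
      rintro ⟨g, i, rfl⟩
      refine ⟨2, Subtype.ext ?_⟩
      show (b ^ i) ^ (2 ^ 2) = 1
      rw [← zpow_natCast, ← zpow_mul, mul_comm, zpow_mul, zpow_natCast,
        show b ^ 2 ^ 2 = 1 by rw [show (2 : ℕ) ^ 2 = 3 + 1 from rfl, pow_succ, pow_succ, pow_two, hb],
        one_zpow]
    have hn : zpowers a ≤ normalizer ((zpowers b : Subgroup (Equiv.Perm (Fin 4))) : Set (Equiv.Perm (Fin 4))) := by
      refine zpowers_le.2 (mem_normalizer_fintype fun x hx => ?_)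
      obtain ⟨i, rfl⟩ := mem_zpowers_iff.1 hx
      rw [← conj_zpow, inv_eq_of_mul_eq_one_right ha, hab]
      exact zpow_mem (mul_mem (mul_mem (mem_zpowers b) (mem_zpowers b)) (mem_zpowers b)) i
    refine (hA.to_sup_of_normal_right' hB hn).to_le ((closure_le _).2 ?_)
    intro x hx
    rcases hx with rfl | rfl
    · exact mem_sup_left (mem_zpowers _)
    · exact mem_sup_right (mem_zpowers _)
  obtain ⟨R, hR⟩ := hDP.exists_le_sylow
  obtain ⟨g, hg⟩ := MulAction.exists_smul_eq (Equiv.Perm (Fin 4)) Q R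
  have haR : a ∈ (R : Subgroup (Equiv.Perm (Fin 4))) := hR (subset_closure (by simp))
  have hbR : b ∈ (R : Subgroup (Equiv.Perm (Fin 4))) := hR (subset_closure (by simp))
  rw [← hg, Sylow.coe_subgroup_smul] at haR hbR
  obtain ⟨x, hx, hxa⟩ := haR
  obtain ⟨y, hy, hyb⟩ := hbR
  apply hne
  rw [← hxa, ← hyb]
  show MulAut.conj g x * MulAut.conj g y = MulAut.conj g y * MulAut.conj g x
  rw [← map_mul, ← map_mul, hQ x hx y hy]

/-- The action of `S₄` on the three partitions into pairs, as a function. -/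
def pairing (σ : Equiv.Perm (Fin 4)) (i : Fin 3) : Fin 3 :=
  ⟨((σ 0).val ^^^ (σ i.succ).val) - 1, by
    have h1 := (σ 0).isLt
    have h2 := (σ i.succ).isLt
    have : (σ 0).val ^^^ (σ i.succ).val < 2 ^ 2 := Nat.xor_lt_two_pow h1 h2
    omega⟩

theorem pairing_mul : ∀ (σ τ : Equiv.Perm (Fin 4)) (i : Fin 3),
    pairing (σ * τ) i = pairing σ (pairing τ i) := by decide +kernel

theorem pairing_one : ∀ i : Fin 3, pairing 1 i = i := by decide +kernel

/-- The action of `S₄` on the three partitions into pairs. -/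
def pairHom : Equiv.Perm (Fin 4) →* Equiv.Perm (Fin 3) :=
  MonoidHom.mk' (fun σ =>
    { toFun := pairing σ
      invFun := pairing σ⁻¹
      left_inv := fun i => by rw [← pairing_mul, inv_mul_cancel, pairing_one]
      right_inv := fun i => by rw [← pairing_mul, mul_inv_cancel, pairing_one] })
    fun σ τ => Equiv.ext (pairing_mul σ τ)

theorem pairHom_surj : Function.Surjective pairHom := by
  have h : ∀ τ : Equiv.Perm (Fin 3), ∃ σ : Equiv.Perm (Fin 4), ∀ i, pairing σ i = τ i := by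
    decide +kernel
  intro τ
  obtain ⟨σ, hσ⟩ := h τ
  exact ⟨σ, Equiv.ext hσ⟩

theorem pair_kernel : ∀ σ : Equiv.Perm (Fin 4), (∀ i, pairing σ i = i) → σ * σ = 1 := by decide +kernel

theorem exists_pair_kernel : ∃ σ : Equiv.Perm (Fin 4), (∀ i, pairing σ i = i) ∧ σ ≠ 1 := by
  decide +kernel

theorem no_normal_two : ∀ s : Equiv.Perm (Fin 3), s * s = 1 → s ≠ 1 → ∃ c : Equiv.Perm (Fin 3),
    (s * (c * s * c⁻¹)) * (s * (c * s * c⁻¹)) * (s * (c * s * c⁻¹)) = 1 ∧ s * (c * s * c⁻¹) ≠ 1 := by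
  decide +kernel

/-- A trivial intersection Sylow `2`-subgroup excludes `S₄`. -/
theorem no_four_of_ti (S : Sylow 2 G)
    (hTI : ∀ g : G, ∀ u ∈ (S : Subgroup G), u ≠ 1 → g * u * g⁻¹ ∈ (S : Subgroup G) →
      g ∈ normalizer ((S : Subgroup G) : Set G)) : ¬ Cfsg.Involves (Equiv.Perm (Fin 4)) G := by
  intro hi
  haveI : Fact (Nat.Prime 2) := ⟨Nat.prime_two⟩
  obtain ⟨K, f, hf⟩ := exists_hom_of_involves hi
  set ρ : K →* Equiv.Perm (Fin 3) := pairHom.comp f with hρ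
  set U := ρ.ker with hU
  obtain ⟨W⟩ : Nonempty (Sylow 2 U) := inferInstance
  -- the Sylow subgroup of the kernel is nontrivial
  obtain ⟨w, hwW, hw1⟩ : ∃ w ∈ (W : Subgroup U).map U.subtype, w ≠ 1 := by
    obtain ⟨σ, hσ, hσ1⟩ := exists_pair_kernel
    obtain ⟨x, hx⟩ := hf σ
    have hxU : x ∈ U := MonoidHom.mem_ker.2 (by
      rw [hρ, MonoidHom.comp_apply, hx]; exact Equiv.ext hσ)
    by_contra hc
    push Not at hc
    have hW1 : Nat.card (W : Subgroup U) = 1 := by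
      refine Subgroup.card_eq_one.2 ((eq_bot_iff_forall _).2 fun y hy => ?_)
      exact Subtype.ext (hc _ (mem_map_of_mem _ hy))
    have h2 : ¬ 2 ∣ Nat.card U := fun h2 => by
      have hi' := W.not_dvd_index
      have := (W : Subgroup U).card_mul_index
      rw [hW1, one_mul] at this
      exact hi' (this ▸ h2)
    have ho : orderOf σ ∣ Nat.card U := hx ▸
      ((orderOf_map_dvd (f.comp U.subtype) ⟨x, hxU⟩).trans (orderOf_dvd_natCard _))
    refine h2 (dvd_trans ?_ ho)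
    rw [orderOf_eq_prime (by rw [pow_two]; exact pair_kernel σ hσ) hσ1]
  obtain ⟨T, hT⟩ := ((W.2.map U.subtype).map K.subtype).exists_le_sylow
  obtain ⟨g, hg⟩ := MulAction.exists_smul_eq G S T
  have hTmem : ∀ x, x ∈ (T : Subgroup G) ↔ g⁻¹ * x * g ∈ (S : Subgroup G) := fun x => by
    rw [← hg, Sylow.coe_subgroup_smul]
    constructor
    · rintro ⟨y, hy, rfl⟩
      show g⁻¹ * (g * y * g⁻¹) * g ∈ _
      rwa [show g⁻¹ * (g * y * g⁻¹) * g = y by group]
    · exact fun h => ⟨_, h, show g * (g⁻¹ * x * g) * g⁻¹ = x by group⟩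
  set H : Subgroup K := normalizer (((W : Subgroup U).map U.subtype : Subgroup K) : Set K) with hH
  have hHT : ∀ k ∈ H, ∀ x ∈ (T : Subgroup G), (k : G) * x * (k : G)⁻¹ ∈ (T : Subgroup G) := by
    intro k hk x hx
    have h1 : (k : G) * (w : G) * (k : G)⁻¹ ∈ (T : Subgroup G) :=
      hT ⟨k * w * k⁻¹, (mem_normalizer_iff.1 hk w).1 hwW, rfl⟩
    have h2 : (w : G) ∈ (T : Subgroup G) := hT ⟨w, hwW, rfl⟩
    have hn := hTI (g⁻¹ * k * g) (g⁻¹ * w * g) ((hTmem _).1 h2) (fun e => hw1 (Subtype.ext (by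
        calc (w : G) = g * (g⁻¹ * w * g) * g⁻¹ := by group
          _ = 1 := by rw [e, mul_one, mul_inv_cancel])))
      (by rw [show g⁻¹ * (k : G) * g * (g⁻¹ * w * g) * (g⁻¹ * k * g)⁻¹ = g⁻¹ * (k * w * (k : G)⁻¹) * g by group]
          exact (hTmem _).1 h1)
    refine (hTmem _).2 ?_
    rw [show g⁻¹ * ((k : G) * x * (k : G)⁻¹) * g = (g⁻¹ * k * g) * (g⁻¹ * x * g) * (g⁻¹ * k * g)⁻¹ by group]
    exact (mem_normalizer_iff.1 hn _).1 ((hTmem _).1 hx)
  have hsurj : ∀ τ : Equiv.Perm (Fin 3), ∃ k ∈ H, ρ k = τ := by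
    intro τ
    obtain ⟨k, hk⟩ := (pairHom_surj.comp hf) τ
    have h1 : k ∈ H ⊔ U := (Sylow.normalizer_sup_eq_top W).symm ▸ mem_top k
    rw [← SetLike.mem_coe, Subgroup.mul_normal H U] at h1
    obtain ⟨a, ha, b, hb, rfl⟩ := h1
    refine ⟨a, ha, ?_⟩
    rw [← hk]
    show ρ a = ρ (a * b)
    rw [map_mul, MonoidHom.mem_ker.1 hb, mul_one]
  -- a `2`-element of `H` mapping to an involution lies in `T`
  obtain ⟨k, hkH, hk⟩ := hsurj (Equiv.swap 0 1)
  have hk2 : ∃ k' ∈ H, ρ k' = Equiv.swap 0 1 ∧ (k' : G) ∈ (T : Subgroup G) := by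
    obtain ⟨a, r, hr, he⟩ := Nat.exists_eq_pow_mul_and_not_dvd (orderOf_pos (k : G)).ne' 2
      (by norm_num)
    refine ⟨k ^ r, pow_mem hkH r, ?_, ?_⟩
    · obtain ⟨j, hj⟩ : Odd r := Nat.not_even_iff_odd.1 fun e => hr (even_iff_two_dvd.1 e)
      rw [map_pow, hk, hj, pow_succ, pow_mul, pow_two, Equiv.swap_mul_self, one_pow, one_mul]
    · rw [Subgroup.coe_pow]
      have hP : IsPGroup 2 (zpowers ((k : G) ^ r)) := by
        obtain ⟨i, -, hi⟩ := (Nat.dvd_prime_pow Nat.prime_two).1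
          (orderOf_dvd_of_pow_eq_one (x := (k : G) ^ r) (n := 2 ^ a)
            (by rw [← pow_mul, mul_comm, ← he, pow_orderOf_eq_one]))
        exact IsPGroup.of_card (n := i) (by rw [Nat.card_zpowers, hi])
      have hle : zpowers ((k : G) ^ r) ≤ normalizer ((T : Subgroup G) : Set G) := by
        refine zpowers_le.2 (pow_mem (mem_normalizer_fintype fun x hx => hHT k hkH x hx) r)
      exact ((le_inf le_rfl hle).trans (hP.inf_normalizer_sylow T).le).trans inf_le_right (mem_zpowers _)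
  obtain ⟨s, hsH, hs, hsT⟩ := hk2
  obtain ⟨c, hc3, hc1⟩ := no_normal_two (Equiv.swap 0 1) (Equiv.swap_mul_self _ _) (by decide)
  obtain ⟨d, hdH, hd⟩ := hsurj c
  set y : K := s * (d * s * d⁻¹) with hy
  have hyT : (y : G) ∈ (T : Subgroup G) := mul_mem hsT (by push_cast; exact hHT d hdH s hsT)
  obtain ⟨i, hi⟩ := T.2 ⟨y, hyT⟩
  have hi' : y ^ 2 ^ i = 1 := Subtype.ext (by
    rw [Subgroup.coe_pow]; exact congrArg Subtype.val hi)
  refine hc1 ?_
  have hρy : ρ y = Equiv.swap 0 1 * (c * Equiv.swap 0 1 * c⁻¹) := by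
    rw [hy, map_mul, map_mul, map_mul, map_inv, hs, hd]
  rw [← hρy] at hc3 ⊢
  exact orderOf_eq_one_iff.1 (Nat.eq_one_of_dvd_coprimes
    (Nat.Coprime.pow_left i (by norm_num : Nat.Coprime 2 3))
    (orderOf_dvd_of_pow_eq_one (by rw [← map_pow, hi', map_one]))
    (orderOf_dvd_of_pow_eq_one (by rw [pow_succ, pow_two]; exact hc3)))

/-- `S₃` is not involved exactly when no element of order three is inverted. -/
theorem no_three_iff : ¬ Cfsg.Involves (Equiv.Perm (Fin 3)) G ↔ FourFree.HG G := by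
  refine ⟨FourFree.hg_of_not_involves_three, fun hG hi => ?_⟩
  haveI : Fact (Nat.Prime 3) := ⟨Nat.prime_three⟩
  haveI : Fact (Nat.Prime 2) := ⟨Nat.prime_two⟩
  obtain ⟨K, f, hf⟩ := exists_hom_of_involves hi
  obtain ⟨P⟩ : Nonempty (Sylow 3 K) := inferInstance
  -- the image of a Sylow 3-subgroup is normal, so its normalizer covers everything
  let Q := Sylow.mapSurjective hf P
  have hQ : ∀ τ : Equiv.Perm (Fin 3), τ * τ * τ = 1 → τ ∈ (Q : Subgroup (Equiv.Perm (Fin 3))) := by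
    intro τ hτ
    have hP : IsPGroup 3 (zpowers τ) := by
      rintro ⟨g, i, rfl⟩
      refine ⟨1, Subtype.ext ?_⟩
      show (τ ^ i) ^ (3 ^ 1) = 1
      rw [← zpow_natCast, ← zpow_mul, mul_comm, zpow_mul, pow_one, zpow_natCast, pow_succ, pow_two, hτ,
        one_zpow]
    obtain ⟨R, hR⟩ := hP.exists_le_sylow
    have hnorm : ∀ (g : Equiv.Perm (Fin 3)) (x : Equiv.Perm (Fin 3)), x * x * x = 1 →
        g * x * g⁻¹ = x ∨ g * x * g⁻¹ = x * x := by decide +kernel
    obtain ⟨g, hg⟩ := MulAction.exists_smul_eq (Equiv.Perm (Fin 3)) R Q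
    rw [← hg, Sylow.coe_subgroup_smul]
    rcases hnorm g⁻¹ τ hτ with e | e
    · exact ⟨τ, hR (mem_zpowers τ), by
        show g * τ * g⁻¹ = τ
        calc g * τ * g⁻¹ = g * (g⁻¹ * τ * g⁻¹⁻¹) * g⁻¹ := by rw [e]
          _ = τ := by group⟩
    · exact ⟨τ * τ, hR (mul_mem (mem_zpowers τ) (mem_zpowers τ)), by
        show g * (τ * τ) * g⁻¹ = τ
        rw [← e]; group⟩
  set U := (Q : Subgroup (Equiv.Perm (Fin 3))).comap f with hU
  obtain ⟨x, hxP, hx⟩ : Equiv.swap (0 : Fin 3) 1 * Equiv.swap 1 2 ∈ (Q : Subgroup (Equiv.Perm (Fin 3))) :=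
    hQ _ (by decide)
  have hU3 : ∀ g : Equiv.Perm (Fin 3), g ∈ (Q : Subgroup (Equiv.Perm (Fin 3))) → g * g * g = 1 := by
    intro g hg
    obtain ⟨i, hi⟩ := Q.2 ⟨g, hg⟩
    have hi' : g ^ 3 ^ i = 1 := congrArg Subtype.val hi
    have h6 : ∀ g : Equiv.Perm (Fin 3), g * g = 1 ∨ g * g * g = 1 := by decide +kernel
    rcases h6 g with h | h
    · have : g = 1 := orderOf_eq_one_iff.1 (Nat.eq_one_of_dvd_coprimes
        (Nat.Coprime.pow_right i (by norm_num : Nat.Coprime 2 3))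
        (orderOf_dvd_of_pow_eq_one (by rw [pow_two]; exact h)) (orderOf_dvd_of_pow_eq_one hi'))
      rw [this]; simp
    · exact h
  haveI : U.Normal := by
    haveI : (Q : Subgroup (Equiv.Perm (Fin 3))).Normal := ⟨fun z hz g => hQ _ (by
      rw [show g * z * g⁻¹ * (g * z * g⁻¹) * (g * z * g⁻¹) = g * (z * z * z) * g⁻¹ by group, hU3 z hz,
        mul_one, mul_inv_cancel])⟩
    infer_instance
  have hPU : (P : Subgroup K) ≤ U := fun y hy => ⟨y, hy, rfl⟩
  set H : Subgroup K := normalizer ((((P.subtype hPU : Sylow 3 U) : Subgroup U).map U.subtype : Subgroup K) : Set K)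
  have htop : H ⊔ U = ⊤ := Sylow.normalizer_sup_eq_top (P.subtype hPU)
  have hPeq : ((P.subtype hPU : Sylow 3 U) : Subgroup U).map U.subtype = (P : Subgroup K) := by
    rw [Sylow.coe_subtype, subgroupOf_map_subtype, inf_of_le_left hPU]
  obtain ⟨k, hk⟩ := hf (Equiv.swap 0 1)
  have h1 : k ∈ H ⊔ U := htop.symm ▸ mem_top k
  rw [← SetLike.mem_coe, Subgroup.mul_normal H U] at h1
  obtain ⟨a, ha, b, hb, rfl⟩ := h1
  have hfa : f a * f a = 1 ∧ f a ≠ 1 ∧ f a * f x * (f a)⁻¹ ≠ f x := by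
    have hb3 : f b * f b * f b = 1 := hU3 _ hb
    have key : ∀ c d : Equiv.Perm (Fin 3), d * d * d = 1 → c * d = Equiv.swap 0 1 →
        c * c = 1 ∧ c ≠ 1 ∧ c * (Equiv.swap (0 : Fin 3) 1 * Equiv.swap 1 2) * c⁻¹ ≠
          Equiv.swap 0 1 * Equiv.swap 1 2 := by decide +kernel
    rw [hx]
    exact key (f a) (f b) hb3 (by rw [← map_mul]; exact hk)
  -- a power of `a` of `2`-power order, then the last power not centralizing `P`
  obtain ⟨e, r, hr, he⟩ := Nat.exists_eq_pow_mul_and_not_dvd (orderOf_pos a).ne' 2 (by norm_num)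
  set a' := a ^ r with ha'
  have hfa' : f a' = f a := by
    obtain ⟨j, hj⟩ : Odd r := Nat.not_even_iff_odd.1 fun e => hr (even_iff_two_dvd.1 e)
    rw [ha', map_pow, hj, pow_succ, pow_mul, pow_two, hfa.1, one_pow, one_mul]
  have hnP : ∀ i : ℕ, ∀ y ∈ (P : Subgroup K), a' ^ i * y * (a' ^ i)⁻¹ ∈ (P : Subgroup K) := by
    intro i y hy
    have h2 := (mem_normalizer_iff.1 (pow_mem (pow_mem ha r) i) y).1 (hPeq.symm ▸ hy)
    rwa [hPeq] at h2
  have ha2 : a' ^ 2 ^ e = 1 := by rw [ha', ← pow_mul, mul_comm, ← he, pow_orderOf_eq_one]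
  classical
  have hex : ∃ i, ∀ y ∈ (P : Subgroup K), Commute (a' ^ 2 ^ i) y :=
    ⟨e, fun y _ => by rw [ha2]; exact Commute.one_left y⟩
  have h0 : Nat.find hex ≠ 0 := fun h => hfa.2.2 (by
    have hc := Nat.find_spec hex x hxP
    rw [h, pow_zero, pow_one] at hc
    rw [← hfa', ← map_inv, ← map_mul, ← map_mul, hc.eq, mul_inv_cancel_right])
  obtain ⟨i, hi'⟩ := Nat.exists_eq_succ_of_ne_zero h0
  have hnot := Nat.find_min hex (show i < Nat.find hex by omega)
  push Not at hnot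
  obtain ⟨z, hzP, hz⟩ := hnot
  set c := a' ^ 2 ^ i with hc
  have hcc : ∀ y ∈ (P : Subgroup K), Commute (c * c) y := by
    intro y hy
    have h := Nat.find_spec hex y hy
    rwa [hi', Nat.succ_eq_add_one, pow_succ, pow_mul, pow_two, ← hc] at h
  set y : K := c * z * c⁻¹ * z⁻¹ with hy
  have hyP : y ∈ (P : Subgroup K) := mul_mem (hnP _ z hzP) (inv_mem hzP)
  have hinv : c * y * c⁻¹ = y⁻¹ := by
    calc c * y * c⁻¹ = (c * c * z * (c * c)⁻¹) * (c * z * c⁻¹)⁻¹ := by rw [hy]; group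
      _ = y⁻¹ := by rw [(hcc z hzP).eq, mul_inv_cancel_right, hy]; group
  have hy1 : y ≠ 1 := fun e => hz (mul_inv_eq_iff_eq_mul.1 (mul_inv_eq_one.1 e))
  obtain ⟨j, hj⟩ := P.2 ⟨y, hyP⟩
  have hj' : y ^ 3 ^ j = 1 := congrArg Subtype.val hj
  obtain ⟨l, -, hl⟩ := (Nat.dvd_prime_pow Nat.prime_three).1 (orderOf_dvd_of_pow_eq_one hj')
  have hl0 : l ≠ 0 := fun e => hy1 (orderOf_eq_one_iff.1 (by rw [hl, e, pow_zero]))
  have ho : orderOf (y ^ (orderOf y / 3)) = 3 :=
    orderOf_pow_orderOf_div (orderOf_pos y).ne' (hl ▸ dvd_pow_self 3 hl0)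
  have hone : y ^ (orderOf y / 3) = 1 := by
    refine Subtype.ext (hG (c : G) ((y ^ (orderOf y / 3) : K) : G) ?_ ?_)
    · have h3 := pow_orderOf_eq_one (y ^ (orderOf y / 3))
      rw [ho] at h3
      rw [← Subgroup.coe_pow, h3]; rfl
    · have := congrArg Subtype.val (show c * y ^ (orderOf y / 3) * c⁻¹ = (y ^ (orderOf y / 3))⁻¹ by
        rw [← conj_pow, hinv, inv_pow])
      simpa using this
  rw [hone, orderOf_one] at ho
  norm_num at ho

/-- A point action with a regular `2`-group on the other points gives trivial intersection. -/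
theorem no_four_of_action {Ω : Type*} [MulAction G Ω] (U : Subgroup G) (hU : IsPGroup 2 U) (e f : Ω)
    (hne : U ≠ ⊥) (fix : ∀ u ∈ U, u • e = e) (trans : ∀ x : Ω, x ≠ e → ∃ u ∈ U, u • f = x)
    (free : ∀ u ∈ U, u • f = f → u = 1)
    (pelt : ∀ g : G, g • e = e → ∀ k : ℕ, g ^ 2 ^ k = 1 → g ∈ U) :
    ¬ Cfsg.Involves (Equiv.Perm (Fin 4)) G := by
  haveI : Fact (Nat.Prime 2) := ⟨Nat.prime_two⟩
  have hfix1 : ∀ u ∈ U, u ≠ 1 → ∀ x : Ω, u • x = x → x = e := by
    intro u hu hu1 x hx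
    by_contra hxe
    obtain ⟨v, hv, rfl⟩ := trans x hxe
    have h1 := free (v⁻¹ * u * v) (mul_mem (mul_mem (inv_mem hv) hu) hv)
      (by rw [mul_smul, mul_smul, hx, inv_smul_smul])
    refine hu1 ?_
    calc u = v * (v⁻¹ * u * v) * v⁻¹ := by group
      _ = 1 := by rw [h1, mul_one, mul_inv_cancel]
  have hconj : ∀ g : G, g • e = e → ∀ u ∈ U, g * u * g⁻¹ ∈ U := by
    intro g hg u hu
    obtain ⟨k, hk⟩ := hU ⟨u, hu⟩
    have hk' : u ^ 2 ^ k = 1 := congrArg Subtype.val hk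
    refine pelt _ ?_ k (by rw [conj_pow, hk', mul_one, mul_inv_cancel])
    rw [mul_smul, mul_smul, inv_smul_eq_iff.2 hg.symm, fix u hu, hg]
  obtain ⟨S, hS⟩ := hU.exists_le_sylow
  obtain ⟨u₀, hu₀, hu₀1⟩ := (U.bot_or_exists_ne_one).resolve_left hne
  have hSU : (S : Subgroup G) = U := by
    refine le_antisymm ?_ hS
    haveI := S.isPGroup'.isNilpotent
    by_contra hnot
    have hlt : U.subgroupOf (S : Subgroup G) < ⊤ :=
      lt_top_iff_ne_top.2 fun h => hnot (subgroupOf_eq_top.1 h)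
    obtain ⟨-, y, hy, hyU⟩ :=
      SetLike.lt_iff_le_and_exists.1 (Group.normalizerCondition_of_isNilpotent _ hlt)
    refine hyU (mem_subgroupOf.2 ?_)
    obtain ⟨k, hk⟩ := S.isPGroup' y
    refine pelt _ ?_ k (congrArg Subtype.val hk)
    have h1 := (mem_normalizer_iff.1 (inv_mem hy) ⟨u₀, hS hu₀⟩).1 (mem_subgroupOf.2 hu₀)
    have h2 : (y : G)⁻¹ * u₀ * (y : G) ∈ U := by simpa [mem_subgroupOf] using h1
    refine hfix1 u₀ hu₀ hu₀1 _ ?_
    have h3 := congrArg ((y : G) • ·) (fix _ h2)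
    simp only [mul_smul, smul_inv_smul] at h3
    exact h3
  refine no_four_of_ti S fun g u hu hu1 hgu => ?_
  rw [hSU] at hu hgu ⊢
  have hge : g • e = e := by
    refine hfix1 _ hgu (fun h => hu1 (conj_eq_one_iff.1 h)) _ ?_
    rw [mul_smul, mul_smul, inv_smul_smul, fix u hu]
  exact mem_normalizer_fintype fun x hx => hconj g hge x hx

end CfsgLib.ReeType
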