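import Cfsg.Agent.Lib.Ree.Entry
import Cfsg.Agent.Lib.Ree.Sections
import Cfsg.Agent.Lib.Invol.CyclicCentralizer
import Cfsg.Agent.Lib.Char.SmallGraph.Coprime

/-!
# A group of Ree type has an inverted element of order three
-/

set_option autoImplicit false
set_option linter.unusedSectionVars false
set_option linter.style.haveILetI false

namespace CfsgLib.ReeType

open Subgroup Cfsg

universe u

variable {G : Type u} [Group G] [Finite G] {q m n : ℕ}

theorem Setup.not_hg (T : Setup G q m n) : ¬ FourFree.HG G := by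
  classical
  intro hG
  haveI : Fact (Nat.Prime 2) := ⟨Nat.prime_two⟩
  haveI : Fact (Nat.Prime 3) := ⟨Nat.prime_three⟩
  obtain ⟨k, hk, hqk⟩ := T.kit.q_pow
  obtain ⟨Q⟩ : Nonempty (Sylow 3 T.K) := inferInstance
  set Q' : Subgroup G := (Q : Subgroup T.K).map T.K.subtype with hQ'
  have hQc : Nat.card Q' = q := by
    rw [hQ', card_map_of_injective T.K.subtype_injective, T.kit.card_sylow_three]
  obtain ⟨P, hP⟩ := (Q.2.map T.K.subtype).exists_le_sylow
  -- the Sylow subgroup is larger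
  have hbig : q < Nat.card (P : Subgroup G) := by
    rw [P.card_eq_multiplicity]
    have h1 : q ^ 3 ∣ Nat.card G := by
      rw [T.card_eq, mul_assoc]; exact dvd_mul_right _ _
    have h2 : q ^ 3 ∣ 3 ^ (Nat.card G).factorization 3 := by
      rw [hqk, ← pow_mul] at h1 ⊢
      exact Nat.pow_dvd_pow _ ((Nat.prime_three.pow_dvd_iff_le_factorization Nat.card_pos.ne').1 h1)
    have h3 := Nat.le_of_dvd (pow_pos (by norm_num) _) h2
    have := T.kit.q_ge
    have h4 : q ^ 1 < q ^ 3 := Nat.pow_lt_pow_right (by omega) (by norm_num)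
    rw [pow_one] at h4
    omega
  have hlt : Q'.subgroupOf (P : Subgroup G) < ⊤ := lt_top_iff_ne_top.2 fun h => by
    have h1 := Subgroup.card_le_of_le (subgroupOf_eq_top.1 h)
    omega
  haveI := P.isPGroup'.isNilpotent
  obtain ⟨hle, y, hy, hyQ⟩ :=
    SetLike.lt_iff_le_and_exists.1 (Group.normalizerCondition_of_isNilpotent _ hlt)
  set N : Subgroup (P : Subgroup G) := normalizer ((Q'.subgroupOf (P : Subgroup G) : Subgroup _) : Set _) with hN
  -- a central element of `N` in `Q'`
  have hN3 : IsPGroup 3 N := P.isPGroup'.to_subgroup N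
  set M : Subgroup N := (Q'.subgroupOf (P : Subgroup G)).subgroupOf N with hM
  haveI : M.Normal := normal_subgroupOf_of_le_normalizer le_rfl
  have hMne : M ≠ ⊥ := fun e => by
    have h1 : Nat.card M = q := by
      rw [hM, Nat.card_congr (subgroupOfEquivOfLe hle).toEquiv,
        Nat.card_congr (subgroupOfEquivOfLe hP).toEquiv]
      exact hQc
    rw [e, card_bot] at h1
    have := T.kit.q_ge
    omega
  obtain ⟨z, hzM, hzC, hz1⟩ : ∃ z : N, z ∈ M ∧ z ∈ center N ∧ z ≠ 1 := by
    rcases (M ⊓ center N).bot_or_exists_ne_one with h | ⟨z, hz, hz1⟩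
    · exfalso
      have h1 : 3 ∣ Nat.card (MulAction.fixedPoints (ConjAct N) M) := by
        have hC : IsPGroup 3 (ConjAct N) := hN3
        refine (Nat.modEq_zero_iff_dvd).1 ((hC.card_modEq_card_fixedPoints M).symm.trans ?_)
        obtain ⟨i, hi⟩ := IsPGroup.iff_card.1 (hN3.to_subgroup M)
        have hi0 : i ≠ 0 := fun e => hMne (Subgroup.card_eq_one.1 (by rw [hi, e, pow_zero]))
        rw [hi]
        exact (Nat.modEq_zero_iff_dvd).2 (dvd_pow_self 3 hi0)
      have h2 : Nat.card (MulAction.fixedPoints (ConjAct N) M) = 1 := by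
        refine Nat.card_eq_one_iff_unique.2 ⟨⟨fun a b => ?_⟩, ⟨⟨1, fun g => Subtype.ext ?_⟩⟩⟩
        · have key : ∀ c : MulAction.fixedPoints (ConjAct N) M, ((c : M) : N) = 1 := fun c =>
            (eq_bot_iff_forall _).1 h _ ⟨(c : M).2, mem_center_iff.2 fun g => by
              have h3 := congrArg Subtype.val (c.2 (ConjAct.toConjAct g))
              rw [ConjAct.Subgroup.val_conj_smul, ConjAct.toConjAct_smul] at h3
              exact mul_inv_eq_iff_eq_mul.1 h3⟩
          exact Subtype.ext (Subtype.ext ((key a).trans (key b).symm))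
        · rw [ConjAct.Subgroup.val_conj_smul, OneMemClass.coe_one, smul_one]
      omega
    · exact ⟨z, hz.1, hz.2, hz1⟩
  set x : G := ((z : (P : Subgroup G)) : G) with hx
  have hxQ : x ∈ Q' := hzM
  obtain ⟨x₀, hx₀, hx₀x⟩ : x ∈ Q' := hzM
  have hx1 : x ≠ 1 := fun e => hz1 (Subtype.ext (Subtype.ext e))
  have hxK : x ∈ T.K := hx₀x ▸ x₀.2
  have hxt : Commute x T.t := T.comm_t x hxK
  have hxo : orderOf x = 3 := by
    obtain ⟨i, hi⟩ := Q.2 ⟨x₀, hx₀⟩
    have hi' : (⟨x, hxK⟩ : T.K) ^ 3 ^ i = 1 := by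
      have : (⟨x, hxK⟩ : T.K) = x₀ := Subtype.ext hx₀x.symm
      rw [this]; exact congrArg Subtype.val hi
    obtain ⟨j, -, hj⟩ := (Nat.dvd_prime_pow Nat.prime_three).1 (orderOf_dvd_of_pow_eq_one hi')
    have hodd : Odd (orderOf (⟨x, hxK⟩ : T.K)) := hj ▸ Odd.pow (by decide)
    rw [← Subgroup.orderOf_mk x hxK]
    rcases T.kit.odd_orders hodd with h | h | h
    · exact (Nat.Prime.eq_one_or_self_of_dvd Nat.prime_three _ h).resolve_left fun e =>
        hx1 (congrArg Subtype.val (orderOf_eq_one_iff.1 e))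
    · rw [hj] at h
      rcases j with _ | j
      · have e : (⟨x, hxK⟩ : T.K) = 1 := orderOf_eq_one_iff.1 (by rw [hj, pow_zero])
        exact absurd (congrArg Subtype.val e) hx1
      · exact absurd ((dvd_pow_self 3 (Nat.succ_ne_zero j)).trans h) T.kit.three_not_m
    · rw [hj] at h
      rcases j with _ | j
      · have e : (⟨x, hxK⟩ : T.K) = 1 := orderOf_eq_one_iff.1 (by rw [hj, pow_zero])
        exact absurd (congrArg Subtype.val e) hx1
      · exact absurd ((dvd_pow_self 3 (Nat.succ_ne_zero j)).trans h) T.kit.three_not_n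
  -- the centralizer of `x`
  set H : Subgroup G := centralizer ({x} : Set G) with hH
  have htH : T.t ∈ H := mem_centralizer_singleton_iff.2 hxt.symm.eq
  set tH : H := ⟨T.t, htH⟩ with htHdef
  have hinf : Nat.card (centralizer ({T.t} : Set G) ⊓ H : Subgroup G) = 2 * q := T.card_inf_three hxo hxt
  have htP : IsPGroup 2 (zpowers tH) :=
    IsPGroup.of_card (n := 1) (by rw [Nat.card_zpowers, Subgroup.orderOf_mk, T.order_t, pow_one])
  obtain ⟨S, hS⟩ := htP.exists_le_sylow
  have hScard : Nat.card (S : Subgroup H) = 2 := by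
    have hle2 : (S : Subgroup H).map H.subtype ≤ centralizer ({T.t} : Set G) ⊓ H := by
      rintro _ ⟨s, hs, rfl⟩
      refine ⟨mem_centralizer_singleton_iff.2 ?_, s.2⟩
      exact (T.comm_of_isPGroup (S.2.map H.subtype) (mem_map_of_mem _ hs)
        (mem_map_of_mem _ (hS (mem_zpowers tH)))).eq
    have hd : Nat.card (S : Subgroup H) ∣ 2 * q := by
      rw [← card_map_of_injective H.subtype_injective, ← hinf]
      exact card_dvd_of_le hle2
    obtain ⟨i, hi⟩ := IsPGroup.iff_card.1 S.2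
    have h2 : 2 ∣ Nat.card (S : Subgroup H) := by
      have := orderOf_dvd_natCard (⟨tH, hS (mem_zpowers tH)⟩ : (S : Subgroup H))
      rwa [Subgroup.orderOf_mk, Subgroup.orderOf_mk, T.order_t] at this
    rw [hi] at hd h2 ⊢
    rcases i with _ | _ | i
    · norm_num at h2
    · norm_num
    · exfalso
      have h4 : 4 ∣ 2 * q := dvd_trans (dvd_trans (by norm_num) (pow_dvd_pow 2 (show 2 ≤ i + 1 + 1 by omega))) hd
      have := T.kit.hn
      omega
  obtain ⟨R, hR⟩ := Invol.exists_index_two_of_cyclic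
    (even_iff_two_dvd.2 ((dvd_of_eq hScard.symm).trans (card_subgroup_dvd_card _)))
    S (isCyclic_of_prime_card hScard)
  haveI : R.Normal := normal_of_index_eq_two hR
  have hRodd : ¬ 2 ∣ Nat.card R := fun h => by
    have h1 := R.card_mul_index
    rw [hR] at h1
    have h2 := S.not_dvd_index
    have h3 := (S : Subgroup H).card_mul_index
    rw [hScard, ← h1, mul_comm] at h3
    exact h2 (Nat.eq_of_mul_eq_mul_right two_pos h3 ▸ h)
  -- a Sylow subgroup of `R` normalized by the involution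
  have hodd : ¬ 2 ∣ Nat.card (Sylow 3 R) := fun h => by
    obtain ⟨P₀⟩ : Nonempty (Sylow 3 R) := inferInstance
    exact hRodd (h.trans (P₀.card_dvd_index.trans ⟨_, ((P₀ : Subgroup R).index_mul_card).symm⟩))
  let c : MulAut R := MulAut.conjNormal tH
  have hc2 : c * c = 1 := by
    show MulAut.conjNormal tH * MulAut.conjNormal tH = 1
    rw [← map_mul, show tH * tH = 1 from Subtype.ext T.t_sq, map_one]
  let σ : Equiv.Perm (Sylow 3 R) := MulAction.toPermHom (MulAut R) (Sylow 3 R) c
  have hσ : σ ^ 2 = 1 := by rw [← map_pow, pow_two, hc2, map_one]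
  obtain ⟨⟨P₂, hP₂⟩⟩ : Nonempty {P₂ : Sylow 3 R // σ P₂ = P₂} := by
    have h := Char.SmallGraph.card_fixed_modEq (r := 2) σ hσ
    refine (Nat.card_pos_iff.1 (Nat.pos_of_ne_zero fun h0 => ?_)).1
    rw [h0, Nat.modEq_zero_iff_dvd] at h
    exact hodd h
  have hP₂c : q < Nat.card (P₂ : Subgroup R) := by
    have hd : Nat.card N ∣ 2 * Nat.card R := by
      rw [mul_comm, ← hR, R.card_mul_index]
      have hle3 : N.map (P : Subgroup G).subtype ≤ H := by
        rintro _ ⟨w, hw, rfl⟩
        refine mem_centralizer_singleton_iff.2 ?_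
        exact congrArg (fun v : N => ((v : (P : Subgroup G)) : G)) (mem_center_iff.1 hzC ⟨w, hw⟩)
      rw [← card_map_of_injective (P : Subgroup G).subtype_injective]
      exact card_dvd_of_le hle3
    have hq : q < Nat.card N := by
      have h1 : (Q'.subgroupOf (P : Subgroup G)) < N := lt_of_le_of_ne hle fun e => hyQ (e ▸ hy)
      have h2 : Nat.card (Q'.subgroupOf (P : Subgroup G)) = q := by
        rw [Nat.card_congr (subgroupOfEquivOfLe hP).toEquiv]; exact hQc
      have h3 := Subgroup.card_le_of_le h1.le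
      rcases h3.lt_or_eq with h4 | h4
      · omega
      · exact absurd (eq_of_le_of_card_ge h1.le h4.ge) h1.ne
    obtain ⟨i, hi⟩ := IsPGroup.iff_card.1 hN3
    refine hq.trans_le (Nat.le_of_dvd Nat.card_pos ?_)
    rw [P₂.card_eq_multiplicity, hi]
    rw [hi] at hd
    exact Nat.pow_dvd_pow _ ((Nat.prime_three.pow_dvd_iff_le_factorization Nat.card_pos.ne').1
      ((Nat.Coprime.pow_left i (by norm_num : Nat.Coprime 3 2)).dvd_of_dvd_mul_left hd))
  obtain ⟨r, hr, hrt⟩ : ∃ r : R, r ∈ (P₂ : Subgroup R) ∧ ¬ Commute ((r : H) : G) T.t := by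
    by_contra hc
    push Not at hc
    have hle4 : ((P₂ : Subgroup R).map R.subtype).map H.subtype ≤ centralizer ({T.t} : Set G) ⊓ H := by
      rintro _ ⟨_, ⟨r, hr, rfl⟩, rfl⟩
      exact ⟨mem_centralizer_singleton_iff.2 (hc r hr).eq, (r : H).2⟩
    have hd := card_dvd_of_le hle4
    rw [card_map_of_injective H.subtype_injective, card_map_of_injective R.subtype_injective, hinf] at hd
    have hco : Nat.Coprime (Nat.card (P₂ : Subgroup R)) 2 := by
      obtain ⟨i, hi⟩ := IsPGroup.iff_card.1 P₂.2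
      rw [hi]; exact Nat.Coprime.pow_left i (by norm_num)
    have := T.kit.q_ge
    have := Nat.le_of_dvd (by omega) (hco.dvd_of_dvd_mul_left hd)
    omega
  set w : R := c r * r⁻¹ with hw
  have hwP : w ∈ (P₂ : Subgroup R) := by
    refine mul_mem ?_ (inv_mem hr)
    rw [← hP₂]
    show c r ∈ ((c • P₂ : Sylow 3 R) : Subgroup R)
    rw [Sylow.pointwise_smul_def]
    exact Subgroup.smul_mem_pointwise_smul _ c _ hr
  have hwv : ((w : H) : G) = T.t * ((r : H) : G) * T.t⁻¹ * ((r : H) : G)⁻¹ := by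
    simp only [hw, c, Subgroup.coe_mul, Subgroup.coe_inv, MulAut.conjNormal_apply, htHdef]
  set w' : G := ((w : H) : G) with hw'
  have hinv : T.t * w' * T.t⁻¹ = w'⁻¹ := by
    rw [hwv]
    calc T.t * (T.t * ((r : H) : G) * T.t⁻¹ * ((r : H) : G)⁻¹) * T.t⁻¹
        = (T.t * T.t) * ((r : H) : G) * (T.t * T.t)⁻¹ * (T.t * ((r : H) : G) * T.t⁻¹)⁻¹ := by group
      _ = _ := by rw [T.t_sq]; group
  have hw1 : w' ≠ 1 := fun e => hrt (mul_inv_eq_iff_eq_mul.1 (mul_inv_eq_one.1 (hwv ▸ e))).symm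
  obtain ⟨i, hi⟩ := P₂.2 ⟨w, hwP⟩
  have hi' : w' ^ 3 ^ i = 1 := by
    have := congrArg (fun a : (P₂ : Subgroup R) => (((a : R) : H) : G)) hi
    simpa using this
  obtain ⟨j, -, hj⟩ := (Nat.dvd_prime_pow Nat.prime_three).1 (orderOf_dvd_of_pow_eq_one hi')
  have hj0 : j ≠ 0 := fun e => hw1 (orderOf_eq_one_iff.1 (by rw [hj, e, pow_zero]))
  have ho : orderOf (w' ^ (orderOf w' / 3)) = 3 :=
    orderOf_pow_orderOf_div (orderOf_pos w').ne' (hj ▸ dvd_pow_self 3 hj0)
  have h1 : w' ^ (orderOf w' / 3) = 1 := by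
    refine hG T.t _ ?_ (by rw [← conj_pow, hinv, inv_pow])
    have h3 := pow_orderOf_eq_one (w' ^ (orderOf w' / 3))
    rwa [ho] at h3
  rw [h1, orderOf_one] at ho
  norm_num at ho

/-- A group of Ree type: abelian Sylow `2`-subgroups and an inverted element of order three. -/
theorem sections_of_isReeType (h : Cfsg.IsReeType G) :
    ¬ Cfsg.Involves (Equiv.Perm (Fin 4)) G ∧ ¬ FourFree.HG G := by
  obtain ⟨k, q', m', n', ⟨⟨T, -⟩⟩⟩ := exists_setup_of_isReeType h
  exact ⟨no_four_of_comm_sylow fun P a ha b hb => (T.comm_of_isPGroup P.2 ha hb).eq, T.not_hg⟩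

end CfsgLib.ReeType
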