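import Cfsg.Agent.Lib.Ree.Order
import Cfsg.Agent.Lib.Invol.ZStar
import Cfsg.Agent.Lib.Coprime.Core

/-!
# Simple groups with an involution centralizer `2 × PSL(2, 3^(2k+1))`
-/

set_option autoImplicit false
set_option linter.unusedSectionVars false

namespace CfsgLib.ReeType

open Subgroup Cfsg

universe u

/-- A simple nonabelian group has no isolated involution. -/
theorem not_isolated_of_simple {G : Type u} [Group G] [Finite G] [IsSimpleGroup G]
    (hna : ¬ IsMulCommutative G) (t : G) : ¬ IsIsolatedInvolution t := by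
  intro hiso
  have hz := Invol.zstar hiso
  have hN : (Cfsg.pPrimeCore 2 G).Normal := by
    rw [CfsgLib.Coprime.pPrimeCore_eq_piCore Nat.prime_two]
    exact inferInstance
  rcases hN.eq_bot_or_eq_top with h | h
  · have hc : t ∈ center G := mem_center_iff.2 fun g => by
      have h1 := hz g
      rw [h, mem_bot] at h1
      exact (mul_inv_eq_iff_eq_mul.1 (mul_inv_eq_one.1 h1)).symm
    rcases (inferInstance : (center G).Normal).eq_bot_or_eq_top with e | e
    · rw [e, mem_bot] at hc
      exact Invol.invol_ne_one hiso.1 hc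
    · exact hna ⟨⟨fun a b => (mem_center_iff.1 (e ▸ mem_top b : b ∈ center G) a)⟩⟩
  · have h1 := CfsgLib.Coprime.pPrimeCore_not_dvd (G := G) Nat.prime_two
    rw [h, card_top] at h1
    exact h1 (hiso.1 ▸ orderOf_dvd_natCard t)

variable {G : Type u} [Group G] [Finite G] {q m n : ℕ}

theorem exists_setup_of_kit [IsSimpleGroup G] (hna : ¬ IsMulCommutative G) (t : G) (K : Subgroup G)
    (kit : Kit K q m n) (ht : orderOf t = 2) (comm_t : ∀ c ∈ K, Commute c t)
    (mem_or : ∀ c : G, Commute c t → c ∈ K ∨ t * c ∈ K) (not_mem : t ∉ K)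
    (odd_index : Odd (centralizer ({t} : Set G)).index) : Nonempty (Setup G q m n) := by
  classical
  haveI : Fact (Nat.Prime 2) := ⟨Nat.prime_two⟩
  have ht2 : t * t = 1 := Invol.invol_mul_self ht
  set C := centralizer ({t} : Set G) with hC
  -- a Sylow subgroup of `G` centralizing `t`
  obtain ⟨S₀⟩ : Nonempty (Sylow 2 C) := inferInstance
  have hndiv : ¬ 2 ∣ ((S₀ : Subgroup C).map C.subtype).index := by
    rw [Subgroup.index_map_subtype]
    exact Nat.prime_two.not_dvd_mul S₀.not_dvd_index fun h =>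
      Nat.not_even_iff_odd.2 odd_index (even_iff_two_dvd.2 h)
  set S : Sylow 2 G := (S₀.2.map C.subtype).toSylow hndiv with hS
  have hSC : ∀ s ∈ (S : Subgroup G), Commute s t := fun s hs =>
    mem_centralizer_singleton_iff.1 (map_subtype_le _ hs)
  have hS2 : ∀ s ∈ (S : Subgroup G), s * s = 1 := by
    intro s hs
    obtain ⟨j, hj⟩ := S.2 ⟨s, hs⟩
    have hj' : s ^ 2 ^ j = 1 := congrArg Subtype.val hj
    have key : ∀ z ∈ K, z ^ 2 ^ (j + 1) = 1 → z * z = 1 := by
      intro z hz hzp
      have hd : orderOf (⟨z, hz⟩ : K) ∣ 2 ^ (j + 1) :=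
        orderOf_dvd_of_pow_eq_one (Subtype.ext hzp)
      have h' : orderOf (⟨z, hz⟩ : K) ∣ 2 := by
        rcases kit.data.orders ⟨z, hz⟩ with ho | ho | ho
        · rw [Nat.eq_one_of_dvd_coprimes (Nat.Coprime.pow_left _ (by norm_num)) hd ho]
          exact one_dvd _
        · exact ((Nat.Coprime.pow_left _ (Nat.coprime_two_left.2 kit.m_odd)).coprime_dvd_left
            hd).dvd_of_dvd_mul_right ho
        · rw [Nat.eq_one_of_dvd_coprimes
            (Nat.Coprime.pow_left _ (Nat.coprime_two_left.2 kit.data.mo_odd)) hd ho]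
          exact one_dvd _
      exact (pow_two z).symm.trans (congrArg Subtype.val (orderOf_dvd_iff_pow_eq_one.1 h'))
    rcases mem_or s (hSC s hs) with h | h
    · exact key s h (by rw [pow_succ, pow_mul, hj', one_pow])
    · have h1 := key _ h (by
        rw [(hSC s hs).symm.mul_pow, pow_succ, pow_mul, pow_mul, hj', one_pow, mul_one, ← pow_mul,
          mul_comm, pow_mul, pow_two, ht2, one_pow])
      rw [← pow_two, (hSC s hs).symm.mul_pow, pow_two, pow_two, ht2, one_mul] at h1
      exact h1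
  have hScomm : ∀ a ∈ (S : Subgroup G), ∀ b ∈ (S : Subgroup G), a * b = b * a := by
    intro a ha b hb
    have e : ∀ y ∈ (S : Subgroup G), y⁻¹ = y := fun y hy => inv_eq_of_mul_eq_one_right (hS2 y hy)
    calc a * b = (a * b)⁻¹ := (e _ (mul_mem ha hb)).symm
      _ = b⁻¹ * a⁻¹ := mul_inv_rev _ _
      _ = b * a := by rw [e a ha, e b hb]
  have htS : t ∈ (S : Subgroup G) := by
    have h1 : zpowers t ≤ normalizer ((S : Subgroup G) : Set G) := zpowers_le.2
      (centralizer_le_normalizer _ (mem_centralizer_iff.2 fun s hs => (hSC s hs).eq))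
    have hP : IsPGroup 2 (zpowers t) :=
      IsPGroup.of_card (n := 1) (by rw [Nat.card_zpowers, ht, pow_one])
    exact ((le_inf le_rfl h1).trans (hP.inf_normalizer_sylow S).le).trans inf_le_right (mem_zpowers t)
  -- the number of conjugates of `t` in `S` is odd
  have hodd : Odd (Nat.card {x : G // x ∈ (S : Subgroup G) ∧ IsConj t x}) := by
    letI : MulAction (S : Subgroup G) {x : G // IsConj t x} :=
      { smul := fun s x => ⟨(s : G) * x * (s : G)⁻¹, x.2.trans (isConj_iff.2 ⟨(s : G), rfl⟩)⟩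
        one_smul := fun x => Subtype.ext (show (((1 : (S : Subgroup G)) : G)) * (x : G) *
          (((1 : (S : Subgroup G)) : G))⁻¹ = x by simp)
        mul_smul := fun a b x => Subtype.ext (show (((a * b : (S : Subgroup G)) : G)) * (x : G) *
          (((a * b : (S : Subgroup G)) : G))⁻¹ = (a : G) * ((b : G) * x * (b : G)⁻¹) * (a : G)⁻¹ by
          push_cast; group) }
    have hfix : Nat.card (MulAction.fixedPoints (S : Subgroup G) {x : G // IsConj t x}) =
        Nat.card {x : G // x ∈ (S : Subgroup G) ∧ IsConj t x} := by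
      refine Nat.card_congr
        { toFun := fun x => ⟨(x.1 : G), ?_, x.1.2⟩
          invFun := fun x => ⟨⟨x.1, x.2.2⟩, fun s => Subtype.ext (show (s : G) * x.1 * (s : G)⁻¹ = x.1 by
            rw [hScomm _ s.2 _ x.2.1, mul_inv_cancel_right])⟩
          left_inv := fun x => Subtype.ext (Subtype.ext rfl)
          right_inv := fun x => rfl }
      obtain ⟨c, hc⟩ := isConj_iff.1 x.1.2
      have hxo : orderOf (x.1 : G) = 2 := hc ▸ Invol.invol_conj ht c
      have h1 : zpowers (x.1 : G) ≤ normalizer ((S : Subgroup G) : Set G) := zpowers_le.2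
        (centralizer_le_normalizer _ (mem_centralizer_iff.2 fun s hs =>
          mul_inv_eq_iff_eq_mul.1 (congrArg Subtype.val (x.2 ⟨s, hs⟩))))
      have hP : IsPGroup 2 (zpowers (x.1 : G)) :=
        IsPGroup.of_card (n := 1) (by rw [Nat.card_zpowers, hxo, pow_one])
      exact ((le_inf le_rfl h1).trans (hP.inf_normalizer_sylow S).le).trans inf_le_right (mem_zpowers _)
    have h := S.2.card_modEq_card_fixedPoints {x : G // IsConj t x}
    rw [hfix] at h
    have hI : Nat.card {x : G // IsConj t x} = C.index := by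
      refine Nat.eq_of_mul_eq_mul_right (Nat.card_pos (α := C)) ?_
      rw [card_isConj_mul, mul_comm, C.card_mul_index]
    rw [hI] at h
    rw [Nat.odd_iff] at odd_index ⊢
    rw [← h.symm.trans rfl] at odd_index
    exact odd_index
  -- every involution is conjugate to an element of `S`, and those split in three kinds
  have hto : ∀ x : G, orderOf x = 2 → ∃ s ∈ (S : Subgroup G), orderOf s = 2 ∧ IsConj x s := by
    intro x hx
    have hP : IsPGroup 2 (zpowers x) :=
      IsPGroup.of_card (n := 1) (by rw [Nat.card_zpowers, hx, pow_one])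
    obtain ⟨P, hP'⟩ := hP.exists_le_sylow
    obtain ⟨g, hg⟩ := MulAction.exists_smul_eq G P S
    refine ⟨g * x * g⁻¹, ?_, Invol.invol_conj hx g, isConj_iff.2 ⟨g, rfl⟩⟩
    rw [← hg, Sylow.coe_subgroup_smul]
    exact mem_map_of_mem _ (hP' (mem_zpowers x))
  have hKconj : ∀ a b : G, a ∈ K → b ∈ K → orderOf a = 2 → orderOf b = 2 → IsConj a b := by
    intro a b ha hb ha2 hb2
    exact K.subtype.map_isConj
      (kit.conj ⟨a, ha⟩ ⟨b, hb⟩ (by rwa [Subgroup.orderOf_mk]) (by rwa [Subgroup.orderOf_mk]))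
  have hcase : ∀ s ∈ (S : Subgroup G), orderOf s = 2 → s = t ∨ s ∈ K ∨ (t * s ∈ K ∧ orderOf (t * s) = 2) := by
    intro s hs hs2
    rcases mem_or s (hSC s hs) with h | h
    · exact Or.inr (Or.inl h)
    · rcases eq_or_ne s t with e | e
      · exact Or.inl e
      · refine Or.inr (Or.inr ⟨h, orderOf_eq_prime ?_ fun e1 => e ?_⟩)
        · rw [pow_two, show t * s * (t * s) = t * (s * t) * s by group, (hSC s hs).eq, ← mul_assoc,
            ht2, one_mul, hS2 s hs]
        · rw [eq_inv_of_mul_eq_one_right e1, Invol.invol_inv ht]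
  obtain ⟨v, hvK, hvS, hv2⟩ : ∃ v, v ∈ K ∧ v ∈ (S : Subgroup G) ∧ orderOf v = 2 := by
    obtain ⟨u, hu⟩ := kit.exists_invol
    have hu' : orderOf (u : G) = 2 := (Subgroup.orderOf_coe u).trans hu
    have hP : IsPGroup 2 (zpowers (⟨(u : G), mem_centralizer_singleton_iff.2 (comm_t _ u.2).eq⟩ : C)) :=
      IsPGroup.of_card (n := 1) (by rw [Nat.card_zpowers, Subgroup.orderOf_mk, hu', pow_one])
    obtain ⟨P, hP'⟩ := hP.exists_le_sylow
    obtain ⟨g, hg⟩ := MulAction.exists_smul_eq C P S₀
    have hgS : (g : G) * (u : G) * (g : G)⁻¹ ∈ (S : Subgroup G) := by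
      refine ⟨g * ⟨(u : G), mem_centralizer_singleton_iff.2 (comm_t _ u.2).eq⟩ * g⁻¹, ?_, rfl⟩
      rw [← hg, Sylow.coe_subgroup_smul]
      exact mem_map_of_mem _ (hP' (mem_zpowers _))
    refine ⟨_, ?_, hgS, Invol.invol_conj hu' _⟩
    have hgt : Commute (g : G) t := mem_centralizer_singleton_iff.1 g.2
    rcases mem_or (g : G) hgt with h | h
    · exact mul_mem (mul_mem h u.2) (inv_mem h)
    · have e : (g : G) * (u : G) * (g : G)⁻¹ = (t * g) * (u : G) * (t * g)⁻¹ := by
        rw [show (t * g) * (u : G) * (t * g)⁻¹ = t * ((g : G) * u * (g : G)⁻¹) * t⁻¹ by group,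
          ((hgt.mul_left (comm_t _ u.2)).mul_left hgt.inv_left).symm.eq, mul_inv_cancel_right]
      rw [e]
      exact mul_mem (mul_mem h u.2) (inv_mem h)
  have htv : orderOf (t * v) = 2 := orderOf_eq_prime
    (by rw [(hSC v hvS).symm.mul_pow, pow_two, pow_two, ht2, hS2 v hvS, one_mul]) fun e =>
      not_mem (by
        rw [eq_inv_of_mul_eq_one_left e]
        exact inv_mem hvK)
  -- the two kinds are fused with `t`
  have hnone : ¬ (IsConj t v ↔ ¬ IsConj t (t * v)) := by
    intro hiff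
    set R : Subgroup G := (S : Subgroup G) ⊓ K with hR
    have hev : 2 ∣ Nat.card R := by
      have h1 := orderOf_dvd_natCard (⟨v, mem_inf.2 ⟨hvS, hvK⟩⟩ : R)
      rwa [Subgroup.orderOf_mk, hv2] at h1
    refine Nat.not_even_iff_odd.2 hodd (even_iff_two_dvd.2 ?_)
    suffices e : Nat.card {x : G // x ∈ (S : Subgroup G) ∧ IsConj t x} = Nat.card R by rwa [e]
    have hinv : ∀ x : G, IsConj t x → orderOf x = 2 := fun x hx => by
      obtain ⟨c, rfl⟩ := isConj_iff.1 hx
      exact Invol.invol_conj ht c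
    by_cases hv' : IsConj t v
    · have hno := hiff.1 hv'
      -- the conjugates of `t` in `S` are `t` and the involutions of `K`
      refine Nat.card_congr
        { toFun := fun x => if h : x.1 = t then (1 : R) else ⟨x.1, mem_inf.2 ⟨x.2.1, ?_⟩⟩
          invFun := fun r => if h : (r : G) = 1 then ⟨t, htS, IsConj.refl t⟩ else
            ⟨(r : G), r.2.1, hv'.trans (hKconj _ _ hvK r.2.2 hv2 ?_)⟩
          left_inv := fun x => ?_
          right_inv := fun r => ?_ }
      · rcases hcase x.1 x.2.1 (hinv _ x.2.2) with e | e | ⟨e, e2⟩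
        · exact absurd e h
        · exact e
        · refine absurd (x.2.2.trans ?_) hno
          have hc := hKconj _ _ e hvK e2 hv2
          obtain ⟨c, hc'⟩ := isConj_iff.1 (K.subtype.map_isConj (kit.conj ⟨_, e⟩ ⟨v, hvK⟩
            (by rwa [Subgroup.orderOf_mk]) (by rwa [Subgroup.orderOf_mk])))
          obtain ⟨k, hk⟩ := isConj_iff.1 (kit.conj ⟨_, e⟩ ⟨v, hvK⟩
            (by rwa [Subgroup.orderOf_mk]) (by rwa [Subgroup.orderOf_mk]))
          refine isConj_iff.2 ⟨(k : G), ?_⟩
          have hk' : (k : G) * (t * x.1) * (k : G)⁻¹ = v := congrArg Subtype.val hk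
          rw [← hk', ← mul_assoc t, ← mul_assoc t, ← (comm_t _ k.2).eq]
          calc (k : G) * x.1 * (k : G)⁻¹ = (k : G) * (t * t) * x.1 * (k : G)⁻¹ := by rw [ht2, mul_one]
            _ = _ := by group
      · exact orderOf_eq_prime (by rw [pow_two]; exact hS2 _ r.2.1) h
      · dsimp only
        by_cases e : x.1 = t
        · rw [dif_pos e, dif_pos (show ((1 : R) : G) = 1 from rfl)]
          exact Subtype.ext e.symm
        · rw [dif_neg e, dif_neg (Invol.invol_ne_one (hinv _ x.2.2))]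
      · dsimp only
        by_cases e : (r : G) = 1
        · rw [dif_pos e, dif_pos rfl]
          exact Subtype.ext e.symm
        · rw [dif_neg e, dif_neg (show ¬ (r : G) = t from fun e' => not_mem (e' ▸ r.2.2))]
    · have hyes : IsConj t (t * v) := by
        by_contra h
        exact hv' (hiff.2 h)
      refine Nat.card_congr
        { toFun := fun x => ⟨t * x.1, mem_inf.2 ⟨mul_mem htS x.2.1, ?_⟩⟩
          invFun := fun r => ⟨t * (r : G), mul_mem htS r.2.1, ?_⟩
          left_inv := fun x => Subtype.ext (by simp [← mul_assoc, ht2])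
          right_inv := fun r => Subtype.ext (by simp [← mul_assoc, ht2]) }
      · rcases hcase x.1 x.2.1 (hinv _ x.2.2) with e | e | ⟨e, -⟩
        · rw [e, ht2]; exact one_mem _
        · exact absurd (x.2.2.trans (hKconj _ _ e hvK (hinv _ x.2.2) hv2)) hv'
        · exact e
      · by_cases e : (r : G) = 1
        · rw [e, mul_one]
        · refine hyes.trans ?_
          obtain ⟨k, hk⟩ := isConj_iff.1 (kit.conj ⟨v, hvK⟩ ⟨(r : G), r.2.2⟩
            (by rwa [Subgroup.orderOf_mk])
            (by rw [Subgroup.orderOf_mk]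
                exact orderOf_eq_prime (by rw [pow_two]; exact hS2 _ r.2.1) e))
          refine isConj_iff.2 ⟨(k : G), ?_⟩
          have hk' : (k : G) * v * (k : G)⁻¹ = (r : G) := congrArg Subtype.val hk
          rw [← hk', ← mul_assoc (k : G), (comm_t _ k.2).eq]
          group
  have hboth : IsConj t v ∧ IsConj t (t * v) := by
    by_cases h1 : IsConj t v <;> by_cases h2 : IsConj t (t * v)
    · exact ⟨h1, h2⟩
    · exact absurd (iff_of_true h1 h2) hnone
    · exact absurd (iff_of_false h1 (not_not.2 h2)) hnone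
    · exfalso
      refine not_isolated_of_simple hna t ⟨ht, fun g hg => ?_⟩
      by_contra hne
      set w := g * t * g⁻¹ with hw
      have hw2 : orderOf w = 2 := Invol.invol_conj ht g
      have hwc : IsConj t w := isConj_iff.2 ⟨g, rfl⟩
      rcases mem_or w hg.symm with h | h
      · exact h1 (hwc.trans (hKconj _ _ h hvK hw2 hv2))
      · have hw' : orderOf (t * w) = 2 := orderOf_eq_prime
          (by rw [hg.mul_pow, pow_two, pow_two, ht2, Invol.invol_mul_self hw2, one_mul])
          fun e => hne (by rw [eq_inv_of_mul_eq_one_right e, Invol.invol_inv ht])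
        obtain ⟨k, hk⟩ := isConj_iff.1 (kit.conj ⟨_, h⟩ ⟨v, hvK⟩
          (by rwa [Subgroup.orderOf_mk]) (by rwa [Subgroup.orderOf_mk]))
        refine h2 (hwc.trans (isConj_iff.2 ⟨(k : G), ?_⟩))
        have hk' : (k : G) * (t * w) * (k : G)⁻¹ = v := congrArg Subtype.val hk
        rw [← hk', ← mul_assoc t, ← mul_assoc t, ← (comm_t _ k.2).eq]
        calc (k : G) * w * (k : G)⁻¹ = (k : G) * (t * t) * w * (k : G)⁻¹ := by rw [ht2, mul_one]
          _ = _ := by group
  refine ⟨{ t := t, K := K, kit := kit, order_t := ht, comm_t := comm_t, mem_or := mem_or,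
            not_mem := not_mem, odd_index := odd_index, conj := fun x hx => ?_ }⟩
  obtain ⟨s, hs, hs2, hc⟩ := hto x hx
  refine IsConj.trans ?_ hc.symm
  rcases hcase s hs hs2 with e | e | ⟨e, e2⟩
  · rw [e]
  · exact hboth.1.trans (hKconj _ _ hvK e hv2 hs2)
  · refine hboth.2.trans ?_
    obtain ⟨k, hk⟩ := isConj_iff.1 (kit.conj ⟨v, hvK⟩ ⟨_, e⟩
      (by rwa [Subgroup.orderOf_mk]) (by rwa [Subgroup.orderOf_mk]))
    refine isConj_iff.2 ⟨(k : G), ?_⟩
    have hk' : (k : G) * v * (k : G)⁻¹ = t * s := congrArg Subtype.val hk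
    calc (k : G) * (t * v) * (k : G)⁻¹ = (k : G) * t * v * (k : G)⁻¹ := by group
      _ = t * ((k : G) * v * (k : G)⁻¹) := by rw [(comm_t _ k.2).eq]; group
      _ = s := by rw [hk', ← mul_assoc, ht2, one_mul]

/-- The order of a group with such an involution centralizer. -/
theorem card_of_psl [IsSimpleGroup G] (hna : ¬ IsMulCommutative G) (t : G) (K : Subgroup G) {k : ℕ}
    (hk : 1 ≤ k) (ht : orderOf t = 2) (comm_t : ∀ c ∈ K, Commute c t)
    (mem_or : ∀ c : G, Commute c t → c ∈ K ∨ t * c ∈ K) (not_mem : t ∉ K)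
    (odd_index : Odd (centralizer ({t} : Set G)).index) {F : Type} [Field F] [Fintype F]
    (hF : Fintype.card F = 3 ^ (2 * k + 1))
    (e : K ≃* Matrix.ProjectiveSpecialLinearGroup (Fin 2) F) :
    Nat.card G = (3 ^ (2 * k + 1)) ^ 3 * ((3 ^ (2 * k + 1)) ^ 3 + 1) * (3 ^ (2 * k + 1) - 1) := by
  have h8 : ∀ i : ℕ, 3 ^ (2 * i + 1) % 8 = 3 := fun i => by
    induction i with
    | zero => norm_num
    | succ i ih =>
      rw [show 2 * (i + 1) + 1 = 2 + (2 * i + 1) by ring, pow_add, Nat.mul_mod, ih]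
      norm_num
  have h := h8 k
  obtain ⟨T⟩ := exists_setup_of_kit hna t K
    (Kit.of_equiv (m := (3 ^ (2 * k + 1) + 1) / 4) (n := (3 ^ (2 * k + 1) - 1) / 2) hk hF rfl
      (by omega) (by omega) e) ht comm_t mem_or not_mem odd_index
  exact T.card_eq

/-- A group of Ree type has the configuration studied here. -/
theorem exists_setup_of_isReeType (h : Cfsg.IsReeType G) : ∃ k q m n : ℕ,
    Nonempty {T : Setup G q m n // 1 ≤ k ∧ q = 3 ^ (2 * k + 1)} := by
  obtain ⟨hs, hna, t, K, k, hk, ht, hodd, ⟨hA, hK, hcomm, hinf, hsup⟩, F, _, _, hF, ⟨e⟩⟩ := h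
  haveI := hs
  have comm_t : ∀ c ∈ K, Commute c t := fun c hc =>
    mem_centralizer_singleton_iff.1 (hK hc)
  have not_mem : t ∉ K := fun h' => Invol.invol_ne_one ht
    (mem_bot.1 (hinf ▸ mem_inf.2 ⟨mem_zpowers t, h'⟩ : t ∈ (⊥ : Subgroup G)))
  have ht2 := Invol.invol_mul_self ht
  have mem_or : ∀ c : G, Commute c t → c ∈ K ∨ t * c ∈ K := by
    intro c hc
    have hc' : c ∈ zpowers t ⊔ K := hsup.symm ▸ mem_centralizer_singleton_iff.2 hc.eq
    rw [← SetLike.mem_coe, coe_mul_of_left_le_normalizer_right] at hc'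
    · obtain ⟨a, ha, b, hb, rfl⟩ := hc'
      obtain ⟨i, rfl⟩ := mem_zpowers_iff.1 ha
      rcases Int.even_or_odd i with ⟨j, rfl⟩ | ⟨j, rfl⟩
      · refine Or.inl ?_
        rw [← two_mul, zpow_mul, zpow_two, ht2, one_zpow]
        simpa using hb
      · refine Or.inr ?_
        rw [zpow_add_one, zpow_mul, zpow_two, ht2, one_zpow, one_mul]
        show t * (t * b) ∈ K
        rw [← mul_assoc, ht2, one_mul]
        exact hb
    · refine zpowers_le.2 (mem_normalizer_iff.2 fun x => ⟨fun hx => ?_, fun hx => ?_⟩)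
      · rw [(comm_t x hx).symm.eq, mul_inv_cancel_right]; exact hx
      · have h1 := comm_t _ hx
        have h2 : t * x * t⁻¹ = x := by
          have h3 := h1.eq
          rw [inv_mul_cancel_right] at h3
          exact (mul_left_cancel h3).symm
        rwa [h2] at hx
  have h8 : ∀ i : ℕ, 3 ^ (2 * i + 1) % 8 = 3 := fun i => by
    induction i with
    | zero => norm_num
    | succ i ih =>
      rw [show 2 * (i + 1) + 1 = 2 + (2 * i + 1) by ring, pow_add, Nat.mul_mod, ih]
      norm_num
  have h := h8 k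
  obtain ⟨T⟩ := exists_setup_of_kit hna t K
    (Kit.of_equiv (m := (3 ^ (2 * k + 1) + 1) / 4) (n := (3 ^ (2 * k + 1) - 1) / 2) hk hF rfl
      (by omega) (by omega) e) ht comm_t mem_or not_mem hodd
  exact ⟨k, _, _, _, ⟨⟨T, hk, rfl⟩⟩⟩

/-- The order of a group of Ree type. -/
theorem card_of_isReeType (h : Cfsg.IsReeType G) : ∃ k : ℕ, 1 ≤ k ∧
    Nat.card G = (3 ^ (2 * k + 1)) ^ 3 * ((3 ^ (2 * k + 1)) ^ 3 + 1) * (3 ^ (2 * k + 1) - 1) ∧
    ∃ t : G, orderOf t = 2 ∧
      Nat.card (centralizer ({t} : Set G)) =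
        3 ^ (2 * k + 1) * ((3 ^ (2 * k + 1)) ^ 2 - 1) := by
  obtain ⟨k, q, m, n, ⟨⟨T, hk, rfl⟩⟩⟩ := exists_setup_of_isReeType h
  refine ⟨k, hk, T.card_eq, T.t, T.order_t, ?_⟩
  have hm := T.kit.hm
  have hn := T.kit.hn
  rw [T.card_C]
  generalize 3 ^ (2 * k + 1) = q at hm hn ⊢
  have : 1 ≤ q ^ 2 := Nat.one_le_pow _ _ (by omega)
  zify [this] at hm hn ⊢
  linear_combination (-(2 * (q : ℤ) * n)) * hm - ((q : ℤ) * ((q : ℤ) + 1)) * hn

end CfsgLib.ReeType
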