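import Cfsg.Agent.Lib.Ree.Degree

/-!
# Groups of Ree type: `3`-subgroups and elements of prime order dividing `(q-1)/2`
-/

set_option autoImplicit false
set_option linter.unusedSectionVars false

namespace CfsgLib.ReeType

open Subgroup

universe u

variable {G : Type u} [Group G] [Finite G]

/-- A group `A⟨a⟩` of fixed-point-free automorphisms, `a` of prime order acting without fixed points on
`A`, forces `x ^ |A| = 1`. -/
theorem pow_card_eq_one_of_fpf {X A : Subgroup G} {a : G} {r : ℕ} (hr : r.Prime) (ha : orderOf a = r)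
    (hXc : ∀ x ∈ X, ∀ y ∈ X, x * y = y * x) (hAX : A ≤ normalizer (X : Set G))
    (haX : a ∈ normalizer (X : Set G)) (haA : a ∈ normalizer (A : Set G)) (hA1 : A ≠ ⊥)
    (hfA : ∀ c ∈ A, Commute a c → c = 1)
    (hfXA : ∀ c ∈ A, c ≠ 1 → ∀ x ∈ X, Commute c x → x = 1)
    (hfXa : ∀ x ∈ X, Commute a x → x = 1) : ∀ x ∈ X, x ^ Nat.card A = 1 := by
  classical
  letI : CommGroup X := { (inferInstance : Group X) with
    mul_comm := fun x y => Subtype.ext (hXc x x.2 y y.2) }
  haveI : Fintype A := Fintype.ofFinite A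
  haveI := Fact.mk hr
  let N := normalizer (X : Set G)
  let act : N → X →* X := fun g =>
    { toFun := fun x => ⟨(g : G) * x * (g : G)⁻¹, (mem_normalizer_iff.1 g.2 x).1 x.2⟩
      map_one' := Subtype.ext (by simp)
      map_mul' := fun x y => Subtype.ext (by push_cast; group) }
  have act_mul : ∀ g h : N, ∀ x : X, act (g * h) x = act g (act h x) := fun g h x => Subtype.ext (by
    show ((g : G) * h) * x * ((g : G) * h)⁻¹ = (g : G) * ((h : G) * x * (h : G)⁻¹) * (g : G)⁻¹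
    group)
  have act_fix : ∀ g : N, ∀ x : X, act g x = x → Commute (g : G) (x : G) := fun g x h =>
    mul_inv_eq_iff_eq_mul.1 (congrArg Subtype.val h)
  let a' : N := ⟨a, haX⟩
  let ι : A → N := fun c => ⟨c, hAX c.2⟩
  obtain ⟨d, hd, hd1⟩ := (Subgroup.bot_or_exists_ne_one A).resolve_left hA1
  have prodA : ∀ y : X, ∏ c : A, act (ι c) y = 1 := by
    intro y
    have h1 : act (ι ⟨d, hd⟩) (∏ c : A, act (ι c) y) = ∏ c : A, act (ι c) y := by
      rw [map_prod]
      refine Fintype.prod_equiv (Equiv.mulLeft (⟨d, hd⟩ : A)) _ _ fun c => ?_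
      rw [← act_mul]
      rfl
    exact Subtype.ext (hfXA d hd hd1 _ (∏ c : A, act (ι c) y).2 (act_fix _ _ h1))
  have hapow : ∀ i : ℕ, (a' : N) ^ i = ⟨a ^ i, pow_mem haX i⟩ := fun i => Subtype.ext (by simp [a'])
  have proda : ∀ y : X, ∏ i ∈ Finset.range r, act (a' ^ i) y = 1 := by
    intro y
    have hr0 : act (a' ^ r) y = act (a' ^ 0) y := Subtype.ext (by
      show ((a' ^ r : N) : G) * y * ((a' ^ r : N) : G)⁻¹ = ((a' ^ 0 : N) : G) * y * ((a' ^ 0 : N) : G)⁻¹
      simp [a', ← ha, pow_orderOf_eq_one])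
    have h1 : act a' (∏ i ∈ Finset.range r, act (a' ^ i) y) = ∏ i ∈ Finset.range r, act (a' ^ i) y := by
      rw [map_prod, Finset.prod_congr rfl (g := fun i => act (a' ^ (i + 1)) y) fun i _ => by
        rw [← act_mul, ← pow_succ']]
      have h2 := Finset.prod_range_succ (fun i => act (a' ^ i) y) r
      rw [Finset.prod_range_succ', hr0] at h2
      exact mul_right_cancel h2
    exact Subtype.ext (hfXa _ (∏ i ∈ Finset.range r, act (a' ^ i) y).2 (act_fix _ _ h1))
  intro x hx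
  set x' : X := ⟨x, hx⟩
  have hconj : ∀ i, a ^ i ∈ normalizer (A : Set G) := fun i => pow_mem haA i
  have hzero : ∀ i ∈ Finset.range r, i ≠ 0 → ∏ c : A, act (ι c * a' ^ i * (ι c)⁻¹) x' = 1 := by
    intro i hi hi0
    let φ : A → A := fun c => ⟨(c : G) * (a ^ i * (c : G)⁻¹ * (a ^ i)⁻¹),
      mul_mem c.2 ((mem_normalizer_iff.1 (hconj i) _).1 (inv_mem c.2))⟩
    have hφ : Function.Injective φ := by
      intro c e he
      have he' : (c : G) * (a ^ i * (c : G)⁻¹ * (a ^ i)⁻¹) = e * (a ^ i * (e : G)⁻¹ * (a ^ i)⁻¹) :=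
        congrArg Subtype.val he
      have hcm : Commute (a ^ i) ((e : G)⁻¹ * c) := by
        show a ^ i * ((e : G)⁻¹ * c) = (e : G)⁻¹ * c * a ^ i
        calc a ^ i * ((e : G)⁻¹ * c)
            = (e : G)⁻¹ * ((e : G) * (a ^ i * (e : G)⁻¹ * (a ^ i)⁻¹)) * a ^ i * c := by group
          _ = (e : G)⁻¹ * c * a ^ i := by rw [← he']; group
      obtain ⟨j, hj⟩ := exists_pow_eq_self_of_coprime (x := a) (n := i) (by
        rw [ha]
        exact ((hr.coprime_iff_not_dvd).2 fun h => absurd (Nat.le_of_dvd (Nat.pos_of_ne_zero hi0) h)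
          (by have := Finset.mem_range.1 hi; omega)).symm)
      have hca : Commute a ((e : G)⁻¹ * c) := hj ▸ hcm.pow_left j
      exact (Subtype.ext (inv_mul_eq_one.1 (hfA _ (mul_mem (inv_mem e.2) c.2) hca))).symm
    rw [← prodA (act (a' ^ i) x')]
    refine Fintype.prod_equiv (Equiv.ofBijective φ (Finite.injective_iff_bijective.1 hφ)) _ _ fun c => ?_
    rw [← act_mul]
    congr 2
    apply Subtype.ext
    show (c : G) * ((a' ^ i : N) : G) * (c : G)⁻¹ = (φ c : G) * ((a' ^ i : N) : G)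
    simp only [hapow, φ]
    group
  have htot : ∏ i ∈ Finset.range r, ∏ c : A, act (ι c * a' ^ i * (ι c)⁻¹) x' = 1 := by
    rw [Finset.prod_comm]
    refine Finset.prod_eq_one fun c _ => ?_
    rw [Finset.prod_congr rfl (g := fun i => act (ι c) (act (a' ^ i) (act (ι c)⁻¹ x'))) fun i _ => by
      rw [act_mul, act_mul], ← map_prod, proda, map_one]
  rw [Finset.prod_eq_single_of_mem 0 (Finset.mem_range.2 hr.pos) hzero] at htot
  have h0 : ∀ c : A, act (ι c * a' ^ 0 * (ι c)⁻¹) x' = x' := fun c => Subtype.ext (by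
    show ((ι c * a' ^ 0 * (ι c)⁻¹ : N) : G) * x * ((ι c * a' ^ 0 * (ι c)⁻¹ : N) : G)⁻¹ = x
    simp)
  simp only [h0, Finset.prod_const, Finset.card_univ, ← Nat.card_eq_fintype_card] at htot
  simpa [x'] using congrArg Subtype.val htot

namespace Setup

variable {q m n : ℕ} (T : Setup G q m n)

include T in
/-- A four-group normalizes no nontrivial `3`-subgroup. -/
theorem four_three {R : Subgroup G} (hR : IsPGroup 3 R) {j k : G} (hj : orderOf j = 2)
    (hk : orderOf k = 2) (hjk : Commute j k) (hne : j ≠ k) (hjR : j ∈ normalizer (R : Set G))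
    (hkR : k ∈ normalizer (R : Set G)) : R = ⊥ := by
  have hRo : ∀ {y : G}, y ∈ R → Odd (orderOf y) := fun {y} hy => by
    obtain ⟨i, hi⟩ := hR ⟨y, hy⟩
    exact (Odd.pow (by decide : Odd 3)).of_dvd_nat
      (orderOf_dvd_of_pow_eq_one (congrArg Subtype.val hi) : orderOf y ∣ 3 ^ i)
  have hR3 : ∀ {y : G}, y ∈ R → y ≠ 1 → ∃ x ∈ zpowers y, orderOf x = 3 := fun {y} hy hy1 => by
    obtain ⟨i, hi⟩ := hR ⟨y, hy⟩
    obtain ⟨c, -, hc⟩ := (Nat.dvd_prime_pow Nat.prime_three).1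
      (orderOf_dvd_of_pow_eq_one (congrArg Subtype.val hi) : orderOf y ∣ 3 ^ i)
    rcases c with - | c
    · exact absurd (orderOf_eq_one_iff.1 (by simpa using hc)) hy1
    · refine ⟨y ^ (orderOf y / 3), pow_mem (mem_zpowers y) _,
        orderOf_pow_orderOf_div (orderOf_pos y).ne' (hc ▸ dvd_pow_self 3 (Nat.succ_ne_zero c))⟩
  -- the involutions have no fixed points
  have key : ∀ i l : G, orderOf i = 2 → orderOf l = 2 → Commute l i → l ≠ i →
      l ∈ normalizer (R : Set G) → ∀ y ∈ R, Commute y i → y = 1 := by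
    intro i l hi hl hli hne hlR
    obtain ⟨T', rfl⟩ := T.exists_setup hi
    intro y hy hyi
    by_contra hy1
    -- `l` inverts the centralizer of `t` in `R`
    set Y := R ⊓ centralizer ({T'.t} : Set G) with hY
    have hyY : y ∈ Y := mem_inf.2 ⟨hy, mem_centralizer_singleton_iff.2 hyi.eq⟩
    have hlY : ∀ a ∈ Y, l * a * l⁻¹ ∈ Y := by
      intro a ha
      obtain ⟨haR, haC⟩ := mem_inf.1 ha
      refine mem_inf.2 ⟨(mem_normalizer_iff.1 hlR a).1 haR, mem_centralizer_singleton_iff.2 ?_⟩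
      exact ((hli.mul_left (show Commute a T'.t from mem_centralizer_singleton_iff.1 haC)).mul_left
        hli.inv_left).eq
    obtain ⟨F, hF⟩ := T'.exists_frame hl hli hne
    have hfix : ∀ a ∈ Y, l * a = a * l → a = 1 := by
      intro a ha hla
      obtain ⟨haR, haC⟩ := mem_inf.1 ha
      have hA := F.mem_A_of_odd (mem_centralizer_singleton_iff.1 haC) (hF ▸ hla.symm) (hRo haR)
      by_contra ha1
      obtain ⟨x, hx, hx3⟩ := hR3 haR ha1
      exact T'.kit.three_not_m (hx3 ▸ F.orderOf_dvd_m (zpowers_le.2 hA hx))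
    have hinv := inverts_of_fpf (H := Y) (Invol.invol_mul_self hl) hlY hfix
    obtain ⟨x, hx, hx3⟩ := hR3 hy hy1
    refine T'.not_inverted_three (g := l) hx3 T'.order_t ?_ (hinv x (zpowers_le.2 hyY hx))
    exact mem_centralizer_singleton_iff.1 (mem_inf.1 (zpowers_le.2 hyY hx)).2
  have hinj : ∀ {i l : G}, orderOf i = 2 → orderOf l = 2 → Commute l i → l ≠ i →
      i ∈ normalizer (R : Set G) → l ∈ normalizer (R : Set G) → ∀ a ∈ R, i * a * i⁻¹ = a⁻¹ :=
    fun {i l} hi hl hli hne hiR hlR => inverts_of_fpf (Invol.invol_mul_self hi)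
      (fun a ha => (mem_normalizer_iff.1 hiR a).1 ha) fun a ha h => key i l hi hl hli hne hlR a ha h.symm
  have hjinv := hinj hj hk hjk.symm hne.symm hjR hkR
  have hkinv := hinj hk hj hjk hne hkR hjR
  have hjk2 : orderOf (j * k) = 2 := orderOf_eq_prime
    (by rw [hjk.mul_pow, pow_two, pow_two, Invol.invol_mul_self hj, Invol.invol_mul_self hk, one_mul])
    fun e => hne (by rw [eq_inv_of_mul_eq_one_left e, Invol.invol_inv hk])
  refine (Subgroup.eq_bot_iff_forall R).2 fun a ha => ?_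
  refine key (j * k) j hjk2 hj ((Commute.refl j).mul_right hjk) (fun e => ?_) hjR a ha ?_
  · have : k = 1 := mul_eq_left.1 e.symm
    rw [this, orderOf_one] at hk
    norm_num at hk
  · show a * (j * k) = j * k * a
    refine (mul_inv_eq_iff_eq_mul.1 ?_).symm
    calc j * k * a * (j * k)⁻¹ = j * (k * a * k⁻¹) * j⁻¹ := by group
      _ = a := by rw [hkinv a ha, hjinv _ (inv_mem ha), inv_inv]

include T in
/-- The Sylow `2`-subgroups of the normalizer of a nontrivial `3`-subgroup have order at most two. -/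
theorem not_four_normalizer {R : Subgroup G} (hR : IsPGroup 3 R) (hR1 : R ≠ ⊥) :
    ¬ 4 ∣ Nat.card (normalizer (R : Set G)) := by
  intro h4
  haveI : Fact (Nat.Prime 2) := ⟨Nat.prime_two⟩
  obtain ⟨V, hV⟩ := Sylow.exists_subgroup_card_pow_prime 2 (n := 2)
    (G := normalizer (R : Set G)) (by norm_num; exact h4)
  set W := V.map (normalizer (R : Set G)).subtype with hW
  have hWp : IsPGroup 2 W := (IsPGroup.of_card hV).map _
  have hcard : Nat.card W = 4 := by
    rw [hW, card_map_of_injective (subtype_injective _), hV]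
    norm_num
  haveI : Nontrivial W := Finite.one_lt_card_iff_nontrivial.1 (by omega)
  obtain ⟨⟨j, hjW⟩, hj1⟩ := exists_ne (1 : W)
  have hjo : orderOf j = 2 := orderOf_eq_prime (T.sq_of_isPGroup hWp hjW) fun e => hj1 (Subtype.ext e)
  obtain ⟨k, hkW, hk⟩ : ∃ k ∈ W, k ∉ zpowers j := by
    by_contra! hall
    have h1 := Subgroup.card_le_of_le (H := W) (K := zpowers j) hall
    rw [hcard, Nat.card_zpowers, hjo] at h1
    omega
  refine hR1 (T.four_three hR hjo
    (orderOf_eq_prime (T.sq_of_isPGroup hWp hkW) fun e => hk (e ▸ one_mem _))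
    (T.comm_of_isPGroup hWp hjW hkW) (fun e => hk (e ▸ mem_zpowers j)) (map_subtype_le _ hjW)
    (map_subtype_le _ hkW))

include T in
/-- For the least prime `p` dividing `n` a prime `s` with an element of order `p s` divides `n`. -/
theorem dvd_n_of_min {p : ℕ} [hp : Fact p.Prime] (hpn : p ∣ n)
    (hmin : ∀ r : ℕ, r.Prime → r ∣ n → p ≤ r) {s : ℕ} [hs : Fact s.Prime] (hs2 : s ≠ 2) {v y : G}
    (hv : orderOf v = p) (hy : orderOf y = s) (hc : Commute y v) : s ∣ n := by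
  obtain ⟨i, hi, hvi⟩ := T.exists_invol_commute (Or.inl hpn) hv
  obtain ⟨T', rfl⟩ := T.exists_setup hi
  have hv1 : v ≠ 1 := fun e => hp.out.one_lt.ne' (by rw [← hv, e, orderOf_one])
  obtain ⟨u, hu, hut, huv⟩ := T'.exists_inverter hvi hv1 (hv ▸ hpn)
  obtain ⟨N, hNv, -⟩ := T'.exists_nframe hvi hv1 (hv ▸ hpn) hu hut huv
  subst hNv
  obtain ⟨hyt, h | h⟩ := N.cent_N hv hmin hc
  · exact hy ▸ N.orderOf_dvd_n h
  · have h1 : orderOf (T'.t * y) ∣ n := N.orderOf_dvd_n h
    have h2 : y ^ (2 * n) = 1 := by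
      have h3 : (T'.t * y) ^ (2 * n) = 1 :=
        orderOf_dvd_iff_pow_eq_one.1 (h1.trans (dvd_mul_left n 2))
      rwa [hyt.symm.mul_pow, pow_mul, pow_two, T'.t_sq, one_pow, one_mul] at h3
    exact ((hs.out.dvd_mul).1 (hy ▸ orderOf_dvd_of_pow_eq_one h2)).resolve_left
      fun h3 => hs2 ((Nat.prime_dvd_prime_iff_eq hs.out Nat.prime_two).1 h3)

include T in
/-- An element of order three normalizes no subgroup of prime order dividing `n`. -/
theorem no_three_normalize {p : ℕ} [hp : Fact p.Prime] (hpn : p ∣ n) {x y : G} (hx : orderOf x = 3)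
    (hy : orderOf y = p) (hn : x * y * x⁻¹ ∈ zpowers y) : False := by
  obtain ⟨hp2, hp3⟩ : p ≠ 2 ∧ p ≠ 3 :=
    ⟨fun e => T.kit.data.two_not_mo (e ▸ hpn), fun e => T.kit.three_not_n (e ▸ hpn)⟩
  obtain ⟨i, hi, hyi⟩ := T.exists_invol_commute (Or.inl hpn) hy
  obtain ⟨T', rfl⟩ := T.exists_setup hi
  have hy1 : y ≠ 1 := fun e => hp.out.one_lt.ne' (by rw [← hy, e, orderOf_one])
  obtain ⟨u, hu, hut, huv⟩ := T'.exists_inverter hyi hy1 (hy ▸ hpn)
  obtain ⟨N, hNv, -⟩ := T'.exists_nframe hyi hy1 (hy ▸ hpn) hu hut huv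
  subst hNv
  have hxv : ∀ {a : G}, Commute a N.v → Commute a (x * N.v * x⁻¹) := fun {a} ha => by
    obtain ⟨j, hj⟩ := mem_zpowers_iff.1 hn
    exact hj ▸ ha.zpow_right j
  have hmem : x * T'.t * x⁻¹ ∈ centralizer ({N.v} : Set G) := by
    have hvx : N.v ∈ zpowers (x * N.v * x⁻¹) := by
      rw [eq_of_le_of_card_ge (zpowers_le.2 hn) (by
        rw [Nat.card_zpowers, Nat.card_zpowers, ← MulAut.conj_apply, MulEquiv.orderOf_eq])]
      exact mem_zpowers _
    obtain ⟨j, hj⟩ := mem_zpowers_iff.1 hvx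
    have h1 : Commute (x * T'.t * x⁻¹) (x * N.v * x⁻¹) := N.v_t.symm.map (MulAut.conj x)
    exact mem_centralizer_singleton_iff.2 (hj ▸ h1.zpow_right j).eq
  obtain ⟨h, hh, hconj⟩ := conj_of_not_four N.cent_two.2 hmem (Invol.invol_conj T'.order_t x)
    (mem_centralizer_singleton_iff.2 N.v_t.symm.eq) T'.order_t
  have hgt : Commute (h * x) T'.t := by
    refine mul_inv_eq_iff_eq_mul.1 ?_
    calc h * x * T'.t * (h * x)⁻¹ = h * (x * T'.t * x⁻¹) * h⁻¹ := by group
      _ = T'.t := hconj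
  have hgv : h * x * N.v * (h * x)⁻¹ = x * N.v * x⁻¹ := by
    have h1 : Commute h (x * N.v * x⁻¹) := hxv (mem_centralizer_singleton_iff.1 hh)
    calc h * x * N.v * (h * x)⁻¹ = h * (x * N.v * x⁻¹) * h⁻¹ := by group
      _ = x * N.v * x⁻¹ := by rw [h1.eq, mul_inv_cancel_right]
  obtain ⟨e, he, k, hk⟩ := N.norm (h * x) hgt (hgv ▸ hn)
  have hwv : N.w ^ k * N.v * (N.w ^ k)⁻¹ = N.v := by
    rw [(N.comm_w (zpow_mem (mem_zpowers _) k) N.v_mem).eq, mul_inv_cancel_right]
  have hev : x * N.v * x⁻¹ = e * N.v * e⁻¹ := by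
    rw [← hgv, hk]
    calc e * N.w ^ k * N.v * (e * N.w ^ k)⁻¹ = e * (N.w ^ k * N.v * (N.w ^ k)⁻¹) * e⁻¹ := by group
      _ = e * N.v * e⁻¹ := by rw [hwv]
  have htv : T'.t * N.v⁻¹ * T'.t⁻¹ = N.v⁻¹ := by
    rw [N.v_t.symm.inv_right.eq, mul_inv_cancel_right]
  have hcases : x * N.v * x⁻¹ = N.v ∨ x * N.v * x⁻¹ = N.v⁻¹ := by
    rcases he with rfl | rfl | rfl | rfl
    · exact Or.inl (by rw [hev]; group)
    · exact Or.inl (by rw [hev, N.v_t.symm.eq, mul_inv_cancel_right])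
    · exact Or.inr (hev.trans N.u_v)
    · refine Or.inr (hev.trans ?_)
      calc T'.t * N.u * N.v * (T'.t * N.u)⁻¹ = T'.t * (N.u * N.v * N.u⁻¹) * T'.t⁻¹ := by group
        _ = N.v⁻¹ := by rw [N.u_v, htv]
  refine T'.no_three_mul hp2 hp3 hx hy ?_
  rcases hcases with h1 | h1
  · exact mul_inv_eq_iff_eq_mul.1 h1
  · refine commute_of_odd (by rw [hx]; decide) ?_
    refine mul_inv_eq_iff_eq_mul.1 ?_
    calc x * x * N.v * (x * x)⁻¹ = x * (x * N.v * x⁻¹) * x⁻¹ := by group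
      _ = (x * N.v * x⁻¹)⁻¹ := by
          nth_rw 1 [h1]
          group
      _ = N.v := by rw [h1, inv_inv]

include T in
/-- Commuting elements of the same prime order dividing `n` generate the same subgroup. -/
theorem mem_zpowers_of_comm {p : ℕ} [hp : Fact p.Prime] (hpn : p ∣ n) {y z : G} (hy : orderOf y = p)
    (hz : z ^ p = 1) (hc : Commute y z) : z ∈ zpowers y := by
  rcases eq_or_ne z 1 with rfl | hz1
  · exact one_mem _
  have hp2 : p ≠ 2 := fun e => T.kit.data.two_not_mo (e ▸ hpn)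
  have hpo : Odd p := hp.out.odd_of_ne_two hp2
  have hzo : orderOf z = p := orderOf_eq_prime hz hz1
  obtain ⟨i, hi, hyi⟩ := T.exists_invol_commute (Or.inl hpn) hy
  obtain ⟨T', rfl⟩ := T.exists_setup hi
  have hy1 : y ≠ 1 := fun e => hp.out.one_lt.ne' (by rw [← hy, e, orderOf_one])
  obtain ⟨u, hu, hut, huv⟩ := T'.exists_inverter hyi hy1 (hy ▸ hpn)
  obtain ⟨N, hNv, -⟩ := T'.exists_nframe hyi hy1 (hy ▸ hpn) hu hut huv
  subst hNv
  -- a Sylow subgroup of `N.O` containing `y` and `z` is conjugate into `C(t)`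
  have hyzO : N.v ∈ N.O ∧ z ∈ N.O :=
    ⟨N.mem_O.2 ⟨Commute.refl _, by rw [hy]; exact hpo⟩, N.mem_O.2 ⟨hc.symm, by rw [hzo]; exact hpo⟩⟩
  set Z := zpowers N.v ⊔ zpowers z with hZ
  have hyz : ∀ a ∈ Z, ∀ b ∈ Z, Commute a b ∧ a ^ p = 1 := by
    intro a ha b hb
    have hn : zpowers z ≤ normalizer (zpowers N.v : Set G) := by
      refine le_trans ?_ (centralizer_le_normalizer _)
      rw [zpowers_le, mem_centralizer_iff]
      intro g hg
      obtain ⟨i, rfl⟩ := mem_zpowers_iff.1 hg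
      exact (hc.zpow_left i).eq
    obtain ⟨a1, ha1, a2, ha2, rfl⟩ := Coprime.mem_sup_exists hn ha
    obtain ⟨b1, hb1, b2, hb2, rfl⟩ := Coprime.mem_sup_exists hn hb
    obtain ⟨i1, rfl⟩ := mem_zpowers_iff.1 ha1
    obtain ⟨i2, rfl⟩ := mem_zpowers_iff.1 ha2
    obtain ⟨j1, rfl⟩ := mem_zpowers_iff.1 hb1
    obtain ⟨j2, rfl⟩ := mem_zpowers_iff.1 hb2
    have c1 := hc.zpow_zpow
    refine ⟨(((Commute.refl N.v).zpow_zpow i1 j1).mul_left (c1 j1 i2).symm).mul_right
      ((c1 i1 j2).mul_left ((Commute.refl z).zpow_zpow i2 j2)), ?_⟩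
    rw [(c1 i1 i2).mul_pow, ← zpow_natCast, ← zpow_natCast, ← zpow_mul, ← zpow_mul, mul_comm i1,
      mul_comm i2, zpow_mul, zpow_mul, zpow_natCast, zpow_natCast, hz, ← hy, pow_orderOf_eq_one,
      one_zpow, one_zpow, one_mul]
  have hZp : IsPGroup p Z := fun a => ⟨1, Subtype.ext (by
    rw [pow_one]; exact (hyz a a.2 a a.2).2)⟩
  set C := centralizer ({T'.t} : Set G) with hC
  obtain ⟨P⟩ : Nonempty (Sylow p C) := inferInstance
  obtain ⟨g, hg⟩ : ∃ g : G, ∀ a ∈ Z, g * a * g⁻¹ ∈ C := by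
    have hndvd : ¬ p ∣ C.index := by
      intro h
      have hidx : C.index = q ^ 2 * (q ^ 2 - q + 1) := by
        have h1 := card_mul_index C
        rw [hC, T'.card_C, T'.card_split] at h1
        have hpos : 0 < 2 * (q * n * (4 * m)) := by
          have hq0 : 0 < q := by have := T'.kit.q_ge; omega
          have hn0 : 0 < n := Nat.zero_lt_of_lt T'.kit.data.one_lt
          have := T'.kit.m_pos
          positivity
        refine Nat.eq_of_mul_eq_mul_left hpos (h1.trans ?_)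
        ring
      rw [hidx] at h
      rcases hp.out.dvd_mul.1 h with h | h
      · obtain ⟨k, -, hk⟩ := T'.kit.q_pow
        rw [hk] at h
        have h3 := (Nat.prime_dvd_prime_iff_eq hp.out Nat.prime_three).1
          (hp.out.dvd_of_dvd_pow (hp.out.dvd_of_dvd_pow h))
        exact T'.kit.three_not_n (h3 ▸ hpn)
      · exact (T'.not_dvd_of_cube hp.out hp2 (T'.cube_dvd_iff hp.out (Or.inr h)).2.2).2 hpn
    set S : Sylow p G := (P.2.map C.subtype).toSylow (by
      rw [Subgroup.index_map_subtype]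
      exact hp.out.not_dvd_mul P.not_dvd_index hndvd)
    obtain ⟨Q, hQ⟩ := hZp.exists_le_sylow
    obtain ⟨g, hg⟩ := MulAction.exists_smul_eq G Q S
    refine ⟨g, fun a ha => ?_⟩
    have h1 : g * a * g⁻¹ ∈ (S : Subgroup G) := by
      rw [← hg, Sylow.coe_subgroup_smul]
      exact mem_map_of_mem _ (hQ ha)
    exact map_subtype_le _ h1
  have hvg := hg _ (mem_sup_left (mem_zpowers N.v))
  have hzg := hg _ (mem_sup_right (mem_zpowers z))
  have hodd : ∀ {a : G}, orderOf a = p → Odd (orderOf (g * a * g⁻¹)) := fun {a} ha => by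
    rw [← MulAut.conj_apply, MulEquiv.orderOf_eq, ha]; exact hpo
  have hvK := T'.mem_K_of_odd (mem_centralizer_singleton_iff.1 hvg) (hodd hy)
  have hzK := T'.mem_K_of_odd (mem_centralizer_singleton_iff.1 hzg) (hodd hzo)
  have hord : ∀ {a : G} (h : g * a * g⁻¹ ∈ T'.K), orderOf a = p →
      orderOf (⟨g * a * g⁻¹, h⟩ : T'.K) = p := fun {a} h ha => by
    rw [Subgroup.orderOf_mk, ← MulAut.conj_apply, MulEquiv.orderOf_eq, ha]
  obtain ⟨w, hw, hC', -⟩ := T'.kit.cent_n (v := (⟨_, hvK⟩ : T'.K))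
    (fun e => hy1 (conj_eq_one_iff.1 (congrArg Subtype.val e))) (by rw [hord hvK hy]; exact hpn)
  have h1 : zpowers (⟨_, hzK⟩ : T'.K) = zpowers ⟨_, hvK⟩ := by
    refine PSLSpectrum.eq_of_le_zpowers (u := w) (zpowers_le.2 ?_)
      (zpowers_le.2 (hC' ▸ mem_centralizer_singleton_iff.2 rfl)) (by
        rw [Nat.card_zpowers, Nat.card_zpowers, hord hzK hzo, hord hvK hy])
    rw [← hC', mem_centralizer_singleton_iff]
    exact Subtype.ext (hc.symm.map (MulAut.conj g)).eq
  obtain ⟨i, hi⟩ := mem_zpowers_iff.1 (h1 ▸ mem_zpowers (⟨_, hzK⟩ : T'.K))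
  refine mem_zpowers_iff.2 ⟨i, (MulAut.conj g).injective ?_⟩
  have h2 := congrArg Subtype.val hi
  push_cast at h2
  simpa [map_zpow] using h2

end Setup

end CfsgLib.ReeType
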