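import Cfsg.Agent.Lib.Perm.PSLSpectrum.Main
import Cfsg.Agent.Lib.Perm.OddProductPSL
import Cfsg.Agent.Lib.Char.TwoEllTorus
import Cfsg.Agent.Lib.Char.SLTwoCusp

/-!
# The facts about `PSL(2, 3^(2k+1))` used for groups of Ree type

`m = (q+1)/4`, `n = (q-1)/2`.
-/

set_option autoImplicit false
set_option linter.unusedSectionVars false

namespace CfsgLib.ReeType

open Subgroup

/-- An abelian subgroup on which `g` (with central square) has no fixed point but one is inverted. -/
theorem inverts_of_no_fixed {G : Type*} [Group G] {H : Subgroup G}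
    (hH : ∀ a ∈ H, ∀ b ∈ H, a * b = b * a) {g : G} (hn : ∀ a ∈ H, g * a * g⁻¹ ∈ H)
    (h2 : ∀ a ∈ H, g * g * a = a * (g * g)) (hfix : ∀ a ∈ H, g * a = a * g → a = 1) :
    ∀ a ∈ H, g * a * g⁻¹ = a⁻¹ := by
  intro a ha
  refine eq_inv_of_mul_eq_one_left (hfix _ (mul_mem (hn a ha) ha) ?_)
  have h3 : g * g * a * (g * g)⁻¹ = a := by rw [h2 a ha, mul_inv_cancel_right]
  calc g * (g * a * g⁻¹ * a) = g * g * a * (g * g)⁻¹ * (g * a * g⁻¹) * g := by group
    _ = a * (g * a * g⁻¹) * g := by rw [h3]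
    _ = g * a * g⁻¹ * a * g := by rw [hH _ ha _ (hn a ha)]

/-- An element of odd order commutes with what its square commutes with. -/
theorem commute_of_odd {G : Type*} [Group G] {g x : G} (hg : Odd (orderOf g))
    (h : Commute (g * g) x) : Commute g x := by
  obtain ⟨j, hj⟩ := hg
  have : g = (g * g) ^ (j + 1) := by
    rw [← pow_two, ← pow_mul, show 2 * (j + 1) = orderOf g + 1 by omega, pow_succ,
      pow_orderOf_eq_one, one_mul]
  rw [this]
  exact h.pow_left _

/-- The facts about `PSL(2, q)`, `q = 3^(2k+1)`. -/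
structure Kit (K : Type*) [Group K] (q m n : ℕ) : Prop where
  data : PSLSpectrum.Data K 3 q (2 * m) n
  conj : ∀ x y : K, orderOf x = 2 → orderOf y = 2 → IsConj x y
  comm : ∀ P : Sylow 3 K, ∀ a ∈ (P : Subgroup K), ∀ b ∈ (P : Subgroup K), a * b = b * a
  q_pow : ∃ k : ℕ, 1 ≤ k ∧ q = 3 ^ (2 * k + 1)
  hm : q + 1 = 4 * m
  hn : q = 2 * n + 1

namespace Kit

variable {K : Type*} [Group K] [Finite K] {q m n : ℕ} (h : Kit K q m n)
include h

theorem q_ge : 27 ≤ q := by
  obtain ⟨k, hk, rfl⟩ := h.q_pow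
  exact le_trans (by norm_num) (Nat.pow_le_pow_right (by norm_num) (show 3 ≤ 2 * k + 1 by omega))

theorem three_dvd_q : 3 ∣ q := by
  obtain ⟨k, -, rfl⟩ := h.q_pow
  exact dvd_pow_self 3 (by omega)

theorem three_not_n : ¬ 3 ∣ n := h.data.p_not_mo

theorem three_not_m : ¬ 3 ∣ m := fun hd => h.data.p_not_me (dvd_mul_of_dvd_right hd 2)

theorem m_odd : Odd m := by
  obtain ⟨k, -, hk⟩ := h.q_pow
  have h8 : ∀ i : ℕ, 3 ^ (2 * i + 1) % 8 = 3 := fun i => by
    induction i with
    | zero => norm_num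
    | succ i ih =>
      rw [show 2 * (i + 1) + 1 = 2 + (2 * i + 1) by ring, pow_add, Nat.mul_mod, ih]
      norm_num
  refine Nat.odd_iff.2 ?_
  have := h.hm
  have := h8 k
  omega

theorem two_not_m : ¬ 2 ∣ m := fun hd => Nat.not_even_iff_odd.2 h.m_odd (even_iff_two_dvd.2 hd)

theorem m_pos : 0 < m := by have := h.hm; have := h.q_ge; omega

theorem cop_mn : m.Coprime n := h.data.cop.coprime_mul_left

theorem card : Nat.card K = q * n * (4 * m) := by rw [h.data.card]; ring

theorem odd_orders {g : K} (hg : Odd (orderOf g)) : orderOf g ∣ 3 ∨ orderOf g ∣ m ∨ orderOf g ∣ n := by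
  rcases h.data.orders g with ho | ho | ho
  · exact Or.inl ho
  · exact Or.inr (Or.inl ((Nat.coprime_two_right.2 hg).dvd_of_dvd_mul_left ho))
  · exact Or.inr (Or.inr ho)

theorem card_sylow_three (P : Sylow 3 K) : Nat.card (P : Subgroup K) = q := by
  haveI : Fact (Nat.Prime 3) := ⟨Nat.prime_three⟩
  obtain ⟨k, -, hk⟩ := h.q_pow
  have h3 : ¬ 3 ∣ n * (4 * m) := fun hd => by
    rcases Nat.prime_three.dvd_mul.1 hd with h1 | h1
    · exact h.three_not_n h1
    · exact h.three_not_m ((Nat.Coprime.dvd_mul_left (by norm_num)).1 h1)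
  rw [P.card_eq_multiplicity, h.card, mul_assoc,
    Nat.factorization_mul (by have := h.q_ge; omega) (fun e => h3 (by rw [e]; exact dvd_zero 3)),
    Finsupp.add_apply, Nat.factorization_eq_zero_of_not_dvd h3, hk,
    Nat.Prime.factorization_pow Nat.prime_three, Finsupp.single_eq_same, add_zero]

theorem cent_eq_sylow {x : K} (hx : orderOf x = 3) (P : Sylow 3 K) (hxP : x ∈ (P : Subgroup K)) :
    centralizer ({x} : Set K) = P := by
  have hle : (P : Subgroup K) ≤ centralizer ({x} : Set K) := fun a ha =>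
    mem_centralizer_singleton_iff.2 (h.comm P a ha x hxP)
  refine (eq_of_le_of_card_ge hle ?_).symm
  rw [h.card_sylow_three]
  refine Nat.le_of_dvd (by have := h.q_ge; omega) (PSLSpectrum.Data.card_cent_dvd Nat.prime_three hx
    (K := n * (4 * m)) (by rw [h.card]; ring) fun s hs hsd => ?_)
  have hs3 : s ≠ 3 := by
    rintro rfl
    rcases Nat.prime_three.dvd_mul.1 hsd with h1 | h1
    · exact h.three_not_n h1
    · exact h.three_not_m ((Nat.Coprime.dvd_mul_left (by norm_num)).1 h1)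
  refine ⟨hs3, fun g hd => ?_⟩
  rcases h.data.orders g with ho | ho | ho
  · have := Nat.le_of_dvd (by norm_num) (hd.trans ho)
    have := hs.two_le
    omega
  · exact h.data.p_not_me ((dvd_mul_right 3 s).trans (hd.trans ho))
  · exact h.three_not_n ((dvd_mul_right 3 s).trans (hd.trans ho))

theorem exists_sylow_mem {x : K} (hx : orderOf x = 3) : ∃ P : Sylow 3 K, x ∈ (P : Subgroup K) := by
  haveI : Fact (Nat.Prime 3) := ⟨Nat.prime_three⟩
  obtain ⟨P, hP⟩ := (IsPGroup.of_card (G := zpowers x) (p := 3) (n := 1)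
    (by rw [Nat.card_zpowers, hx, pow_one])).exists_le_sylow
  exact ⟨P, hP (mem_zpowers x)⟩

theorem card_cent_three {x : K} (hx : orderOf x = 3) : Nat.card (centralizer ({x} : Set K)) = q := by
  obtain ⟨P, hP⟩ := h.exists_sylow_mem hx
  rw [h.cent_eq_sylow hx P hP, h.card_sylow_three]

theorem cent_three_comm {x : K} (hx : orderOf x = 3) :
    ∀ a ∈ centralizer ({x} : Set K), ∀ b ∈ centralizer ({x} : Set K), a * b = b * a := by
  obtain ⟨P, hP⟩ := h.exists_sylow_mem hx
  rw [h.cent_eq_sylow hx P hP]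
  exact h.comm P

theorem cent_three_cube {x : K} (hx : orderOf x = 3) {a : K}
    (ha : a ∈ centralizer ({x} : Set K)) : a ^ 3 = 1 := by
  haveI : Fact (Nat.Prime 3) := ⟨Nat.prime_three⟩
  obtain ⟨P, hP⟩ := h.exists_sylow_mem hx
  rw [h.cent_eq_sylow hx P hP] at ha
  obtain ⟨j, hj⟩ := P.2 ⟨a, ha⟩
  have hd : orderOf a ∣ 3 ^ j := orderOf_dvd_of_pow_eq_one (congrArg Subtype.val hj)
  apply orderOf_dvd_iff_pow_eq_one.1
  rcases h.data.orders a with ho | ho | ho
  · exact ho
  · rw [Nat.eq_one_of_dvd_coprimes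
      ((Nat.prime_three.coprime_iff_not_dvd.2 h.data.p_not_me).pow_left j) hd ho]
    exact one_dvd _
  · rw [Nat.eq_one_of_dvd_coprimes
      ((Nat.prime_three.coprime_iff_not_dvd.2 h.three_not_n).pow_left j) hd ho]
    exact one_dvd _

/-- The cyclic subgroup of index two in the centralizer of an involution. -/
theorem invol_torus {u : K} (hu : orderOf u = 2) :
    ∃ w : K, orderOf w = 2 * m ∧ w ^ m = u ∧ Nat.card (centralizer ({u} : Set K)) = 4 * m ∧
      zpowers w ≤ centralizer ({u} : Set K) ∧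
      (∀ g ∈ centralizer ({u} : Set K), g ∉ zpowers w → g * w * g⁻¹ = w⁻¹ ∧ orderOf g = 2) ∧
      ∃ g ∈ centralizer ({u} : Set K), g ∉ zpowers w := by
  obtain ⟨w₀, hw₀⟩ := h.data.exE
  let F : PSLSpectrum.Frame K 3 q (2 * m) n :=
    ⟨h.data, w₀, 1, m, hw₀, le_rfl, h.m_odd, by rw [pow_one]⟩
  have hFt : F.t = w₀ ^ m := by
    show w₀ ^ (2 ^ (1 - 1) * m) = w₀ ^ m
    rw [Nat.sub_self, pow_zero, one_mul]
  obtain ⟨S, hS⟩ := F.exists_sylow
  obtain ⟨s, hsS, hsa, hs2, -⟩ := F.exists_inverting hS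
  have hsw : s ∉ zpowers w₀ := fun hm' =>
    hsa ((F.invol_eq (Or.inr rfl) hm' hs2).symm ▸ F.t_mem_a)
  have hsC : s ∈ centralizer ({F.t} : Set K) := F.sylow_le hS hsS
  have hsn : ∀ a ∈ zpowers w₀, s * a * s⁻¹ ∈ zpowers w₀ := fun a ha =>
    (mem_normalizer_iff.1 (F.cent_le_normalizer hS hsC) a).1 ha
  have hcommw : ∀ a ∈ zpowers w₀, ∀ b ∈ zpowers w₀, a * b = b * a := by
    rintro _ ⟨i, rfl⟩ _ ⟨j, rfl⟩
    exact ((Commute.refl w₀).zpow_zpow i j).eq
  have hs1 : s * s = 1 := by rw [← pow_two, ← hs2, pow_orderOf_eq_one]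
  set A := zpowers (w₀ ^ 2) with hA
  have hAw : A ≤ zpowers w₀ := zpowers_le.2 (pow_mem (mem_zpowers _) _)
  have hAm : orderOf (w₀ ^ 2) = m := by
    rw [orderOf_pow, hw₀, Nat.gcd_mul_right_left, Nat.mul_div_cancel_left _ two_pos]
  have hfix : ∀ a ∈ zpowers w₀, a ^ m = 1 → s * a = a * s → a = 1 := by
    intro a ha ham hsa'
    by_contra hne
    obtain ⟨r, hr, hrd⟩ := Nat.exists_prime_and_dvd (mt orderOf_eq_one_iff.1 hne)
    haveI := Fact.mk hr
    have hrm : r ∣ m := hrd.trans (orderOf_dvd_of_pow_eq_one ham)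
    have hr2 : r ≠ 2 := fun e => h.two_not_m (e ▸ hrm)
    set z := a ^ (orderOf a / r) with hz
    have hzo : orderOf z = r := orderOf_pow_orderOf_div (orderOf_pos a).ne' hrd
    obtain ⟨P, hP⟩ := PSLSpectrum.exists_sylow_le (u := w₀) (k := q * n * 2)
      (by rw [h.card, hw₀]; ring) (h.data.not_dvd_compl_E hr hr2 (dvd_mul_of_dvd_right hrm 2))
    obtain ⟨-, -, -, hyC⟩ := h.data.torus_E hr2 (dvd_mul_of_dvd_right hrm 2) P hw₀ hP
    have hzP : z ∈ (P : Subgroup K) := by
      have hrP : r ∣ Nat.card (P : Subgroup K) :=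
        P.dvd_card_of_dvd_card (h.card ▸ dvd_mul_of_dvd_right (dvd_mul_of_dvd_right hrm _) _)
      obtain ⟨⟨y, hy⟩, hyo⟩ := exists_prime_orderOf_dvd_card' (G := (P : Subgroup K)) r hrP
      rw [orderOf_mk] at hyo
      have := PSLSpectrum.eq_of_le_zpowers (u := w₀) (zpowers_le.2 (hP hy))
        (zpowers_le.2 (pow_mem ha _) : zpowers z ≤ zpowers w₀)
        (by rw [Nat.card_zpowers, Nat.card_zpowers, hyo, hzo])
      exact (zpowers_le.2 hy) (this ▸ mem_zpowers z)
    refine hsw (hyC z hzP hzo ▸ mem_centralizer_singleton_iff.2 ?_)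
    exact ((show Commute s a from hsa').pow_right _).eq
  have hinv : ∀ a ∈ A, s * a * s⁻¹ = a⁻¹ := by
    refine inverts_of_no_fixed (fun a ha b hb => hcommw a (hAw ha) b (hAw hb)) (fun a ha => ?_)
      (fun a _ => by rw [hs1, one_mul, mul_one]) fun a ha hc => hfix a (hAw ha) ?_ hc
    · obtain ⟨i, rfl⟩ := mem_zpowers_iff.1 ha
      obtain ⟨j, hj⟩ := mem_zpowers_iff.1 (hsn _ (mem_zpowers w₀))
      refine mem_zpowers_iff.2 ⟨i * j, ?_⟩
      rw [← conj_zpow, ← zpow_natCast w₀ 2, ← conj_zpow, ← hj, ← zpow_mul, ← zpow_mul, ← zpow_mul]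
      congr 1
      push_cast
      ring
    · obtain ⟨i, rfl⟩ := mem_zpowers_iff.1 ha
      rw [← zpow_natCast, ← zpow_mul, mul_comm, zpow_mul, zpow_natCast, ← hAm, pow_orderOf_eq_one,
        one_zpow]
  have hst : s * F.t * s⁻¹ = F.t⁻¹ := by
    rw [mem_centralizer_singleton_iff.1 hsC, mul_inv_cancel_right, Invol.invol_inv F.order_t]
  have hswinv : s * w₀ * s⁻¹ = w₀⁻¹ := by
    obtain ⟨j, hj⟩ := h.m_odd
    have hw : w₀ = F.t * ((w₀ ^ 2) ^ j)⁻¹ := by
      rw [hFt, ← pow_mul, eq_mul_inv_iff_mul_eq, ← pow_succ', hj]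
    have h1 := hinv _ (inv_mem (pow_mem (mem_zpowers (w₀ ^ 2)) j))
    calc s * w₀ * s⁻¹ = (s * F.t * s⁻¹) * (s * ((w₀ ^ 2) ^ j)⁻¹ * s⁻¹) := by
          conv_lhs => rw [hw]
          group
      _ = F.t⁻¹ * (((w₀ ^ 2) ^ j)⁻¹)⁻¹ := by rw [hst, h1]
      _ = w₀⁻¹ := by
          conv_rhs => rw [hw, mul_inv_rev]
          rw [hcommw _ (inv_mem F.t_mem) _ (by
            rw [inv_inv]; exact pow_mem (pow_mem (mem_zpowers _) _) _)]
  have hcard : Nat.card (centralizer ({F.t} : Set K)) = 4 * m := by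
    rw [F.card_cent hS]; ring
  have hwC : zpowers w₀ ≤ centralizer ({F.t} : Set K) := PSLSpectrum.zpowers_le_centralizer F.t_mem
  have hidx : ((zpowers w₀).subgroupOf (centralizer ({F.t} : Set K))).index = 2 := by
    have h1 := PSLSpectrum.card_mul_relIndex' hwC
    rw [hcard, Nat.card_zpowers, hw₀, show 4 * m = 2 * m * 2 by ring] at h1
    exact mul_left_cancel₀ (by have := h.m_pos; omega) h1
  have hall : ∀ g ∈ centralizer ({F.t} : Set K), g ∉ zpowers w₀ →
      g * w₀ * g⁻¹ = w₀⁻¹ ∧ orderOf g = 2 := by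
    intro g hg hgw
    have hgs : s * g ∈ zpowers w₀ := by
      have := (mul_mem_iff_of_index_two hidx (a := ⟨s, hsC⟩) (b := ⟨g, hg⟩)).2
        (iff_of_false (fun e => hsw (mem_subgroupOf.1 e)) fun e => hgw (mem_subgroupOf.1 e))
      exact mem_subgroupOf.1 this
    obtain ⟨i, hi⟩ := mem_zpowers_iff.1 hgs
    have hge : g = s * w₀ ^ i := by rw [hi, ← mul_assoc, hs1, one_mul]
    have hg1 : g * g = 1 := by
      rw [hge]
      calc s * w₀ ^ i * (s * w₀ ^ i) = s * w₀ ^ i * s⁻¹ * w₀ ^ i := by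
            rw [inv_eq_of_mul_eq_one_right hs1]; group
        _ = 1 := by rw [← conj_zpow, hswinv, inv_zpow, inv_mul_cancel]
    refine ⟨?_, orderOf_eq_prime (by rw [pow_two, hg1]) fun e => hgw (e ▸ one_mem _)⟩
    rw [hge, show s * w₀ ^ i * w₀ * (s * w₀ ^ i)⁻¹ = s * (w₀ ^ i * w₀ * (w₀ ^ i)⁻¹) * s⁻¹ by group,
      ((Commute.refl w₀).zpow_left i).eq, mul_inv_cancel_right, hswinv]
  obtain ⟨x, hx⟩ := isConj_iff.1 (h.conj _ _ F.order_t hu)
  refine ⟨MulAut.conj x w₀, ?_, ?_, ?_, ?_, ?_, ⟨MulAut.conj x s, ?_, ?_⟩⟩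
  · rw [MulEquiv.orderOf_eq, hw₀]
  · rw [← map_pow, ← hFt, MulAut.conj_apply, hx]
  · rw [← hcard]
    refine (Nat.card_congr ((MulAut.conj x).toEquiv.subtypeEquiv fun g => ?_)).symm
    show g ∈ centralizer ({F.t} : Set K) ↔ MulAut.conj x g ∈ centralizer ({u} : Set K)
    rw [mem_centralizer_singleton_iff, mem_centralizer_singleton_iff, ← hx, ← MulAut.conj_apply x F.t,
      ← map_mul, ← map_mul, (MulAut.conj x).injective.eq_iff]
  · rw [zpowers_le, mem_centralizer_singleton_iff, ← hx, ← MulAut.conj_apply, ← map_mul, ← map_mul,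
      mem_centralizer_singleton_iff.1 (hwC (mem_zpowers _))]
  · intro g hg hgw
    obtain ⟨g, rfl⟩ := (MulAut.conj x).surjective g
    have hg' : g ∈ centralizer ({F.t} : Set K) := by
      rw [mem_centralizer_singleton_iff, ← hx, ← MulAut.conj_apply, ← map_mul, ← map_mul] at hg
      exact mem_centralizer_singleton_iff.2 ((MulAut.conj x).injective hg)
    obtain ⟨h1, h2⟩ := hall g hg' fun e => hgw (by
      obtain ⟨i, rfl⟩ := mem_zpowers_iff.1 e
      rw [map_zpow]
      exact zpow_mem (mem_zpowers _) _)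
    exact ⟨by rw [← map_inv, ← map_mul, ← map_mul, h1, map_inv],
      (MulEquiv.orderOf_eq _ _).trans h2⟩
  · rw [mem_centralizer_singleton_iff, ← hx, ← MulAut.conj_apply, ← map_mul, ← map_mul,
      mem_centralizer_singleton_iff.1 hsC]
  · intro e
    obtain ⟨i, hi⟩ := mem_zpowers_iff.1 e
    rw [← map_zpow] at hi
    exact hsw ((MulAut.conj x).injective hi ▸ zpow_mem (mem_zpowers _) _)

theorem exists_commuting_invol {u : K} (hu : orderOf u = 2) :
    ∃ g : K, orderOf g = 2 ∧ g ≠ u ∧ Commute g u := by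
  obtain ⟨w, -, hwu, -, -, hall, g, hg, hgw⟩ := h.invol_torus hu
  exact ⟨g, (hall g hg hgw).2, fun e => hgw (e ▸ hwu ▸ pow_mem (mem_zpowers _) _),
    mem_centralizer_singleton_iff.1 hg⟩

theorem exists_invol : ∃ u : K, orderOf u = 2 := by
  haveI : Fact (Nat.Prime 2) := ⟨Nat.prime_two⟩
  exact exists_prime_orderOf_dvd_card' 2 (h.card ▸ dvd_mul_of_dvd_right (dvd_mul_of_dvd_left
    (by norm_num) m) _)

/-- No element of order three is inverted. -/
theorem not_inverted_three {x g : K} (hx : orderOf x = 3) : g * x * g⁻¹ ≠ x⁻¹ := by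
  haveI : Fact (Nat.Prime 3) := ⟨Nat.prime_three⟩
  intro hinv
  obtain ⟨P, hxP⟩ := h.exists_sylow_mem hx
  have hC := h.cent_eq_sylow hx P hxP
  set N := normalizer ((P : Subgroup K) : Set K) with hN
  -- the Sylow subgroup is not normal
  have hnn : ¬ (P : Subgroup K).Normal := by
    intro hn
    obtain ⟨u, hu⟩ := h.exists_invol
    obtain ⟨u', hu', hne, hc⟩ := h.exists_commuting_invol hu
    have hall : ∀ i : K, orderOf i = 2 → i * x * i⁻¹ = x⁻¹ := by
      intro i hi
      refine inverts_of_no_fixed (h.comm P) (fun a ha => hn.conj_mem a ha i) (fun a _ => ?_)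
        (fun a ha hia => ?_) x hxP
      · rw [show i * i = 1 by rw [← pow_two, ← hi, pow_orderOf_eq_one], one_mul, mul_one]
      · by_contra ha1
        obtain ⟨j, hj⟩ := P.2 ⟨a, ha⟩
        have ha3 : a ^ 3 = 1 := h.cent_three_cube hx (hC.symm ▸ ha)
        have hao : orderOf a = 3 := orderOf_eq_prime ha3 ha1
        have hiC : i ∈ centralizer ({a} : Set K) := mem_centralizer_singleton_iff.2 hia
        have := orderOf_dvd_of_pow_eq_one (h.cent_three_cube hao hiC)
        rw [hi] at this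
        norm_num at this
    have hprod : u' * u ∈ (P : Subgroup K) := by
      rw [← hC, mem_centralizer_singleton_iff]
      calc u' * u * x = u' * (u * x * u⁻¹) * u := by group
        _ = (u' * x⁻¹ * u'⁻¹) * u' * u := by rw [hall u hu]; group
        _ = x * (u' * u) := by rw [← conj_inv, hall u' hu', inv_inv, mul_assoc]
    have h3 := orderOf_dvd_of_pow_eq_one (h.cent_three_cube hx (hC.symm ▸ hprod))
    have h2 : (u' * u) ^ 2 = 1 := by
      rw [hc.mul_pow, ← hu, pow_orderOf_eq_one, hu, ← hu', pow_orderOf_eq_one, one_mul]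
    have h1 : orderOf (u' * u) = 1 :=
      Nat.eq_one_of_dvd_coprimes (by norm_num) h3 (orderOf_dvd_of_pow_eq_one h2)
    exact hne ((eq_inv_of_mul_eq_one_left (orderOf_eq_one_iff.1 h1)).trans (Invol.invol_inv hu))
  -- `P` acts freely on the other Sylow subgroups
  let X : SubMulAction (P : Subgroup K) (Sylow 3 K) :=
    { carrier := {Q | Q ≠ P}
      smul_mem' := fun c Q hQ e => hQ (by
        have h1 : (c : K) • P = P := Sylow.smul_eq_iff_mem_normalizer.2 (le_normalizer c.2)
        exact smul_left_cancel (c : K) ((show (c : K) • Q = P from e).trans h1.symm)) }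
  have hfree : ∀ Q : X, MulAction.stabilizer (P : Subgroup K) Q = ⊥ := by
    intro Q
    rw [eq_bot_iff]
    intro c hc
    rw [MulAction.mem_stabilizer_iff] at hc
    have h1 : c • (Q : Sylow 3 K) = Q := congrArg Subtype.val hc
    have h2 : (c : K) ∈ normalizer ((Q : Sylow 3 K) : Set K) :=
      Sylow.smul_eq_iff_mem_normalizer.1 h1
    have h3 : (c : K) ∈ (Q : Sylow 3 K) := by
      have := (P.2.inf_normalizer_sylow (Q : Sylow 3 K)).le ⟨c.2, h2⟩
      exact this.2
    rw [mem_bot]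
    by_contra hc1
    have hco : orderOf (c : K) = 3 := orderOf_eq_prime (h.cent_three_cube hx (hC.symm ▸ c.2))
      fun e => hc1 (Subtype.ext e)
    exact Q.2 (Sylow.ext ((h.cent_eq_sylow hco _ h3).symm.trans (h.cent_eq_sylow hco P c.2)))
  have hdvd : q ∣ Nat.card X := by
    haveI := Fintype.ofFinite (MulAction.orbitRel.Quotient (P : Subgroup K) X)
    rw [Nat.card_congr (MulAction.selfEquivSigmaOrbits (P : Subgroup K) X), Nat.card_sigma]
    refine Finset.dvd_sum fun o _ => ?_
    rw [← h.card_sylow_three P, Nat.card_congr (MulAction.orbitEquivQuotientStabilizer _ _),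
      ← index, hfree, index_bot]
  have hsum : Nat.card (Sylow 3 K) = Nat.card X + 1 := by
    classical
    haveI := Fintype.ofFinite (Sylow 3 K)
    rw [← Finite.card_option]
    exact Nat.card_congr (Equiv.optionSubtypeNe P).symm
  have hXpos : 0 < Nat.card X := by
    by_contra h0
    have h1 : Nat.card (Sylow 3 K) = 1 := by omega
    haveI : Subsingleton (Sylow 3 K) := (Nat.card_eq_one_iff_unique.1 h1).1
    exact hnn (Sylow.normal_of_subsingleton P)
  have hNP : (P : Subgroup K) ≤ N := le_normalizer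
  obtain ⟨j, hj⟩ : q ∣ Nat.card N := h.card_sylow_three P ▸ card_dvd_of_le hNP
  have hmul : Nat.card (Sylow 3 K) * j = n * (4 * m) := by
    have h1 := index_mul_card N
    rw [show N.index = Nat.card (Sylow 3 K) from P.card_eq_index_normalizer.symm, hj, h.card] at h1
    refine Nat.eq_of_mul_eq_mul_left (show 0 < q by have := h.q_ge; omega) ?_
    linarith
  obtain ⟨l, hl⟩ := hdvd
  have hl1 : 1 ≤ l := by
    rcases Nat.eq_zero_or_pos l with rfl | h'
    · simp at hl; omega
    · exact h'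
  have hjn : j = n := by
    rw [hsum, hl, ← h.hm] at hmul
    have h1 : q * (l * j) + j = q * n + n := by linarith
    rcases lt_trichotomy (l * j) n with hlt | heq | hgt
    · have : q * (l * j + 1) ≤ q * n := Nat.mul_le_mul_left q hlt
      have : j ≤ l * j := Nat.le_mul_of_pos_left j hl1
      have : n < q := by have := h.hn; omega
      nlinarith
    · rw [heq] at h1
      omega
    · have : q * (n + 1) ≤ q * (l * j) := Nat.mul_le_mul_left q hgt
      have : n < q := by have := h.hn; omega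
      nlinarith
  subst hjn
  have hgN : g ∈ N := by
    have hg' : g ∈ normalizer (zpowers x : Set K) := by
      rw [mem_normalizer_iff]
      intro a
      constructor
      · intro ha
        obtain ⟨i, rfl⟩ := mem_zpowers_iff.1 ha
        rw [← conj_zpow, hinv]
        exact zpow_mem (inv_mem (mem_zpowers x)) i
      · intro ha
        obtain ⟨i, hi⟩ := mem_zpowers_iff.1 ha
        refine mem_zpowers_iff.2 ⟨-i, ?_⟩
        apply (MulAut.conj g).injective
        rw [map_zpow, MulAut.conj_apply, MulAut.conj_apply, hinv, inv_zpow', neg_neg, hi]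
    have := PSLSpectrum.normalizer_le_normalizer_centralizer hg'
    rwa [hC] at this
  have hgodd : Odd (orderOf g) := by
    have h1 : orderOf g ∣ Nat.card N := by
      rw [← orderOf_mk g hgN]; exact orderOf_dvd_natCard _
    have h2 : Odd (Nat.card N) := by
      rw [hj]
      exact (Nat.odd_iff.2 (by have := h.hn; omega)).mul h.data.mo_odd
    exact h2.of_dvd_nat h1
  have hsq : Commute (g * g) x := by
    show g * g * x = x * (g * g)
    calc g * g * x = g * (g * x * g⁻¹) * g := by group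
      _ = (g * x⁻¹ * g⁻¹) * g * g := by rw [hinv]; group
      _ = x * (g * g) := by rw [← conj_inv, hinv, inv_inv, mul_assoc]
  have := (commute_of_odd hgodd hsq).eq
  rw [mul_inv_eq_iff_eq_mul, this] at hinv
  have h2 : x ^ 2 = 1 := by
    rw [pow_two]
    nth_rw 2 [mul_right_cancel hinv]
    rw [mul_inv_cancel]
  have := orderOf_dvd_of_pow_eq_one h2
  rw [hx] at this
  norm_num at this

/-- The centralizer of an element of the torus of order `(q+1)/4`. -/
theorem cent_m {v : K} (hv : v ≠ 1) (hvm : orderOf v ∣ m) :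
    ∃ w : K, orderOf w = 2 * m ∧ centralizer ({v} : Set K) = zpowers w := by
  obtain ⟨r, hr, hrd⟩ := Nat.exists_prime_and_dvd (mt orderOf_eq_one_iff.1 hv)
  haveI := Fact.mk hr
  have hrm : r ∣ m := hrd.trans hvm
  have hr2 : r ≠ 2 := fun e => h.two_not_m (e ▸ hrm)
  set y := v ^ (orderOf v / r) with hy
  have hyo : orderOf y = r := orderOf_pow_orderOf_div (orderOf_pos v).ne' hrd
  obtain ⟨w₀, hw₀⟩ := h.data.exE
  obtain ⟨P, hP⟩ := (IsPGroup.of_card (G := zpowers y) (p := r) (n := 1)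
    (by rw [Nat.card_zpowers, hyo, pow_one])).exists_le_sylow
  obtain ⟨w, hw, hPw⟩ := PSLSpectrum.exists_gen (u := w₀) (k := q * n * 2)
    (by rw [h.card, hw₀]; ring) (h.data.not_dvd_compl_E hr hr2 (dvd_mul_of_dvd_right hrm 2)) P
  rw [hw₀] at hw
  obtain ⟨-, -, -, hyC⟩ := h.data.torus_E hr2 (dvd_mul_of_dvd_right hrm 2) P hw hPw
  have hCy := hyC y (hP (mem_zpowers y)) hyo
  refine ⟨w, hw, le_antisymm (fun a ha => ?_) (PSLSpectrum.zpowers_le_centralizer ?_)⟩
  · rw [← hCy]
    exact mem_centralizer_singleton_iff.2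
      (Commute.pow_right (show Commute a v from mem_centralizer_singleton_iff.1 ha) _).eq
  · rw [← hCy, mem_centralizer_singleton_iff]
    exact ((Commute.refl v).pow_right _).eq

/-- The centralizer of an element of the torus of order `(q-1)/2`. -/
theorem cent_n {v : K} (hv : v ≠ 1) (hvn : orderOf v ∣ n) :
    ∃ w : K, orderOf w = n ∧ centralizer ({v} : Set K) = zpowers w ∧
      Nat.card (normalizer (zpowers v : Set K)) = 2 * n ∧
      ∃ u : K, orderOf u = 2 ∧ ∀ a ∈ zpowers w, u * a * u⁻¹ = a⁻¹ := by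
  obtain ⟨r, hr, hrd⟩ := Nat.exists_prime_and_dvd (mt orderOf_eq_one_iff.1 hv)
  haveI := Fact.mk hr
  have hrn : r ∣ n := hrd.trans hvn
  set y := v ^ (orderOf v / r) with hy
  have hyo : orderOf y = r := orderOf_pow_orderOf_div (orderOf_pos v).ne' hrd
  obtain ⟨w₀, hw₀⟩ := h.data.exO
  obtain ⟨P, hP⟩ := (IsPGroup.of_card (G := zpowers y) (p := r) (n := 1)
    (by rw [Nat.card_zpowers, hyo, pow_one])).exists_le_sylow
  obtain ⟨w, hw, hPw⟩ := PSLSpectrum.exists_gen (u := w₀) (k := q * (2 * (2 * m)))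
    (by rw [h.card, hw₀]; ring) (h.data.not_dvd_compl_O hr hrn) P
  rw [hw₀] at hw
  obtain ⟨hCP, hNP, -⟩ := h.data.torus_O hrn P hw hPw
  have hyw : y ∈ zpowers w := hPw (hP (mem_zpowers y))
  have hCy := h.data.cent_eq_O hr hrn hw hyo hyw
  have hvw : v ∈ zpowers w := by
    rw [← hCy, mem_centralizer_singleton_iff]
    exact ((Commute.refl v).pow_right _).eq
  have hCv : centralizer ({v} : Set K) = zpowers w := by
    refine le_antisymm (fun a ha => ?_) (PSLSpectrum.zpowers_le_centralizer hvw)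
    rw [← hCy]
    exact mem_centralizer_singleton_iff.2
      (Commute.pow_right (show Commute a v from mem_centralizer_singleton_iff.1 ha) _).eq
  have hN : normalizer (zpowers v : Set K) = normalizer ((P : Subgroup K) : Set K) := by
    refine le_antisymm ?_ ?_
    · refine le_trans PSLSpectrum.normalizer_le_normalizer_centralizer ?_
      rw [hCv]
      exact PSLSpectrum.normalizer_zpowers_le hPw
    · refine le_trans (Coprime.normalizer_le_normalizer_centralizer _) ?_
      rw [hCP]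
      exact PSLSpectrum.normalizer_zpowers_le (zpowers_le.2 hvw)
  refine ⟨w, hw, hCv, hN ▸ hNP, ?_⟩
  haveI : Fact (Nat.Prime 2) := ⟨Nat.prime_two⟩
  obtain ⟨⟨u, hu⟩, huo⟩ := exists_prime_orderOf_dvd_card'
    (G := normalizer (zpowers v : Set K)) 2 (by rw [hN, hNP]; exact dvd_mul_right _ _)
  rw [orderOf_mk] at huo
  have hun : ∀ a ∈ zpowers w, u * a * u⁻¹ ∈ zpowers w := fun a ha => by
    have := PSLSpectrum.normalizer_le_normalizer_centralizer hu
    rw [hCv] at this
    exact (mem_normalizer_iff.1 this a).1 ha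
  refine ⟨u, huo, inverts_of_no_fixed (fun a ha b hb => ?_) hun (fun a _ => ?_)
    fun a ha hc => ?_⟩
  · obtain ⟨i, rfl⟩ := mem_zpowers_iff.1 ha
    obtain ⟨j, rfl⟩ := mem_zpowers_iff.1 hb
    exact ((Commute.refl w).zpow_zpow i j).eq
  · rw [show u * u = 1 by rw [← pow_two, ← huo, pow_orderOf_eq_one], one_mul, mul_one]
  · by_contra ha1
    obtain ⟨s, hs, hsd⟩ := Nat.exists_prime_and_dvd (mt orderOf_eq_one_iff.1 ha1)
    have han : orderOf a ∣ n := by
      rw [← hw, ← Nat.card_zpowers w]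
      exact Subgroup.orderOf_dvd_natCard _ ha
    have h1 := h.data.cent_eq_O hs (hsd.trans han) hw
      (orderOf_pow_orderOf_div (orderOf_pos a).ne' hsd) (pow_mem ha _)
    have huw : u ∈ zpowers w :=
      h1 ▸ mem_centralizer_singleton_iff.2 ((show Commute u a from hc).pow_right _).eq
    have h2 : orderOf u ∣ n := by
      rw [← hw, ← Nat.card_zpowers w]
      exact Subgroup.orderOf_dvd_natCard _ huw
    exact h.data.two_not_mo (huo ▸ h2)

/-- Elements of the same prime order dividing `n` generate conjugate subgroups. -/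
theorem conj_n {r : ℕ} (hr : r.Prime) (hrn : r ∣ n) {v v' : K} (hv : orderOf v = r)
    (hv' : orderOf v' = r) : ∃ g : K, g * v' * g⁻¹ ∈ zpowers v := by
  haveI := Fact.mk hr
  obtain ⟨w₀, hw₀⟩ := h.data.exO
  obtain ⟨P, hP⟩ := (IsPGroup.of_card (G := zpowers v) (p := r) (n := 1)
    (by rw [Nat.card_zpowers, hv, pow_one])).exists_le_sylow
  obtain ⟨P', hP'⟩ := (IsPGroup.of_card (G := zpowers v') (p := r) (n := 1)
    (by rw [Nat.card_zpowers, hv', pow_one])).exists_le_sylow
  obtain ⟨w, -, hPw⟩ := PSLSpectrum.exists_gen (u := w₀) (k := q * (2 * (2 * m)))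
    (by rw [h.card, hw₀]; ring) (h.data.not_dvd_compl_O hr hrn) P
  obtain ⟨g, hg⟩ := MulAction.exists_smul_eq K P' P
  refine ⟨g, ?_⟩
  have h1 : g * v' * g⁻¹ ∈ (P : Subgroup K) := by
    rw [← hg, Sylow.coe_subgroup_smul]
    exact mem_map_of_mem _ (hP' (mem_zpowers v'))
  have h2 := PSLSpectrum.eq_of_le_zpowers (u := w) (zpowers_le.2 (hPw h1))
    (zpowers_le.2 (hPw (hP (mem_zpowers v)))) (by
      rw [Nat.card_zpowers, Nat.card_zpowers, hv, ← MulAut.conj_apply, MulEquiv.orderOf_eq, hv'])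
  exact h2 ▸ mem_zpowers _

end Kit

/-- The kit for a group isomorphic to `PSL(2, 3^(2k+1))`. -/
theorem Kit.of_equiv {K : Type*} [Group K] [Finite K] {F : Type} [Field F] [Fintype F] {k q m n : ℕ}
    (hk : 1 ≤ k) (hF : Fintype.card F = q) (hq : q = 3 ^ (2 * k + 1)) (hm : q + 1 = 4 * m)
    (hn : q = 2 * n + 1) (e : K ≃* Matrix.ProjectiveSpecialLinearGroup (Fin 2) F) :
    Kit K q m n := by
  classical
  haveI : Fact (Nat.Prime 3) := ⟨Nat.prime_three⟩
  have hq27 : 27 ≤ q :=
    hq ▸ le_trans (by norm_num) (Nat.pow_le_pow_right (by norm_num) (show 3 ≤ 2 * k + 1 by omega))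
  haveI hchar : CharP F 3 := by
    obtain ⟨p, hp⟩ := CharP.exists F
    haveI := hp
    obtain ⟨f, hpp, hf⟩ := FiniteField.card F p
    have : p = 3 := by
      refine (Nat.prime_dvd_prime_iff_eq hpp Nat.prime_three).1 ?_
      refine hpp.dvd_of_dvd_pow (n := 2 * k + 1) ?_
      rw [← hq, ← hF, hf]
      exact dvd_pow_self p f.pos.ne'
    exact this ▸ hp
  have hg : Nat.gcd 2 (Fintype.card F - 1) = 2 := Nat.gcd_eq_left (by rw [hF]; omega)
  have hcard : 2 * Nat.card K = q * ((q - 1) * (q + 1)) := by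
    have := CfsgLib.Classical.card_psl2 (F := F)
    rw [hg, hF, ← Nat.card_congr e.toEquiv] at this
    exact this
  have hspec : ∀ j : ℕ, (∃ g : K, orderOf g = j) ↔ (j ∣ 3 ∨ j ∣ (q - 1) / 2 ∨ j ∣ (q + 1) / 2) := by
    intro j
    have h1 := CfsgLib.Classical.PSL2Spectrum.mem_range_orderOf (F := F) 3 (by omega) j
    rw [hg, hF] at h1
    rw [← h1, Set.mem_range]
    exact ⟨fun ⟨g, hg'⟩ => ⟨e g, by rw [MulEquiv.orderOf_eq, hg']⟩,
      fun ⟨g, hg'⟩ => ⟨e.symm g, by rw [MulEquiv.orderOf_eq, hg']⟩⟩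
  obtain ⟨me, mo, hd⟩ := PSLSpectrum.data_of_odd (G := K) Nat.prime_three (by norm_num)
    ⟨2 * k + 1, by omega, hq⟩ (by omega) (Nat.odd_iff.2 (by omega)) hcard hspec
  have hval : me = 2 * m ∧ mo = n := by
    have hm0 : 0 < m := by omega
    have hn0 : 0 < n := by omega
    have h2n : ¬ 2 ∣ n := by omega
    have e1 : (q - 1) / 2 = n := by omega
    have e2 : (q + 1) / 2 = 2 * m := by omega
    obtain ⟨g₁, hg₁⟩ := hd.exE
    obtain ⟨g₂, hg₂⟩ := hd.exO
    have ho₁ := (hspec me).1 ⟨g₁, hg₁⟩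
    have ho₂ := (hspec mo).1 ⟨g₂, hg₂⟩
    rw [e1, e2] at ho₁ ho₂
    have h3me : me ∣ 2 * m := by
      rcases ho₁ with h | h | h
      · exfalso
        rcases (Nat.dvd_prime Nat.prime_three).1 h with h' | h' <;>
          exact absurd hd.me_even (by rw [h']; decide)
      · exact absurd ((even_iff_two_dvd.1 hd.me_even).trans h) h2n
      · exact h
    have hprod : q * mo * (2 * me) = q * n * (2 * (2 * m)) := by
      have h1 := hd.card
      have h2 : 2 * Nat.card K = 2 * (q * n * (2 * (2 * m))) := by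
        rw [hcard, show q - 1 = 2 * n by omega, hm]; ring
      omega
    have hprod' : mo * me = n * (2 * m) := by
      refine Nat.eq_of_mul_eq_mul_left (show 0 < q * 2 by omega) ?_
      linarith
    have hmon : mo ∣ n := by
      rcases ho₂ with h | h | h
      · exfalso
        rcases (Nat.dvd_prime Nat.prime_three).1 h with h' | h'
        · exact absurd h' hd.one_lt.ne'
        · exact hd.p_not_mo (h' ▸ dvd_rfl)
      · exact h
      · exfalso
        have hn1 : n.Coprime (2 * m) := by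
          refine Nat.coprime_of_dvd' fun r hr hr1 hr2 => ?_
          have h3 : r ∣ q + 1 - (q - 1) := Nat.dvd_sub
            (hm ▸ (hr2.trans ⟨2, by ring⟩)) (show q - 1 = 2 * n by omega ▸ dvd_mul_of_dvd_right hr1 2)
          rw [show q + 1 - (q - 1) = 2 by omega] at h3
          exact absurd ((Nat.prime_dvd_prime_iff_eq hr Nat.prime_two).1 h3 ▸ hr1) h2n
        have : n ∣ mo * me := hprod' ▸ dvd_mul_right n _
        have h1 : n = 1 :=
          Nat.eq_one_of_dvd_coprimes ((hn1.coprime_dvd_right h).mul_right (hn1.coprime_dvd_right h3me))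
            dvd_rfl this
        omega
    obtain ⟨a, ha⟩ := hmon
    obtain ⟨b, hb⟩ := h3me
    have hab : a * b = 1 := by
      refine Nat.eq_of_mul_eq_mul_left (Nat.mul_pos hd.mo_odd.pos hd.me_pos) ?_
      rw [mul_one]
      conv_rhs => rw [hprod', ha, hb]
      ring
    rw [Nat.eq_one_of_mul_eq_one_right hab, mul_one] at ha
    rw [Nat.eq_one_of_mul_eq_one_left hab, mul_one] at hb
    exact ⟨hb.symm, ha.symm⟩
  obtain ⟨rfl, rfl⟩ := hval
  refine ⟨hd, fun x y hx hy => ?_, fun P a ha b hb => ?_, ⟨k, hk, hq⟩, hm, hn⟩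
  · have := OddProdPSL.isConj_of_invol (F := F) (x := e x) (y := e y)
      (by rw [MulEquiv.orderOf_eq, hx]) (by rw [MulEquiv.orderOf_eq, hy])
    simpa using e.symm.toMonoidHom.map_isConj this
  · -- the image of the unitriangular group is a Sylow subgroup
    open CfsgLib.PSL2Two CfsgLib.Char in
    let f : Multiplicative F →* K :=
      { toFun := fun x => e.symm (π (TwoChars.elS (1 : Fˣ) (Multiplicative.toAdd x)))
        map_one' := by rw [toAdd_one, TwoChars.elS_one_zero, map_one, map_one]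
        map_mul' := fun x y => by
          rw [← map_mul, ← map_mul, TwoChars.elS_mul, toAdd_mul]
          simp [add_comm] }
    have hinj : Function.Injective f := by
      rw [injective_iff_map_eq_one]
      intro x hx
      have h1 := e.symm.injective (hx.trans (map_one e.symm).symm)
      open CfsgLib.PSL2Two CfsgLib.Char in
      rcases π_eq_one_iff.1 h1 with h2 | h2 <;>
        simpa [TwoChars.elS_val] using congrFun (congrFun h2 0) 1
    have hU : Nat.card f.range = 3 ^ (Nat.card K).factorization 3 := by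
      rw [← Nat.card_congr (MonoidHom.ofInjective hinj).toEquiv, Nat.card_congr Multiplicative.toAdd,
        Nat.card_eq_fintype_card, hF]
      have h3 : ¬ 3 ∣ 2 * (mo * (2 * m)) := by
        intro hd'
        rcases Nat.prime_three.dvd_mul.1 hd' with h | h
        · norm_num at h
        · exact (Nat.prime_three.dvd_mul.1 h).elim hd.p_not_mo hd.p_not_me
      have hK : Nat.card K = q * (2 * (mo * (2 * m))) := by rw [hd.card]; ring
      rw [hK, Nat.factorization_mul (by omega) (fun h0 => h3 (by rw [h0]; exact dvd_zero 3)),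
        Finsupp.add_apply, Nat.factorization_eq_zero_of_not_dvd h3, hq,
        Nat.Prime.factorization_pow Nat.prime_three, Finsupp.single_eq_same, add_zero]
    obtain ⟨g, hg⟩ := MulAction.exists_smul_eq K (Sylow.ofCard f.range hU) P
    rw [← hg, Sylow.coe_subgroup_smul] at ha hb
    obtain ⟨_, hx1, rfl⟩ := ha
    obtain ⟨_, hy1, rfl⟩ := hb
    obtain ⟨x, rfl⟩ := (show _ ∈ f.range from hx1)
    obtain ⟨y, rfl⟩ := (show _ ∈ f.range from hy1)
    show MulAut.conj g (f x) * MulAut.conj g (f y) = MulAut.conj g (f y) * MulAut.conj g (f x)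
    rw [← map_mul, ← map_mul, ← map_mul, ← map_mul, mul_comm x y]

end CfsgLib.ReeType
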