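import Cfsg.Agent.Lib.Ree.Sections
import Cfsg.Agent.Lib.FourFree.K.PSLAut
import Cfsg.Agent.Lib.Classical.ProjLine
import Cfsg.Agent.Lib.LocalStructure.RankOne.SUThree
import Cfsg.Agent.Lib.Lie.Suz.Sub.Fix
import Cfsg.Agent.Lib.Lie.Suz.Aut
import Cfsg.Agent.Lib.Char.J1.Structure

/-!
# Sections of the linear, Suzuki and unitary groups of Lie rank one and of the first Janko group
-/

set_option autoImplicit false
set_option linter.unusedSectionVars false
set_option linter.style.haveILetI false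

namespace CfsgLib.ReeType

open Subgroup Cfsg Matrix CfsgLib.AutPSL

universe u v

/-- A group whose Sylow subgroups are commutative, from one of them. -/
theorem comm_sylow_of_one {G : Type*} [Group G] [Finite G] {p : ℕ} [Fact p.Prime] (S : Sylow p G)
    (h : ∀ a ∈ (S : Subgroup G), ∀ b ∈ (S : Subgroup G), a * b = b * a) :
    ∀ P : Sylow p G, ∀ a ∈ (P : Subgroup G), ∀ b ∈ (P : Subgroup G), a * b = b * a := by
  intro P a ha b hb
  obtain ⟨g, hg⟩ := MulAction.exists_smul_eq G S P
  rw [← hg, Sylow.coe_subgroup_smul] at ha hb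
  obtain ⟨x, hx, rfl⟩ := ha
  obtain ⟨y, hy, rfl⟩ := hb
  show MulAut.conj g x * MulAut.conj g y = MulAut.conj g y * MulAut.conj g x
  rw [← map_mul, ← map_mul, h x hx y hy]

section Linear

variable {F : Type} [Field F] [Fintype F]

/-- An inverted element of order three away from characteristic three. -/
theorem not_hg_psl (h3 : (3 : F) ≠ 0) :
    ¬ FourFree.HG (Matrix.ProjectiveSpecialLinearGroup (Fin 2) F) := by
  intro hG
  obtain ⟨x, y, hxy⟩ : ∃ x y : F, x ^ 2 + x + 1 + y ^ 2 = 0 := by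
    by_cases h2 : (2 : F) = 0
    · exact ⟨0, 1, by linear_combination h2⟩
    · have hodd : Fintype.card F % 2 = 1 := FiniteField.odd_card_of_char_ne_two (by
        intro e
        haveI := (ringChar.eq_iff).1 e
        exact h2 (CharP.cast_eq_zero F 2))
      obtain ⟨a, b, hab⟩ := FiniteField.exists_root_sum_quadratic (R := F)
        (f := Polynomial.C (1 : F) * Polynomial.X ^ 2 + Polynomial.C 1 * Polynomial.X + Polynomial.C 1)
        (g := Polynomial.X ^ 2) (Polynomial.degree_quadratic one_ne_zero) (Polynomial.degree_X_pow 2) hodd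
      exact ⟨a, b, by simpa using hab⟩
  let A : Matrix.SpecialLinearGroup (Fin 2) F := ⟨!![x, y; y, -1 - x], by
    rw [det_fin_two_of]; linear_combination -hxy⟩
  let w : Matrix.SpecialLinearGroup (Fin 2) F := ⟨!![0, 1; -1, 0], by rw [det_fin_two_of]; ring⟩
  have hcube : A ^ 3 = 1 := by
    refine Subtype.ext ?_
    rw [pow_succ, pow_two]
    show A.1 * A.1 * A.1 = 1
    ext i j
    fin_cases i <;> fin_cases j <;> simp [A, mul_apply, Fin.sum_univ_two]
    · linear_combination (x - 1) * hxy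
    · linear_combination y * hxy
    · linear_combination y * hxy
    · linear_combination (-x - 2) * hxy
  have hconj : w * A = A⁻¹ * w := by
    refine Subtype.ext ?_
    show w.1 * A.1 = A.1.adjugate * w.1
    ext i j
    fin_cases i <;> fin_cases j <;> simp [A, w, mul_apply, Fin.sum_univ_two, adjugate_fin_two] <;> ring
  have h1 := hG (proj w) (proj A) (by rw [← map_pow, hcube, map_one])
    (by rw [← map_mul, hconj, map_mul, map_inv, mul_inv_cancel_right])
  rw [← map_one (proj (n := 2) (F := F)), FourFree.PSL.proj_eq_iff] at h1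
  have e00 : x = 1 ∧ y = 0 ∧ -1 - x = 1 ∨ x = -1 ∧ y = 0 ∧ -1 - x = -1 := by
    rcases h1 with h1 | h1
    · left
      refine ⟨?_, ?_, ?_⟩
      · simpa [A] using congrFun (congrFun h1 0) 0
      · simpa [A] using congrFun (congrFun h1 0) 1
      · simpa [A] using congrFun (congrFun h1 1) 1
    · right
      refine ⟨?_, ?_, ?_⟩
      · simpa [A] using congrFun (congrFun h1 0) 0
      · simpa [A] using congrFun (congrFun h1 0) 1
      · simpa [A] using congrFun (congrFun h1 1) 1
  rcases e00 with ⟨a, -, c⟩ | ⟨a, -, c⟩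
  · exact h3 (by rw [a] at c; linear_combination -c)
  · exact one_ne_zero (show (1 : F) = 0 by rw [a] at c; linear_combination c)

/-- No inverted element of order three in `PSL₂(3^odd)`. -/
theorem hg_psl {n : ℕ} (hF : Fintype.card F = 3 ^ (2 * n + 1)) :
    FourFree.HG (Matrix.ProjectiveSpecialLinearGroup (Fin 2) F) := by
  intro g' x' hx hconj
  obtain ⟨A, rfl⟩ := QuotientGroup.mk'_surjective _ x'
  obtain ⟨g, rfl⟩ := QuotientGroup.mk'_surjective _ g'
  change proj A ^ 3 = 1 at hx
  change proj g * proj A * (proj g)⁻¹ = (proj A)⁻¹ at hconj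
  show proj A = 1
  have h3 := FourFree.PSL.three_eq hF
  by_contra hA
  set α := A.1 0 0 with hα
  set b := A.1 0 1 with hb
  set c := A.1 1 0 with hc
  set δ := A.1 1 1 with hδ
  have hdet : α * δ - b * c = 1 := by have := A.2; rwa [det_fin_two] at this
  have hnsc : ¬ (b = 0 ∧ c = 0 ∧ α = δ) := fun ⟨e1, e2, e3⟩ => hA (proj_eq_one_of_scalar le_rfl (c := α) (by
    ext i j
    fin_cases i <;> fin_cases j <;> simp [← hα, ← hb, ← hc, ← hδ, e1, e2, e3]))
  rw [← map_pow, ← map_one (proj (n := 2) (F := F)), FourFree.PSL.proj_eq_iff] at hx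
  have hcases : (α + δ) ^ 2 = 1 := by
    have e : ∀ i j, ((A ^ 3).1) i j = ((α + δ) ^ 2 - 1) * A.1 i j -
        (α + δ) * (1 : Matrix (Fin 2) (Fin 2) F) i j := by
      intro i j
      rw [pow_succ, pow_two]
      show (A.1 * A.1 * A.1) i j = _
      fin_cases i <;> fin_cases j <;>
        simp [mul_apply, Fin.sum_univ_two, ← hα, ← hb, ← hc, ← hδ]
      · linear_combination (-(2 * α + δ)) * hdet
      · linear_combination (-b) * hdet
      · linear_combination (-c) * hdet
      · linear_combination (-(α + 2 * δ)) * hdet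
    by_contra hne
    have hs : (α + δ) ^ 2 - 1 ≠ 0 := sub_ne_zero.2 hne
    have h00 := e 0 0
    have h01 := e 0 1
    have h10 := e 1 0
    have h11 := e 1 1
    apply hnsc
    rcases hx with hx | hx <;> simp [hx, ← hα, ← hb, ← hc, ← hδ] at h00 h01 h10 h11 <;>
      exact ⟨h01.resolve_left hs, h10.resolve_left hs,
        mul_left_cancel₀ hs (by first | linear_combination h11 - h00 | linear_combination h00 - h11)⟩
  have hg : g.1.det = 1 := g.2
  set p := g.1 0 0 with hp
  set r := g.1 0 1 with hr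
  set s := g.1 1 0 with hs
  set u := g.1 1 1 with hu
  have hgdet : p * u - r * s = 1 := by rwa [det_fin_two] at hg
  rw [mul_inv_eq_iff_eq_mul, ← map_inv, ← map_mul, ← map_mul, FourFree.PSL.proj_eq_iff] at hconj
  change g.1 * A.1 = A.1.adjugate * g.1 ∨ g.1 * A.1 = -(A.1.adjugate * g.1) at hconj
  obtain ⟨ε, hε, hconj⟩ : ∃ ε : F, (ε = 1 ∨ ε = -1) ∧ g.1 * A.1 = ε • (A.1.adjugate * g.1) := by
    rcases hconj with h | h
    · exact ⟨1, Or.inl rfl, by rw [h, one_smul]⟩
    · exact ⟨-1, Or.inr rfl, by rw [h, neg_one_smul]⟩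
  have E00 := congrFun (congrFun hconj 0) 0
  have E01 := congrFun (congrFun hconj 0) 1
  have E10 := congrFun (congrFun hconj 1) 0
  have E11 := congrFun (congrFun hconj 1) 1
  simp [mul_apply, Matrix.vecMul, dotProduct, Fin.sum_univ_two, adjugate_fin_two, ← hα, ← hb, ← hc, ← hδ, ← hp, ← hr, ← hs, ← hu]
    at E00 E01 E10 E11
  have hε1 : ε = 1 := by
    refine hε.resolve_right fun e => ?_
    subst e
    have : (2 * (α + δ)) * 1 = 0 := by
      linear_combination (-(2 * (α + δ))) * hgdet + u * E00 - s * E01 - r * E10 + p * E11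
    have ht : α + δ ≠ 0 := fun h => by rw [h] at hcases; norm_num at hcases
    rw [mul_one, mul_eq_zero] at this
    exact this.elim (FourFree.PSL.two_ne h3) ht
  subst hε1
  set a := δ - α with ha
  have hsq : a ^ 2 + b * c = 0 := by
    linear_combination hcases - 4 * hdet - b * c * h3 - h3
  have e1 : b * (p + u) = 0 := by linear_combination E01
  have e2 : c * (p + u) = 0 := by linear_combination E10
  have e3 : b * s + c * r = a * p := by linear_combination E00
  have hns := FourFree.PSL.neg_one_not_square hF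
  by_cases hb0 : b = 0
  · have ha0 : a = 0 := by
      rw [hb0, zero_mul, add_zero] at hsq
      exact eq_zero_of_pow_eq_zero hsq
    have hc0 : c ≠ 0 := fun h => hnsc ⟨hb0, h, by linear_combination -ha0⟩
    have hu0 : p + u = 0 := (mul_eq_zero.1 e2).resolve_left hc0
    have hr0 : r = 0 := by
      rw [hb0, ha0, zero_mul, zero_mul, zero_add] at e3
      exact (mul_eq_zero.1 e3).resolve_left hc0
    refine hns ⟨p, ?_⟩
    rw [hr0, zero_mul, sub_zero] at hgdet
    linear_combination hgdet - p * hu0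
  · have hu0 : p + u = 0 := (mul_eq_zero.1 e1).resolve_left hb0
    have key : -((b * p - a * r) ^ 2) = b ^ 2 := by
      linear_combination b ^ 2 * hgdet - b ^ 2 * p * hu0 + b * r * e3 - r ^ 2 * hsq + a * b * p * r * h3
    have hne : b * p - a * r ≠ 0 := fun e => hb0 (by
      rw [e] at key; exact eq_zero_of_pow_eq_zero (n := 2) (by linear_combination -key))
    refine hns ⟨b / (b * p - a * r), ?_⟩
    field_simp
    linear_combination key

/-- Sylow `2`-subgroups of `PSL₂(2^n)` are commutative. -/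
theorem no_four_psl_two {n : ℕ} (hF : Fintype.card F = 2 ^ n) (hn : 1 ≤ n) :
    ¬ Cfsg.Involves (Equiv.Perm (Fin 4)) (Matrix.ProjectiveSpecialLinearGroup (Fin 2) F) := by
  classical
  haveI : Fact (Nat.Prime 2) := ⟨Nat.prime_two⟩
  have h2 : (2 : F) = 0 := by
    have h := FiniteField.cast_card_eq_zero F
    rw [hF, Nat.cast_pow] at h
    simpa using eq_zero_of_pow_eq_zero h
  let M : F → Matrix.SpecialLinearGroup (Fin 2) F := fun x => ⟨!![1, x; 0, 1], by rw [det_fin_two_of]; ring⟩
  let f : Multiplicative F →* Matrix.ProjectiveSpecialLinearGroup (Fin 2) F :=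
    { toFun := fun x => proj (M (Multiplicative.toAdd x))
      map_one' := by
        rw [← map_one (proj (n := 2) (F := F))]
        refine congrArg _ (Subtype.ext ?_)
        ext i j
        fin_cases i <;> fin_cases j <;> simp [M]
      map_mul' := fun x y => by
        rw [← map_mul]
        refine congrArg _ (Subtype.ext ?_)
        show _ = (M (Multiplicative.toAdd x)).1 * (M (Multiplicative.toAdd y)).1
        ext i j
        fin_cases i <;> fin_cases j <;> simp [M, mul_apply, Fin.sum_univ_two, add_comm] }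
  have hinj : Function.Injective f := by
    intro x y hxy
    apply Multiplicative.toAdd.injective
    rcases FourFree.PSL.proj_eq_iff.1 (show proj (M _) = proj (M _) from hxy) with h | h
    · simpa [M] using congrFun (congrFun h 0) 1
    · have h' : Multiplicative.toAdd x = -Multiplicative.toAdd y := by
        simpa [M] using congrFun (congrFun h 0) 1
      linear_combination h' + Multiplicative.toAdd y * (-h2)
  have hcard : Nat.card (Matrix.ProjectiveSpecialLinearGroup (Fin 2) F) =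
      2 ^ n * ((2 ^ n - 1) * (2 ^ n + 1)) := by
    have h := CfsgLib.Classical.card_psl2 (F := F)
    rw [hF] at h
    have hg : Nat.gcd 2 (2 ^ n - 1) = 1 := by
      have h2n : 2 ∣ 2 ^ n := dvd_pow_self 2 (by omega)
      have := Nat.one_le_pow n 2 (by norm_num)
      exact (Nat.prime_two.coprime_iff_not_dvd.2 (by omega))
    rwa [hg, one_mul] at h
  have hS : Nat.card f.range = 2 ^ (Nat.card (Matrix.ProjectiveSpecialLinearGroup (Fin 2) F)).factorization 2 := by
    have hodd : ¬ 2 ∣ (2 ^ n - 1) * (2 ^ n + 1) := fun hd => by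
      have h2n : 2 ∣ 2 ^ n := dvd_pow_self 2 (by omega)
      have := Nat.one_le_pow n 2 (by norm_num)
      rcases Nat.prime_two.dvd_mul.1 hd with h | h <;> omega
    rw [← Nat.card_congr (MonoidHom.ofInjective hinj).toEquiv, Nat.card_congr Multiplicative.toAdd,
      Nat.card_eq_fintype_card, hF, hcard, Nat.factorization_mul (by positivity)
        (fun h0 => hodd (by rw [h0]; exact dvd_zero 2)), Finsupp.add_apply,
      Nat.factorization_eq_zero_of_not_dvd hodd, Nat.Prime.factorization_pow Nat.prime_two,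
      Finsupp.single_eq_same, add_zero]
  refine no_four_of_comm_sylow (comm_sylow_of_one (Sylow.ofCard _ hS) ?_)
  intro a ha b hb
  rw [Sylow.coe_ofCard] at ha hb
  obtain ⟨x, rfl⟩ := ha
  obtain ⟨y, rfl⟩ := hb
  rw [← map_mul, ← map_mul, mul_comm x y]

/-- Sylow `2`-subgroups of `PSL₂(q)`, `q ≡ ±3 (mod 8)`, are commutative. -/
theorem no_four_psl_odd (hF : Fintype.card F % 8 = 3 ∨ Fintype.card F % 8 = 5) :
    ¬ Cfsg.Involves (Equiv.Perm (Fin 4)) (Matrix.ProjectiveSpecialLinearGroup (Fin 2) F) := by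
  classical
  haveI : Fact (Nat.Prime 2) := ⟨Nat.prime_two⟩
  refine no_four_of_comm_sylow fun P a ha b hb => ?_
  have hP : Nat.card (P : Subgroup (Matrix.ProjectiveSpecialLinearGroup (Fin 2) F)) = 2 ^ 2 := by
    have h := CfsgLib.Classical.card_psl2 (F := F)
    rw [Nat.gcd_eq_left (show 2 ∣ Fintype.card F - 1 by omega)] at h
    obtain ⟨r, hr⟩ : ∃ r, (Fintype.card F - 1) * (Fintype.card F + 1) = 8 * r ∧ Odd r := by
      rcases hF with h8 | h8
      · obtain ⟨j, hj⟩ : ∃ j, Fintype.card F = 8 * j + 3 := ⟨Fintype.card F / 8, by omega⟩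
        refine ⟨(4 * j + 1) * (2 * j + 1), ?_, Odd.mul ⟨2 * j, by ring⟩ ⟨j, rfl⟩⟩
        rw [hj, show 8 * j + 3 - 1 = 8 * j + 2 by omega]; ring
      · obtain ⟨j, hj⟩ : ∃ j, Fintype.card F = 8 * j + 5 := ⟨Fintype.card F / 8, by omega⟩
        refine ⟨(2 * j + 1) * (4 * j + 3), ?_, Odd.mul ⟨j, rfl⟩ ⟨2 * j + 1, by ring⟩⟩
        rw [hj, show 8 * j + 5 - 1 = 8 * j + 4 by omega]; ring
    have hodd : ¬ 2 ∣ Fintype.card F * r := fun hd => by
      rcases Nat.prime_two.dvd_mul.1 hd with h' | h'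
      · omega
      · exact Nat.not_even_iff_odd.2 hr.2 (even_iff_two_dvd.2 h')
    have hG : Nat.card (Matrix.ProjectiveSpecialLinearGroup (Fin 2) F) = 2 ^ 2 * (Fintype.card F * r) := by
      rw [hr.1] at h; linarith
    rw [P.card_eq_multiplicity, hG, Nat.factorization_mul (by norm_num)
      (fun h0 => hodd (by rw [h0]; exact dvd_zero 2)), Finsupp.add_apply,
      Nat.factorization_eq_zero_of_not_dvd hodd, Nat.Prime.factorization_pow Nat.prime_two,
      Finsupp.single_eq_same, add_zero]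
  haveI : IsMulCommutative (P : Subgroup (Matrix.ProjectiveSpecialLinearGroup (Fin 2) F)) :=
    IsPGroup.isMulCommutative_of_card_eq_prime_sq hP
  exact congrArg Subtype.val (IsMulCommutative.is_comm.comm (⟨a, ha⟩ : (P : Subgroup _)) ⟨b, hb⟩)

end Linear

section Suzuki

variable {F : Type} [Field F] [Fintype F] {m : ℕ}

open CfsgLib.Lie.Suz in
theorem sections_suzuki (hm : 1 ≤ m) (hF : Fintype.card F = 2 ^ (2 * m + 1)) :
    ¬ Cfsg.Involves (Equiv.Perm (Fin 4)) (Cfsg.Lie.Sz F (2 ^ (m + 1))) ∧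
      FourFree.HG (Cfsg.Lie.Sz F (2 ^ (m + 1))) := by
  classical
  obtain ⟨e⟩ := exists_twEquiv (F := F) hm hF
  refine ⟨fun hi => ?_, FourFree.HG.of_injective (?_ : FourFree.HG (Cfsg.Sz F m))
    e.symm.toMonoidHom e.symm.injective⟩
  · refine no_four_of_action (Ω := suzukiOvoid F m) (U hF : Subgroup (Cfsg.Sz F m)) (U_isPGroup hF)
      (oInf F m) (oZero F m) ?_ ?_ ?_ ?_ ?_
      (CfsgLib.Fusion.involves_of_injective e.symm.toMonoidHom e.symm.injective hi)
    · intro h
      have h1 := card_U (F := F) (m := m) hF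
      rw [h, card_bot, hF] at h1
      have h2 : 2 ^ 1 ≤ (2 ^ (2 * m + 1)) ^ 2 := by
        rw [← pow_mul]; exact Nat.pow_le_pow_right (by norm_num) (by omega)
      omega
    · rintro u ⟨a, b, hu⟩
      refine Subtype.ext ?_
      show (u : Matrix.SpecialLinearGroup (Fin 4) F) • suzukiPointInfinity F = _
      rw [hu]; exact T_inf a b
    · intro x hx
      rcases (ovoid_iff _).1 x.2 with h | ⟨a, b, h⟩
      · exact absurd (Subtype.ext h) hx
      · refine ⟨TS hF a b, TS_mem_U hF a b, Subtype.ext ?_⟩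
        show T m a b • suzukiPointZero F = (x : Projectivization F (Fin 4 → F))
        rw [T_zero_pt (isSuzField hF), h]
    · rintro u ⟨a, b, hu⟩ hfix
      have h := congrArg Subtype.val hfix
      change (u : Matrix.SpecialLinearGroup (Fin 4) F) • suzukiPointZero F = suzukiPointZero F at h
      rw [hu, T_zero_pt (isSuzField hF), ← pt_zero_zero (m := m)] at h
      obtain ⟨rfl, rfl⟩ := pt_inj h
      exact Subtype.ext (hu.trans T_zero)
    · exact fun g hg k hk => mem_U_of_two hm hF ⟨k, hk⟩ hg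
  · intro a x hx _
    refine orderOf_eq_one_iff.1 (Nat.eq_one_of_dvd_coprimes ?_ (orderOf_dvd_of_pow_eq_one hx)
      (orderOf_dvd_natCard x))
    refine Nat.prime_three.coprime_iff_not_dvd.2 fun h3 => ?_
    rw [card_Sz hm hF, hF] at h3
    have hq : ∀ i : ℕ, 2 ^ (2 * i + 1) % 3 = 2 := fun i => by
      induction i with
      | zero => norm_num
      | succ i ih => rw [show 2 * (i + 1) + 1 = 2 + (2 * i + 1) by ring, pow_add, Nat.mul_mod, ih]; norm_num
    have h := hq m
    generalize 2 ^ (2 * m + 1) = w at h h3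
    obtain ⟨j, rfl⟩ : ∃ j, w = 3 * j + 2 := ⟨w / 3, by omega⟩
    rw [show 3 * j + 2 - 1 = 3 * j + 1 by omega] at h3
    have h4 : ((3 * j + 2) ^ 2 * ((3 * j + 2) ^ 2 + 1) * (3 * j + 1)) % 3 = 2 := by
      simp [Nat.mul_mod, Nat.add_mod, Nat.pow_mod]
    omega

end Suzuki

section Unitary

variable {F : Type} [Field F] [Fintype F] {q : ℕ}

open CfsgLib.SU CfsgLib.Classical CfsgLib.RankOne in
theorem sections_unitary {n : ℕ} (hn : 1 ≤ n) (hq : q = 2 ^ n) (hF : Fintype.card F = q ^ 2) :
    ¬ Cfsg.Involves (Equiv.Perm (Fin 4)) (Cfsg.PSU 3 F q) ∧ ¬ FourFree.HG (Cfsg.PSU 3 F q) := by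
  classical
  haveI : Fact (Nat.Prime 2) := ⟨Nat.prime_two⟩
  haveI : CharP F 2 := by
    obtain ⟨p, hp⟩ := CharP.exists F
    haveI := hp
    obtain ⟨f, hpp, hf⟩ := FiniteField.card F p
    have : p = 2 := by
      refine (Nat.prime_dvd_prime_iff_eq hpp Nat.prime_two).1 ?_
      refine hpp.dvd_of_dvd_pow (n := n * 2) ?_
      rw [pow_mul, ← hq, ← hF, hf]
      exact dvd_pow_self p f.pos.ne'
    exact this ▸ hp
  obtain ⟨C⟩ := uctx_exists hF
  have h2 : (2 : F) = 0 := CharP.cast_eq_zero F 2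
  refine ⟨?_, ?_⟩
  · have hcop : (Nat.card (Subgroup.center ↥(Cfsg.SU 3 F q))).Coprime 2 := by
      rw [C.card_center_su hF le_rfl]
      exact Nat.Coprime.coprime_dvd_left (Nat.gcd_dvd_left _ _) (by norm_num)
    obtain ⟨v, hv0, hv⟩ : ∃ v : Fin 3 → F, v ≠ 0 ∧ C.form v v = 0 := by
      obtain ⟨x, hx⟩ := C.exists_norm (show C.bar (-1 : F) = -1 by simp)
      refine ⟨![1, x, 0], fun h => one_ne_zero (congrFun h 0), ?_⟩
      simp [UCtx.form, Fin.sum_univ_three, hx]
    obtain ⟨P, -⟩ := uPair_exists C hv0 hv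
    have hf0 : P.f ≠ 0 := fun h => by
      have h1 := P.ef; rw [h, C.form_zero_right] at h1; exact zero_ne_one h1
    have hU' : ∀ u ∈ (P.eichGroup).map (pr (F := F) (q := q) (n := 3)),
        ∃ (w1 : Fin 3 → F) (hw1 : w1 ∈ P.perp) (t1 : F) (ht1 : t1 + C.bar t1 + C.form w1 w1 = 0),
          pr (P.eich w1 hw1 t1 ht1) = u := by
      rintro _ ⟨_, ⟨w1, hw1, t1, ht1, rfl⟩, rfl⟩
      exact ⟨w1, hw1, t1, ht1, rfl⟩
    refine no_four_of_action (Ω := UPoint C 3) ((P.eichGroup).map (pr (F := F) (q := q) (n := 3)))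
      ((P.isPGroup_eichGroup 2).map _) (upt C P.e P.ee P.e_ne_zero) (upt C P.f P.ff hf0) ?_ ?_ ?_ ?_ ?_
    · intro h
      obtain ⟨δ, hδ0, hδ⟩ := C.exists_trace_zero
      have hd : δ + C.bar δ + C.form (0 : Fin 3 → F) 0 = 0 := by rw [C.form_zero_left, add_zero, hδ]
      have h0 : (0 : F) + C.bar 0 + C.form (0 : Fin 3 → F) 0 = 0 := by simp [C.form_zero_left]
      have h1 : pr (P.eich 0 P.perp.zero_mem δ hd) = 1 :=
        Subgroup.mem_bot.1 (h ▸ ⟨_, P.eich_mem _ _ _ _, rfl⟩)
      have hone : P.eich 0 P.perp.zero_mem 0 h0 = 1 := su_ext fun x => by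
        rw [P.eich_mulVec, su_one_mulVec, C.form_zero_right]
        simp
      have h2' := C.pr_eq_fix le_rfl (h1.trans (show pr (P.eich 0 P.perp.zero_mem 0 h0) = 1 by
        rw [hone, map_one]).symm) P.e_ne_zero (P.eich_e _ _ _ _) (P.eich_e _ _ _ _)
      exact hδ0 (P.eich_inj h2').2
    · intro u hu
      obtain ⟨w1, hw1, t1, ht1, rfl⟩ := hU' u hu
      rw [smul_upt, upt_eq_iff C le_rfl]
      exact ⟨1, by rw [P.eich_e, one_smul]⟩
    · intro x hx
      obtain ⟨y, hy, hy0, rfl⟩ := upt_surj C x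
      have hye : C.form y P.e ≠ 0 := fun h => hx ((upt_eq_iff C le_rfl hy hy0 P.ee P.e_ne_zero).2
        (isotropic_perp_eq P hy h))
      obtain ⟨w1, hw1, t1, ht1, hyv⟩ := P.exists_eich_point hy hye
      refine ⟨_, ⟨_, P.eich_mem w1 hw1 t1 ht1, rfl⟩, ?_⟩
      rw [smul_upt, upt_eq_iff C le_rfl]
      refine ⟨(C.form y P.e)⁻¹, ?_⟩
      conv_rhs => arg 2; rw [hyv]
      rw [inv_smul_smul₀ hye]
    · intro u hu h
      obtain ⟨w1, hw1, t1, ht1, rfl⟩ := hU' u hu
      rw [smul_upt, upt_eq_iff C le_rfl] at h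
      obtain ⟨a, ha⟩ := h
      rw [P.eich_f] at ha
      obtain ⟨hw1e, hw1f⟩ : C.form w1 P.e = 0 ∧ C.form w1 P.f = 0 := hw1
      have h1 := congrArg (fun z => C.form z P.e) ha
      simp only [C.form_add_left, C.form_smul_left, P.fe, P.ee, hw1e, mul_zero, add_zero, mul_one] at h1
      have h2' := congrArg (fun z => C.form z P.f) ha
      simp only [C.form_add_left, C.form_smul_left, P.ff, P.ef, hw1f, mul_zero, add_zero, zero_add,
        mul_one] at h2'
      subst h2'
      rw [← h1, one_smul, zero_smul, add_zero, add_eq_left] at ha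
      subst ha
      refine (congrArg pr (su_ext fun x => ?_)).trans (map_one _)
      refine (P.eich_mulVec _ _ _ _ _).trans ?_
      rw [su_one_mulVec, C.form_zero_right]
      simp
    · intro g hg k hk
      obtain ⟨A, rfl⟩ := QuotientGroup.mk'_surjective _ g
      rw [show QuotientGroup.mk' _ A = pr A from rfl] at hg hk ⊢
      rw [smul_upt, upt_eq_iff C le_rfl] at hg
      obtain ⟨c, hc⟩ := hg
      have hAZ : A ^ 2 ^ k ∈ Subgroup.center _ :=
        (QuotientGroup.eq_one_iff _).1 (show pr (A ^ 2 ^ k) = 1 by rw [map_pow]; exact hk)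
      obtain ⟨⟨z, hz⟩, hzp⟩ := (powCoprime (hcop.pow_right k)).surjective ⟨_, hAZ⟩
      have hzp' : z ^ 2 ^ k = A ^ 2 ^ k := congrArg Subtype.val hzp
      have hA1 : (A * z⁻¹) ^ 2 ^ k = 1 := by
        rw [(show Commute A z⁻¹ from (Subgroup.mem_center_iff.1 (inv_mem hz) A)).mul_pow, inv_pow, hzp',
          mul_inv_cancel]
      have hpz : pr z = (1 : Cfsg.PSU 3 F q) := (QuotientGroup.eq_one_iff z).2 hz
      have hpA : pr (A * z⁻¹) = pr A := by rw [map_mul, map_inv, hpz, inv_one, mul_one]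
      obtain ⟨c', hc'⟩ := (C.pr_eq_iff le_rfl).1 hpA.symm
      refine ⟨A * z⁻¹, eich_of_fix (p := 2) (c := c' * c) P _ ?_ hA1, hpA⟩
      rw [hc', Matrix.smul_mulVec, hc, smul_smul]
  · intro hG
    have mk : ∀ M : Matrix (Fin 3) (Fin 3) F, M.det = 1 → (∀ u v : Fin 3 → F,
        C.form (M *ᵥ u) (M *ᵥ v) = C.form u v) → ∃ X : ↥(Cfsg.SU 3 F q), X.1.1 = M := by
      intro M hM hf
      refine ⟨⟨⟨M, hM⟩, fun u v => ?_⟩, rfl⟩
      have h' := hf u v
      rw [← C.hermForm_eq, ← C.hermForm_eq] at h'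
      exact h'
    obtain ⟨A, hA⟩ := mk !![0, 1, 0; 0, 0, 1; 1, 0, 0] (by simp [det_fin_three]) (fun u v => by
      simp [UCtx.form, Fin.sum_univ_three, mulVec, dotProduct]; ring)
    obtain ⟨W, hW⟩ := mk !![0, 1, 0; 1, 0, 0; 0, 0, 1]
      (by simp [det_fin_three]; linear_combination -h2) (fun u v => by
        simp [UCtx.form, Fin.sum_univ_three, mulVec, dotProduct]; ring)
    have hA3 : A ^ 3 = 1 := Subtype.ext (Subtype.ext (by
      rw [pow_succ, pow_two]
      show A.1.1 * A.1.1 * A.1.1 = 1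
      rw [hA]
      ext i j
      fin_cases i <;> fin_cases j <;>
        simp [mul_apply, Fin.sum_univ_three]))
    have hWA : W * A = A * A * W := Subtype.ext (Subtype.ext (by
      show W.1.1 * A.1.1 = A.1.1 * A.1.1 * W.1.1
      rw [hA, hW]
      ext i j
      fin_cases i <;> fin_cases j <;> simp [mul_apply, Fin.sum_univ_three]))
    have hAinv : A⁻¹ = A * A := inv_eq_of_mul_eq_one_right (by rw [← mul_assoc, ← pow_two, ← pow_succ]; exact hA3)
    have h1 := hG (pr W) (pr A) (by rw [← map_pow, hA3, map_one])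
      (by rw [← map_mul, hWA, ← hAinv, map_mul, map_inv, mul_inv_cancel_right])
    obtain ⟨c, hc⟩ := (C.pr_eq_iff le_rfl).1 (h1.trans (map_one (pr (F := F) (n := 3) (q := q))).symm)
    have h00 := congrFun (congrFun hc 0) 0
    rw [hA] at h00
    simp at h00

end Unitary

/-- The first Janko group. -/
theorem sections_janko : ¬ Cfsg.Involves (Equiv.Perm (Fin 4)) Cfsg.Spor.J1 ∧
    ¬ FourFree.HG Cfsg.Spor.J1 := by
  haveI := CfsgLib.Char.J1.finite_J1
  haveI : Fact (Nat.Prime 2) := ⟨Nat.prime_two⟩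
  refine ⟨?_, fun hG => ?_⟩
  · have hS : Nat.card CfsgLib.Char.J1.eightHom.range =
        2 ^ (Nat.card ↥Cfsg.Spor.J1).factorization 2 := by
      rw [← Nat.card_congr (MonoidHom.ofInjective CfsgLib.Char.J1.eightHom_injective).toEquiv,
        Nat.card_congr Multiplicative.toAdd, Nat.card_eq_fintype_card, CfsgLib.Char.J1.card_eq,
        show (175560 : ℕ) = 2 ^ 3 * 21945 by norm_num, Nat.factorization_mul (by norm_num) (by norm_num),
        Finsupp.add_apply, Nat.Prime.factorization_pow Nat.prime_two, Finsupp.single_eq_same,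
        Nat.factorization_eq_zero_of_not_dvd (by norm_num : ¬ 2 ∣ 21945), add_zero]
      rfl
    refine no_four_of_comm_sylow (comm_sylow_of_one (Sylow.ofCard _ hS) ?_)
    intro a ha b hb
    rw [Sylow.coe_ofCard] at ha hb
    obtain ⟨x, rfl⟩ := ha
    obtain ⟨y, rfl⟩ := hb
    rw [← map_mul, ← map_mul, mul_comm x y]
  · have h5 : ∃ a w : alternatingGroup (Fin 5), a ^ 3 = 1 ∧ a ≠ 1 ∧ w * a * w⁻¹ = a⁻¹ := by
      decide +kernel
    obtain ⟨a, w, ha, ha1, hw⟩ := h5
    have h := hG (CfsgLib.Char.J1.fiveHom w) (CfsgLib.Char.J1.fiveHom a)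
      (by rw [← map_pow, ha, map_one]) (by rw [← map_inv, ← map_mul, ← map_mul, hw, map_inv])
    refine ha1 (CfsgLib.Char.J1.five_one a ?_)
    rw [← CfsgLib.Char.J1.code_fiveHom, CfsgLib.Char.J1.code_eq_one_iff]
    exact h

end CfsgLib.ReeType
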