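import Cfsg.Agent.Lib.Ree.Scalar
import Cfsg.Agent.Lib.Ree.Entry

/-!
# Groups of Ree type: a cyclic subgroup of prime power order which is not TI

If all are TI, then no element of order `3 ^ k`, `k ≥ 2`, is inverted by an involution `e` commuting with
an element `b` of order three which centralizes its socle: `x b` and its conjugate by `e` would generate
two subgroups meeting in the socle. For an element `g` of order `7` normalizing a Sylow `2`-subgroup `V`,
with `b` of order three normalizing `V` and `⟨g⟩`, there are commuting with `b` an involution `e ∈ V` and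
an involution `s` inverting `g`. So `e s` has order three and `x = e s g` has order nine and is inverted
by `e`, as in `PΓL(2, 8)`: a contradiction.
-/

set_option autoImplicit false
set_option linter.unusedSectionVars false
set_option linter.unusedVariables false

namespace CfsgLib.ReeType

open Subgroup

universe u

/-- Every cyclic subgroup of prime power order meets each conjugate trivially or entirely. -/
def CyclicTI (G : Type u) [Group G] : Prop :=
  ∀ H : Subgroup G, IsCyclic H → IsPrimePow (Nat.card H) →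
    ∀ g : G, H.map (MulAut.conj g).toMonoidHom = H ∨ H.map (MulAut.conj g).toMonoidHom ⊓ H = ⊥

variable {G : Type u} [Group G] [Finite G]

/-- Conjugation into a cyclic TI subgroup. -/
theorem CyclicTI.conj_mem (h : CyclicTI G) {x c y : G} {p k : ℕ} (hp : p.Prime)
    (hxo : orderOf x = p ^ k) (hk : 0 < k) (hy : y ∈ zpowers x) (hy' : c * y * c⁻¹ ∈ zpowers x)
    (hy1 : y ≠ 1) : c * x * c⁻¹ ∈ zpowers x := by
  have hpp : IsPrimePow (Nat.card (zpowers x)) :=
    (isPrimePow_nat_iff _).2 ⟨p, k, hp, hk, by rw [Nat.card_zpowers, hxo]⟩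
  rcases h (zpowers x) inferInstance hpp c with e | e
  · exact e ▸ mem_map_of_mem _ (mem_zpowers x)
  · exfalso
    have h1 : c * y * c⁻¹ ∈ (⊥ : Subgroup G) := e ▸ mem_inf.2 ⟨mem_map_of_mem _ hy, hy'⟩
    exact hy1 (conj_eq_one_iff.1 (mem_bot.1 h1))

/-- The main obstruction. -/
theorem CyclicTI.no_inverted_big (h : CyclicTI G) {x e b : G} {k : ℕ}
    (hx : orderOf x = 3 ^ (k + 2)) (he : e * x * e⁻¹ = x⁻¹) (hb : orderOf b = 3) (hbe : Commute b e)
    (hbz : Commute b (x ^ 3 ^ (k + 1))) : False := by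
  set z := x ^ 3 ^ (k + 1) with hz
  have hz3 : orderOf z = 3 := by
    rw [hz, orderOf_pow' _ (by positivity), hx,
      Nat.gcd_eq_right (pow_dvd_pow 3 (by omega : k + 1 ≤ k + 2)),
      Nat.pow_div (by omega) (by norm_num), show k + 2 - (k + 1) = 1 by omega, pow_one]
  have hz1 : z ≠ 1 := fun e' => by rw [e', orderOf_one] at hz3; norm_num at hz3
  have hbx : b ∉ zpowers x := by
    intro hmem
    obtain ⟨i, hi⟩ := mem_zpowers_iff.1 hmem
    have h1 : e * b * e⁻¹ = b⁻¹ := by rw [← hi, ← conj_zpow, he, inv_zpow]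
    rw [hbe.symm.eq, mul_inv_cancel_right] at h1
    have h2 := orderOf_dvd_of_pow_eq_one (show b ^ 2 = 1 by rw [pow_two]; nth_rw 2 [h1]; exact mul_inv_cancel b)
    rw [hb] at h2
    norm_num at h2
  obtain ⟨j, hj⟩ : ∃ j : ℕ, b * x * b⁻¹ = x ^ j := by
    have h1 := h.conj_mem (c := b) (y := z) Nat.prime_three hx (by omega) (pow_mem (mem_zpowers x) _)
      (by rw [hbz.eq, mul_inv_cancel_right]; exact pow_mem (mem_zpowers x) _) hz1
    obtain ⟨j, hj⟩ := mem_powers_iff_mem_zpowers.2 h1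
    exact ⟨j, hj.symm⟩
  -- `b` fixes the socle
  have hj3 : j % 3 = 1 := by
    have h1 : z ^ j = z ^ 1 := by
      conv_rhs => rw [pow_one, show z = b * z * b⁻¹ by rw [hbz.eq, mul_inv_cancel_right]]
      rw [hz, ← conj_pow, hj, ← pow_mul, ← pow_mul, mul_comm]
    have h2 := pow_eq_pow_iff_modEq.1 h1
    rw [hz3] at h2
    exact h2
  obtain ⟨a, rfl⟩ : ∃ a, j = 3 * a + 1 := ⟨j / 3, by omega⟩
  set y := x * b with hy
  have hmove : ∀ i : ℕ, b * x ^ i = x ^ ((3 * a + 1) * i) * b := fun i => by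
    have h1 : b * x ^ i * b⁻¹ = x ^ ((3 * a + 1) * i) := by rw [← conj_pow, hj, ← pow_mul]
    rw [← h1, inv_mul_cancel_right]
  have hmove1 : b * x = x ^ (3 * a + 1) * b := by
    have := hmove 1
    rwa [pow_one, mul_one] at this
  have hy2 : y ^ 2 = x ^ (1 + (3 * a + 1)) * (b * b) := by
    calc y ^ 2 = x * (b * x) * b := by rw [hy, pow_two]; group
      _ = x ^ (1 + (3 * a + 1)) * (b * b) := by rw [hmove1, pow_add, pow_one]; group
  have hb3 : b * b * b = 1 := by
    rw [← pow_three', ← hb]; exact pow_orderOf_eq_one b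
  set u := 3 * (a * a + a) + 1 with hu
  have hy3 : y ^ 3 = x ^ (3 * u) := by
    calc y ^ 3 = x * (b * x) * (b * x) * b := by rw [hy, pow_three]; group
      _ = x * x ^ (3 * a + 1) * (b * x ^ (3 * a + 1)) * (b * b) := by rw [hmove1]; group
      _ = x ^ (3 * u) * (b * b * b) := by
          rw [hmove]
          rw [show x * x ^ (3 * a + 1) = x ^ (1 + (3 * a + 1)) by
            rw [Nat.add_comm 1, ← pow_succ']]
          rw [show 3 * u = 1 + (3 * a + 1) + (3 * a + 1) * (3 * a + 1) by rw [hu]; ring, pow_add]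
          group
      _ = x ^ (3 * u) := by rw [hb3, mul_one]
  have hzy : y ^ 3 ^ (k + 1) = z := by
    rw [pow_succ', pow_mul, hy3, ← pow_mul]
    rw [show 3 * u * 3 ^ k = 3 ^ (k + 1) * u by rw [pow_succ]; ring, pow_mul, ← hz]
    conv_rhs => rw [← pow_one z]
    rw [pow_eq_pow_iff_modEq, hz3]
    show u % 3 = 1 % 3
    rw [hu]; omega
  have hyo : orderOf y = 3 ^ (k + 2) := by
    haveI : Fact (Nat.Prime 3) := ⟨Nat.prime_three⟩
    refine orderOf_eq_prime_pow (by rw [hzy]; exact hz1) ?_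
    rw [pow_succ, pow_mul, hzy, ← hz3, pow_orderOf_eq_one]
  have hey : e * y * e⁻¹ = x⁻¹ * b := by
    rw [hy, ← conj_mul, he, hbe.symm.eq, mul_inv_cancel_right]
  have hzmem : z ∈ zpowers y := hzy ▸ pow_mem (mem_zpowers y) _
  have h2 := h.conj_mem (c := e) (y := z) Nat.prime_three hyo (by omega) hzmem
    (by rw [hz, ← conj_pow, he, inv_pow]; exact inv_mem hzmem) hz1
  rw [hey] at h2
  obtain ⟨i, hi⟩ := mem_powers_iff_mem_zpowers.2 h2
  simp only at hi
  -- `i` modulo three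
  have hsplit : y ^ i = x ^ (3 * u * (i / 3)) * y ^ (i % 3) := by
    conv_lhs => rw [← Nat.div_add_mod i 3]
    rw [pow_add, pow_mul, hy3, ← pow_mul]
  rw [hsplit] at hi
  set N := 3 * u * (i / 3) with hN
  have hlt : i % 3 < 3 := Nat.mod_lt _ (by norm_num)
  interval_cases hr : i % 3
  · rw [pow_zero, mul_one] at hi
    refine hbx ?_
    rw [show b = x * x ^ N by rw [hi, mul_inv_cancel_left]]
    exact mul_mem (mem_zpowers x) (pow_mem (mem_zpowers x) _)
  · rw [pow_one, hy, ← mul_assoc] at hi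
    have h3 : x ^ (N + 2) = 1 := by
      have := mul_right_cancel hi
      rw [pow_succ, pow_succ, this, inv_mul_cancel]
    have h4 := orderOf_dvd_of_pow_eq_one h3
    rw [hx] at h4
    have h5 : 3 ∣ N + 2 := (dvd_pow_self 3 (by omega : k + 2 ≠ 0)).trans h4
    have h6 : 3 ∣ N := by rw [hN, mul_assoc]; exact dvd_mul_right 3 _
    omega
  · rw [hy2, ← mul_assoc, ← mul_assoc] at hi
    refine hbx ?_
    have h3 := mul_right_cancel hi
    rw [show b = (x ^ N * x ^ (1 + (3 * a + 1)))⁻¹ * x⁻¹ by rw [← h3]; group]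
    exact mul_mem (inv_mem (mul_mem (pow_mem (mem_zpowers x) _) (pow_mem (mem_zpowers x) _)))
      (inv_mem (mem_zpowers x))

/-- In `PΓL(2, 8)`: `(e s g) ^ 3 = v₅ s v₄`. -/
theorem cube_esg {e s g : G} {v : ℕ → G} (hv : ∀ i, v i = g ^ i * e * (g ^ i)⁻¹) (hg : g ^ 7 = 1)
    (hs : s * s = 1) (hgs : g * s * g = s) (hses : s * e * s = e * s * e) (h12 : v 1 * v 2 = v 4)
    (h06 : v 0 * v 6 = v 2) (h23 : v 2 * v 3 = v 5) : (e * s * g) ^ 3 = v 5 * s * v 4 := by
  have hv0 : v 0 = e := by rw [hv, pow_zero, one_mul, inv_one, mul_one]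
  have hge : g * e = v 1 * g := by rw [hv, pow_one, inv_mul_cancel_right]
  have hgv : g * v 1 = v 2 * g := by rw [hv, hv, pow_one, pow_two]; group
  have hg6 : g⁻¹ = g ^ 6 := inv_eq_of_mul_eq_one_right (by rw [← pow_succ', hg])
  have hgi : g⁻¹ * e = v 6 * g⁻¹ := by rw [hg6, hv, inv_mul_cancel_right]
  have hisg : g⁻¹ * s = s * g := by
    calc g⁻¹ * s = g⁻¹ * (g * s * g) := by rw [hgs]
      _ = s * g := by group
  have hsgi : s * g⁻¹ = g * s := by
    calc s * g⁻¹ = g * s * g * g⁻¹ := by rw [hgs]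
      _ = g * s := by group
  have hpow : ∀ i : ℕ, (g ^ i)⁻¹ * s = s * g ^ i := by
    intro i
    induction i with
    | zero => simp
    | succ i ih =>
      calc (g ^ (i + 1))⁻¹ * s = (g ^ i)⁻¹ * (g⁻¹ * s) := by rw [pow_succ']; group
        _ = s * g ^ i * g := by rw [hisg, ← mul_assoc, ih]
        _ = s * g ^ (i + 1) := by rw [pow_succ, mul_assoc]
  have hspow : ∀ i : ℕ, s * (g ^ i)⁻¹ = g ^ i * s := by
    intro i
    calc s * (g ^ i)⁻¹ = g ^ i * ((g ^ i)⁻¹ * s) * (g ^ i)⁻¹ := by group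
      _ = g ^ i * s := by rw [hpow]; group
  -- the square
  have hsq : e * s * g * (e * s * g) = e * s * v 1 * s := by
    calc e * s * g * (e * s * g) = e * s * (g * e) * (s * g) := by group
      _ = e * s * v 1 * (g * s * g) := by rw [hge]; group
      _ = e * s * v 1 * s := by rw [hgs]
  have hs1 : s * v 1 * s = g⁻¹ * (e * s * e) * g := by
    calc s * v 1 * s = (s * g) * e * (g⁻¹ * s) := by rw [hv, pow_one]; group
      _ = (g⁻¹ * s) * e * (s * g) := by rw [hisg]
      _ = g⁻¹ * (s * e * s) * g := by group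
      _ = g⁻¹ * (e * s * e) * g := by rw [hses]
  have hmid : g⁻¹ * (e * s * e) * g * (e * s * g) = v 6 * (s * v 4 * s) * g⁻¹ := by
    calc g⁻¹ * (e * s * e) * g * (e * s * g) = (g⁻¹ * e) * s * e * (g * e) * (s * g) := by group
      _ = v 6 * (g⁻¹ * s) * e * v 1 * (g * s * g) := by rw [hgi, hge]; group
      _ = v 6 * s * (g * e) * v 1 * s := by rw [hgs, hisg]; group
      _ = v 6 * s * v 1 * (g * v 1) * s := by rw [hge]; group
      _ = v 6 * s * (v 1 * v 2) * (g * s) := by rw [hgv]; group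
      _ = v 6 * (s * v 4 * s) * g⁻¹ := by rw [h12, ← hsgi]; group
  have hs4 : s * v 4 * s * g⁻¹ = v 3 * s * v 4 := by
    have h3 : g ^ 3 = (g ^ 4)⁻¹ := eq_inv_of_mul_eq_one_left (by rw [← pow_add, hg])
    calc s * v 4 * s * g⁻¹ = (s * g ^ 4) * e * ((g ^ 4)⁻¹ * s) * g⁻¹ := by rw [hv]; group
      _ = (g ^ 4)⁻¹ * s * e * (s * g ^ 4) * g⁻¹ := by rw [hpow 4]
      _ = (g ^ 4)⁻¹ * (s * e * s) * (g ^ 4 * g⁻¹) := by group
      _ = g ^ 3 * e * (s * e) * (g ^ 4 * g⁻¹) := by rw [hses, ← h3]; group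
      _ = v 3 * (g ^ 3 * s) * e * (g ^ 4 * g⁻¹) := by rw [hv 3]; group
      _ = v 3 * s * ((g ^ 3)⁻¹ * e * (g ^ 4 * g⁻¹)) := by rw [← hspow]; group
      _ = v 3 * s * v 4 := by
          rw [hv 4, show (g ^ 3)⁻¹ = g ^ 4 by rw [h3, inv_inv],
            show g ^ 4 * g⁻¹ = (g ^ 4)⁻¹ by rw [← h3]; group]
  calc (e * s * g) ^ 3 = e * s * g * (e * s * g) * (e * s * g) := by rw [pow_three']
    _ = e * (s * v 1 * s) * (e * s * g) := by rw [hsq]; group
    _ = e * (g⁻¹ * (e * s * e) * g * (e * s * g)) := by rw [hs1]; group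
    _ = e * v 6 * (s * v 4 * s * g⁻¹) := by rw [hmid]; group
    _ = v 0 * v 6 * v 3 * s * v 4 := by rw [hs4, hv0]; group
    _ = v 5 * s * v 4 := by rw [h06, h23]

variable {q m n : ℕ} (T : Setup G q m n)

include T in
/-- Commuting involutions centralizing an element of order three coincide. -/
theorem Setup.eq_of_cent_three {b i j : G} (hb : orderOf b = 3) (hi : orderOf i = 2)
    (hj : orderOf j = 2) (hbi : Commute b i) (hbj : Commute b j) (hij : Commute i j) : i = j := by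
  obtain ⟨T', rfl⟩ := T.exists_setup hi
  by_contra hne
  refine (T'.cent_three_two hb hbi).2 ?_
  haveI : Fact (Nat.Prime 2) := ⟨Nat.prime_two⟩
  have hlt : zpowers T'.t < zpowers T'.t ⊔ zpowers j := by
    refine lt_of_le_not_ge le_sup_left fun hle => hne ?_
    obtain ⟨l, hl⟩ := mem_zpowers_iff.1 (hle (le_sup_right (a := zpowers T'.t) (mem_zpowers j)))
    rcases Int.even_or_odd l with ⟨r, rfl⟩ | ⟨r, rfl⟩
    · rw [← two_mul, zpow_mul, zpow_two, T'.t_sq, one_zpow] at hl
      exact absurd hl.symm (Invol.invol_ne_one hj)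
    · rw [zpow_add_one, zpow_mul, zpow_two, T'.t_sq, one_zpow, one_mul] at hl
      exact hl
  set W := zpowers T'.t ⊔ zpowers j with hW
  have hWle : W ≤ centralizer ({b} : Set G) := sup_le
    (zpowers_le.2 (mem_centralizer_singleton_iff.2 hbi.symm.eq))
    (zpowers_le.2 (mem_centralizer_singleton_iff.2 hbj.symm.eq))
  have hpt : IsPGroup 2 (zpowers T'.t) :=
    IsPGroup.of_card (n := 1) (by rw [Nat.card_zpowers, hi, pow_one])
  have hpj : IsPGroup 2 (zpowers j) :=
    IsPGroup.of_card (n := 1) (by rw [Nat.card_zpowers, hj, pow_one])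
  have hnorm : zpowers j ≤ normalizer (zpowers T'.t : Set G) := by
    refine zpowers_le.2 ((mem_normalizer_iff).2 fun z => ?_)
    constructor <;> intro hz <;> obtain ⟨l, hl⟩ := mem_zpowers_iff.1 hz
    · refine mem_zpowers_iff.2 ⟨l, ?_⟩
      rw [← hl, ((hij.symm.zpow_right l)).eq, mul_inv_cancel_right]
    · refine mem_zpowers_iff.2 ⟨l, ?_⟩
      have h1 : j⁻¹ * T'.t ^ l * j = T'.t ^ l := by
        rw [mul_assoc, ← (hij.symm.zpow_right l).eq, inv_mul_cancel_left]
      rw [← h1, hl]; group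
  obtain ⟨r, hr⟩ := (hpt.to_sup_of_normal_left' hpj hnorm).exists_card_eq
  have hr2 : 2 ≤ r := by
    by_contra hh
    refine hlt.ne (eq_of_le_of_card_ge hlt.le ?_)
    rw [hr, Nat.card_zpowers, hi]
    calc 2 ^ r ≤ 2 ^ 1 := Nat.pow_le_pow_right (by norm_num) (by omega)
      _ = 2 := pow_one 2
  exact (show 4 ∣ Nat.card W by rw [hr]; exact (pow_dvd_pow 2 hr2)).trans (card_dvd_of_le hWle)

include T in
/-- The product of two involutions commuting with an element of order three. -/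
theorem Setup.prod_three_pow {b i j : G} (hb : orderOf b = 3) (hi : orderOf i = 2) (hj : orderOf j = 2)
    (hbi : Commute b i) (hbj : Commute b j) (hne : i ≠ j) : ∃ k : ℕ, orderOf (i * j) = 3 ^ k := by
  have hi2 := Invol.invol_mul_self hi
  have hj2 := Invol.invol_mul_self hj
  have hinv : i * (i * j) * i⁻¹ = (i * j)⁻¹ := by
    rw [← mul_assoc, hi2, one_mul, mul_inv_rev, Invol.invol_inv hj]
  have hodd : Odd (orderOf (i * j)) := by
    rw [← Nat.not_even_iff_odd]
    intro h2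
    obtain ⟨w, hw⟩ : ∃ w, w = (i * j) ^ (orderOf (i * j) / 2) := ⟨_, rfl⟩
    have hwo : orderOf w = 2 := by
      rw [hw]
      exact orderOf_pow_orderOf_div (orderOf_pos _).ne' (even_iff_two_dvd.1 h2)
    have hiw : Commute i w := by
      refine (mul_inv_eq_iff_eq_mul.1 ?_)
      rw [hw, ← conj_pow, hinv, inv_pow, ← hw, Invol.invol_inv hwo]
    have he := T.eq_of_cent_three hb hi hwo hbi (hw ▸ (hbi.mul_right hbj).pow_right _) hiw
    have hij : Commute i (i * j) := by
      conv_lhs => rw [he, hw]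
      exact (Commute.refl (i * j)).pow_left _
    refine hne (T.eq_of_cent_three hb hi hj hbi hbj ?_)
    show i * j = j * i
    exact mul_left_cancel (hij.eq.trans (mul_assoc i j i))
  refine ⟨(orderOf (i * j)).primeFactorsList.length,
    Nat.eq_prime_pow_of_unique_prime_dvd (orderOf_pos _).ne' fun {p} hp hd => ?_⟩
  by_contra hp3
  haveI := Fact.mk hp
  exact T.no_three_mul (p := p) (fun e => Nat.not_even_iff_odd.2 hodd (even_iff_two_dvd.2 (e ▸ hd))) hp3 hb
    (y := (i * j) ^ (orderOf (i * j) / p)) (orderOf_pow_orderOf_div (orderOf_pos _).ne' hd)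
    ((hbi.mul_right hbj).pow_right _)

include T in
/-- `PΓL(2, 8)` inside gives a contradiction. -/
theorem Setup.no_frame (h : CyclicTI G) {e s g b : G} (he : orderOf e = 2) (hs : orderOf s = 2)
    (hg : orderOf g = 7) (hb : orderOf b = 3) (hsg : s * g * s⁻¹ = g⁻¹) (hbe : Commute b e)
    (hbs : Commute b s) (hcomm : ∀ i : ℕ, Commute e (g ^ i * e * (g ^ i)⁻¹))
    (hrel : e * (g * e * g⁻¹) = g ^ 3 * e * (g ^ 3)⁻¹) : False := by
  have he2 := Invol.invol_mul_self he
  have hs2 := Invol.invol_mul_self hs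
  have hei := Invol.invol_inv he
  have hsi := Invol.invol_inv hs
  have hg7 : g ^ 7 = 1 := hg ▸ pow_orderOf_eq_one g
  have hgs : g * s * g = s := by
    calc g * s * g = g * (s * g * s⁻¹) * s := by group
      _ = s := by rw [hsg, mul_inv_cancel, one_mul]
  set v : ℕ → G := fun i => g ^ i * e * (g ^ i)⁻¹ with hv
  have hv0 : v 0 = e := by simp [hv]
  have hvv : ∀ i, v i * v i = 1 := fun i => by rw [hv]; rw [conj_mul, he2, mul_one, mul_inv_cancel]
  have hvc : ∀ i j, Commute (v i) (v j) := by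
    intro i j
    obtain ⟨l, hl⟩ : ∃ l, g ^ j = g ^ i * g ^ l := ⟨j + 6 * i, by
      rw [← pow_add, show i + (j + 6 * i) = j + 7 * i by ring, pow_add, pow_mul g 7, hg7, one_pow,
        mul_one]⟩
    have h1 := (hcomm l).map (MulAut.conj (g ^ i))
    simp only [MulAut.conj_apply] at h1
    rw [show v j = g ^ i * (g ^ l * e * (g ^ l)⁻¹) * (g ^ i)⁻¹ by
      show g ^ j * e * (g ^ j)⁻¹ = _
      rw [hl]; group]
    exact h1
  have hshift : ∀ i, v i * v (i + 1) = v (i + 3) := fun i => by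
    show g ^ i * e * (g ^ i)⁻¹ * (g ^ (i + 1) * e * (g ^ (i + 1))⁻¹) = _
    calc g ^ i * e * (g ^ i)⁻¹ * (g ^ (i + 1) * e * (g ^ (i + 1))⁻¹)
        = g ^ i * (e * (g * e * g⁻¹)) * (g ^ i)⁻¹ := by rw [pow_succ]; group
      _ = v (i + 3) := by rw [hrel, hv]; simp only [pow_add]; group
  have hmod : ∀ i, v (i + 7) = v i := fun i => by
    show g ^ (i + 7) * e * (g ^ (i + 7))⁻¹ = _
    rw [pow_add, hg7, mul_one]
  have hne : e ≠ s := by
    intro hes
    have h1 : v 1 = g * g * e := by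
      show g ^ 1 * e * (g ^ 1)⁻¹ = _
      rw [pow_one]
      calc g * e * g⁻¹ = g * (e * g⁻¹) := by rw [mul_assoc]
        _ = g * (g * e) := by
            congr 1
            rw [hes]
            calc s * g⁻¹ = g * s * g * g⁻¹ := by rw [hgs]
              _ = g * s := by group
        _ = g * g * e := by rw [mul_assoc]
    have h2 : e * v 1 = v 1 * e := hv0 ▸ (hvc 0 1).eq
    rw [h1, mul_assoc (g * g), he2, mul_one, ← mul_assoc, ← mul_assoc] at h2
    have h3 : g⁻¹ * g⁻¹ = g * g := by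
      have h4 : e * g * e⁻¹ = g⁻¹ := hes ▸ hsg
      calc g⁻¹ * g⁻¹ = (e * g * e⁻¹) * (e * g * e⁻¹) := by rw [h4]
        _ = g * g := by rw [conj_mul, hei, ← mul_assoc]; exact h2
    have h5 : g ^ 4 = 1 := by
      calc g ^ 4 = g * g * (g * g) := by simp only [pow_succ, pow_zero, one_mul, mul_assoc]
        _ = g * g * (g⁻¹ * g⁻¹) := by rw [h3]
        _ = 1 := by group
    have := orderOf_dvd_of_pow_eq_one h5
    rw [hg] at this
    norm_num at this
  -- the product has order three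
  obtain ⟨k, hk⟩ := T.prod_three_pow hb he hs hbe hbs hne
  have hinv : e * (e * s) * e⁻¹ = (e * s)⁻¹ := by rw [← mul_assoc, he2, one_mul, mul_inv_rev, hsi]
  have hk1 : k = 1 := by
    rcases k with - | - | k
    · rw [pow_zero, orderOf_eq_one_iff] at hk
      exact absurd ((eq_inv_of_mul_eq_one_left hk).trans hsi) hne
    · rfl
    · exact (h.no_inverted_big hk hinv hb hbe ((hbe.mul_right hbs).pow_right _)).elim
  rw [hk1, pow_one] at hk
  have hses : s * e * s = e * s * e := by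
    have h1 : (e * s) * (e * s) * (e * s) = 1 := by rw [← pow_three', ← hk, pow_orderOf_eq_one]
    calc s * e * s = s * e * s * ((e * s) * (e * s) * (e * s))⁻¹ := by rw [h1, inv_one, mul_one]
      _ = e * s * e := by
        have c1 : ∀ z, e * (e * z) = z := fun z => by rw [← mul_assoc, he2, one_mul]
        have c2 : ∀ z, s * (s * z) = z := fun z => by rw [← mul_assoc, hs2, one_mul]
        simp only [mul_inv_rev, hei, hsi, mul_assoc, c1, c2]
  set x := e * s * g with hx
  have hx3 : x ^ 3 = v 5 * s * v 4 := cube_esg (fun i => rfl) hg7 hs2 hgs hses (hshift 1) (by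
    rw [(hvc 0 6).eq, ← hmod 0, hshift 6]; exact hmod 2) (hshift 2)
  have h45 : v 4 * v 5 = e := by rw [hshift 4, hmod 0, hv0]
  have hx3' : x ^ 3 = v 5 * (s * e) * (v 5)⁻¹ := by
    rw [hx3, inv_eq_of_mul_eq_one_right (hvv 5), ← h45, mul_assoc _ (s * _), mul_assoc s,
      mul_assoc (v 4), hvv, mul_one, mul_assoc]
  have hse : orderOf (s * e) = 3 := by
    rw [show s * e = (e * s)⁻¹ by rw [mul_inv_rev, hei, hsi], orderOf_inv, hk]
  have hx9 : orderOf x = 3 ^ (0 + 2) := by
    haveI : Fact (Nat.Prime 3) := ⟨Nat.prime_three⟩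
    refine orderOf_eq_prime_pow ?_ ?_
    · rw [pow_one, hx3', conj_eq_one_iff]
      intro e'
      rw [e', orderOf_one] at hse
      norm_num at hse
    · rw [pow_succ, pow_one, pow_mul, hx3', conj_pow, ← hse, pow_orderOf_eq_one, mul_one,
        mul_inv_cancel]
  have hex : e * x * e⁻¹ = x⁻¹ := by
    calc e * x * e⁻¹ = e * e * (s * g) * e := by rw [hx, hei]; group
      _ = g⁻¹ * s * e := by
        rw [he2, one_mul]
        congr 1
        calc s * g = g⁻¹ * (g * s * g) := by group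
          _ = g⁻¹ * s := by rw [hgs]
      _ = x⁻¹ := by rw [hx, mul_inv_rev, mul_inv_rev, hei, hsi, ← mul_assoc]
  have hb5 : orderOf (v 5 * b * (v 5)⁻¹) = 3 := by rw [← MulAut.conj_apply, MulEquiv.orderOf_eq, hb]
  refine h.no_inverted_big hx9 hex hb5 ?_ ?_
  · have h1 := hbe.map (MulAut.conj (v 5))
    simp only [MulAut.conj_apply] at h1
    rwa [show v 5 * e * (v 5)⁻¹ = e by rw [← hv0, (hvc 5 0).eq, mul_inv_cancel_right]] at h1
  · rw [zero_add, pow_one, hx3']
    exact ((hbs.mul_right hbe).map (MulAut.conj (v 5)))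

/-- The orbit equation for conjugation by the elements of `H`. -/
theorem card_conjSet_mul (H : Subgroup G) (x : G) :
    Nat.card {y : G // ∃ h ∈ H, h * x * h⁻¹ = y} *
      Nat.card ↥(H ⊓ centralizer ({x} : Set G)) = Nat.card H := by
  letI := MulAction.compHom G (MulAut.conj.comp H.subtype)
  have hs : ∀ (h : H) (y : G), h • y = (h : G) * y * (h : G)⁻¹ := fun _ _ => rfl
  have hst : MulAction.stabilizer H x = (H ⊓ centralizer ({x} : Set G)).subgroupOf H := by
    ext h
    rw [MulAction.mem_stabilizer_iff, mem_subgroupOf, mem_inf, mem_centralizer_singleton_iff, hs,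
      mul_inv_eq_iff_eq_mul]
    exact ⟨fun e => ⟨h.2, e⟩, fun e => e.2⟩
  have horb : MulAction.orbit H x = {y : G | ∃ h ∈ H, h * x * h⁻¹ = y} := by
    ext y
    exact ⟨fun ⟨h, hh⟩ => ⟨h, h.2, hh⟩, fun ⟨h, hh, e⟩ => ⟨⟨h, hh⟩, e⟩⟩
  have h := Nat.card_congr (MulAction.orbitProdStabilizerEquivGroup H x)
  rw [Nat.card_prod, hst, Nat.card_congr (subgroupOfEquivOfLe inf_le_left).toEquiv, horb] at h
  exact h

namespace Setup

include T in
/-- A Sylow `2`-subgroup `V`, involutions `e ∈ V`, elements `τ`, with `τ` moving some element of `V`. -/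
theorem exists_eight : ∃ (V : Sylow 2 G) (e τ t₁ : G), Nat.card (V : Subgroup G) = 8 ∧
    e ∈ (V : Subgroup G) ∧ t₁ ∈ (V : Subgroup G) ∧ orderOf e = 2 ∧ orderOf t₁ = 2 ∧ t₁ ≠ e ∧
    orderOf τ = 3 ∧ τ ∈ normalizer ((V : Subgroup G) : Set G) ∧ Commute τ e ∧ ¬ Commute τ t₁ ∧
    ∀ y ∈ centralizer ((V : Subgroup G) : Set G), y ∈ (V : Subgroup G) := by
  haveI : Fact (Nat.Prime 2) := ⟨Nat.prime_two⟩
  obtain ⟨u₀, hu₀⟩ := T.kit.exists_invol
  have hu : orderOf (u₀ : G) = 2 := (Subgroup.orderOf_coe u₀).trans hu₀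
  obtain ⟨F, hF⟩ := T.exists_frame hu (T.comm_t _ u₀.2) (fun e => T.not_mem (e ▸ u₀.2))
  obtain ⟨τ, hτ, hτt, hτu⟩ := F.exists_tau
  have hτ3 : τ ^ 3 = 1 := hτ ▸ pow_orderOf_eq_one τ
  have hVt : F.InV (τ * T.t * τ⁻¹) := Or.inr (Or.inl hτt)
  have hVu : F.InV (τ * F.u * τ⁻¹) := Or.inr (Or.inr hτu)
  obtain ⟨e, ⟨het, heu, he, heV⟩, hτe⟩ := F.exists_fixed hτ3 hVt hVu
  -- the common centralizer
  set W := centralizer ({T.t} : Set G) ⊓ centralizer ({F.u} : Set G) ⊓ centralizer ({e} : Set G) with hW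
  have hmem : ∀ {g : G}, g ∈ W ↔ Commute g T.t ∧ Commute g F.u ∧ Commute g e := fun {g} => by
    rw [hW, mem_inf, mem_inf, mem_centralizer_singleton_iff, mem_centralizer_singleton_iff,
      mem_centralizer_singleton_iff]
    exact and_assoc
  have hea := F.inverts_of_invol het heu he heV
  have hsq : ∀ g ∈ W, g * g = 1 := by
    intro g hg
    obtain ⟨hgt, hgu, hge⟩ := hmem.1 hg
    rcases F.struct g hgt hgu with ⟨e', he', i, rfl⟩ | ⟨h2, -⟩
    swap
    · exact Invol.invol_mul_self h2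
    have hV : e' = 1 ∨ F.InV e' := he'
    have he'e : Commute e' e := by
      rcases hV with rfl | hV
      · exact Commute.one_left _
      · rcases hV with rfl | rfl | rfl
        exacts [het.symm, heu.symm, (het.mul_right heu).symm]
    have he'a : Commute e' (F.a ^ i) := by
      rcases hV with rfl | hV
      · exact Commute.one_left _
      · exact ((F.a_comm hV).zpow_left i).symm
    have he'2 : e' * e' = 1 := by
      rcases hV with rfl | hV
      · exact mul_one 1
      · exact Invol.invol_mul_self (VFrame.InV.order F hV)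
    have hc : Commute (F.a ^ i) e := by
      have h1 := he'e.inv_left.mul_left hge
      rwa [inv_mul_cancel_left] at h1
    have h1 : (F.a ^ i)⁻¹ = F.a ^ i := by
      rw [← inv_zpow, ← hea, conj_zpow, hc.symm.eq, mul_inv_cancel_right]
    have h2 : (F.a ^ i) ^ 2 = 1 := by rw [pow_two]; nth_rw 2 [← h1]; exact mul_inv_cancel _
    have h3 : F.a ^ i = 1 := orderOf_eq_one_iff.1 (Nat.eq_one_of_dvd_coprimes
      (Nat.coprime_two_left.2 T.kit.m_odd) (orderOf_dvd_of_pow_eq_one h2)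
      (orderOf_dvd_of_pow_eq_one (F.a_zpow_pow_m i)))
    rw [h3, mul_one]
    exact he'2
  have hWp : IsPGroup 2 W := fun g => ⟨1, Subtype.ext (by
    rw [Subgroup.coe_pow, pow_one, pow_two]; exact hsq g g.2)⟩
  obtain ⟨V, hV⟩ := hWp.exists_le_sylow
  have htW : T.t ∈ W := hmem.2 ⟨Commute.refl _, F.comm_u.symm, het.symm⟩
  have huW : F.u ∈ W := hmem.2 ⟨F.comm_u, Commute.refl _, heu.symm⟩
  have heW : e ∈ W := hmem.2 ⟨het, heu, Commute.refl _⟩
  have hVW : (V : Subgroup G) = W := le_antisymm (fun g hg => hmem.2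
    ⟨T.comm_of_isPGroup V.2 hg (hV htW), T.comm_of_isPGroup V.2 hg (hV huW),
      T.comm_of_isPGroup V.2 hg (hV heW)⟩) hV
  -- the order
  have h8 : Nat.card (V : Subgroup G) = 8 := by
    obtain ⟨k, -, hk⟩ := T.kit.q_pow
    have hqo : Odd q := hk ▸ Odd.pow (by decide)
    have hno : Odd n := T.kit.data.mo_odd
    have hq2 : Odd (q ^ 2 - q + 1) := by
      refine Even.add_one ?_
      rw [Nat.even_sub (T.q_sq_ge), Nat.even_pow]
      exact ⟨fun h => h.1, fun h => ⟨h, two_ne_zero⟩⟩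
    have hcard : Nat.card G = 8 * (q ^ 3 * (q ^ 2 - q + 1) * m * n) := by rw [T.card_split]; ring
    have hodd : Odd (q ^ 3 * (q ^ 2 - q + 1) * m * n) :=
      ((hqo.pow.mul hq2).mul T.kit.m_odd).mul hno
    obtain ⟨r, hr⟩ := V.2.exists_card_eq
    refine Nat.dvd_antisymm ((Nat.Coprime.dvd_of_dvd_mul_right ?_) (hcard ▸ card_subgroup_dvd_card _)) ?_
    · rw [hr]; exact (Nat.coprime_two_left.2 hodd).pow_left r
    · rw [show (8 : ℕ) = 2 ^ 3 by norm_num]
      exact V.pow_dvd_card_of_pow_dvd_card (by rw [hcard]; exact dvd_mul_right _ _)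
  refine ⟨V, e, τ, T.t, h8, hVW ▸ heW, hVW ▸ htW, he, T.order_t, fun h => heV (Or.inl h.symm), hτ,
    ?_, hτe, fun h => F.ne ?_, fun y hy => ?_⟩
  · rw [hVW]
    refine mem_normalizer_fintype fun y hy => ?_
    obtain ⟨h1, h2, h3⟩ := hmem.1 hy
    have hall : ∀ {x}, F.InV x → Commute y x := by
      rintro x (rfl | rfl | rfl)
      exacts [h1, h2, h1.mul_right h2]
    refine hmem.2 ⟨?_, ?_, ?_⟩
    · have h4 : τ * (T.t * F.u) * τ⁻¹ = T.t := by rw [← conj_mul, hτt, hτu, F.u_mul_tu]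
      have h5 := (hall (Or.inr (Or.inr rfl))).map (MulAut.conj τ)
      simp only [MulAut.conj_apply, h4] at h5
      exact h5
    · have h5 := h1.map (MulAut.conj τ)
      simp only [MulAut.conj_apply, hτt] at h5
      exact h5
    · have h5 := h3.map (MulAut.conj τ)
      simp only [MulAut.conj_apply, hτe.eq, mul_inv_cancel_right] at h5
      exact h5
  · rw [h.eq, mul_inv_cancel_right] at hτt
    exact hτt.symm
  · rw [hVW] at hy ⊢
    exact hmem.2 ⟨(hy _ htW).symm, (hy _ huW).symm, (hy _ heW).symm⟩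

include T in
/-- The normalizer of a Sylow `2`-subgroup contains `7 : 3`. -/
theorem exists_seven : ∃ (V : Sylow 2 G) (g b : G), Nat.card (V : Subgroup G) = 8 ∧
    g ∈ normalizer ((V : Subgroup G) : Set G) ∧ b ∈ normalizer ((V : Subgroup G) : Set G) ∧
    orderOf g = 7 ∧ orderOf b = 3 ∧ b * g * b⁻¹ ∈ zpowers g ∧
    ∀ x ∈ (V : Subgroup G), x ≠ 1 → ¬ Commute g x := by
  haveI : Fact (Nat.Prime 2) := ⟨Nat.prime_two⟩
  obtain ⟨V, e, τ, t₁, h8, heV, htV, he, ht, hte, hτ, hτN, hτe, hτt, hcent⟩ := T.exists_eight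
  have hab : ∀ {a b : G}, a ∈ (V : Subgroup G) → b ∈ (V : Subgroup G) → Commute a b := fun ha hb =>
    T.comm_of_isPGroup V.2 ha hb
  haveI : IsMulCommutative (V : Subgroup G) := isMulCommutative_iff.2 fun a b => Subtype.ext (hab a.2 b.2)
  set M := normalizer ((V : Subgroup G) : Set G) with hM
  have hVM : (V : Subgroup G) ≤ M := le_normalizer
  have hconj : ∀ h ∈ M, ∀ x ∈ (V : Subgroup G), h * x * h⁻¹ ∈ (V : Subgroup G) := fun h hh x hx =>
    (mem_normalizer_iff.1 hh x).1 hx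
  have hord : ∀ x ∈ (V : Subgroup G), x ≠ 1 → orderOf x = 2 := fun x hx h1 =>
    orderOf_eq_prime (T.sq_of_isPGroup V.2 hx) h1
  -- transitivity
  have htrans : ∀ x ∈ (V : Subgroup G), x ≠ 1 → ∀ y ∈ (V : Subgroup G), y ≠ 1 →
      ∃ h ∈ M, h * x * h⁻¹ = y := by
    intro x hx hx1 y hy hy1
    obtain ⟨c, hc⟩ := isConj_iff.1 ((T.conj x (hord x hx hx1)).symm.trans (T.conj y (hord y hy hy1)))
    obtain ⟨h, hh, he'⟩ := V.conj_eq_normalizer_conj_of_mem x c⁻¹ hx (by rwa [inv_inv, hc])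
    refine ⟨h⁻¹, inv_mem hh, ?_⟩
    rw [inv_inv, ← he', inv_inv, hc]
  have hM7 : ∀ x ∈ (V : Subgroup G), x ≠ 1 →
      7 * Nat.card ↥(M ⊓ centralizer ({x} : Set G)) = Nat.card M := by
    intro x hx hx1
    rw [← card_conjSet_mul M x]
    congr 1
    have e1 : {y : G | ∃ h ∈ M, h * x * h⁻¹ = y} = ((V : Subgroup G) : Set G) \ {1} := by
      ext y
      constructor
      · rintro ⟨h, hh, rfl⟩
        exact ⟨hconj h hh x hx, fun e' => hx1 (conj_eq_one_iff.1 e')⟩
      · rintro ⟨hy, hy1⟩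
        exact htrans x hx hx1 y hy hy1
    show 7 = Nat.card ↥{y : G | ∃ h ∈ M, h * x * h⁻¹ = y}
    rw [e1, Nat.card_coe_set_eq, Set.ncard_sdiff_singleton_of_mem (one_mem _), ← Nat.card_coe_set_eq]
    exact (congrArg (· - 1) h8).symm
  -- the stabilizer of `e`
  set H := M ⊓ centralizer ({e} : Set G) with hH
  have hVH : (V : Subgroup G) ≤ H := le_inf hVM fun x hx => mem_centralizer_singleton_iff.2 (hab hx heV).eq
  have hstab : H ⊓ centralizer ({t₁} : Set G) = (V : Subgroup G) := by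
    refine le_antisymm (fun h hh => ?_) (le_inf hVH fun x hx => mem_centralizer_singleton_iff.2 (hab hx htV).eq)
    obtain ⟨hhH, hht⟩ := mem_inf.1 hh
    obtain ⟨hhM, hhe⟩ := mem_inf.1 hhH
    set D := (V : Subgroup G) ⊓ centralizer ({h} : Set G) with hD
    -- `h ^ 2` centralizes `V`
    have h4 : 4 ≤ Nat.card D := by
      have hsub : ({1, e, t₁, t₁ * e} : Set G) ⊆ (D : Set G) := by
        have heD : e ∈ D := ⟨heV, mem_centralizer_singleton_iff.2 (mem_centralizer_singleton_iff.1 hhe).symm⟩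
        have htD : t₁ ∈ D := ⟨htV, mem_centralizer_singleton_iff.2 (mem_centralizer_singleton_iff.1 hht).symm⟩
        rintro z (rfl | rfl | rfl | rfl)
        exacts [one_mem _, heD, htD, mul_mem htD heD]
      have he1 := Invol.invol_ne_one he
      have ht1 := Invol.invol_ne_one ht
      have hte1 : t₁ * e ≠ 1 := fun e' => hte ((eq_inv_of_mul_eq_one_left e').trans (Invol.invol_inv he))
      have hc : ({1, e, t₁, t₁ * e} : Set G).ncard = 4 := by
        rw [Set.ncard_insert_of_notMem, Set.ncard_insert_of_notMem, Set.ncard_insert_of_notMem,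
          Set.ncard_singleton]
        · simp only [Set.mem_singleton_iff]
          exact fun e' => he1 (mul_eq_left.1 e'.symm)
        · simp only [Set.mem_insert_iff, Set.mem_singleton_iff, not_or]
          exact ⟨hte.symm, fun e' => ht1 (mul_eq_right.1 e'.symm)⟩
        · simp only [Set.mem_insert_iff, Set.mem_singleton_iff, not_or]
          exact ⟨he1.symm, ht1.symm, hte1.symm⟩
      rw [← hc]
      exact Set.ncard_le_ncard hsub (Set.toFinite _)
    have hfix : ∀ x ∈ (V : Subgroup G), h * (h * x * h⁻¹) * h⁻¹ = x := by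
      intro x hx
      have hy := hconj h hhM x hx
      by_cases hxD : x ∈ D
      · rw [(mem_centralizer_singleton_iff.1 hxD.2).symm, mul_inv_cancel_right,
          (mem_centralizer_singleton_iff.1 hxD.2).symm, mul_inv_cancel_right]
      -- `D` has index two
      have hd : Nat.card D ∣ 8 := h8 ▸ card_dvd_of_le inf_le_left
      have hne : Nat.card D ≠ 8 := fun e' =>
        hxD (by
        have hDV : D = (V : Subgroup G) := eq_of_le_of_card_ge inf_le_left (by rw [e', h8])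
        rw [hDV]; exact hx)
      have hD4 : Nat.card D = 4 := by
        have := Nat.le_of_dvd (by norm_num) hd
        have : Nat.card D ∈ Nat.divisors 8 := Nat.mem_divisors.2 ⟨hd, by norm_num⟩
        rw [show Nat.divisors 8 = {1, 2, 4, 8} by decide] at this
        simp only [Finset.mem_insert, Finset.mem_singleton] at this
        omega
      have hidx : (D.subgroupOf (V : Subgroup G)).index = 2 := by
        have := (D.subgroupOf (V : Subgroup G)).index_mul_card
        rw [Nat.card_congr (subgroupOfEquivOfLe inf_le_left).toEquiv, hD4, h8] at this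
        omega
      have hyD : h * x * h⁻¹ ∉ D := fun e' => hxD ⟨hx, mem_centralizer_singleton_iff.2 (by
        have e2 := mem_centralizer_singleton_iff.1 e'.2
        rw [inv_mul_cancel_right] at e2
        exact eq_mul_inv_iff_mul_eq.1 (mul_left_cancel e2))⟩
      have hw : x⁻¹ * (h * x * h⁻¹) ∈ D := by
        have hiff := Subgroup.mul_mem_iff_of_index_two hidx (a := ⟨x⁻¹, inv_mem hx⟩) (b := ⟨_, hy⟩)
        simp only [mem_subgroupOf] at hiff
        exact hiff.2 ⟨fun e' => absurd (inv_mem_iff.1 e') hxD, fun e' => absurd e' hyD⟩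
      set w := x⁻¹ * (h * x * h⁻¹) with hwd
      have hxw : h * x * h⁻¹ = x * w := by rw [hwd, mul_inv_cancel_left]
      rw [hxw, ← conj_mul, hxw, (mem_centralizer_singleton_iff.1 hw.2).symm, mul_inv_cancel_right,
        mul_assoc, ← pow_two, T.sq_of_isPGroup V.2 hw.1, mul_one]
    have h2C : h * h ∈ centralizer ((V : Subgroup G) : Set G) := fun x hx => by
      have h1 := hfix x hx
      rw [show h * (h * x * h⁻¹) * h⁻¹ = h * h * x * (h * h)⁻¹ by group, mul_inv_eq_iff_eq_mul] at h1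
      exact h1.symm
    -- so `h` is a `2`-element
    have hsup : h * h ∈ (V : Subgroup G) := hcent _ h2C
    have hp : IsPGroup 2 (zpowers h) := by
      refine IsPGroup.of_card (n := (orderOf h).primeFactorsList.length) ?_
      rw [Nat.card_zpowers]
      refine Nat.eq_prime_pow_of_unique_prime_dvd (orderOf_pos h).ne' fun {p} hp' hd => ?_
      have h4 : h ^ 4 = 1 := by
        rw [show (4 : ℕ) = 2 * 2 by norm_num, pow_mul, pow_two h, T.sq_of_isPGroup V.2 hsup]
      exact (Nat.prime_dvd_prime_iff_eq hp' Nat.prime_two).1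
        (hp'.dvd_of_dvd_pow (n := 2) (hd.trans (orderOf_dvd_of_pow_eq_one h4)))
    have hle : (V : Subgroup G) ⊔ zpowers h = V :=
      V.3 (V.2.to_sup_of_normal_left' hp (zpowers_le.2 hhM)) le_sup_left
    exact hle ▸ le_sup_right (a := (V : Subgroup G)) (mem_zpowers h)
  -- the orbit of `t₁`
  set O := {y : G // ∃ h ∈ H, h * t₁ * h⁻¹ = y} with hO
  have hHc : Nat.card O * 8 = Nat.card H := by rw [← card_conjSet_mul H t₁, hstab, h8]
  have hodd : Odd (Nat.card O) := by
    rw [← Nat.not_even_iff_odd, even_iff_two_dvd]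
    rintro ⟨r, hr⟩
    have h16 : 2 ^ 4 ∣ Nat.card G := by
      refine Dvd.dvd.trans ⟨r, ?_⟩ (card_subgroup_dvd_card H)
      rw [← hHc, hr]; ring
    have := V.pow_dvd_card_of_pow_dvd_card h16
    rw [h8] at this
    norm_num at this
  have h6 : Nat.card O ≤ 6 := by
    have hsub : {y : G | ∃ h ∈ H, h * t₁ * h⁻¹ = y} ⊆ (((V : Subgroup G) : Set G) \ {1}) \ {e} := by
      rintro y ⟨h, hh, rfl⟩
      refine ⟨⟨hconj h hh.1 t₁ htV, fun e' => Invol.invol_ne_one ht (conj_eq_one_iff.1 e')⟩, fun e' => hte ?_⟩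
      have hhe : h * e * h⁻¹ = e := by rw [mem_centralizer_singleton_iff.1 hh.2, mul_inv_cancel_right]
      exact mul_left_cancel (mul_right_cancel ((Set.mem_singleton_iff.1 e').trans hhe.symm))
    refine le_trans (Set.ncard_le_ncard hsub (Set.toFinite _)) ?_
    rw [Set.ncard_sdiff_singleton_of_mem (show e ∈ ((V : Subgroup G) : Set G) \ {1} from
      ⟨heV, Invol.invol_ne_one he⟩), Set.ncard_sdiff_singleton_of_mem (one_mem _), ← Nat.card_coe_set_eq]
    exact (congrArg (· - 1 - 1) h8).le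
  have h3 : 3 ∣ Nat.card O := by
    have : 3 ∣ Nat.card H := hτ ▸ Subgroup.orderOf_dvd_natCard H
      ⟨hτN, mem_centralizer_singleton_iff.2 hτe.eq⟩
    rw [← hHc] at this
    exact (Nat.Coprime.dvd_mul_right (by norm_num)).1 this
  have hO3 : Nat.card O = 3 := by
    obtain ⟨r, hr⟩ := h3
    obtain ⟨r', hr'⟩ := hodd
    omega
  have hMc : Nat.card M = 168 := by
    rw [← hM7 e heV (Invol.invol_ne_one he), ← hH, ← hHc, hO3]
  haveI : Fact (Nat.Prime 7) := ⟨by norm_num⟩
  haveI : Fact (Nat.Prime 3) := ⟨Nat.prime_three⟩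
  obtain ⟨P⟩ : Nonempty (Sylow 7 M) := inferInstance
  have hP : Nat.card (P : Subgroup M) = 7 := by
    rw [P.card_eq_multiplicity, hMc, show (168 : ℕ) = 7 ^ 1 * 24 by norm_num,
      Nat.factorization_mul (by norm_num) (by norm_num), Finsupp.add_apply,
      Nat.Prime.factorization_pow (by norm_num), Finsupp.single_eq_same,
      Nat.factorization_eq_zero_of_not_dvd (by norm_num : ¬ 7 ∣ 24), add_zero, pow_one]
  have hPi : (P : Subgroup M).index = 24 := by
    have := (P : Subgroup M).index_mul_card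
    rw [hP, hMc] at this
    omega
  have h7 := (card_sylow_modEq_one (p := 7) (G := M))
  have h24 := hPi ▸ P.card_dvd_index
  have hN : 3 ∣ Nat.card (normalizer ((P : Subgroup M) : Set M)) := by
    have h1 := (normalizer ((P : Subgroup M) : Set M)).index_mul_card
    rw [show (normalizer ((P : Subgroup M) : Set M)).index = Nat.card (Sylow 7 M) from
      P.card_eq_index_normalizer.symm, hMc] at h1
    have hcases : Nat.card (Sylow 7 M) = 1 ∨ Nat.card (Sylow 7 M) = 8 := by
      have hle := Nat.le_of_dvd (by norm_num) h24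
      have h7' : Nat.card (Sylow 7 M) % 7 = 1 := h7
      interval_cases hn : Nat.card (Sylow 7 M) <;> omega
    rcases hcases with e' | e' <;> rw [e'] at h1
    · exact ⟨56, by omega⟩
    · exact ⟨7, by omega⟩
  obtain ⟨g, hg⟩ := exists_prime_orderOf_dvd_card' (G := (P : Subgroup M)) 7 (dvd_of_eq hP.symm)
  obtain ⟨b, hb⟩ := exists_prime_orderOf_dvd_card' (G := normalizer ((P : Subgroup M) : Set M)) 3 hN
  have hgP : zpowers (g : M) = (P : Subgroup M) := eq_of_le_of_card_ge (zpowers_le.2 g.2)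
    (by rw [hP, Nat.card_zpowers, Subgroup.orderOf_coe, hg])
  refine ⟨V, ((g : M) : G), ((b : M) : G), h8, (g : M).2, (b : M).2,
    by rw [Subgroup.orderOf_coe, Subgroup.orderOf_coe, hg],
    by rw [Subgroup.orderOf_coe, Subgroup.orderOf_coe, hb], ?_, fun x hx hx1 hgx => ?_⟩
  · obtain ⟨i, hi⟩ := mem_zpowers_iff.1 (hgP.symm ▸ (mem_normalizer_iff.1 b.2 _).1 g.2 :
      (b : M) * (g : M) * (b : M)⁻¹ ∈ zpowers (g : M))
    refine mem_zpowers_iff.2 ⟨i, ?_⟩
    have h := congrArg Subtype.val hi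
    simpa using h
  · have h1 : 7 ∣ Nat.card ↥(M ⊓ centralizer ({x} : Set G)) := by
      have h2 := Subgroup.orderOf_dvd_natCard (M ⊓ centralizer ({x} : Set G))
        (show ((g : M) : G) ∈ _ from ⟨(g : M).2, mem_centralizer_singleton_iff.2 hgx.eq⟩)
      rwa [Subgroup.orderOf_coe, Subgroup.orderOf_coe, hg] at h2
    have h2 := hM7 x hx hx1
    rw [hMc] at h2
    omega

include T in
/-- An element of order three normalizing the cyclic group of order seven fixes an inverting involution. -/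
theorem exists_inverting {g b : G} (hg : orderOf g = 7) (hb : orderOf b = 3)
    (hbg : b * g * b⁻¹ ∈ zpowers g) : ∃ s : G, orderOf s = 2 ∧ s * g * s⁻¹ = g⁻¹ ∧ Commute b s := by
  classical
  haveI : Fact (Nat.Prime 2) := ⟨Nat.prime_two⟩
  haveI : Fact (Nat.Prime 3) := ⟨Nat.prime_three⟩
  haveI : Fact (Nat.Prime 7) := ⟨by norm_num⟩
  have hne : g ≠ g⁻¹ := by
    intro e
    have h := orderOf_dvd_of_pow_eq_one (show g ^ 2 = 1 by rw [pow_two]; nth_rw 2 [e]; exact mul_inv_cancel g)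
    rw [hg] at h
    norm_num at h
  -- `g` is real
  obtain ⟨c, hc⟩ : ∃ c, c * g * c⁻¹ = g⁻¹ := by
    obtain ⟨c, hc⟩ := isConj_iff.1 (T.isConj_pow_q (y := g) (by rw [hg]; norm_num) 3)
    refine ⟨c, hc.trans ?_⟩
    obtain ⟨k, -, hk⟩ := T.kit.q_pow
    have h7 : (q ^ 3) % 7 = 6 := by
      have h6 : ∀ i : ℕ, 6 ^ (2 * i + 1) % 7 = 6 := fun i => by
        induction i with
        | zero => norm_num
        | succ i ih =>
          rw [show 2 * (i + 1) + 1 = 2 + (2 * i + 1) by ring, pow_add, Nat.mul_mod, ih]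
          norm_num
      rw [hk, ← pow_mul, mul_comm, pow_mul, Nat.pow_mod]
      norm_num
      exact h6 k
    refine eq_inv_of_mul_eq_one_left ?_
    rw [← pow_succ]
    refine orderOf_dvd_iff_pow_eq_one.1 ?_
    rw [hg]
    omega
  let X : Subgroup G :=
    { carrier := {h | h * g * h⁻¹ = g ∨ h * g * h⁻¹ = g⁻¹}
      one_mem' := Or.inl (by group)
      mul_mem' := fun {a a'} ha ha' => by
        show a * a' * g * (a * a')⁻¹ = g ∨ _
        rw [show a * a' * g * (a * a')⁻¹ = a * (a' * g * a'⁻¹) * a⁻¹ by group]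
        rcases ha' with e | e <;> rw [e]
        · exact ha
        · rw [← conj_inv]
          rcases ha with e' | e' <;> rw [e']
          · exact Or.inr rfl
          · exact Or.inl (inv_inv g)
      inv_mem' := fun {a} ha => by
        show a⁻¹ * g * a⁻¹⁻¹ = g ∨ a⁻¹ * g * a⁻¹⁻¹ = g⁻¹
        rcases ha with e | e
        · refine Or.inl ?_
          conv_lhs => rw [← e]
          group
        · refine Or.inr ?_
          have : a * g⁻¹ * a⁻¹ = g := by rw [← conj_inv, e, inv_inv]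
          conv_lhs => rw [← this]
          group }
  have hmemX : ∀ {h : G}, h ∈ X ↔ h * g * h⁻¹ = g ∨ h * g * h⁻¹ = g⁻¹ := Iff.rfl
  have h3X : ¬ 3 ∣ Nat.card X := by
    intro h3
    obtain ⟨y, hy⟩ := exists_prime_orderOf_dvd_card' (G := X) 3 h3
    have hy' : orderOf (y : G) = 3 := (Subgroup.orderOf_coe y).trans hy
    rcases hmemX.1 y.2 with e | e
    · exact T.no_three_mul (p := 7) (by norm_num) (by norm_num) hy' (y := g) hg (mul_inv_eq_iff_eq_mul.1 e)
    · have e2 : (y : G) ^ 3 * g * ((y : G) ^ 3)⁻¹ = g⁻¹ := by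
        rw [show (y : G) ^ 3 * g * ((y : G) ^ 3)⁻¹ =
          y * (y * (y * g * (y : G)⁻¹) * (y : G)⁻¹) * (y : G)⁻¹ by rw [pow_three]; group, e, ← conj_inv, e,
          inv_inv, e]
      rw [← hy', pow_orderOf_eq_one, one_mul, inv_one, mul_one] at e2
      exact hne e2
  obtain ⟨j, hj⟩ := mem_zpowers_iff.1 hbg
  obtain ⟨l, hl⟩ : ∃ l : ℤ, g ^ l = b⁻¹ * g * b := mem_zpowers_iff.1 <| by
    have hb2 : b⁻¹ = b * b := inv_eq_of_mul_eq_one_right (by
      rw [← mul_assoc, ← pow_three', ← hb, pow_orderOf_eq_one])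
    refine mem_zpowers_iff.2 ⟨j * j, ?_⟩
    calc g ^ (j * j) = (b * g * b⁻¹) ^ j := by rw [← hj, zpow_mul]
      _ = b * (b * g * b⁻¹) * b⁻¹ := by rw [conj_zpow, hj]
      _ = b * b * g * (b * b)⁻¹ := by group
      _ = b⁻¹ * g * b := by rw [← hb2, inv_inv]
  have hbX : ∀ h ∈ X, b * h * b⁻¹ ∈ X := by
    intro h hh
    have e : b * h * b⁻¹ * g * (b * h * b⁻¹)⁻¹ = b * (h * g ^ l * h⁻¹) * b⁻¹ := by rw [hl]; group
    have hg' : b * g ^ l * b⁻¹ = g := by rw [hl]; group
    rw [hmemX, e, ← conj_zpow]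
    rcases hmemX.1 hh with e' | e' <;> rw [e']
    · exact Or.inl hg'
    · exact Or.inr (by rw [inv_zpow, ← conj_inv, hg'])
  have hb3X : ∀ h, b * (b * (b * h * b⁻¹) * b⁻¹) * b⁻¹ = h := fun h => by
    calc b * (b * (b * h * b⁻¹) * b⁻¹) * b⁻¹ = b ^ 3 * h * (b ^ 3)⁻¹ := by rw [pow_three]; group
      _ = h := by rw [← hb, pow_orderOf_eq_one, one_mul, inv_one, mul_one]
  -- an inverting involution
  obtain ⟨s₀, hs₀, hs₀g⟩ : ∃ s, orderOf s = 2 ∧ s * g * s⁻¹ = g⁻¹ := by
    set a := (orderOf c).factorization 2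
    set r := orderOf c / 2 ^ a with hr
    have hro : Odd r := Nat.not_even_iff_odd.1 fun h =>
      Nat.not_dvd_ordCompl Nat.prime_two (orderOf_pos c).ne' (even_iff_two_dvd.1 h)
    have hinv : ∀ i : ℕ, c ^ (2 * i + 1) * g * (c ^ (2 * i + 1))⁻¹ = g⁻¹ := fun i => by
      induction i with
      | zero => rw [mul_zero, zero_add, pow_one, hc]
      | succ i ih =>
        calc c ^ (2 * (i + 1) + 1) * g * (c ^ (2 * (i + 1) + 1))⁻¹
            = c * (c * (c ^ (2 * i + 1) * g * (c ^ (2 * i + 1))⁻¹) * c⁻¹) * c⁻¹ := by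
              rw [show 2 * (i + 1) + 1 = (2 * i + 1) + 1 + 1 by ring, pow_succ' c (2 * i + 1 + 1),
                pow_succ' c (2 * i + 1)]
              group
          _ = g⁻¹ := by rw [ih, ← conj_inv, hc, inv_inv, hc]
    obtain ⟨i, hi⟩ := hro
    have hcg : c ^ r * g * (c ^ r)⁻¹ = g⁻¹ := hi ▸ hinv i
    refine ⟨c ^ r, orderOf_eq_prime ?_ (fun e => hne ?_), hcg⟩
    · refine T.sq_of_isPGroup (H := zpowers (c ^ r)) ?_ (mem_zpowers _)
      refine IsPGroup.of_card (n := a) ?_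
      have hd : r ∣ orderOf c := Nat.ordCompl_dvd _ _
      rw [Nat.card_zpowers, orderOf_pow' c (by omega), Nat.gcd_eq_right hd, hr,
        Nat.div_div_self (Nat.ordProj_dvd _ _) (orderOf_pos c).ne']
    · rw [e, one_mul, inv_one, mul_one] at hcg
      exact hcg
  -- the Sylow subgroups of `X`
  set a := (Nat.card X).factorization 2 with ha
  let Sy := {P : Subgroup G // P ≤ X ∧ Nat.card P = 2 ^ a}
  have hcS : Nat.card Sy = Nat.card (Sylow 2 X) := by
    refine Nat.card_congr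
      { toFun := fun P => Sylow.ofCard (P.1.subgroupOf X)
          ((Nat.card_congr (subgroupOfEquivOfLe P.2.1).toEquiv).trans P.2.2)
        invFun := fun P => ⟨(P : Subgroup X).map X.subtype, map_subtype_le _,
          (card_map_of_injective X.subtype_injective).trans P.card_eq_multiplicity⟩
        left_inv := fun P => Subtype.ext ?_
        right_inv := fun P => Sylow.ext ?_ }
    · exact map_subgroupOf_eq_of_le P.2.1
    · exact comap_map_eq_self_of_injective X.subtype_injective _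
  have hnS : ¬ 3 ∣ Nat.card Sy := by
    rw [hcS]
    obtain ⟨P⟩ : Nonempty (Sylow 2 X) := inferInstance
    exact fun h => h3X (h.trans (P.card_dvd_index.trans (P : Subgroup X).index_dvd_card))
  let σ : Sy → Sy := fun P => ⟨P.1.map (MulAut.conj b).toMonoidHom,
    (by rintro _ ⟨z, hz, rfl⟩; exact hbX z (P.2.1 hz)),
    (card_map_of_injective (MulAut.conj b).injective).trans P.2.2⟩
  have hσ3 : ∀ P, σ (σ (σ P)) = P := fun P => Subtype.ext (by
    ext z
    constructor
    · rintro ⟨_, ⟨_, ⟨w, hw, rfl⟩, rfl⟩, rfl⟩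
      show b * (b * (b * w * b⁻¹) * b⁻¹) * b⁻¹ ∈ P.1
      rw [hb3X]; exact hw
    · intro hz
      exact ⟨b * (b * z * b⁻¹) * b⁻¹, ⟨b * z * b⁻¹, ⟨z, hz, rfl⟩, rfl⟩, hb3X z⟩)
  let σe : Equiv.Perm Sy := ⟨σ, σ ∘ σ, hσ3, hσ3⟩
  haveI := Fintype.ofFinite Sy
  obtain ⟨P, hP⟩ := Equiv.Perm.exists_fixed_point_of_prime (p := 3) (n := 1) (σ := σe)
    (by rwa [← Nat.card_eq_fintype_card]) (by
      refine Equiv.ext fun P => ?_
      rw [pow_one, pow_three, Equiv.Perm.mul_apply, Equiv.Perm.mul_apply]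
      exact hσ3 P)
  have hPb : ∀ z ∈ P.1, b * z * b⁻¹ ∈ P.1 := fun z hz => by
    have h : P.1.map (MulAut.conj b).toMonoidHom = P.1 := congrArg Subtype.val hP
    exact h ▸ mem_map_of_mem _ hz
  have hPp : IsPGroup 2 P.1 := IsPGroup.of_card P.2.2
  -- it contains an inverting involution
  obtain ⟨s₁, hs₁P, hs₁⟩ : ∃ s ∈ P.1, s * g * s⁻¹ = g⁻¹ := by
    have hs₀X : s₀ ∈ X := Or.inr hs₀g
    obtain ⟨Q, hQ⟩ := (show IsPGroup 2 (zpowers (⟨s₀, hs₀X⟩ : X)) from IsPGroup.of_card (n := 1)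
      (by rw [Nat.card_zpowers, Subgroup.orderOf_mk, hs₀, pow_one])).exists_le_sylow
    obtain ⟨x, hx⟩ := MulAction.exists_smul_eq X Q (Sylow.ofCard (P.1.subgroupOf X)
      ((Nat.card_congr (subgroupOfEquivOfLe P.2.1).toEquiv).trans P.2.2))
    have h1 : x * ⟨s₀, hs₀X⟩ * x⁻¹ ∈ P.1.subgroupOf X := by
      have h2 : MulAut.conj x ⟨s₀, hs₀X⟩ ∈ ((x • Q : Sylow 2 X) : Subgroup X) := by
        rw [Sylow.coe_subgroup_smul]
        exact mem_map_of_mem _ (hQ (mem_zpowers _))
      rw [hx] at h2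
      exact h2
    refine ⟨(x : G) * s₀ * (x : G)⁻¹, h1, ?_⟩
    have hxi : (x : G)⁻¹ ∈ X := inv_mem x.2
    rw [show (x : G) * s₀ * (x : G)⁻¹ * g * ((x : G) * s₀ * (x : G)⁻¹)⁻¹ =
      (x : G) * (s₀ * ((x : G)⁻¹ * g * (x : G)⁻¹⁻¹) * s₀⁻¹) * (x : G)⁻¹ by group]
    rcases hmemX.1 hxi with e | e <;> rw [e] <;> rcases hmemX.1 x.2 with e' | e'
    · rw [hs₀g, ← conj_inv, e']
    · exfalso
      refine hne ?_
      calc g = (x : G) * ((x : G)⁻¹ * g * (x : G)⁻¹⁻¹) * (x : G)⁻¹ := by group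
        _ = g⁻¹ := by rw [e, e']
    · exfalso
      refine hne ?_
      calc g = (x : G) * ((x : G)⁻¹ * g * (x : G)⁻¹⁻¹) * (x : G)⁻¹ := by group
        _ = g⁻¹ := by rw [e, ← conj_inv, e']
    · rw [← conj_inv, hs₀g, inv_inv, e']
  -- the inverting elements of `P`
  let J := {z : P.1 // (z : G) * g * (z : G)⁻¹ = g⁻¹}
  let J' := {z : P.1 // ¬ (z : G) * g * (z : G)⁻¹ = g⁻¹}
  have hcom : ∀ z : P.1, ¬ (z : G) * g * (z : G)⁻¹ = g⁻¹ → (z : G) * g * (z : G)⁻¹ = g :=
    fun z hz => (hmemX.1 (P.2.1 z.2)).resolve_right hz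
  have hmulJ : ∀ z : P.1, (z : G) * g * (z : G)⁻¹ = g⁻¹ ↔
      ¬ ((⟨s₁, hs₁P⟩ * z : P.1) : G) * g * ((⟨s₁, hs₁P⟩ * z : P.1) : G)⁻¹ = g⁻¹ := fun z => by
    rw [show ((⟨s₁, hs₁P⟩ * z : P.1) : G) * g * ((⟨s₁, hs₁P⟩ * z : P.1) : G)⁻¹ =
      s₁ * ((z : G) * g * (z : G)⁻¹) * s₁⁻¹ by simp only [Subgroup.coe_mul]; group]
    constructor
    · intro e
      rw [e, ← conj_inv, hs₁, inv_inv]
      exact hne
    · intro e
      by_contra hz
      exact e (by rw [hcom z hz, hs₁])
  have hJ : 2 * Nat.card J = 2 ^ a := by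
    have e1 : Nat.card J = Nat.card J' :=
      Nat.card_congr ((Equiv.mulLeft (⟨s₁, hs₁P⟩ : P.1)).subtypeEquiv fun z => hmulJ z)
    rw [← P.2.2, ← Nat.card_congr (Equiv.sumCompl fun z : P.1 => (z : G) * g * (z : G)⁻¹ = g⁻¹),
      Nat.card_sum, two_mul]
    exact congrArg₂ (· + ·) rfl e1
  have hnJ : ¬ 3 ∣ Nat.card J := fun h => by
    have := (Nat.prime_three.dvd_of_dvd_pow (hJ ▸ dvd_mul_of_dvd_right h 2) : 3 ∣ 2)
    norm_num at this
  have hbJ : ∀ z : J, b * (z.1 : G) * b⁻¹ * g * (b * (z.1 : G) * b⁻¹)⁻¹ = g⁻¹ := fun z => by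
    calc b * (z.1 : G) * b⁻¹ * g * (b * (z.1 : G) * b⁻¹)⁻¹
        = b * ((z.1 : G) * g ^ l * (z.1 : G)⁻¹) * b⁻¹ := by rw [hl]; group
      _ = g⁻¹ := by
        rw [← conj_zpow, z.2, inv_zpow, ← conj_inv, hl]
        group
  let ρ : J → J := fun z => ⟨⟨b * z.1 * b⁻¹, hPb _ z.1.2⟩, hbJ z⟩
  have hρ3 : ∀ z, ρ (ρ (ρ z)) = z := fun z => Subtype.ext (Subtype.ext (hb3X _))
  let ρe : Equiv.Perm J := ⟨ρ, ρ ∘ ρ, hρ3, hρ3⟩
  haveI := Fintype.ofFinite J
  obtain ⟨z, hz⟩ := Equiv.Perm.exists_fixed_point_of_prime (p := 3) (n := 1) (σ := ρe)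
    (by rwa [← Nat.card_eq_fintype_card]) (by
      refine Equiv.ext fun z => ?_
      rw [pow_one, pow_three, Equiv.Perm.mul_apply, Equiv.Perm.mul_apply]
      exact hρ3 z)
  have hz' : b * (z.1 : G) * b⁻¹ = z.1 := congrArg (fun w : J => (w.1 : G)) hz
  refine ⟨z.1, orderOf_eq_prime (T.sq_of_isPGroup hPp z.1.2) (fun e => hne ?_), z.2,
    mul_inv_eq_iff_eq_mul.1 hz'⟩
  have h := z.2
  rw [e, one_mul, inv_one, mul_one] at h
  exact h

include T in
/-- A group of Ree type with only TI cyclic subgroups of prime power order does not exist. -/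
theorem not_cyclicTI : ¬ CyclicTI G := by
  intro h
  haveI : Fact (Nat.Prime 3) := ⟨Nat.prime_three⟩
  obtain ⟨V, g, b, h8, hgN, hbN, hg, hb, hbg, hfpf⟩ := T.exists_seven
  obtain ⟨s, hs, hsg, hbs⟩ := T.exists_inverting hg hb hbg
  have hab : ∀ {a c : G}, a ∈ (V : Subgroup G) → c ∈ (V : Subgroup G) → Commute a c := fun ha hc =>
    T.comm_of_isPGroup V.2 ha hc
  -- a fixed point of `b`
  let Vs := ↥(((V : Subgroup G) : Set G) \ {1})
  have h7 : Nat.card Vs = 7 := by
    rw [Nat.card_coe_set_eq, Set.ncard_sdiff_singleton_of_mem (one_mem _), ← Nat.card_coe_set_eq]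
    exact congrArg (· - 1) h8
  let β : Vs → Vs := fun z => ⟨b * z.1 * b⁻¹, (mem_normalizer_iff.1 hbN z.1).1 z.2.1,
    fun e => z.2.2 (conj_eq_one_iff.1 e)⟩
  have hβ3 : ∀ z, β (β (β z)) = z := fun z => Subtype.ext (by
    show b * (b * (b * z.1 * b⁻¹) * b⁻¹) * b⁻¹ = z.1
    calc b * (b * (b * z.1 * b⁻¹) * b⁻¹) * b⁻¹ = b ^ 3 * z.1 * (b ^ 3)⁻¹ := by rw [pow_three]; group
      _ = z.1 := by rw [← hb, pow_orderOf_eq_one, one_mul, inv_one, mul_one])
  let βe : Equiv.Perm Vs := ⟨β, β ∘ β, hβ3, hβ3⟩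
  haveI := Fintype.ofFinite Vs
  obtain ⟨⟨e, heV, he1⟩, hz⟩ := Equiv.Perm.exists_fixed_point_of_prime (p := 3) (n := 1) (σ := βe)
    (by rw [← Nat.card_eq_fintype_card, h7]; norm_num) (by
      refine Equiv.ext fun z => ?_
      rw [pow_one, pow_three, Equiv.Perm.mul_apply, Equiv.Perm.mul_apply]
      exact hβ3 z)
  have hbe : Commute b e := mul_inv_eq_iff_eq_mul.1 (congrArg Subtype.val hz)
  have he1' : e ≠ 1 := fun e' => he1 e'
  have he : orderOf e = 2 := orderOf_eq_prime (T.sq_of_isPGroup V.2 heV) he1'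
  have he2 := Invol.invol_mul_self he
  set v : ℕ → G := fun i => g ^ i * e * (g ^ i)⁻¹ with hv
  have hvV : ∀ i, v i ∈ (V : Subgroup G) := fun i => (mem_normalizer_iff.1 (pow_mem hgN i) e).1 heV
  have hg7 : g ^ 7 = 1 := hg ▸ pow_orderOf_eq_one g
  have hvmod : ∀ i, v (i % 7) = v i := fun i => by
    show g ^ (i % 7) * e * (g ^ (i % 7))⁻¹ = g ^ i * e * (g ^ i)⁻¹
    rw [← hg, pow_mod_orderOf]
  -- the seven conjugates are the involutions of `V`
  have hinj : Function.Injective fun i : Fin 7 => v i := by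
    intro i j hij
    by_contra hne
    wlog hle : (i : ℕ) ≤ j generalizing i j
    · exact this hij.symm (Ne.symm hne) (le_of_not_ge hle)
    have hc : Commute (g ^ ((j : ℕ) - i)) e := by
      refine mul_inv_eq_iff_eq_mul.1 ?_
      have h1 : v i = v j := hij
      calc g ^ ((j : ℕ) - i) * e * (g ^ ((j : ℕ) - i))⁻¹
          = (g ^ (i : ℕ))⁻¹ * v j * g ^ (i : ℕ) := by
            show _ = (g ^ (i : ℕ))⁻¹ * (g ^ (j : ℕ) * e * (g ^ (j : ℕ))⁻¹) * g ^ (i : ℕ)
            conv_rhs => rw [← Nat.add_sub_cancel' hle, pow_add]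
            group
        _ = e := by rw [← h1, hv]; group
    have hcop : (orderOf g).Coprime ((j : ℕ) - i) := by
      rw [hg, (by norm_num : Nat.Prime 7).coprime_iff_not_dvd]
      intro hd
      have h1 : (i : ℕ) ≠ j := fun e' => hne (Fin.ext e')
      have := Nat.le_of_dvd (by omega) hd
      omega
    obtain ⟨r, hr⟩ := exists_pow_eq_self_of_coprime hcop.symm
    exact hfpf e heV he1' (hr ▸ hc.pow_left r)
  have hbij : Function.Bijective fun i : Fin 7 =>
      (⟨v i, hvV i, fun e' => he1' (conj_eq_one_iff.1 e')⟩ : Vs) := by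
    rw [Fintype.bijective_iff_injective_and_card, ← Nat.card_eq_fintype_card (α := Vs), h7]
    exact ⟨fun i j hij => hinj (congrArg Subtype.val hij), Fintype.card_fin 7⟩
  have hv0 : v 0 = e := by simp [hv]
  have heq : ∀ {i j : ℕ}, v i = v j → i % 7 = j % 7 := fun {i j} hij => by
    have := @hinj ⟨i % 7, Nat.mod_lt _ (by norm_num)⟩ ⟨j % 7, Nat.mod_lt _ (by norm_num)⟩
      (show v (i % 7) = v (j % 7) by rw [hvmod, hvmod, hij])
    exact congrArg Fin.val this
  obtain ⟨⟨k, hk⟩, hk'⟩ := hbij.2 ⟨v 0 * v 1, mul_mem (hvV 0) (hvV 1), fun e' => by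
    have h1 : v 0 = v 1 := by
      rw [eq_inv_of_mul_eq_one_left (Set.mem_singleton_iff.1 e'), hv]
      simp only [conj_inv, Invol.invol_inv he]
    simpa using heq h1⟩
  have hrel : v 0 * v 1 = v k := (congrArg Subtype.val hk').symm
  have hshift : ∀ i, v i * v (i + 1) = v (i + k) := fun i => by
    show g ^ i * e * (g ^ i)⁻¹ * (g ^ (i + 1) * e * (g ^ (i + 1))⁻¹) = g ^ (i + k) * e * (g ^ (i + k))⁻¹
    calc g ^ i * e * (g ^ i)⁻¹ * (g ^ (i + 1) * e * (g ^ (i + 1))⁻¹)
        = g ^ i * (v 0 * v 1) * (g ^ i)⁻¹ := by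
          rw [hv0, show v 1 = g * e * g⁻¹ by simp [hv], pow_succ]; group
      _ = _ := by rw [hrel, hv, pow_add]; group
  have hsq : ∀ i, v i * v i = 1 := fun i => by rw [hv, conj_mul, he2, mul_one, mul_inv_cancel]
  have hvc : ∀ i j, v i * v j = v j * v i := fun i j => (hab (hvV i) (hvV j)).eq
  have h7v : ∀ i, v (i + 7) = v i := fun i => by rw [← hvmod, Nat.add_mod_right, hvmod]
  have hcomm : ∀ i, Commute e (v i) := fun i => hab heV (hvV i)
  have hw : v 0 * v 1 = v k := hrel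
  interval_cases k
  · exact absurd (mul_eq_left.1 hw) (fun e' => he1' (conj_eq_one_iff.1 e'))
  · exact absurd (mul_eq_right.1 hw) (by rw [hv0]; exact he1')
  · have h1 : v 3 = v 0 := by
      rw [show v 3 = v 1 * v 2 from (hshift 1).symm, ← hw, hvc 0 1, ← mul_assoc, hsq, one_mul]
    simpa using heq h1
  · exact T.no_frame h he hs hg hb hsg hbe hbs hcomm (by simpa [hv] using hw)
  · have h1 : v 3 = v 1 := by
      have e1 : v 3 * v 4 = v 0 := (hshift 3).trans (h7v 0)
      calc v 3 = v 3 * (v 4 * v 4) := by rw [hsq, mul_one]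
        _ = v 0 * (v 0 * v 1) := by rw [← mul_assoc, e1, ← hw]
        _ = v 1 := by rw [← mul_assoc, hsq, one_mul]
    simpa using heq h1
  · -- replace `g` by its inverse
    have hi : ∀ i, i ≤ 7 → g⁻¹ ^ i * e * (g⁻¹ ^ i)⁻¹ = v (7 - i) := fun i hi => by
      have : g⁻¹ ^ i = g ^ (7 - i) := by
        rw [inv_pow, pow_sub g hi, hg7, one_mul]
      rw [this]
    refine T.no_frame h (g := g⁻¹) he hs (by rw [orderOf_inv, hg]) hb
      (by rw [← conj_inv, hsg]) hbe hbs (fun i => ?_) ?_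
    · exact hab heV ((mem_normalizer_iff.1 (pow_mem (inv_mem hgN) i) e).1 heV)
    · have e1 := hi 1 (by norm_num)
      rw [pow_one] at e1
      rw [e1, hi 3 (by norm_num)]
      show e * v 6 = v 4
      have e2 := hshift 6
      rw [show v (6 + 1) = v 0 from h7v 0, show v (6 + 5) = v 4 from h7v 4, hv0] at e2
      exact (hab heV (hvV 6)).eq.trans e2
  · have h1 : v 5 = v 1 := by
      have e1 : v 6 * v 0 = v 5 := by
        have := hshift 6
        rwa [show v (6 + 1) = v 0 from h7v 0, show v (6 + 6) = v 5 from h7v 5] at this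
      rw [← e1, ← hw, hvc (0 : ℕ) 1, mul_assoc, hsq, mul_one]
    simpa using heq h1

include T in
/-- **A cyclic subgroup of prime power order which is not TI.** -/
theorem exists_not_ti : ∃ H : Subgroup G, IsCyclic H ∧ IsPrimePow (Nat.card H) ∧
    ∃ g : G, H.map (MulAut.conj g).toMonoidHom ≠ H ∧ H.map (MulAut.conj g).toMonoidHom ⊓ H ≠ ⊥ := by
  by_contra hno
  push Not at hno
  exact T.not_cyclicTI fun H hc hp g => or_iff_not_imp_left.2 (hno H hc hp g)

end Setup

/-- A group of Ree type has a cyclic subgroup of prime power order which is not TI. -/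
theorem not_cyclicTI_of_isReeType (hG : Cfsg.IsReeType G)
    (h : ∀ H : Subgroup G, IsCyclic H → IsPrimePow (Nat.card H) → ∀ g : G,
      H.map (MulAut.conj g).toMonoidHom = H ∨ H.map (MulAut.conj g).toMonoidHom ⊓ H = ⊥) : False := by
  obtain ⟨k, q, m, n, ⟨T, -⟩⟩ := exists_setup_of_isReeType hG
  exact T.not_cyclicTI h

end CfsgLib.ReeType
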