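import Cfsg.Agent.Lib.Coprime.Action
import Cfsg.Agent.Lib.Fusion.Transfer

/-!
# Small tools for the groups of Ree type
-/

set_option autoImplicit false
set_option linter.unusedSectionVars false

namespace CfsgLib.ReeType

open Subgroup

variable {G : Type*} [Group G] [Finite G]

/-- An involution without fixed points inverts everything. -/
theorem inverts_of_fpf {H : Subgroup G} {s : G} (hs : s * s = 1) (hn : ∀ a ∈ H, s * a * s⁻¹ ∈ H)
    (hfix : ∀ a ∈ H, s * a = a * s → a = 1) : ∀ a ∈ H, s * a * s⁻¹ = a⁻¹ := by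
  let f : H → H := fun a => ⟨(a : G)⁻¹ * (s * a * s⁻¹), mul_mem (inv_mem a.2) (hn a a.2)⟩
  have hf : Function.Injective f := by
    intro a b e
    have e' : (a : G)⁻¹ * (s * a * s⁻¹) = (b : G)⁻¹ * (s * b * s⁻¹) := congrArg Subtype.val e
    have h1 : s * ((b : G) * (a : G)⁻¹) = (b : G) * (a : G)⁻¹ * s := by
      calc s * ((b : G) * (a : G)⁻¹) = s * b * s⁻¹ * (s * (a : G)⁻¹ * s⁻¹) * s := by group
        _ = (b : G) * ((b : G)⁻¹ * (s * b * s⁻¹)) * (s * a * s⁻¹)⁻¹ * s := by group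
        _ = (b : G) * (a : G)⁻¹ * s := by rw [← e']; group
    exact Subtype.ext (mul_inv_eq_one.1 (hfix _ (mul_mem b.2 (inv_mem a.2)) h1)).symm
  intro a ha
  obtain ⟨b, hb⟩ := (Finite.injective_iff_surjective.1 hf) ⟨a, ha⟩
  have e : (b : G)⁻¹ * (s * b * s⁻¹) = a := congrArg Subtype.val hb
  rw [← e]
  calc s * ((b : G)⁻¹ * (s * b * s⁻¹)) * s⁻¹
      = s * (b : G)⁻¹ * s⁻¹ * ((s * s) * b * (s * s)⁻¹) := by group
    _ = ((b : G)⁻¹ * (s * b * s⁻¹))⁻¹ := by rw [hs]; group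

/-- A subgroup inverted by an element is abelian. -/
theorem comm_of_inverted {H : Subgroup G} {s : G} (h : ∀ a ∈ H, s * a * s⁻¹ = a⁻¹) :
    ∀ a ∈ H, ∀ b ∈ H, a * b = b * a := by
  intro a ha b hb
  have h1 := h _ (mul_mem (inv_mem ha) (inv_mem hb))
  rw [show s * (a⁻¹ * b⁻¹) * s⁻¹ = (s * a⁻¹ * s⁻¹) * (s * b⁻¹ * s⁻¹) by group,
    h _ (inv_mem ha), h _ (inv_mem hb), inv_inv, inv_inv, mul_inv_rev, inv_inv, inv_inv] at h1
  exact h1

/-- The fixed points of a conjugation of prime order. -/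
theorem card_conj_fixed_modEq {r : ℕ} [Fact r.Prime] {P : Subgroup G} {v : G} {j : ℕ}
    (hv : orderOf v = r ^ j)
    (hn : v ∈ normalizer (P : Set G)) :
    Nat.card P ≡ Nat.card ↥(P ⊓ centralizer ({v} : Set G)) [MOD r] := by
  have hmem : ∀ c ∈ zpowers v, ∀ x ∈ P, c * x * c⁻¹ ∈ P := fun c hc x hx =>
    (mem_normalizer_iff.1 (zpowers_le.2 hn hc) x).1 hx
  letI : MulAction (zpowers v) P :=
    { smul := fun c x => ⟨(c : G) * x * (c : G)⁻¹, hmem c c.2 x x.2⟩
      one_smul := fun x => Subtype.ext (by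
        show ((1 : zpowers v) : G) * x * ((1 : zpowers v) : G)⁻¹ = x
        simp)
      mul_smul := fun c d x => Subtype.ext (by
        show ((c * d : zpowers v) : G) * x * ((c * d : zpowers v) : G)⁻¹ =
          (c : G) * ((d : G) * x * (d : G)⁻¹) * (c : G)⁻¹
        push_cast
        group) }
  have hp : IsPGroup r (zpowers v) := IsPGroup.of_card (n := j) (by rw [Nat.card_zpowers, hv])
  suffices he : Nat.card (MulAction.fixedPoints (zpowers v) P) =
      Nat.card ↥(P ⊓ centralizer ({v} : Set G)) from he ▸ hp.card_modEq_card_fixedPoints P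
  refine Nat.card_congr ⟨fun x => ⟨x.1.1, x.1.2, ?_⟩, fun x => ⟨⟨x.1, x.2.1⟩, ?_⟩,
    fun x => rfl, fun x => rfl⟩
  · show (x.1 : G) ∈ centralizer ({v} : Set G)
    have h := congrArg Subtype.val (x.2 ⟨v, mem_zpowers v⟩)
    change v * (x.1 : G) * v⁻¹ = (x.1 : G) at h
    exact mem_centralizer_singleton_iff.2 (mul_inv_eq_iff_eq_mul.1 h).symm
  · intro c
    refine Subtype.ext ?_
    show (c : G) * x.1 * (c : G)⁻¹ = x.1
    obtain ⟨i, hi⟩ := mem_zpowers_iff.1 c.2
    have hc : Commute v (x.1 : G) := (mem_centralizer_singleton_iff.1 x.2.2).symm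
    rw [← hi, (hc.zpow_left i).eq, mul_inv_cancel_right]

/-- Burnside's transfer theorem inside a subgroup. -/
theorem exists_complement {r : ℕ} [Fact r.Prime] {O R : Subgroup G}
    (hR : Coprime.IsSylowIn r R O)
    (h : ∀ x ∈ O, x ∈ normalizer (R : Set G) → ∀ a ∈ R, x * a = a * x) :
    ∃ M : Subgroup G, M ≤ O ∧ normalizer (O : Set G) ≤ normalizer (M : Set G) ∧
      ¬ r ∣ Nat.card M ∧ ∀ x ∈ O, ¬ r ∣ orderOf x → x ∈ M := by
  have hmapR := hR.map_toSylow
  obtain ⟨P, N, hN, hc⟩ := Fusion.hasNormalPComplement_of_normalizer_le_centralizer hR.toSylow (by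
    intro x hx
    have hxR : (x : G) ∈ normalizer (R : Set G) := by
      rw [mem_normalizer_iff]
      intro y
      rw [← hmapR]
      constructor
      · rintro ⟨z, hz, rfl⟩
        exact ⟨x * z * x⁻¹, (mem_normalizer_iff.1 hx z).1 hz, rfl⟩
      · rintro ⟨z, hz, he⟩
        refine ⟨x⁻¹ * z * x, (mem_normalizer_iff''.1 hx z).1 hz, ?_⟩
        simp only [Subgroup.coe_subtype, Subgroup.coe_mul, Subgroup.coe_inv] at he ⊢
        rw [he]; group
    rw [mem_centralizer_iff]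
    intro y hy
    exact Subtype.ext (h x x.2 hxR y (hmapR ▸ mem_map_of_mem _ hy)).symm)
  haveI := hN
  have hnd : ¬ r ∣ Nat.card N := hc.index_eq_card ▸ P.not_dvd_index
  have hall : ∀ x : O, ¬ r ∣ orderOf x → x ∈ N := by
    intro x hx
    have h1 : x ^ N.index ∈ N := N.pow_index_mem x
    obtain ⟨j, hj⟩ := P.2.exists_card_eq
    rw [hc.symm.index_eq_card, hj] at h1
    obtain ⟨i, hi⟩ := exists_pow_eq_self_of_coprime
      ((((Fact.out : r.Prime).coprime_iff_not_dvd).2 hx).pow_left j)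
    exact hi ▸ pow_mem h1 _
  refine ⟨N.map O.subtype, map_subtype_le _, ?_, ?_, fun x hx hxr => ?_⟩
  · intro g hg
    have hord : ∀ {x : O}, x ∈ N → ¬ r ∣ orderOf x := fun {x} hx hd =>
      hnd (hd.trans (Subgroup.orderOf_dvd_natCard N hx))
    rw [mem_normalizer_iff]
    intro y
    constructor
    · rintro ⟨z, hz, rfl⟩
      refine ⟨⟨g * z * g⁻¹, (mem_normalizer_iff.1 hg z).1 z.2⟩, hall _ ?_, rfl⟩
      rw [Subgroup.orderOf_mk, ← MulAut.conj_apply, MulEquiv.orderOf_eq, Subgroup.orderOf_coe]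
      exact hord hz
    · rintro ⟨z, hz, he⟩
      simp only [Subgroup.coe_subtype] at he
      have hy : y ∈ O := (mem_normalizer_iff.1 hg y).2 (he ▸ z.2)
      refine ⟨⟨y, hy⟩, hall _ ?_, rfl⟩
      rw [Subgroup.orderOf_mk, ← MulEquiv.orderOf_eq (MulAut.conj g), MulAut.conj_apply, ← he,
        Subgroup.orderOf_coe]
      exact hord hz
  · rwa [card_map_of_injective O.subtype_injective]
  · exact ⟨⟨x, hx⟩, hall _ (by rwa [Subgroup.orderOf_mk]), rfl⟩

/-- Cosets of order two: the elements of `⟨v⟩⟨s⟩` for `s` inverting `v`. -/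
theorem prime_orderOf_sup {v s : G} (hs : s * s = 1) (hinv : s * v * s⁻¹ = v⁻¹) {y : G}
    (hy : y ∈ zpowers v ⊔ zpowers s) : y ∈ zpowers v ∨ y * y = 1 := by
  have hn : zpowers s ≤ normalizer (zpowers v : Set G) := by
    rw [zpowers_le, mem_normalizer_iff]
    intro a
    constructor
    · intro ha
      obtain ⟨i, rfl⟩ := mem_zpowers_iff.1 ha
      rw [← conj_zpow, hinv]
      exact zpow_mem (inv_mem (mem_zpowers v)) i
    · intro ha
      obtain ⟨i, hi⟩ := mem_zpowers_iff.1 ha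
      refine mem_zpowers_iff.2 ⟨-i, ?_⟩
      apply (MulAut.conj s).injective
      rw [map_zpow, MulAut.conj_apply, MulAut.conj_apply, hinv, inv_zpow', neg_neg, hi]
  obtain ⟨a, ha, b, hb, rfl⟩ := Coprime.mem_sup_exists hn hy
  obtain ⟨i, rfl⟩ := mem_zpowers_iff.1 ha
  obtain ⟨j, rfl⟩ := mem_zpowers_iff.1 hb
  rcases Int.even_or_odd j with ⟨l, rfl⟩ | ⟨l, rfl⟩
  · left
    rw [← two_mul, zpow_mul, zpow_two, hs, one_zpow, mul_one]
    exact zpow_mem (mem_zpowers v) i
  · right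
    rw [zpow_add, zpow_mul, zpow_two, hs, one_zpow, one_mul, zpow_one]
    calc v ^ i * s * (v ^ i * s) = v ^ i * (s * v ^ i * s⁻¹) * (s * s) := by group
      _ = 1 := by rw [← conj_zpow, hinv, hs, mul_one, inv_zpow, mul_inv_cancel]

end CfsgLib.ReeType

namespace CfsgLib.ReeType

open Subgroup

variable {G : Type*} [Group G]

/-- The elements of order dividing `p` of the centre of a subgroup. -/
def omegaCenter (p : ℕ) (Q : Subgroup G) : Subgroup G where
  carrier := {z | z ∈ Q ∧ z ^ p = 1 ∧ ∀ y ∈ Q, Commute z y}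
  one_mem' := ⟨one_mem _, one_pow _, fun y _ => Commute.one_left y⟩
  mul_mem' := fun {a b} ha hb => ⟨mul_mem ha.1 hb.1,
    by rw [(ha.2.2 b hb.1).mul_pow, ha.2.1, hb.2.1, one_mul],
    fun y hy => (ha.2.2 y hy).mul_left (hb.2.2 y hy)⟩
  inv_mem' := fun {a} ha => ⟨inv_mem ha.1, by rw [inv_pow, ha.2.1, inv_one],
    fun y hy => (ha.2.2 y hy).inv_left⟩

theorem mem_omegaCenter {p : ℕ} {Q : Subgroup G} {z : G} :
    z ∈ omegaCenter p Q ↔ z ∈ Q ∧ z ^ p = 1 ∧ ∀ y ∈ Q, Commute z y := Iff.rfl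

theorem omegaCenter_le (p : ℕ) (Q : Subgroup G) : omegaCenter p Q ≤ Q := fun _ h => h.1

theorem conj_mem_omegaCenter {p : ℕ} {Q : Subgroup G} {g z : G}
    (hg : g ∈ normalizer (Q : Set G)) (hz : z ∈ omegaCenter p Q) :
    g * z * g⁻¹ ∈ omegaCenter p Q := by
  refine ⟨(mem_normalizer_iff.1 hg z).1 hz.1, by rw [conj_pow, hz.2.1, mul_one, mul_inv_cancel],
    fun y hy => ?_⟩
  have h := (hz.2.2 _ ((mem_normalizer_iff''.1 hg y).1 hy)).map (MulAut.conj g)
  simpa [mul_assoc] using h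

theorem normalizer_le_omegaCenter (p : ℕ) (Q : Subgroup G) :
    normalizer (Q : Set G) ≤ normalizer (omegaCenter p Q : Set G) := by
  intro g hg
  rw [mem_normalizer_iff]
  refine fun z => ⟨conj_mem_omegaCenter hg, fun h => ?_⟩
  have := conj_mem_omegaCenter (inv_mem hg) h
  rwa [show g⁻¹ * (g * z * g⁻¹) * g⁻¹⁻¹ = z by group] at this

/-- A subgroup of index `p` in a `p`-group is normal. -/
theorem le_normalizer_of_card [Finite G] {p : ℕ} [hp : Fact p.Prime] {Q P : Subgroup G}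
    (hP : IsPGroup p P) (hle : Q ≤ P) (h : Nat.card P = p * Nat.card Q) :
    P ≤ normalizer (Q : Set G) := by
  refine (normal_subgroupOf_iff_le_normalizer hle).1 (normal_of_index_eq_minFac_card ?_)
  have h1 := card_mul_index (Q.subgroupOf P)
  rw [Nat.card_congr (subgroupOfEquivOfLe hle).toEquiv, h, mul_comm p] at h1
  obtain ⟨j, hj⟩ := hP.exists_card_eq
  rw [mul_left_cancel₀ Nat.card_pos.ne' h1, hj]
  rcases j with - | j
  · exfalso
    rw [pow_zero, h] at hj
    exact hp.out.one_lt.ne' (Nat.eq_one_of_mul_eq_one_right hj)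
  · rw [hp.out.pow_minFac (Nat.succ_ne_zero j)]

/-- Two involutions with product of odd order are conjugate by a power of the product. -/
theorem conj_of_odd_prod {i j : G} (hi : i * i = 1) (hj : j * j = 1) (ho : Odd (orderOf (i * j))) :
    ∃ k ∈ zpowers (i * j), k * i * k⁻¹ = j := by
  obtain ⟨l, hl⟩ := ho
  have hij : i⁻¹ = i := inv_eq_of_mul_eq_one_right hi
  have hinv : i * (i * j) * i⁻¹ = (i * j)⁻¹ := by
    rw [hij, mul_inv_rev, hij, inv_eq_of_mul_eq_one_right hj, ← mul_assoc i i, hi, one_mul]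
  refine ⟨(i * j) ^ l, pow_mem (mem_zpowers _) l, ?_⟩
  have h1 : (i * j) ^ l * i = i * ((i * j) ^ l)⁻¹ := by
    have h := conj_pow (i := l) (a := i) (b := i * j)
    rw [hinv, inv_pow] at h
    rw [h]
    conv_rhs => rw [hij, ← mul_assoc, ← mul_assoc, hi, one_mul]
  have h2 : ((i * j) ^ l * (i * j) ^ l)⁻¹ = i * j := by
    rw [← pow_add, inv_eq_iff_mul_eq_one, ← pow_succ]
    rw [show l + l + 1 = orderOf (i * j) by omega, pow_orderOf_eq_one]
  rw [h1, mul_assoc, ← mul_inv_rev, h2, ← mul_assoc, hi, one_mul]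

end CfsgLib.ReeType
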