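import Cfsg.Agent.Lib.Ree.PSLKit

/-!
# Groups of Ree type: elements and subgroups of the centralizer of an involution

`Setup G q m n` holds an involution `t` of odd-index centralizer `⟨t⟩ × K`, `K` like
`PSL(2, q)`, and says that all involutions are conjugate.
-/

set_option autoImplicit false
set_option linter.unusedSectionVars false

namespace CfsgLib.ReeType

open Subgroup

universe u

/-- A group with Sylow `2`-subgroups of order two has a subgroup of index two with all elements of
odd order. -/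
theorem exists_odd_part {G : Type*} [Group G] [Finite G] (H : Subgroup G) (h2 : 2 ∣ Nat.card H)
    (h4 : ¬ 4 ∣ Nat.card H) :
    ∃ O : Subgroup G, O ≤ H ∧ H ≤ normalizer (O : Set G) ∧ Odd (Nat.card O) ∧
      Nat.card H = 2 * Nat.card O ∧ ∀ x ∈ H, Odd (orderOf x) → x ∈ O := by
  haveI : Fact (Nat.Prime 2) := ⟨Nat.prime_two⟩
  obtain ⟨P⟩ : Nonempty (Sylow 2 H) := inferInstance
  have hP : Nat.card (P : Subgroup H) = 2 := by
    have hdvd : 2 ∣ Nat.card (P : Subgroup H) := P.dvd_card_of_dvd_card h2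
    obtain ⟨j, hj⟩ := P.2.exists_card_eq
    rcases j with - | - | j
    · rw [hj] at hdvd; norm_num at hdvd
    · simpa using hj
    · exfalso
      refine h4 (dvd_trans ?_ (card_subgroup_dvd_card (P : Subgroup H)))
      rw [hj, pow_succ, pow_succ, mul_assoc]
      exact dvd_mul_left 4 _
  haveI : Subsingleton (MulAut (P : Subgroup H)) := by
    refine ⟨fun f g => MulEquiv.ext fun x => ?_⟩
    obtain ⟨a, b, hab, huniv⟩ := Nat.card_eq_two_iff.1 hP
    have hcases : ∀ y : (P : Subgroup H), y = a ∨ y = b := fun y => by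
      have := (Set.ext_iff.1 huniv y).2 trivial
      simpa using this
    by_cases hx : x = 1
    · rw [hx, map_one, map_one]
    · have hf : f x ≠ 1 := fun e => hx (f.injective (e.trans (map_one f).symm))
      have hg : g x ≠ 1 := fun e => hx (g.injective (e.trans (map_one g).symm))
      rcases hcases 1 with h1 | h1 <;> rcases hcases (f x) with h2 | h2 <;>
        rcases hcases (g x) with h3 | h3 <;> simp_all
  obtain ⟨P', N, hN, hc⟩ := Fusion.hasNormalPComplement_of_normalizer_le_centralizer P (by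
    intro x hx
    rw [mem_centralizer_iff]
    intro y hy
    have h1 := DFunLike.congr_fun
      (Subsingleton.elim ((P : Subgroup H).normalizerMonoidHom ⟨x, hx⟩) 1) ⟨y, hy⟩
    have h2 : x * y * x⁻¹ = y := congrArg Subtype.val h1
    exact (mul_inv_eq_iff_eq_mul.1 h2).symm)
  haveI := hN
  have hidx : N.index = 2 := by
    rw [hc.symm.index_eq_card, P'.card_eq_multiplicity, ← P.card_eq_multiplicity, hP]
  have hcard := card_mul_index N
  rw [hidx] at hcard
  have hodd : Odd (Nat.card N) := by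
    rw [← Nat.not_even_iff_odd, even_iff_two_dvd]
    rintro ⟨c, hc'⟩
    exact h4 ⟨c, by rw [← hcard, hc']; ring⟩
  refine ⟨N.map H.subtype, map_subtype_le _, ?_, ?_, ?_, ?_⟩
  · intro x hx
    rw [mem_normalizer_iff]
    intro y
    constructor
    · rintro ⟨z, hz, rfl⟩
      exact ⟨⟨x, hx⟩ * z * ⟨x, hx⟩⁻¹, hN.conj_mem z hz _, rfl⟩
    · rintro ⟨z, hz, he⟩
      refine ⟨⟨x, hx⟩⁻¹ * z * ⟨x, hx⟩, hN.conj_mem' z hz _, ?_⟩
      rw [Subgroup.coe_subtype] at he ⊢
      push_cast
      rw [he]; group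
  · rwa [card_map_of_injective H.subtype_injective]
  · rw [card_map_of_injective H.subtype_injective, ← hcard, mul_comm]
  · intro x hx ho
    refine ⟨⟨x, hx⟩, ?_, rfl⟩
    obtain ⟨j, hj⟩ := ho
    have h1 : (⟨x, hx⟩ : H) ^ 2 ∈ N := by
      rw [pow_two]; exact mul_self_mem_of_index_two hidx _
    have h3 : ((⟨x, hx⟩ : H) ^ 2) ^ (j + 1) = ⟨x, hx⟩ := by
      apply Subtype.ext
      push_cast
      rw [← pow_mul, show 2 * (j + 1) = orderOf x + 1 by omega, pow_succ, pow_orderOf_eq_one, one_mul]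
    exact h3 ▸ pow_mem h1 _

/-- Transport of the kit. -/
theorem Kit.of_mulEquiv {K K' : Type*} [Group K] [Group K'] [Finite K] {q m n : ℕ}
    (h : Kit K q m n) (e : K ≃* K') : Kit K' q m n := by
  haveI : Finite K' := Finite.of_equiv K e.toEquiv
  refine ⟨{ h.data with
      card := (Nat.card_congr e.toEquiv).symm.trans h.data.card
      orders := fun g => by
        simpa only [MulEquiv.orderOf_eq] using h.data.orders (e.symm g)
      exE := h.data.exE.imp' e fun _ hu => (MulEquiv.orderOf_eq e _).trans hu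
      exO := h.data.exO.imp' e fun _ hu => (MulEquiv.orderOf_eq e _).trans hu },
    fun x y hx hy => ?_, fun P a ha b hb => ?_, h.q_pow, h.hm, h.hn⟩
  · simpa using e.toMonoidHom.map_isConj
      (h.conj (e.symm x) (e.symm y) (by rwa [MulEquiv.orderOf_eq]) (by rwa [MulEquiv.orderOf_eq]))
  · have h1 := h.comm (P.comapOfInjective e.toMonoidHom e.injective
      (fun z _ => e.surjective z)) (e.symm a) (by simpa using ha) (e.symm b) (by simpa using hb)
    exact e.symm.injective (by rwa [map_mul, map_mul])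

/-- An involution with centralizer of odd index `⟨t⟩ × K`, `K` like `PSL(2, q)`, in a group with one
class of involutions. -/
structure Setup (G : Type u) [Group G] (q m n : ℕ) where
  t : G
  K : Subgroup G
  kit : Kit K q m n
  order_t : orderOf t = 2
  comm_t : ∀ c ∈ K, Commute c t
  mem_or : ∀ c : G, Commute c t → c ∈ K ∨ t * c ∈ K
  not_mem : t ∉ K
  odd_index : Odd (centralizer ({t} : Set G)).index
  conj : ∀ x : G, orderOf x = 2 → IsConj t x

namespace Setup

variable {G : Type u} [Group G] [Finite G] {q m n : ℕ} (T : Setup G q m n)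

include T in
theorem exists_setup {s : G} (hs : orderOf s = 2) : ∃ T' : Setup G q m n, T'.t = s := by
  obtain ⟨g, hg⟩ := isConj_iff.1 (T.conj s hs)
  have hmap : (centralizer ({T.t} : Set G)).map (MulAut.conj g).toMonoidHom =
      centralizer ({s} : Set G) := by
    ext x
    obtain ⟨y, rfl⟩ := (MulAut.conj g).surjective x
    show (MulAut.conj g).toMonoidHom y ∈ _ ↔ _
    rw [mem_map_iff_mem (MulAut.conj g).injective]
    show y ∈ centralizer ({T.t} : Set G) ↔ MulAut.conj g y ∈ centralizer ({s} : Set G)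
    rw [mem_centralizer_singleton_iff, mem_centralizer_singleton_iff, ← hg, ← MulAut.conj_apply g T.t,
      ← map_mul, ← map_mul, (MulAut.conj g).injective.eq_iff]
  refine ⟨
    { t := s
      K := T.K.map (MulAut.conj g).toMonoidHom
      kit := T.kit.of_mulEquiv (T.K.equivMapOfInjective _ (MulAut.conj g).injective)
      order_t := hs
      comm_t := ?_
      mem_or := ?_
      not_mem := ?_
      odd_index := ?_
      conj := fun x hx => (T.conj s hs).symm.trans (T.conj x hx) }, rfl⟩
  · rintro _ ⟨y, hy, rfl⟩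
    rw [← hg, ← MulAut.conj_apply]
    exact (T.comm_t y hy).map (MulAut.conj g)
  · intro c hc
    obtain ⟨y, rfl⟩ := (MulAut.conj g).surjective c
    have hy : Commute y T.t := by
      rw [← hg, ← MulAut.conj_apply] at hc
      show y * T.t = T.t * y
      exact (MulAut.conj g).injective (by rw [map_mul, map_mul]; exact hc.eq)
    rcases T.mem_or y hy with h | h
    · exact Or.inl ⟨y, h, rfl⟩
    · refine Or.inr ⟨_, h, ?_⟩
      rw [MulEquiv.toMonoidHom_eq_coe, MonoidHom.coe_coe, map_mul, MulAut.conj_apply g T.t, hg]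
  · intro hm'
    rw [← hg, ← MulAut.conj_apply] at hm'
    exact T.not_mem ((mem_map_iff_mem (MulAut.conj g).injective).1 hm')
  · rw [← hmap, MulEquiv.toMonoidHom_eq_coe, index_map_equiv]
    exact T.odd_index

theorem t_sq : T.t * T.t = 1 := Invol.invol_mul_self T.order_t

theorem mem_K_of_odd {c : G} (hc : Commute c T.t) (ho : Odd (orderOf c)) : c ∈ T.K := by
  rcases T.mem_or c hc with h | h
  · exact h
  · exfalso
    obtain ⟨j, hj⟩ := ho
    refine T.not_mem ?_
    have h1 : (T.t * c) ^ orderOf c = T.t := by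
      rw [hc.symm.mul_pow, pow_orderOf_eq_one, mul_one, hj, pow_succ, pow_mul, pow_two, T.t_sq,
        one_pow, one_mul]
    exact h1 ▸ pow_mem h _

/-- Every element commuting with `t` is an element of `K`, possibly times `t`. -/
theorem exists_split {c : G} (hc : Commute c T.t) : ∃ x : T.K, c = x ∨ c = T.t * x := by
  rcases T.mem_or c hc with h | h
  · exact ⟨⟨c, h⟩, Or.inl rfl⟩
  · exact ⟨⟨_, h⟩, Or.inr (by rw [← mul_assoc, T.t_sq, one_mul])⟩

/-- Counting a centralizer in `C(t)`. -/
theorem card_cent_inf (x : T.K) :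
    Nat.card ↥(centralizer ({T.t} : Set G) ⊓ centralizer ({(x : G)} : Set G)) =
      2 * Nat.card (centralizer ({x} : Set T.K)) := by
  classical
  set H := centralizer ({T.t} : Set G) ⊓ centralizer ({(x : G)} : Set G)
  set C := centralizer ({x} : Set T.K)
  let f : Bool × C → H := fun p => ⟨(if p.1 then T.t else 1) * ((p.2 : T.K) : G), by
    have h1 : Commute ((p.2 : T.K) : G) T.t := T.comm_t _ (p.2 : T.K).2
    have h2 : Commute ((p.2 : T.K) : G) x :=
      congrArg Subtype.val (mem_centralizer_singleton_iff.1 p.2.2)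
    have h3 : Commute T.t (x : G) := (T.comm_t _ x.2).symm
    rw [mem_inf, mem_centralizer_singleton_iff, mem_centralizer_singleton_iff]
    cases p.1
    · simp only [Bool.false_eq_true, if_false, one_mul]
      exact ⟨h1.eq, h2.eq⟩
    · simp only [if_true]
      exact ⟨((Commute.refl T.t).mul_left h1).eq, (h3.mul_left h2).eq⟩⟩
  have hf : Function.Bijective f := by
    constructor
    · rintro ⟨a, k⟩ ⟨b, l⟩ e
      have e' : (if a then T.t else 1) * ((k : T.K) : G) = (if b then T.t else 1) * ((l : T.K) : G) :=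
        congrArg Subtype.val e
      cases a <;> cases b
      · simp only [Bool.false_eq_true, if_false, one_mul] at e'
        exact Prod.ext rfl (Subtype.ext (Subtype.ext e'))
      · simp only [Bool.false_eq_true, if_false, if_true, one_mul] at e'
        exact absurd (eq_mul_inv_of_mul_eq e'.symm ▸ mul_mem (k : T.K).2 (inv_mem (l : T.K).2))
          T.not_mem
      · simp only [Bool.false_eq_true, if_false, if_true, one_mul] at e'
        exact absurd (eq_mul_inv_of_mul_eq e' ▸ mul_mem (l : T.K).2 (inv_mem (k : T.K).2)) T.not_mem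
      · exact Prod.ext rfl (Subtype.ext (Subtype.ext (mul_left_cancel e')))
    · rintro ⟨c, hc⟩
      rw [mem_inf, mem_centralizer_singleton_iff, mem_centralizer_singleton_iff] at hc
      obtain ⟨hct, hcx⟩ := hc
      obtain ⟨y, hy⟩ := T.exists_split hct
      have hyx : Commute (y : G) x := by
        rcases hy with rfl | rfl
        · exact hcx
        · have h1 := ((T.comm_t _ x.2).symm : Commute T.t (x : G)).mul_left (show Commute (T.t * y) (x : G) from hcx)
          rwa [← mul_assoc, T.t_sq, one_mul] at h1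
      have hyC : y ∈ C := mem_centralizer_singleton_iff.2 (Subtype.ext hyx.eq)
      rcases hy with rfl | rfl
      · exact ⟨(false, ⟨y, hyC⟩), Subtype.ext (by simp [f])⟩
      · exact ⟨(true, ⟨y, hyC⟩), Subtype.ext (by simp [f])⟩
  rw [← Nat.card_congr (Equiv.ofBijective f hf), Nat.card_prod, Nat.card_eq_fintype_card,
    Fintype.card_bool]

theorem card_C : Nat.card (centralizer ({T.t} : Set G)) = 2 * (q * n * (4 * m)) := by
  have h := T.card_cent_inf 1
  have h1 : centralizer ({((1 : T.K) : G)} : Set G) = ⊤ := by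
    rw [eq_top_iff]; intro a _; simp [mem_centralizer_singleton_iff]
  have h2 : centralizer ({(1 : T.K)} : Set T.K) = ⊤ := by
    rw [eq_top_iff]; intro a _; simp [mem_centralizer_singleton_iff]
  rwa [h1, inf_top_eq, h2, card_top, T.kit.card] at h

/-! ### `2`-subgroups -/

theorem sq_of_two {g : G} (hg : Commute g T.t) {j : ℕ} (hj : g ^ 2 ^ j = 1) : g ^ 2 = 1 := by
  obtain ⟨x, hx⟩ := T.exists_split hg
  have hxt : Commute T.t (x : G) := (T.comm_t _ x.2).symm
  have hx2 : (x : G) ^ 2 ^ (j + 1) = 1 := by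
    rcases hx with rfl | rfl
    · rw [pow_succ, pow_mul, hj, one_pow]
    · rw [hxt.mul_pow] at hj
      rw [pow_succ, pow_mul]
      have h1 : T.t ^ 2 ^ j * T.t ^ 2 ^ j = 1 := by rw [← mul_pow', T.t_sq, one_pow]
      calc ((x : G) ^ 2 ^ j) ^ 2
          = T.t ^ 2 ^ j * T.t ^ 2 ^ j * ((x : G) ^ 2 ^ j) ^ 2 := by rw [h1, one_mul]
        _ = (T.t ^ 2 ^ j * (x : G) ^ 2 ^ j) ^ 2 := by
            rw [(hxt.pow_pow _ _).mul_pow, pow_two (T.t ^ _)]
        _ = 1 := by rw [hj, one_pow]
  have hd : orderOf x ∣ 2 ^ (j + 1) :=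
    orderOf_dvd_of_pow_eq_one (Subtype.ext (by push_cast; exact hx2))
  have hx1 : (x : G) ^ 2 = 1 := by
    have h' : orderOf x ∣ 2 := by
      rcases T.kit.data.orders x with ho | ho | ho
      · rw [Nat.eq_one_of_dvd_coprimes (Nat.Coprime.pow_left _ (by norm_num)) hd ho]
        exact one_dvd _
      · exact ((Nat.Coprime.pow_left _ (Nat.coprime_two_left.2 T.kit.m_odd)).coprime_dvd_left
          hd).dvd_of_dvd_mul_right ho
      · rw [Nat.eq_one_of_dvd_coprimes
          (Nat.Coprime.pow_left _ (Nat.coprime_two_left.2 T.kit.data.mo_odd)) hd ho]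
        exact one_dvd _
    exact congrArg Subtype.val (orderOf_dvd_iff_pow_eq_one.1 h')
  rcases hx with rfl | rfl
  · exact hx1
  · rw [hxt.mul_pow, hx1, mul_one, pow_two, T.t_sq]
where
  mul_pow' {a : G} {k : ℕ} : (a * a) ^ k = a ^ k * a ^ k := (Commute.refl a).mul_pow k

theorem exists_conj_commute {H : Subgroup G} (hH : IsPGroup 2 H) :
    ∃ x : G, ∀ h ∈ H, Commute (x * h * x⁻¹) T.t := by
  haveI : Fact (Nat.Prime 2) := ⟨Nat.prime_two⟩
  set C := centralizer ({T.t} : Set G)
  obtain ⟨S⟩ : Nonempty (Sylow 2 C) := inferInstance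
  have hS : Nat.card ((S : Subgroup C).map C.subtype) = 2 ^ (Nat.card G).factorization 2 := by
    have hodd : ¬ 2 ∣ C.index := fun h =>
      Nat.not_even_iff_odd.2 T.odd_index (even_iff_two_dvd.2 h)
    rw [card_map_of_injective C.subtype_injective, S.card_eq_multiplicity, ← card_mul_index C,
      Nat.factorization_mul Nat.card_pos.ne' index_ne_zero_of_finite, Finsupp.add_apply,
      Nat.factorization_eq_zero_of_not_dvd hodd, add_zero]
  obtain ⟨P, hP⟩ := hH.exists_le_sylow
  obtain ⟨x, hx⟩ := MulAction.exists_smul_eq G P (Sylow.ofCard _ hS)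
  refine ⟨x, fun h hh => ?_⟩
  have h1 : x * h * x⁻¹ ∈ ((Sylow.ofCard _ hS : Sylow 2 G) : Subgroup G) := by
    rw [← hx, Sylow.coe_subgroup_smul]
    exact mem_map_of_mem _ (hP hh)
  rw [Sylow.coe_ofCard] at h1
  exact mem_centralizer_singleton_iff.1 (map_subtype_le _ h1)

include T in
theorem sq_of_isPGroup {H : Subgroup G} (hH : IsPGroup 2 H) {h : G} (hh : h ∈ H) : h ^ 2 = 1 := by
  obtain ⟨x, hx⟩ := T.exists_conj_commute hH
  obtain ⟨j, hj⟩ := hH ⟨h, hh⟩
  have h1 := T.sq_of_two (hx h hh) (j := j) (by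
    rw [conj_pow, show h ^ 2 ^ j = 1 from congrArg Subtype.val hj, mul_one, mul_inv_cancel])
  rwa [conj_pow, conj_eq_one_iff] at h1

include T in
theorem comm_of_isPGroup {H : Subgroup G} (hH : IsPGroup 2 H) {a b : G} (ha : a ∈ H) (hb : b ∈ H) :
    Commute a b := by
  have e : ∀ {y : G}, y ∈ H → y⁻¹ = y := fun hy =>
    inv_eq_of_mul_eq_one_right (by rw [← pow_two]; exact T.sq_of_isPGroup hH hy)
  show a * b = b * a
  calc a * b = (a * b)⁻¹ := (e (mul_mem ha hb)).symm
    _ = b⁻¹ * a⁻¹ := mul_inv_rev _ _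
    _ = b * a := by rw [e ha, e hb]

include T in
theorem not_four_dvd (g : G) : ¬ 4 ∣ orderOf g := by
  intro h
  set y := g ^ (orderOf g / 4)
  have hy : orderOf y = 4 := orderOf_pow_orderOf_div (orderOf_pos g).ne' h
  haveI : Fact (Nat.Prime 2) := ⟨Nat.prime_two⟩
  have h1 := T.sq_of_isPGroup (IsPGroup.of_card (G := zpowers y) (p := 2) (n := 2)
    (by rw [Nat.card_zpowers, hy]; norm_num)) (mem_zpowers y)
  have := orderOf_dvd_of_pow_eq_one h1
  rw [hy] at this
  norm_num at this

/-! ### Elements of odd order commuting with `t` -/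

theorem odd_orders {c : G} (hc : Commute c T.t) (ho : Odd (orderOf c)) :
    orderOf c ∣ 3 ∨ orderOf c ∣ m ∨ orderOf c ∣ n := by
  have h := T.kit.odd_orders (g := ⟨c, T.mem_K_of_odd hc ho⟩) (by rwa [Subgroup.orderOf_mk])
  rwa [Subgroup.orderOf_mk] at h

theorem card_inf_three {x : G} (hx : orderOf x = 3) (hxt : Commute x T.t) :
    Nat.card ↥(centralizer ({T.t} : Set G) ⊓ centralizer ({x} : Set G)) = 2 * q := by
  have hxK := T.mem_K_of_odd hxt (by rw [hx]; decide)
  rw [T.card_cent_inf ⟨x, hxK⟩, T.kit.card_cent_three (by rw [Subgroup.orderOf_mk, hx])]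

theorem three_cube {x a : G} (hx : orderOf x = 3) (hxt : Commute x T.t) (hat : Commute a T.t)
    (hax : Commute a x) (ho : Odd (orderOf a)) : a ^ 3 = 1 := by
  have hxK := T.mem_K_of_odd hxt (by rw [hx]; decide)
  have haK := T.mem_K_of_odd hat ho
  exact congrArg Subtype.val (T.kit.cent_three_cube (x := ⟨x, hxK⟩) (a := ⟨a, haK⟩)
    (by rw [Subgroup.orderOf_mk, hx]) (mem_centralizer_singleton_iff.2 (Subtype.ext hax.eq)))

theorem three_comm {x a b : G} (hx : orderOf x = 3) (hxt : Commute x T.t) (hat : Commute a T.t)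
    (hax : Commute a x) (hao : Odd (orderOf a)) (hbt : Commute b T.t) (hbx : Commute b x)
    (hbo : Odd (orderOf b)) : Commute a b := by
  have hxK := T.mem_K_of_odd hxt (by rw [hx]; decide)
  exact congrArg Subtype.val (T.kit.cent_three_comm (x := ⟨x, hxK⟩)
    (by rw [Subgroup.orderOf_mk, hx]) ⟨a, T.mem_K_of_odd hat hao⟩
    (mem_centralizer_singleton_iff.2 (Subtype.ext hax.eq)) ⟨b, T.mem_K_of_odd hbt hbo⟩
    (mem_centralizer_singleton_iff.2 (Subtype.ext hbx.eq)))

theorem not_inverted_aux {x c : G} (hx : orderOf x = 3) (hxt : Commute x T.t) (hct : Commute c T.t) :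
    c * x * c⁻¹ ≠ x⁻¹ := by
  intro h
  have hxK := T.mem_K_of_odd hxt (by rw [hx]; decide)
  obtain ⟨y, hy⟩ := T.exists_split hct
  refine T.kit.not_inverted_three (x := ⟨x, hxK⟩) (g := y) (by rw [Subgroup.orderOf_mk, hx]) ?_
  apply Subtype.ext
  push_cast
  rcases hy with rfl | rfl
  · exact h
  · have h1 : T.t⁻¹ * x⁻¹ * T.t = x⁻¹ := by
      rw [mul_assoc, (hxt.inv_left).eq, ← mul_assoc, inv_mul_cancel, one_mul]
    calc (y : G) * x * (y : G)⁻¹ = T.t⁻¹ * (T.t * y * x * (T.t * y)⁻¹) * T.t := by group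
      _ = x⁻¹ := by rw [h, h1]

/-- The Sylow `2`-subgroups of the centralizer of an element of order three commuting with an
involution have order two. -/
theorem cent_three_two {x : G} (hx : orderOf x = 3) (hxt : Commute x T.t) :
    2 ∣ Nat.card (centralizer ({x} : Set G)) ∧ ¬ 4 ∣ Nat.card (centralizer ({x} : Set G)) := by
  haveI : Fact (Nat.Prime 2) := ⟨Nat.prime_two⟩
  set D := centralizer ({x} : Set G)
  have htD : T.t ∈ D := mem_centralizer_singleton_iff.2 hxt.eq.symm
  refine ⟨T.order_t ▸ Subgroup.orderOf_dvd_natCard D htD, fun h4 => ?_⟩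
  have htp : IsPGroup 2 (zpowers (⟨T.t, htD⟩ : D)) :=
    IsPGroup.of_card (n := 1) (by rw [Nat.card_zpowers, Subgroup.orderOf_mk, T.order_t, pow_one])
  obtain ⟨P, hP⟩ := htp.exists_le_sylow
  set Q := (P : Subgroup D).map D.subtype with hQ
  have hQp : IsPGroup 2 Q := P.2.map _
  have htQ : T.t ∈ Q := ⟨⟨T.t, htD⟩, hP (mem_zpowers _), rfl⟩
  have hle : Q ≤ centralizer ({T.t} : Set G) ⊓ centralizer ({x} : Set G) := fun a ha =>
    mem_inf.2 ⟨mem_centralizer_singleton_iff.2 (T.comm_of_isPGroup hQp ha htQ).eq,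
      map_subtype_le _ ha⟩
  have hc4 : 2 ^ 2 ∣ Nat.card Q := by
    rw [hQ, card_map_of_injective D.subtype_injective, P.card_eq_multiplicity]
    exact pow_dvd_pow _ ((Nat.Prime.pow_dvd_iff_le_factorization Nat.prime_two
      Nat.card_pos.ne').1 (by norm_num; exact h4))
  have h1 := hc4.trans (card_dvd_of_le hle)
  rw [T.card_inf_three hx hxt, pow_two] at h1
  have h2 := Nat.dvd_of_mul_dvd_mul_left two_pos h1
  have := T.kit.hn
  omega

include T in
/-- An element of order three commuting with an involution is not inverted. -/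
theorem not_inverted_three {x g s : G} (hx : orderOf x = 3) (hs : orderOf s = 2)
    (hxs : Commute x s) : g * x * g⁻¹ ≠ x⁻¹ := by
  obtain ⟨T, rfl⟩ := T.exists_setup hs
  intro h
  haveI : Fact (Nat.Prime 2) := ⟨Nat.prime_two⟩
  set D := centralizer ({x} : Set G) with hD
  obtain ⟨h2, h4⟩ := T.cent_three_two hx hxs
  have hcard : ∀ P : Sylow 2 D, Nat.card (P : Subgroup D) = 2 := by
    intro P
    have hdvd := P.dvd_card_of_dvd_card h2
    obtain ⟨j, hj⟩ := P.2.exists_card_eq
    rcases j with - | - | j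
    · rw [hj] at hdvd; norm_num at hdvd
    · simpa using hj
    · exfalso
      refine h4 (dvd_trans ?_ (card_subgroup_dvd_card (P : Subgroup D)))
      rw [hj, pow_succ, pow_succ, mul_assoc]
      exact dvd_mul_left 4 _
  have hgt : g * T.t * g⁻¹ ∈ D := by
    rw [hD, mem_centralizer_singleton_iff]
    have hc : Commute (g * T.t * g⁻¹) (g * x * g⁻¹) := hxs.symm.map (MulAut.conj g)
    rw [h] at hc
    exact (Commute.inv_right_iff.1 hc).eq
  have htD : T.t ∈ D := mem_centralizer_singleton_iff.2 hxs.eq.symm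
  have hpg : ∀ (a : D), orderOf a = 2 → IsPGroup 2 (zpowers a) := fun a ha =>
    IsPGroup.of_card (n := 1) (by rw [Nat.card_zpowers, ha, pow_one])
  have hto : orderOf (⟨T.t, htD⟩ : D) = 2 := by rw [Subgroup.orderOf_mk, T.order_t]
  have hgto : orderOf (⟨_, hgt⟩ : D) = 2 := by
    rw [Subgroup.orderOf_mk, Invol.invol_conj T.order_t]
  obtain ⟨P, hP⟩ := (hpg _ hto).exists_le_sylow
  obtain ⟨P', hP'⟩ := (hpg _ hgto).exists_le_sylow
  obtain ⟨d, hd⟩ := MulAction.exists_smul_eq D P' P
  have hPeq : (P : Subgroup D) = zpowers ⟨T.t, htD⟩ := (eq_of_le_of_card_ge hP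
    (by rw [hcard, Nat.card_zpowers, hto])).symm
  have hmem : d * ⟨_, hgt⟩ * d⁻¹ ∈ zpowers (⟨T.t, htD⟩ : D) := by
    rw [← hPeq, ← hd, Sylow.coe_subgroup_smul]
    exact mem_map_of_mem _ (hP' (mem_zpowers _))
  have heq : d * ⟨_, hgt⟩ * d⁻¹ = (⟨T.t, htD⟩ : D) := by
    obtain ⟨i, hi⟩ := mem_zpowers_iff.1 hmem
    rcases Int.even_or_odd i with ⟨l, rfl⟩ | ⟨l, rfl⟩
    · exfalso
      rw [← two_mul, zpow_mul, zpow_two, ← pow_two, ← hto, pow_orderOf_eq_one, one_zpow] at hi
      have := conj_eq_one_iff.1 hi.symm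
      rw [this, orderOf_one] at hgto
      norm_num at hgto
    · rw [← hi, zpow_add, zpow_mul, zpow_two, ← pow_two, ← hto, pow_orderOf_eq_one, one_zpow,
        one_mul, zpow_one]
  have heqG : (d : G) * (g * T.t * g⁻¹) * (d : G)⁻¹ = T.t := congrArg Subtype.val heq
  refine T.not_inverted_aux hx hxs (c := (d : G) * g) ?_ ?_
  · show (d : G) * g * T.t = T.t * ((d : G) * g)
    conv_rhs => rw [← heqG]
    group
  · have hdx : (d : G) * x⁻¹ * (d : G)⁻¹ = x⁻¹ := by
      rw [(show Commute (d : G) x from mem_centralizer_singleton_iff.1 d.2).inv_right.eq,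
        mul_inv_cancel_right]
    calc (d : G) * g * x * ((d : G) * g)⁻¹ = d * (g * x * g⁻¹) * (d : G)⁻¹ := by group
      _ = x⁻¹ := by rw [h, hdx]

/-- The odd part of the centralizer of an element of order three commuting with `t`. -/
theorem exists_oddPart {x : G} (hx : orderOf x = 3) (hxt : Commute x T.t) :
    ∃ O : Subgroup G, O ≤ centralizer ({x} : Set G) ∧
      centralizer ({x} : Set G) ≤ normalizer (O : Set G) ∧ Odd (Nat.card O) ∧
      (∀ a : G, Commute a x → Odd (orderOf a) → a ∈ O) ∧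
      ∀ a ∈ O, Commute a T.t → a ^ 3 = 1 := by
  obtain ⟨h2, h4⟩ := T.cent_three_two hx hxt
  obtain ⟨O, h1, hn, hodd, -, hmem⟩ := exists_odd_part _ h2 h4
  refine ⟨O, h1, hn, hodd, fun a ha hao => hmem a (mem_centralizer_singleton_iff.2 ha.eq) hao,
    fun a ha hat => ?_⟩
  exact T.three_cube hx hxt hat (mem_centralizer_singleton_iff.1 (h1 ha))
    (hodd.of_dvd_nat (Subgroup.orderOf_dvd_natCard O ha))

end Setup

end CfsgLib.ReeType
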