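import Mathlib

/-!
# The arithmetic at the end of the order formula for groups of Ree type

`q = 3^(2k+1)`, `m = (q+1)/4`, `n = (q-1)/2`, `I` the number of involutions, `d` the signed degree
of the character with value `q` at an involution.
-/

set_option autoImplicit false

namespace CfsgLib.ReeType

theorem q_odd (k : ℕ) : Odd ((3 : ℤ) ^ (2 * k + 1)) := Odd.pow (by decide)

theorem q_ge {k : ℕ} (hk : 1 ≤ k) : (27 : ℤ) ≤ (3 : ℤ) ^ (2 * k + 1) :=
  le_trans (by norm_num) (pow_le_pow_right₀ (by norm_num) (by omega : 3 ≤ 2 * k + 1))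

theorem three_prime : Prime (3 : ℤ) := Int.prime_three

/-- An integer whose square divides `3^j d`, with the common prime divisors of itself and `d`
dividing three, is a signed power of three. -/
theorem exists_three_pow {l d : ℤ} {j : ℕ} (hl : l ≠ 0) (h : l ^ 2 ∣ (3 : ℤ) ^ j * d)
    (hd : ∀ p : ℤ, Prime p → p ∣ l → p ∣ d → p ∣ 3) :
    ∃ i : ℕ, l = 3 ^ i ∨ l = -3 ^ i := by
  have hall : ∀ {p : ℕ}, p.Prime → p ∣ l.natAbs → p = 3 := by
    intro p hp hpl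
    have hpi : Prime (p : ℤ) := Nat.prime_iff_prime_int.1 hp
    have hpl' : (p : ℤ) ∣ l := Int.natCast_dvd.2 hpl
    have h1 : (p : ℤ) ∣ 3 ^ j * d := (dvd_pow hpl' two_ne_zero).trans h
    have h3 : (p : ℤ) ∣ 3 := by
      rcases hpi.dvd_mul.1 h1 with h2 | h2
      · exact hpi.dvd_of_dvd_pow h2
      · exact hd _ hpi hpl' h2
    have : p ∣ 3 := by exact_mod_cast h3
    exact (Nat.prime_dvd_prime_iff_eq hp Nat.prime_three).1 this
  have hpow := Nat.eq_prime_pow_of_unique_prime_dvd (Int.natAbs_ne_zero.2 hl) hall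
  refine ⟨l.natAbs.primeFactorsList.length, ?_⟩
  have hcast : ((l.natAbs : ℕ) : ℤ) = 3 ^ l.natAbs.primeFactorsList.length := by
    conv_lhs => rw [hpow]
    push_cast
    rfl
  rcases Int.natAbs_eq l with e | e
  · exact Or.inl (e.trans hcast)
  · exact Or.inr (e.trans (congrArg Neg.neg hcast))

theorem pow_dvd_cancel_left {a b : ℕ} (hab : a ≤ b) {x : ℤ} (h : (3 : ℤ) ^ b ∣ 3 ^ a * x) :
    (3 : ℤ) ^ (b - a) ∣ x := by
  rw [← Nat.add_sub_cancel' hab, pow_add] at h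
  exact (mul_dvd_mul_iff_left (pow_ne_zero _ (by norm_num : (3 : ℤ) ≠ 0))).1 h

/-- A divisor of a positive number is small. -/
theorem abs_le_of_dvd_pos {e n : ℤ} (hn : 0 < n) (h : e ∣ n) : -n ≤ e ∧ e ≤ n := by
  have h1 := Int.le_of_dvd hn h
  have h2 := Int.le_of_dvd hn ((neg_dvd).2 h)
  omega

variable {k : ℕ} {q m n : ℤ}

theorem not_three_dvd_n (hk : 1 ≤ k) (hq : q = (3 : ℤ) ^ (2 * k + 1)) (hn : q - 1 = 2 * n) :
    ¬ (3 : ℤ) ∣ n := by
  intro h
  have h1 : (3 : ℤ) ∣ q := hq ▸ dvd_pow_self 3 (by omega)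
  omega

/-- The case of a multiple of three: `l = q n`. -/
theorem eq_of_pow_pos (hk : 1 ≤ k) (hq : q = (3 : ℤ) ^ (2 * k + 1)) (hm : q + 1 = 4 * m)
    (hn : q - 1 = 2 * n) {e d : ℤ} {i : ℕ} (hi : 1 ≤ i) (he : e ∣ n)
    (hd : d = q + 8 * m * (3 ^ i * e)) (hdiv : (3 : ℤ) ^ (2 * k + 2 * i) ∣ d) :
    3 ^ i * e = q * n := by
  have hq27 := hq ▸ q_ge hk
  have hn0 : 0 < n := by omega
  obtain ⟨he1, he2⟩ := abs_le_of_dvd_pos hn0 he
  have h3m : ¬ (3 : ℤ) ∣ 8 * m := by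
    intro h
    have h1 : (3 : ℤ) ∣ q := hq ▸ dvd_pow_self 3 (by omega)
    omega
  have h3e : ¬ (3 : ℤ) ∣ e := fun h => not_three_dvd_n hk hq hn (h.trans he)
  have h3me : ¬ (3 : ℤ) ∣ 8 * m * e := fun h =>
    (three_prime.dvd_mul.1 h).elim h3m h3e
  rcases lt_trichotomy i (2 * k + 1) with hlt | rfl | hgt
  · exfalso
    have e1 : d = 3 ^ i * (3 ^ (2 * k + 1 - i) + 8 * m * e) := by
      rw [mul_add, ← pow_add, Nat.add_sub_cancel' hlt.le, hd, hq]
      ring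
    rw [e1] at hdiv
    have h2 := pow_dvd_cancel_left (by omega) hdiv
    have h4 : (3 : ℤ) ∣ 3 ^ (2 * k + 1 - i) + 8 * m * e := (dvd_pow_self 3 (by omega)).trans h2
    exact h3me ((Int.dvd_add_right (dvd_pow_self 3 (by omega))).1 h4)
  · have e1 : d = 3 ^ (2 * k + 1) * (1 + 8 * m * e) := by rw [hd, hq]; ring
    rw [e1] at hdiv
    have h2 := pow_dvd_cancel_left (by omega) hdiv
    rw [show 2 * k + 2 * (2 * k + 1) - (2 * k + 1) = 4 * k + 1 by omega] at h2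
    obtain ⟨c, hc⟩ := h2
    have hq2 : q * q = 3 * 3 ^ (4 * k + 1) := by rw [hq]; ring
    have hc3 : 3 * (1 + 8 * m * e) = c * (q * q) := by rw [hc, hq2]; ring
    have hb1 : 8 * m * e ≤ 8 * m * n := by nlinarith
    have hb2 : -(8 * m * n) ≤ 8 * m * e := by nlinarith
    have hmn : 8 * m * n = q * q - 1 := by
      have : (4 * m) * (2 * n) = (q + 1) * (q - 1) := by rw [hm, hn]
      linarith
    have hc1 : c ≤ 3 := by nlinarith
    have hc2 : -4 < c := by nlinarith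
    have hmod : 4 * m ∣ c - 3 := by
      refine ⟨6 * e - c * (q - 1), ?_⟩
      linear_combination (-1 : ℤ) * hc3 + (-(c * (q - 1))) * hm
    have hc4 : c = 3 := by
      by_contra hne
      have := Int.le_of_dvd (by omega) ((dvd_neg).2 hmod)
      omega
    subst hc4
    have he3 : 8 * m * e = 8 * m * n := by linarith
    rw [mul_left_cancel₀ (by omega : (8 : ℤ) * m ≠ 0) he3, hq]
  · exfalso
    have e1 : d = 3 ^ (2 * k + 1) * (1 + 3 ^ (i - (2 * k + 1)) * (8 * m * e)) := by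
      rw [mul_add, ← mul_assoc, ← pow_add, Nat.add_sub_cancel' hgt.le, hd, hq]
      ring
    rw [e1] at hdiv
    have h2 := pow_dvd_cancel_left (by omega) hdiv
    have h4 : (3 : ℤ) ∣ 1 + 3 ^ (i - (2 * k + 1)) * (8 * m * e) :=
      (dvd_pow_self 3 (by omega)).trans h2
    have h5 := (Int.dvd_add_left (dvd_mul_of_dvd_left (dvd_pow_self 3 (by omega)) _)).1 h4
    omega

/-- The case prime to three: `l = n`. -/
theorem eq_of_pow_zero (hk : 1 ≤ k) (hq : q = (3 : ℤ) ^ (2 * k + 1))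
    (hn : q - 1 = 2 * n) {e : ℤ} (he : e ∣ n) (hdiv : (3 : ℤ) ^ (2 * k) ∣ 1 + 2 * e) : e = n := by
  have hq27 := hq ▸ q_ge hk
  have hn0 : 0 < n := by omega
  obtain ⟨he1, he2⟩ := abs_le_of_dvd_pos hn0 he
  obtain ⟨c, hc⟩ := hdiv
  set a : ℤ := 3 ^ (2 * k) with ha
  have hqa : q = 3 * a := by rw [hq, ha]; ring
  have hc1 : c ≤ 3 := by nlinarith
  have hc2 : -3 < c := by nlinarith
  have hc0 : ¬ (2 : ℤ) ∣ c := fun ⟨w, hw⟩ => by
    have : 1 + 2 * e = 2 * (a * w) := by rw [hc, hw]; ring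
    omega
  have hcases : c = -1 ∨ c = 1 ∨ c = 3 := by omega
  rcases hcases with rfl | rfl | rfl
  · exfalso
    have h1 : a + 1 ∣ 3 * (a + 1) - 4 := by
      obtain ⟨w, hw⟩ := he
      refine ⟨-w, ?_⟩
      linear_combination hn - hqa + (2 : ℤ) * hw + w * hc
    have h2 := Int.le_of_dvd (by norm_num) ((dvd_sub_right (dvd_mul_left _ _)).1 h1)
    omega
  · exfalso
    have h1 : a - 1 ∣ 3 * (a - 1) + 2 := by
      obtain ⟨w, hw⟩ := he
      refine ⟨w, ?_⟩
      linear_combination hn - hqa + (2 : ℤ) * hw + w * hc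
    have h2 := Int.le_of_dvd (by norm_num) ((Int.dvd_add_right (dvd_mul_left _ _)).1 h1)
    omega
  · omega

/-- The two solutions: the wanted one and the one killed by the count modulo a prime of `m`. -/
theorem two_solutions (hk : 1 ≤ k) (hq : q = (3 : ℤ) ^ (2 * k + 1)) (hm : q + 1 = 4 * m)
    (hn : q - 1 = 2 * n) {l d I : ℤ} (hl : l ≠ 0) (hd : d = q + 8 * m * l)
    (hI : (3 : ℤ) ^ (4 * k + 1) ∣ I) (heq : l ^ 2 * I = q * n ^ 2 * d * (1 + 2 * l)) :
    l = q * n ∨ l = n := by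
  have hq27 := hq ▸ q_ge hk
  obtain ⟨g', l1, n1, hgpos, hg, el, en⟩ := Int.exists_gcd_one' (m := l) (n := n)
    (Int.gcd_pos_of_ne_zero_left _ hl)
  have hcop : IsCoprime l1 n1 := Int.isCoprime_iff_gcd_eq_one.2 hg
  set g : ℤ := (g' : ℤ)
  have hg0 : g ≠ 0 := by omega
  have hl10 : l1 ≠ 0 := fun h => hl (by rw [el, h, zero_mul])
  have heq1 : l1 ^ 2 * I = q * n1 ^ 2 * d * (1 + 2 * l) := by
    refine mul_left_cancel₀ (pow_ne_zero 2 hg0) ?_
    calc g ^ 2 * (l1 ^ 2 * I) = l ^ 2 * I := by rw [el]; ring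
      _ = q * n ^ 2 * d * (1 + 2 * l) := heq
      _ = g ^ 2 * (q * n1 ^ 2 * d * (1 + 2 * l)) := by rw [en]; ring
  have hcu : IsCoprime l1 (1 + 2 * l) := ⟨-2 * g, 1, by rw [el]; ring⟩
  have hdvd : l1 ^ 2 ∣ q * d := by
    refine (((hcop.pow_right (n := 2)).mul_right hcu).pow_left (m := 2)).dvd_of_dvd_mul_right
      (Dvd.intro I ?_)
    rw [heq1]; ring
  obtain ⟨i, hi⟩ := exists_three_pow (d := d) (j := 2 * k + 1) hl10 (hq ▸ hdvd) (fun p hp hpl hpd => by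
    have h1 : p ∣ q := (dvd_add_left (dvd_mul_of_dvd_right (el ▸ dvd_mul_of_dvd_left hpl g) _)).1
      (hd ▸ hpd)
    exact hp.dvd_of_dvd_pow (hq ▸ h1))
  obtain ⟨e, he, hle⟩ : ∃ e : ℤ, e ∣ n ∧ l = 3 ^ i * e := by
    rcases hi with h | h
    · exact ⟨g, ⟨n1, by rw [en]; ring⟩, by rw [el, h]⟩
    · exact ⟨-g, ⟨-n1, by rw [en]; ring⟩, by rw [el, h]; ring⟩
  have h3n1 : IsCoprime ((3 : ℤ) ^ (4 * k + 1 + 2 * i)) (n1 ^ 2) :=
    ((three_prime.coprime_iff_not_dvd).2 fun h =>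
      not_three_dvd_n hk hq hn (h.trans ⟨g, en⟩)).pow
  have h3 : (3 : ℤ) ^ (4 * k + 1 + 2 * i) ∣ 3 ^ (2 * k + 1) * (d * (1 + 2 * l)) := by
    have hsq : l1 ^ 2 = 3 ^ (2 * i) := by
      rcases hi with h | h <;> rw [h, pow_mul'] <;> ring
    refine h3n1.dvd_of_dvd_mul_right ?_
    rw [show (3 : ℤ) ^ (2 * k + 1) * (d * (1 + 2 * l)) * n1 ^ 2 = q * n1 ^ 2 * d * (1 + 2 * l) by
      rw [hq]; ring, ← heq1, hsq, mul_comm _ I, pow_add]
    exact mul_dvd_mul hI dvd_rfl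
  have h3' := pow_dvd_cancel_left (by omega) h3
  rw [show 4 * k + 1 + 2 * i - (2 * k + 1) = 2 * k + 2 * i by omega] at h3'
  rcases Nat.eq_zero_or_pos i with rfl | hi0
  · right
    rw [pow_zero, one_mul] at hle
    subst hle
    rw [mul_zero, add_zero] at h3'
    refine eq_of_pow_zero hk hq hn he ?_
    have hcop3 : IsCoprime ((3 : ℤ) ^ (2 * k)) d := ((three_prime.coprime_iff_not_dvd).2 fun h => by
      have h1 : (3 : ℤ) ∣ q := hq ▸ dvd_pow_self 3 (by omega)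
      have h2 : (3 : ℤ) ∣ 8 * m * l := (Int.dvd_add_right h1).1 (hd ▸ h)
      rcases three_prime.dvd_mul.1 h2 with h4 | h4
      · omega
      · exact not_three_dvd_n hk hq hn (h4.trans he)).pow_left
    exact hcop3.dvd_of_dvd_mul_left h3'
  · left
    have hcop3 : IsCoprime ((3 : ℤ) ^ (2 * k + 2 * i)) (1 + 2 * l) :=
      ((three_prime.coprime_iff_not_dvd).2 fun h => by
        have h1 : (3 : ℤ) ∣ 2 * l :=
          dvd_mul_of_dvd_right (hle ▸ dvd_mul_of_dvd_left (dvd_pow_self 3 hi0.ne') _) _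
        have h2 := (Int.dvd_add_left h1).1 h
        omega).pow_left
    rw [hle]
    exact eq_of_pow_pos hk hq hm hn hi0 he (hle ▸ hd) (hcop3.dvd_of_dvd_mul_right h3')

/-- The order of a group of Ree type, in terms of the number of involutions. -/
theorem invol_count (hk : 1 ≤ k) (hq : q = (3 : ℤ) ^ (2 * k + 1)) (hm : q + 1 = 4 * m)
    (hn : q - 1 = 2 * n) {d I : ℤ} (hdq : d ≠ q) (h8 : 8 ∣ d - q)
    (hI : (3 : ℤ) ^ (4 * k + 1) ∣ I) (hmI : ∀ r : ℤ, Prime r → r ∣ m → r ∣ I - 3)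
    (heq : (d - q) ^ 2 * I = q * (q ^ 2 - 1) * (q - 1) * (d * (d + 1))) :
    I = q ^ 2 * (q ^ 2 - q + 1) := by
  have hq27 := hq ▸ q_ge hk
  have h3m : ¬ (3 : ℤ) ∣ m := by
    have h1 : (3 : ℤ) ∣ q := hq ▸ dvd_pow_self 3 (by omega)
    omega
  have hmodd : ¬ (2 : ℤ) ∣ m := by
    have h1 : q % 8 = 3 := by
      rw [hq, pow_succ, pow_mul]
      have : ∀ j : ℕ, ((3 : ℤ) ^ 2) ^ j % 8 = 1 := fun j => by
        induction j with
        | zero => norm_num
        | succ j ih => rw [pow_succ]; omega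
      have := this k
      omega
    omega
  -- `m` divides `d - q`
  obtain ⟨l0, hl0⟩ : m ∣ d - q := by
    obtain ⟨g', m1, δ1, hgpos, hg, em, ed⟩ := Int.exists_gcd_one' (m := m) (n := d - q)
      (Int.gcd_pos_of_ne_zero_left _ (by omega))
    have hg0 : (g' : ℤ) ≠ 0 := by omega
    have hcop : IsCoprime m1 δ1 := Int.isCoprime_iff_gcd_eq_one.2 hg
    have hdd : d + 1 = (g' : ℤ) * (δ1 + 4 * m1) := by
      linear_combination hm + ed + 4 * em
    have heq' : δ1 ^ 2 * I = m1 * (4 * q * (q - 1) ^ 2 * d * (δ1 + 4 * m1)) := by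
      refine mul_left_cancel₀ (pow_ne_zero 2 hg0) ?_
      calc (g' : ℤ) ^ 2 * (δ1 ^ 2 * I) = (d - q) ^ 2 * I := by rw [ed]; ring
        _ = q * (q - 1) ^ 2 * (q + 1) * d * (d + 1) := by rw [heq]; ring
        _ = _ := by rw [hm, hdd, em]; ring
    have hm1I : m1 ∣ I := (hcop.pow_right (n := 2)).dvd_of_dvd_mul_left ⟨_, heq'⟩
    by_cases hu : IsUnit m1
    · refine ⟨δ1 * m1, ?_⟩
      rw [ed, em]
      linear_combination (-δ1 * (g' : ℤ)) * (Int.isUnit_mul_self hu)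
    · exfalso
      obtain ⟨r, hr, hrm⟩ :=
        Int.exists_prime_and_dvd (n := m1) (mt Int.isUnit_iff_natAbs_eq.2 hu)
      have h1 := hmI r hr (em ▸ dvd_mul_of_dvd_left hrm _)
      have h2 : r ∣ 3 := by simpa using dvd_sub (hrm.trans hm1I) h1
      have : (3 : ℤ) ∣ r := (hr.associated_of_dvd three_prime h2).symm.dvd
      exact h3m (this.trans (hrm.trans (em ▸ dvd_mul_right _ _)))
  have hc8 : IsCoprime (8 : ℤ) m :=
    ((Int.prime_two.coprime_iff_not_dvd).2 hmodd).pow_left (m := 3)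
  obtain ⟨l, hl⟩ := hc8.mul_dvd h8 ⟨l0, hl0⟩
  have hl0' : l ≠ 0 := fun h => hdq (by rw [h, mul_zero] at hl; omega)
  have hd : d = q + 8 * m * l := by omega
  have heq2 : l ^ 2 * I = q * n ^ 2 * d * (1 + 2 * l) := by
    refine mul_left_cancel₀ (pow_ne_zero 2 (by omega : (8 : ℤ) * m ≠ 0)) ?_
    calc (8 * m) ^ 2 * (l ^ 2 * I) = (d - q) ^ 2 * I := by rw [hl]; ring
      _ = q * (q + 1) * (q - 1) ^ 2 * d * (d + 1) := by rw [heq]; ring
      _ = _ := by rw [show d + 1 = 4 * m * (1 + 2 * l) by linear_combination hd + hm, hn, hm]; ring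
  have hmn : 8 * m * n = q ^ 2 - 1 := by
    linear_combination (-2 * n) * hm - (q + 1) * hn
  rcases two_solutions hk hq hm hn hl0' hd hI heq2 with h | h
  · have h2n : 1 + 2 * (q * n) = q ^ 2 - q + 1 := by linear_combination (-q) * hn
    refine mul_left_cancel₀ (pow_ne_zero 2 (by nlinarith : q * n ≠ 0)) ?_
    rw [h] at heq2 hd
    rw [heq2, h2n, show d = q ^ 3 by linear_combination hd + q * hmn]
    ring
  · exfalso
    rw [h] at heq2 hd
    have hI' : I = q ^ 2 * (q ^ 2 + q - 1) := by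
      refine mul_left_cancel₀ (pow_ne_zero 2 (by omega : n ≠ 0)) ?_
      rw [heq2, show 1 + 2 * n = q by omega, show d = q ^ 2 + q - 1 by linear_combination hd + hmn]
      ring
    obtain ⟨r, hr, hrm⟩ := Int.exists_prime_and_dvd (n := m) (by omega)
    have h1 := hmI r hr hrm
    have h2 : r ∣ 4 := by
      have h3 : r ∣ q + 1 := hm ▸ dvd_mul_of_dvd_right hrm _
      have h5 : r ∣ -(I - 3) + (q + 1) * (q ^ 3 - q + 1) :=
        dvd_add (dvd_neg.2 h1) (dvd_mul_of_dvd_left h3 _)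
      convert h5 using 1
      rw [hI']; ring
    have h6 : r ∣ 2 := hr.dvd_of_dvd_pow (show r ∣ 2 ^ 2 by simpa using h2)
    exact hmodd (((hr.associated_of_dvd Int.prime_two h6).symm.dvd).trans hrm)

end CfsgLib.ReeType
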