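import Cfsg.Agent.Lib.Rep.CurtisRichen.Rational

/-!
# A split pair of rank one: regular elements are conjugate to their `q`-th powers

`G = B ∪ P u B` with `B = P⟨η⟩`, `P` a `p`-group, `η ^ (q - 1) = 1`. In a simple module in characteristic
`p` an invariant functional takes values fixed by `a ↦ a ^ q` at the translates of a suitable weight
vector; so the traces are fixed.
-/

set_option autoImplicit false
set_option linter.unusedSectionVars false

open MonoidAlgebra

namespace CfsgLib.ReeType.Modular

open Rep.CurtisRichen (exists_fixed_vector exists_invariant_functional trace_pow_char_pow isConj_of_traces)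
open Rep.CurtisRichen.RankOne (op op_apply op_mul op_one)

/-- The data. -/
structure Split (p q : ℕ) (G : Type*) [Group G] where
  P : Subgroup G
  η : G
  u : G
  hP : IsPGroup p P
  q_pow : ∃ e : ℕ, 1 ≤ e ∧ q = p ^ e
  u_sq : u * u = 1
  u_η : u * η * u⁻¹ = η⁻¹
  norm : ∀ x : G, x ∈ P ↔ η * x * η⁻¹ ∈ P
  η_pow : η ^ (q - 1) = 1
  cover : ∀ g : G, (∃ x ∈ P, ∃ i : ℕ, g = x * η ^ i) ∨ ∃ x ∈ P, ∃ y ∈ P, ∃ i : ℕ, g = x * u * y * η ^ i
  nontriv : ∃ x : P, x ≠ 1
  free : ∀ x ∈ P, (∃ y ∈ P, ∃ i : ℕ, u * x * u = y * η ^ i) → x = 1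

variable {p q : ℕ} [hp : Fact p.Prime] {G : Type*} [Group G] [Finite G] (S : Split p q G)
  {k : Type*} [Field k] [CharP k p] [IsAlgClosed k]
  {M : Type*} [AddCommGroup M] [Module k M] [Module (MonoidAlgebra k G) M]
  [IsScalarTower k (MonoidAlgebra k G) M] [FiniteDimensional k M]
  [IsSimpleModule (MonoidAlgebra k G) M]

include S

omit [IsAlgClosed k] in
theorem sum_pow {ι : Type*} (t : Finset ι) (f : ι → k) : (∑ i ∈ t, f i) ^ q = ∑ i ∈ t, f i ^ q := by
  obtain ⟨e, -, rfl⟩ := S.q_pow
  exact sum_pow_char_pow p e t f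

omit [IsAlgClosed k] in
theorem neg_pow' (a : k) : (-a) ^ q = -a ^ q := by
  obtain ⟨e, -, rfl⟩ := S.q_pow
  rw [← zero_sub a, sub_pow_char_pow (p := p), zero_pow (pow_ne_zero e hp.out.ne_zero), zero_sub]

theorem one_lt_q : 1 < q := by
  obtain ⟨e, he, rfl⟩ := S.q_pow
  exact Nat.one_lt_pow (by omega) hp.out.one_lt

omit [CharP k p] [IsAlgClosed k] [FiniteDimensional k M] [IsSimpleModule (MonoidAlgebra k G) M] in
theorem op_pow {v : M} {g : G} {c : k} (h : op (k := k) g v = c • v) (i : ℕ) :
    op (k := k) (g ^ i) v = c ^ i • v := by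
  induction i with
  | zero => rw [pow_zero, pow_zero, one_smul, op_one]
  | succ i ih => rw [pow_succ, op_mul, h, map_smul, ih, smul_smul, ← pow_succ']

omit [CharP k p] [IsAlgClosed k] [FiniteDimensional k M] in
/-- A nonzero vector generates. -/
theorem span_translates {v : M} (hv : v ≠ 0) :
    Submodule.span k (Set.range fun g : G => op (k := k) g v) = ⊤ := by
  let W : Submodule (MonoidAlgebra k G) M :=
    { carrier := Submodule.span k (Set.range fun g : G => op (k := k) g v)
      add_mem' := fun ha hb => add_mem ha hb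
      zero_mem' := zero_mem _
      smul_mem' := fun a m hm => by
        induction a using MonoidAlgebra.induction_linear with
        | zero => rw [zero_smul]; exact zero_mem _
        | add a b ha hb => rw [add_smul]; exact add_mem ha hb
        | single g c =>
          rw [show single g c = c • single g (1 : k) by rw [MonoidAlgebra.smul_single', mul_one],
            smul_assoc, ← op_apply]
          refine Submodule.smul_mem _ _ ?_
          have h2 : op (k := k) g m ∈ (Submodule.span k (Set.range fun g : G => op (k := k) g v)).map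
              (op (k := k) g) := Submodule.mem_map_of_mem hm
          rw [Submodule.map_span] at h2
          refine (Submodule.span_mono ?_) h2
          rintro _ ⟨_, ⟨g', rfl⟩, rfl⟩
          exact ⟨g * g', op_mul g g' v⟩ }
  have hW : W = ⊤ := (eq_bot_or_eq_top W).resolve_left fun h => hv
    ((Submodule.eq_bot_iff W).1 h v (Submodule.subset_span ⟨1, op_one v⟩))
  rw [Submodule.eq_top_iff']
  exact fun m => (hW ▸ Submodule.mem_top : m ∈ W)

/-- A weight vector. -/
theorem exists_weight : ∃ v : M, ∃ c : k, v ≠ 0 ∧ c ^ q = c ∧ (∀ x ∈ S.P, op (k := k) x v = v) ∧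
    op (k := k) S.η v = c • v := by
  haveI : Nontrivial M := IsSimpleModule.nontrivial (MonoidAlgebra k G) M
  let W : Submodule k M :=
    { carrier := {m | ∀ x ∈ S.P, op (k := k) x m = m}
      add_mem' := fun ha hb x hx => by rw [map_add, ha x hx, hb x hx]
      zero_mem' := fun x _ => map_zero _
      smul_mem' := fun c m hm x hx => by rw [map_smul, hm x hx] }
  obtain ⟨m₀, hm0, hfix⟩ := exists_fixed_vector (k := k) (M := M) S.hP
    { toFun := fun x => op (k := k) (x : G)
      map_one' := LinearMap.ext fun m => op_one m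
      map_mul' := fun a b => LinearMap.ext fun m => op_mul (a : G) b m }
  have hWne : Nontrivial W := ⟨⟨⟨m₀, fun x hx => hfix ⟨x, hx⟩⟩, 0, fun e => hm0 (congrArg Subtype.val e)⟩⟩
  have hη : ∀ m ∈ W, op (k := k) S.η m ∈ W := by
    intro m hm x hx
    have h2 : S.η⁻¹ * x * S.η ∈ S.P := by
      rw [S.norm, show S.η * (S.η⁻¹ * x * S.η) * S.η⁻¹ = x by group]
      exact hx
    rw [← op_mul, show x * S.η = S.η * (S.η⁻¹ * x * S.η) by group, op_mul, hm _ h2]
  obtain ⟨c, hc⟩ := Module.End.exists_eigenvalue ((op (k := k) S.η).restrict hη)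
  obtain ⟨v, hv⟩ := hc.exists_hasEigenvector
  have hcv : op (k := k) S.η (v : M) = c • (v : M) := congrArg Subtype.val hv.apply_eq_smul
  have hv0 : (v : M) ≠ 0 := fun e => hv.2 (Subtype.ext e)
  refine ⟨v, c, hv0, ?_, v.2, hcv⟩
  have h1 := op_pow S hcv (q - 1)
  rw [S.η_pow, op_one] at h1
  have h2 : c ^ (q - 1) = 1 := by
    by_contra hne
    refine hv0 ((smul_eq_zero.1 (show (c ^ (q - 1) - 1) • (v : M) = 0 by
      rw [sub_smul, one_smul, ← h1, sub_self])).resolve_left (sub_ne_zero.2 hne))
  conv_lhs => rw [← Nat.sub_add_cancel (one_lt_q S).le, pow_succ, h2, one_mul]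

/-- The values of an invariant functional at the translates of a weight vector. -/
theorem values {ε : M →ₗ[k] k} (hε : ∀ x ∈ S.P, ∀ m, ε (op (k := k) x m) = ε m) {e : M} {c : k}
    (he : ∀ x ∈ S.P, op (k := k) x e = e) (hc : op (k := k) S.η e = c • e) (g : G) :
    ∃ i : ℕ, ε (op (k := k) g e) = c ^ i * ε e ∨
      ε (op (k := k) g e) = c ^ i * ε (op (k := k) S.u e) := by
  rcases S.cover g with ⟨x, hx, i, rfl⟩ | ⟨x, hx, y, hy, i, rfl⟩
  · refine ⟨i, Or.inl ?_⟩
    rw [op_mul, op_pow S hc, hε x hx, map_smul, smul_eq_mul]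
  · refine ⟨i, Or.inr ?_⟩
    rw [op_mul, op_mul, op_mul, op_pow S hc, map_smul, he y hy, hε x hx, map_smul, map_smul, smul_eq_mul]

/-- A weight vector and an invariant functional with fixed values at the translates. -/
theorem exists_rational : ∃ e : M, ∃ ε : M →ₗ[k] k, e ≠ 0 ∧ ε ≠ 0 ∧
    ∀ g : G, ε (op (k := k) g e) ^ q = ε (op (k := k) g e) := by
  classical
  haveI : Nontrivial M := IsSimpleModule.nontrivial (MonoidAlgebra k G) M
  haveI : Fintype S.P := Fintype.ofFinite S.P
  obtain ⟨v, c, hv0, hcq, hvP, hvη⟩ := exists_weight S (k := k) (M := M)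
  obtain ⟨ε, hε0, hεP⟩ := exists_invariant_functional (k := k) (M := M) S.hP
    { toFun := fun x => op (k := k) (x : G)
      map_one' := LinearMap.ext fun m => op_one m
      map_mul' := fun a b => LinearMap.ext fun m => op_mul (a : G) b m }
  have hε : ∀ x ∈ S.P, ∀ m, ε (op (k := k) x m) = ε m := fun x hx m => hεP ⟨x, hx⟩ m
  -- a vector whose translates have values in the span of one
  suffices h : ∃ e : M, ∃ a : k, e ≠ 0 ∧ ∀ g : G, ∃ s : k, s ^ q = s ∧ ε (op (k := k) g e) = s * a by
    obtain ⟨e, a, he0, h⟩ := h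
    have ha : a ≠ 0 := by
      rintro rfl
      refine hε0 (LinearMap.ext fun m => ?_)
      have hm : m ∈ Submodule.span k (Set.range fun g : G => op (k := k) g e) := by
        rw [span_translates S he0]; exact Submodule.mem_top
      induction hm using Submodule.span_induction with
      | mem x hx =>
        obtain ⟨g, rfl⟩ := hx
        obtain ⟨s, -, hs⟩ := h g
        show ε (op (k := k) g e) = 0
        rw [hs, mul_zero]
      | zero => rw [map_zero]; rfl
      | add x y _ _ hx hy => rw [map_add, hx, hy]; simp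
      | smul s x _ hx => rw [map_smul, hx]; simp
    refine ⟨e, a⁻¹ • ε, he0, smul_ne_zero (inv_ne_zero ha) hε0, fun g => ?_⟩
    obtain ⟨s, hs, hsv⟩ := h g
    rw [LinearMap.smul_apply, hsv, smul_eq_mul, show a⁻¹ * (s * a) = s by field_simp, hs]
  set z : M := ∑ x : S.P, op (k := k) ((x : G) * S.u) v with hz
  have hsum : ∀ m : M, ∑ x : S.P, ε (op (k := k) (x : G) m) = (Fintype.card S.P : k) * ε m := by
    intro m
    rw [Finset.sum_congr rfl (g := fun _ => ε m) fun x _ => hε x.1 x.2 m, Finset.sum_const, Finset.card_univ, nsmul_eq_mul]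
  have hpow : ∀ i : ℕ, (c ^ i) ^ q = c ^ i := fun i => by rw [← pow_mul, mul_comm, pow_mul, hcq]
  by_cases hz0 : z = 0
  · -- the value at `v` is a fixed multiple of the value at `u v`
    refine ⟨v, ε (op (k := k) S.u v), hv0, ?_⟩
    obtain ⟨s, hs, hsv⟩ : ∃ s : k, s ^ q = s ∧ ε v = s * ε (op (k := k) S.u v) := by
      have h0 : ε (op (k := k) S.u z) = 0 := by rw [hz0, map_zero, map_zero]
      rw [hz, map_sum, map_sum, ← Finset.add_sum_erase _ _ (Finset.mem_univ (1 : S.P))] at h0
      have h1 : ε (op (k := k) S.u (op (k := k) (((1 : S.P) : G) * S.u) v)) = ε v := by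
        rw [← op_mul, Subgroup.coe_one, one_mul, S.u_sq, op_one]
      have h2 : ∀ x ∈ (Finset.univ : Finset S.P).erase 1, ∃ i : ℕ,
          ε (op (k := k) S.u (op (k := k) ((x : G) * S.u) v)) = c ^ i * ε (op (k := k) S.u v) := by
        intro x hx
        rw [← op_mul, ← mul_assoc]
        rcases S.cover (S.u * x * S.u) with ⟨y, hy, i, hi⟩ | ⟨y, hy, y', hy', i, hi⟩
        · exact absurd (Subtype.ext (S.free x x.2 ⟨y, hy, i, hi⟩)) (Finset.mem_erase.1 hx).1
        · refine ⟨i, ?_⟩
          rw [hi, op_mul, op_mul, op_mul, op_pow S hvη, map_smul, hvP y' hy', hε y hy, map_smul,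
            map_smul, smul_eq_mul]
      choose f hf using h2
      rw [h1, ← Finset.sum_attach, Finset.sum_congr rfl fun x _ => hf x.1 x.2, ← Finset.sum_mul] at h0
      refine ⟨-∑ x ∈ ((Finset.univ : Finset S.P).erase 1).attach, c ^ f x.1 x.2, ?_, by
        linear_combination h0⟩
      rw [neg_pow' S, sum_pow S]
      simp only [hpow]
    intro g
    obtain ⟨i, h | h⟩ := values S hε hvP hvη g
    · exact ⟨c ^ i * s, by rw [mul_pow, hpow, hs], by rw [h, hsv]; ring⟩
    · exact ⟨c ^ i, hpow i, h⟩
  · -- `z` is a weight vector with value zero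
    have hzP : ∀ x ∈ S.P, op (k := k) x z = z := by
      intro x hx
      rw [hz, map_sum]
      refine (Fintype.sum_equiv (Equiv.mulLeft (⟨x, hx⟩ : S.P)) _ _ fun y => ?_)
      rw [← op_mul, ← mul_assoc]
      rfl
    have hη' : op (k := k) (S.η⁻¹) v = c⁻¹ • v := by
      have hc0 : c ≠ 0 := by
        rintro rfl
        rw [zero_smul] at hvη
        have := congrArg (op (k := k) S.η⁻¹) hvη
        rw [← op_mul, inv_mul_cancel, op_one, map_zero] at this
        exact hv0 this
      rw [eq_inv_smul_iff₀ hc0, ← map_smul, ← hvη, ← op_mul, inv_mul_cancel, op_one]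
    have hzη : op (k := k) S.η z = c⁻¹ • z := by
      rw [hz, map_sum, Finset.smul_sum]
      let σ : S.P ≃ S.P :=
        { toFun := fun y => ⟨S.η * y * S.η⁻¹, (S.norm _).1 y.2⟩
          invFun := fun y => ⟨S.η⁻¹ * y * S.η, (S.norm _).2 (by
            rw [show S.η * (S.η⁻¹ * (y : G) * S.η) * S.η⁻¹ = y by group]; exact y.2)⟩
          left_inv := fun y => Subtype.ext (by show S.η⁻¹ * (S.η * y * S.η⁻¹) * S.η = y; group)
          right_inv := fun y => Subtype.ext (by show S.η * (S.η⁻¹ * y * S.η) * S.η⁻¹ = y; group) }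
      refine Fintype.sum_equiv σ _ _ fun y => ?_
      show op (k := k) S.η (op (k := k) ((y : G) * S.u) v) = c⁻¹ • op (k := k) (S.η * y * S.η⁻¹ * S.u) v
      rw [← map_smul, ← hη', ← op_mul, ← op_mul]
      congr 2
      have e : S.u * S.η⁻¹ = S.η * S.u := by
        calc S.u * S.η⁻¹ = S.u * (S.u * S.η * S.u⁻¹) := by rw [S.u_η]
          _ = S.u * S.u * S.η * S.u⁻¹ := by group
          _ = S.η * S.u := by rw [S.u_sq, one_mul, inv_eq_of_mul_eq_one_right S.u_sq]
      rw [mul_assoc _ S.u, e]
      group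
    have hεz : ε z = 0 := by
      rw [hz, map_sum]
      simp only [op_mul]
      rw [hsum]
      have hcard : (Fintype.card S.P : k) = 0 := by
        obtain ⟨x, hx⟩ := S.nontriv
        obtain ⟨j, hj⟩ := S.hP.exists_card_eq
        rw [← Nat.card_eq_fintype_card, hj]
        rcases j with - | j
        · rw [pow_zero] at hj
          haveI := (Nat.card_eq_one_iff_unique.1 hj).1
          exact absurd (Subsingleton.elim x 1) hx
        · rw [pow_succ, Nat.cast_mul, CharP.cast_eq_zero k p, mul_zero]
      rw [hcard, zero_mul]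
    refine ⟨z, ε (op (k := k) S.u z), hz0, fun g => ?_⟩
    obtain ⟨i, h | h⟩ := values S hε hzP hzη g
    · exact ⟨0, zero_pow (by have := one_lt_q S; omega), by rw [h, hεz]; ring⟩
    · exact ⟨c⁻¹ ^ i, by rw [inv_pow, inv_pow, hpow], h⟩

/-- The traces on a simple module are fixed by `a ↦ a ^ q`. -/
theorem trace_pow (g : G) :
    LinearMap.trace k M (op (k := k) g) ^ q = LinearMap.trace k M (op (k := k) g) := by
  classical
  obtain ⟨e, ε, he0, hε0, hval⟩ := exists_rational S (k := k) (M := M)
  -- a basis of translates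
  obtain ⟨b, hb⟩ : ∃ b : Module.Basis (Fin (Module.finrank k M)) k M,
      ∀ j, ∃ g : G, b j = op (k := k) g e := by
    obtain ⟨t, ht, hspan, hli⟩ := exists_linearIndependent k (Set.range fun g : G => op (k := k) g e)
    rw [span_translates S he0] at hspan
    let b₀ : Module.Basis t k M := Module.Basis.mk hli (by rw [Subtype.range_coe, hspan])
    haveI : Finite t := ((Set.finite_range _).subset ht).to_subtype
    let _ := Fintype.ofFinite t
    let ι := Fintype.equivFinOfCardEq ((Module.finrank_eq_card_basis b₀).symm)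
    refine ⟨b₀.reindex ι, fun j => ?_⟩
    obtain ⟨g, hg⟩ := ht (ι.symm j).2
    exact ⟨g, by rw [Module.Basis.reindex_apply, Module.Basis.mk_apply]; exact hg.symm⟩
  choose h hh using hb
  -- the coefficient rows
  let A : G → Fin (Module.finrank k M) → k := fun f j => ε (op (k := k) (f * h j) e)
  let W : (Fin (Module.finrank k M) → k) := fun j => LinearMap.toMatrix b b (op (k := k) g) j j
  have hsep : ∀ m : M, (∀ f : G, ε (op (k := k) f m) = 0) → m = 0 := by
    intro m hm
    by_contra hm0
    refine hε0 (LinearMap.ext fun m' => ?_)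
    have hm' : m' ∈ Submodule.span k (Set.range fun f : G => op (k := k) f m) := by
      rw [span_translates S hm0]; exact Submodule.mem_top
    induction hm' using Submodule.span_induction with
    | mem x hx => obtain ⟨f, rfl⟩ := hx; exact hm f
    | zero => rw [map_zero]; rfl
    | add x y _ _ hx hy => rw [map_add, hx, hy]; simp
    | smul s x _ hx => rw [map_smul, hx]; simp
  set Mt := LinearMap.toMatrix b b (op (k := k) g) with hMt
  have hfix : ∀ i j, Mt i j ^ q = Mt i j := by
    intro i j
    have hrel : ∀ f : G, ε (op (k := k) (f * g * h j) e) = ∑ l, Mt l j * A f l := by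
      intro f
      have h1 : op (k := k) (g * h j) e = ∑ l, Mt l j • b l := by
        rw [op_mul, ← hh j]
        conv_lhs => rw [← b.sum_repr (op (k := k) g (b j))]
        simp only [hMt, LinearMap.toMatrix_apply]
      rw [mul_assoc, op_mul, h1, map_sum, map_sum]
      refine Finset.sum_congr rfl fun l _ => ?_
      rw [map_smul, map_smul, smul_eq_mul, hh l, ← op_mul]
    have hz : ∑ l, (Mt l j ^ q - Mt l j) • b l = 0 := by
      refine hsep _ fun f => ?_
      rw [map_sum, map_sum]
      simp only [map_smul, smul_eq_mul, hh, ← op_mul, sub_mul, Finset.sum_sub_distrib]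
      have h2 : ∑ l, Mt l j ^ q * A f l = ∑ l, Mt l j * A f l := by
        rw [← hrel f, ← hval (f * g * h j), hrel f, sum_pow S]
        refine Finset.sum_congr rfl fun l _ => ?_
        rw [mul_pow, hval]
      exact sub_eq_zero.2 h2
    exact sub_eq_zero.1 (Fintype.linearIndependent_iff.1 b.linearIndependent _ hz i)
  rw [LinearMap.trace_eq_matrix_trace k b, Matrix.trace, sum_pow S]
  exact Finset.sum_congr rfl fun i _ => hfix i i

/-- **Rationality**: an element of order prime to `p` is conjugate to its `q`-th power. -/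
theorem isConj_pow {x : G} (hx : (orderOf x).Coprime p) : IsConj x (x ^ q) := by
  classical
  let k := AlgebraicClosure (ZMod p)
  let Φ : Set (Submodule (MonoidAlgebra k G) (MonoidAlgebra k G)) → Prop := fun s =>
    (∀ L ∈ s, IsCoatom L) ∧ ∀ L ∈ s, ∀ L' ∈ s,
      Nonempty ((MonoidAlgebra k G ⧸ L) ≃ₗ[MonoidAlgebra k G] (MonoidAlgebra k G ⧸ L')) → L = L'
  have hbound : ∀ t : Finset (Submodule (MonoidAlgebra k G) (MonoidAlgebra k G)), Φ ↑t →
      t.card ≤ Nat.card G := by
    intro t ht
    let L : t → Submodule (MonoidAlgebra k G) (MonoidAlgebra k G) := Subtype.val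
    have hL : ∀ i, IsCoatom (L i) := fun i => ht.1 i i.2
    have hne : ∀ i j, Nonempty ((MonoidAlgebra k G ⧸ L i) ≃ₗ[MonoidAlgebra k G]
        (MonoidAlgebra k G ⧸ L j)) → i = j := fun i j hij => Subtype.ext (ht.2 i i.2 j j.2 hij)
    haveI := fun i => Rep.RegClassCount.finite_quot L hL hne i
    let F : MonoidAlgebra k G →ₗ[k] (∀ i, Module.End k (MonoidAlgebra k G ⧸ L i)) :=
      LinearMap.pi fun i => (Rep.RegClassCount.act L i).toLinearMap
    have hF : Function.Surjective F := fun y => by
      obtain ⟨a, ha⟩ := Rep.RegClassCount.exists_act_eq L hL hne y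
      exact ⟨a, funext ha⟩
    haveI : Fintype G := Fintype.ofFinite G
    have h1 : Module.finrank k (MonoidAlgebra k G) = Nat.card G := by
      rw [Nat.card_eq_fintype_card]
      exact Module.finrank_eq_card_basis (MonoidAlgebra.basis G k)
    calc t.card = ∑ _i : t, 1 := by simp
      _ ≤ ∑ i : t, Module.finrank k (Module.End k (MonoidAlgebra k G ⧸ L i)) := by
          refine Finset.sum_le_sum fun i _ => ?_
          haveI : IsSimpleModule (MonoidAlgebra k G) (MonoidAlgebra k G ⧸ L i) :=
            isSimpleModule_iff_isCoatom.2 (hL i)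
          haveI : Nontrivial (MonoidAlgebra k G ⧸ L i) := IsSimpleModule.nontrivial (MonoidAlgebra k G) _
          exact Module.finrank_pos
      _ = Module.finrank k (∀ i, Module.End k (MonoidAlgebra k G ⧸ L i)) := by
          rw [Module.finrank_pi_fintype]
      _ ≤ Module.finrank k (MonoidAlgebra k G) := by
          rw [← finrank_top k (∀ i, Module.End k (MonoidAlgebra k G ⧸ L i)), ← LinearMap.range_eq_top.2 hF]
          exact LinearMap.finrank_range_le F
      _ = Nat.card G := h1
  let Q : ℕ → Prop := fun c => ∃ t : Finset (Submodule (MonoidAlgebra k G) (MonoidAlgebra k G)),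
    Φ ↑t ∧ t.card = c
  have hQ0 : Q 0 := ⟨∅, ⟨by simp, by simp⟩, rfl⟩
  obtain ⟨t, ht, htc⟩ := Nat.findGreatest_spec (P := Q) (Nat.zero_le (Nat.card G)) hQ0
  let L : t → Submodule (MonoidAlgebra k G) (MonoidAlgebra k G) := Subtype.val
  have hL : ∀ i, IsCoatom (L i) := fun i => ht.1 i i.2
  have hne : ∀ i j, Nonempty ((MonoidAlgebra k G ⧸ L i) ≃ₗ[MonoidAlgebra k G]
      (MonoidAlgebra k G ⧸ L j)) → i = j := fun i j hij => Subtype.ext (ht.2 i i.2 j j.2 hij)
  have hex : ∀ L' : Submodule (MonoidAlgebra k G) (MonoidAlgebra k G), IsCoatom L' →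
      ∃ i, Nonempty ((MonoidAlgebra k G ⧸ L i) ≃ₗ[MonoidAlgebra k G] (MonoidAlgebra k G ⧸ L')) := by
    intro L' hL'
    by_contra hno
    push Not at hno
    have hnot : L' ∉ t := fun h => (hno ⟨L', h⟩).false (LinearEquiv.refl _ _)
    have hΦ : Φ ↑(insert L' t) := by
      constructor
      · intro a ha
        rcases Finset.mem_insert.1 ha with rfl | ha
        exacts [hL', ht.1 a ha]
      · intro a ha b hb hab
        rcases Finset.mem_insert.1 ha with ea | ha' <;> rcases Finset.mem_insert.1 hb with eb | hb'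
        · rw [ea, eb]
        · rw [ea] at hab
          exact ((hno ⟨b, hb'⟩).false hab.some.symm).elim
        · rw [eb] at hab
          exact ((hno ⟨a, ha'⟩).false hab.some).elim
        · exact ht.2 a ha' b hb' hab
    have h1 := hbound _ hΦ
    have h2 : Q (t.card + 1) := ⟨_, hΦ, Finset.card_insert_of_notMem hnot⟩
    rw [Finset.card_insert_of_notMem hnot] at h1
    have h3 := Nat.le_findGreatest h1 h2
    omega
  have hqx : (orderOf (x ^ q)).Coprime p := Nat.Coprime.coprime_dvd_left (orderOf_pow_dvd _) hx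
  refine isConj_of_traces L hL hne hex hx hqx fun i => ?_
  haveI : Module.Finite k (MonoidAlgebra k G ⧸ L i) := Rep.RegClassCount.finite_quot L hL hne i
  haveI : IsSimpleModule (MonoidAlgebra k G) (MonoidAlgebra k G ⧸ L i) :=
    isSimpleModule_iff_isCoatom.2 (hL i)
  have h1 : single (x ^ q) (1 : k) = single x (1 : k) ^ q := by
    rw [MonoidAlgebra.single_pow, one_pow]
  rw [Rep.RegClassCount.act, h1, map_pow]
  have h2 := trace_pow S (k := k) (M := MonoidAlgebra k G ⧸ L i) x
  let b := Module.finBasis k (MonoidAlgebra k G ⧸ L i)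
  have h3 : ∀ f : Module.End k (MonoidAlgebra k G ⧸ L i),
      LinearMap.trace k _ (f ^ q) = LinearMap.trace k _ f ^ q := by
    intro f
    obtain ⟨e, -, he⟩ := S.q_pow
    rw [LinearMap.trace_eq_matrix_trace k b, LinearMap.trace_eq_matrix_trace k b,
      show LinearMap.toMatrix b b (f ^ q) = LinearMap.toMatrix b b f ^ q from
        map_pow (LinearMap.toMatrixAlgEquiv b) f _, he]
    exact trace_pow_char_pow p e _
  rw [h3]
  exact h2.symm

end CfsgLib.ReeType.Modular
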