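import Cfsg.Agent.Lib.Ree.LocalThree
import Cfsg.Agent.Lib.Ree.Modular
import Cfsg.Agent.Lib.Coprime.Hall
import Cfsg.Agent.Lib.FT.NoMinSimple

/-!
# Groups of Ree type: the split pair `B = P⟨η⟩`, `G = B ∪ P u B`

`R ≤ P` is climbed from the unipotent subgroup of `K`. If `R` is not a Sylow subgroup, an elementary
abelian `p`-subgroup of the odd part of `N(R)` modulo `R` is normalized by an element of order three or
acted on by an element `v` without fixed points, both impossible.
-/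

set_option autoImplicit false
set_option linter.unusedSectionVars false

namespace CfsgLib.ReeType

open Subgroup

universe u

attribute [local instance] _root_.Classical.propDecidable

variable {G : Type u} [Group G] [Finite G]

/-- The quotient step: a prime `p` and a normal subgroup `A ≥ R` with elementary abelian `A/R`. -/
theorem exists_elementary_above {O R : Subgroup G} (hsol : Group.IsSolvable O) (hRO : R ≤ O)
    (hn : O ≤ normalizer (R : Set G)) (hlt : Nat.card R < Nat.card O) :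
    ∃ (p : ℕ) (A : Subgroup G), p.Prime ∧ R ≤ A ∧ A ≤ O ∧ O ≤ normalizer (A : Set G) ∧
      Nat.card R < Nat.card A ∧ (∃ j : ℕ, Nat.card A = p ^ j * Nat.card R) ∧
      ∀ a ∈ A, ∀ b ∈ A, a ^ p ∈ R ∧ a * b * a⁻¹ * b⁻¹ ∈ R := by
  haveI : (R.subgroupOf O).Normal := (normal_subgroupOf_iff_le_normalizer hRO).2 hn
  haveI := hsol
  haveI : Nontrivial (O ⧸ R.subgroupOf O) := by
    rw [← Finite.one_lt_card_iff_nontrivial, ← Subgroup.index_eq_card]
    have h1 := card_mul_index (R.subgroupOf O)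
    rw [Nat.card_congr (subgroupOfEquivOfLe hRO).toEquiv] at h1
    by_contra h
    have h2 : (R.subgroupOf O).index = 1 := by
      have := index_ne_zero_of_finite (H := R.subgroupOf O)
      omega
    rw [h2, mul_one] at h1
    omega
  obtain ⟨M, p, hMn, hM, hp, hMp, hMc⟩ :=
    Coprime.exists_normal_pGroup_of_isSolvable (G := O ⧸ R.subgroupOf O)
  -- pass to the elements of order dividing `p`
  set M' : Subgroup (O ⧸ R.subgroupOf O) := omegaCenter p M with hM'
  haveI : Fact p.Prime := ⟨hp⟩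
  have hM'n : M'.Normal := ⟨fun z hz g =>
    conj_mem_omegaCenter (by rw [normalizer_eq_top_iff.2 hMn]; exact mem_top g) hz⟩
  have hM'1 : M' ≠ ⊥ := by
    intro h
    haveI : Nontrivial M := (Subgroup.nontrivial_iff_ne_bot M).2 hM
    obtain ⟨j, hj⟩ := hMp.exists_card_eq
    have hj0 : j ≠ 0 := by
      rintro rfl
      rw [pow_zero] at hj
      exact hM (card_eq_one.1 hj)
    obtain ⟨z, hz⟩ := exists_prime_orderOf_dvd_card' (G := M) p (hj ▸ dvd_pow_self p hj0)
    have hzM : (z : O ⧸ R.subgroupOf O) ∈ M' := ⟨z.2, by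
      rw [← Subgroup.coe_pow, ← hz, pow_orderOf_eq_one, Subgroup.coe_one], fun y hy => hMc z z.2 y hy⟩
    rw [h, mem_bot] at hzM
    rw [Subtype.ext hzM (a2 := (1 : M)), orderOf_one] at hz
    exact hp.one_lt.ne hz
  set A₀ := M'.comap (QuotientGroup.mk' (R.subgroupOf O)) with hA₀
  haveI := hM'n
  refine ⟨p, A₀.map O.subtype, hp, ?_, map_subtype_le _, ?_, ?_, ?_, ?_⟩
  · intro x hx
    exact ⟨⟨x, hRO hx⟩, by
      show QuotientGroup.mk' (R.subgroupOf O) ⟨x, hRO hx⟩ ∈ M'
      rw [show QuotientGroup.mk' (R.subgroupOf O) ⟨x, hRO hx⟩ = 1 from (QuotientGroup.eq_one_iff _).2 hx]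
      exact one_mem _, rfl⟩
  · have hA₀n : A₀.Normal := hM'n.comap _
    intro g hg
    rw [mem_normalizer_iff]
    intro y
    constructor
    · rintro ⟨z, hz, rfl⟩
      exact ⟨⟨g, hg⟩ * z * ⟨g, hg⟩⁻¹, hA₀n.conj_mem z hz _, rfl⟩
    · rintro ⟨z, hz, he⟩
      refine ⟨⟨g, hg⟩⁻¹ * z * ⟨g, hg⟩, hA₀n.conj_mem' z hz _, ?_⟩
      simp only [Subgroup.coe_subtype, Subgroup.coe_mul, Subgroup.coe_inv] at he ⊢
      rw [he]; group
  · obtain ⟨z, hz, hz1⟩ := (Subgroup.bot_or_exists_ne_one M').resolve_left hM'1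
    obtain ⟨y, rfl⟩ := QuotientGroup.mk'_surjective (R.subgroupOf O) z
    rw [card_map_of_injective O.subtype_injective, ← Nat.card_congr (subgroupOfEquivOfLe hRO).toEquiv]
    refine lt_of_le_of_ne (Subgroup.card_le_of_le fun x hx => ?_) fun e => hz1 ?_
    · show QuotientGroup.mk' (R.subgroupOf O) x ∈ M'
      rw [show QuotientGroup.mk' (R.subgroupOf O) x = 1 from (QuotientGroup.eq_one_iff _).2 hx]
      exact one_mem _
    · have hle : R.subgroupOf O ≤ A₀ := fun x hx => by
        show QuotientGroup.mk' (R.subgroupOf O) x ∈ M'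
        rw [show QuotientGroup.mk' (R.subgroupOf O) x = 1 from (QuotientGroup.eq_one_iff _).2 hx]
        exact one_mem _
      have hy : y ∈ R.subgroupOf O := by
        rw [eq_of_le_of_card_ge hle e.ge]
        exact hz
      exact (QuotientGroup.eq_one_iff _).2 hy
  · have hM'p : IsPGroup p M' := fun z => ⟨1, Subtype.ext (by rw [pow_one]; exact z.2.2.1)⟩
    obtain ⟨j, hj⟩ := hM'p.exists_card_eq
    refine ⟨j, ?_⟩
    rw [card_map_of_injective O.subtype_injective, ← hj]
    have h1 := card_mul_index A₀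
    rw [card_eq_card_quotient_mul_card_subgroup (R.subgroupOf O), hA₀,
      index_comap_of_surjective M' (QuotientGroup.mk'_surjective _), ← card_mul_index M',
      Nat.card_congr (subgroupOfEquivOfLe hRO).toEquiv, mul_right_comm] at h1
    exact Nat.eq_of_mul_eq_mul_right (Nat.pos_of_ne_zero index_ne_zero_of_finite) h1
  · rintro _ ⟨a, ha, rfl⟩ _ ⟨b, hb, rfl⟩
    have ha' : (QuotientGroup.mk' (R.subgroupOf O) a) ∈ M' := ha
    have hb' : (QuotientGroup.mk' (R.subgroupOf O) b) ∈ M' := hb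
    refine ⟨mem_subgroupOf.1 ((QuotientGroup.eq_one_iff (a ^ p)).1 ?_),
      mem_subgroupOf.1 ((QuotientGroup.eq_one_iff (a * b * a⁻¹ * b⁻¹)).1 ?_)⟩
    · show QuotientGroup.mk' (R.subgroupOf O) (a ^ p) = 1
      rw [map_pow]; exact ha'.2.1
    · show QuotientGroup.mk' (R.subgroupOf O) (a * b * a⁻¹ * b⁻¹) = 1
      rw [map_mul, map_mul, map_mul, map_inv, map_inv, (ha'.2.2 _ hb'.1).eq, mul_inv_cancel_right,
        mul_inv_cancel]

namespace Setup

variable {q m n : ℕ} (T : Setup G q m n)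

/-- The data at the start. -/
theorem exists_base : ∃ (N : NFrame T) (p : ℕ) (E : Subgroup G), p.Prime ∧ p ∣ n ∧
    (∀ r : ℕ, r.Prime → r ∣ n → p ≤ r) ∧ orderOf N.v = p ∧ IsPGroup 3 E ∧ E ≠ ⊥ ∧
      N.w ∈ normalizer (E : Set G) ∧ T.t ∈ normalizer (E : Set G) := by
  let _ := Fintype.ofFinite G
  obtain ⟨X⟩ := T.exists_torusCtx
  haveI := Fact.mk X.prime
  have hpn : X.p ∣ n := X.hv ▸ X.N.orderOf_dvd_n X.N.v_mem
  have hn0 : 0 < n := Nat.zero_lt_of_lt T.kit.data.one_lt
  have hq0 : 0 < q := by have := T.kit.q_ge; omega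
  have hqn : q.Coprime n := by
    obtain ⟨k, -, hk⟩ := T.kit.q_pow
    rw [hk]
    exact Nat.Coprime.pow_left _ ((Nat.prime_three.coprime_iff_not_dvd).2 T.kit.three_not_n)
  set M := normalizer (X.F.E : Set T.K) with hM
  have hEM : X.F.E ≤ M := le_normalizer
  haveI : (X.F.E.subgroupOf M).Normal := (normal_subgroupOf_iff_le_normalizer hEM).2 le_rfl
  have hcE : Nat.card (X.F.E.subgroupOf M) = q := by
    rw [Nat.card_congr (subgroupOfEquivOfLe hEM).toEquiv, X.F.card_E]
  have hidx : (X.F.E.subgroupOf M).index = n := by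
    have h := card_mul_index (X.F.E.subgroupOf M)
    rw [hcE, X.F.card_NE] at h
    exact Nat.eq_of_mul_eq_mul_left hq0 h
  obtain ⟨L₀, hL₀⟩ := Subgroup.exists_right_complement'_of_coprime
    (N := X.F.E.subgroupOf M) (by rw [hcE, hidx]; exact hqn)
  set L : Subgroup T.K := L₀.map M.subtype with hL
  have hLc : Nat.card L = n := by
    rw [hL, card_map_of_injective M.subtype_injective, ← hL₀.symm.index_eq_card, hidx]
  have hLM : L ≤ M := map_subtype_le _
  have hLodd : Odd (Nat.card L) := by rw [hLc]; exact T.kit.data.mo_odd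
  haveI : Group.IsSolvable L := FT.isSolvable_of_odd L hLodd
  haveI : Nontrivial L := Finite.one_lt_card_iff_nontrivial.1 (by rw [hLc]; exact T.kit.data.one_lt)
  obtain ⟨A, r, hAn, hA1, hr, hAp, hAc⟩ := Coprime.exists_normal_pGroup_of_isSolvable (G := L)
  haveI := Fact.mk hr
  obtain ⟨j, hj⟩ := hAp.exists_card_eq
  have hj0 : j ≠ 0 := by
    rintro rfl
    rw [pow_zero] at hj
    exact hA1 (card_eq_one.1 hj)
  obtain ⟨y, hyo⟩ := exists_prime_orderOf_dvd_card' (G := A) r (hj ▸ dvd_pow_self r hj0)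
  set z : T.K := ((y : L) : T.K) with hz
  have hzo : orderOf z = r := by rw [hz, Subgroup.orderOf_coe, Subgroup.orderOf_coe, hyo]
  have hz1 : z ≠ 1 := fun e => hr.one_lt.ne (by rw [← hzo, e, orderOf_one])
  have hzn : orderOf z ∣ n :=
    (Subgroup.orderOf_dvd_natCard L (y : L).2).trans (dvd_of_eq hLc)
  obtain ⟨w, hw, hC, hN, -, -, -⟩ := T.kit.cent_n hz1 hzn
  have hzw : z ∈ zpowers w := hC ▸ mem_centralizer_singleton_iff.2 rfl
  have hLN : L ≤ normalizer (zpowers z : Set T.K) := by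
    intro l hl
    rw [mem_normalizer_iff_map_conj_eq, MonoidHom.map_zpowers]
    have hmem : ((⟨l, hl⟩ : L) * (y : L) * (⟨l, hl⟩ : L)⁻¹) ∈ A := hAn.conj_mem _ y.2 _
    have hcz : l * z * l⁻¹ ∈ zpowers w := by
      rw [← hC, mem_centralizer_singleton_iff]
      exact congrArg Subtype.val (hAc _ hmem _ y.2)
    exact PSLSpectrum.eq_of_le_zpowers (zpowers_le.2 hcz) (zpowers_le.2 hzw)
      (by rw [Nat.card_zpowers, Nat.card_zpowers]; exact MulEquiv.orderOf_eq (MulAut.conj l) z)
  have hwN : zpowers w ≤ normalizer (zpowers z : Set T.K) := by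
    refine le_trans ?_ (Subgroup.centralizer_le_normalizer _)
    exact PSLSpectrum.zpowers_le_centralizer' (zpowers_le.2 hzw)
  have hidx2 : ((zpowers w).subgroupOf (normalizer (zpowers z : Set T.K))).index = 2 := by
    have h1 := card_mul_index ((zpowers w).subgroupOf (normalizer (zpowers z : Set T.K)))
    rw [Nat.card_congr (subgroupOfEquivOfLe hwN).toEquiv, hN, Nat.card_zpowers, hw, mul_comm 2] at h1
    exact Nat.eq_of_mul_eq_mul_left hn0 h1
  have hLw : L = zpowers w := by
    refine eq_of_le_of_card_ge (fun l hl => ?_) (by rw [hLc, Nat.card_zpowers, hw])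
    obtain ⟨c, hc⟩ := hLodd.of_dvd_nat (Subgroup.orderOf_dvd_natCard L hl)
    have h1 : (⟨l, hLN hl⟩ : normalizer (zpowers z : Set T.K)) * ⟨l, hLN hl⟩ ∈
        (zpowers w).subgroupOf (normalizer (zpowers z : Set T.K)) := mul_self_mem_of_index_two hidx2 _
    have h2 : l * l ∈ zpowers w := mem_subgroupOf.1 h1
    have h3 := pow_mem h2 (c + 1)
    rwa [← pow_two, ← pow_mul, show 2 * (c + 1) = orderOf l + 1 by omega, pow_succ, pow_orderOf_eq_one,
      one_mul] at h3
  -- move `w` to the torus of the frame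
  have hwp : orderOf (w ^ (n / X.p)) = X.p := by
    have := orderOf_pow_orderOf_div (x := w) (n := X.p) (orderOf_pos w).ne' (hw.symm ▸ hpn)
    rwa [hw] at this
  have hvK := T.mem_K_of_odd X.N.v_t (X.N.odd_of_mem X.N.v_mem)
  obtain ⟨g, hg⟩ := T.kit.conj_n X.prime hpn (v := (⟨X.N.v, hvK⟩ : T.K))
    (by rw [Subgroup.orderOf_mk, X.hv]) hwp
  obtain ⟨i, hi⟩ := mem_zpowers_iff.1 hg
  set w' : G := ((g * w * g⁻¹ : T.K) : G) with hw'
  have hw't : Commute w' T.t := T.comm_t _ (g * w * g⁻¹).2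
  have hw'o : orderOf w' = n := by
    rw [hw', Subgroup.orderOf_coe, ← MulAut.conj_apply, MulEquiv.orderOf_eq, hw]
  have hw'v : Commute w' X.N.v := by
    have h1 : zpowers (g * w ^ (n / X.p) * g⁻¹) = zpowers (⟨X.N.v, hvK⟩ : T.K) :=
      eq_of_le_of_card_ge (zpowers_le.2 hg) (by
        rw [Nat.card_zpowers, Nat.card_zpowers, Subgroup.orderOf_mk, X.hv, ← MulAut.conj_apply,
          MulEquiv.orderOf_eq, hwp])
    obtain ⟨e, he⟩ := mem_zpowers_iff.1 (h1.symm ▸ mem_zpowers (⟨X.N.v, hvK⟩ : T.K))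
    have hc : Commute (g * w * g⁻¹) (g * w ^ (n / X.p) * g⁻¹) :=
      ((Commute.refl w).pow_right _).map (MulAut.conj g)
    exact congrArg Subtype.val ((he ▸ hc.zpow_right e) : Commute (g * w * g⁻¹) ⟨X.N.v, hvK⟩).eq
  have hw'mem : w' ∈ zpowers X.N.w := by
    rcases X.N.cent w' hw't hw'v with h | h
    · exact h
    · exfalso
      have hK : T.t * w' ∈ T.K := T.mem_K_of_odd (X.N.commute_t h) (X.N.odd_of_mem h)
      exact T.tK_not_mem (g * w * g⁻¹).2 hK
  have hwall : zpowers w' = zpowers X.N.w := eq_of_le_of_card_ge (zpowers_le.2 hw'mem)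
    (by rw [Nat.card_zpowers, Nat.card_zpowers, X.N.order_w, hw'o])
  set EK : Subgroup T.K := X.F.E.map (MulAut.conj g).toMonoidHom with hEK
  set E : Subgroup G := EK.map T.K.subtype with hE
  refine ⟨X.N, X.p, E, X.prime, hpn, X.hmin, X.hv, ?_, ?_, ?_, ?_⟩
  · have hE3 : IsPGroup 3 X.F.E := fun x => ⟨1, Subtype.ext (by
      rw [pow_one]; exact X.F.cube x x.2)⟩
    exact (hE3.map _).map _
  · intro h
    have h1 : Nat.card E = q := by
      rw [hE, card_map_of_injective T.K.subtype_injective, hEK,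
        card_map_of_injective (MulAut.conj g).injective, X.F.card_E]
    rw [h, card_bot] at h1
    have := T.kit.q_ge
    omega
  · have h1 : w' ∈ normalizer (E : Set G) := by
      rw [mem_normalizer_iff_map_conj_eq]
      refine eq_of_le_of_card_ge ?_
        (card_map_of_injective (K := E) (MulAut.conj w').injective).ge
      rintro _ ⟨_, ⟨_, ⟨x, hx, rfl⟩, rfl⟩, rfl⟩
      have hwM : w ∈ M := hLM (hLw ▸ mem_zpowers w)
      refine ⟨MulAut.conj g (w * x * w⁻¹), ⟨_, (mem_normalizer_iff.1 hwM x).1 hx, rfl⟩, ?_⟩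
      simp [hw', mul_assoc]
    exact zpowers_le.2 h1 (hwall.symm ▸ mem_zpowers X.N.w)
  · rw [mem_normalizer_iff_map_conj_eq]
    refine eq_of_le_of_card_ge ?_ (card_map_of_injective (K := E) (MulAut.conj T.t).injective).ge
    rintro _ ⟨_, ⟨x, hx, rfl⟩, rfl⟩
    refine ⟨x, hx, ?_⟩
    show (x : G) = T.t * x * T.t⁻¹
    rw [← (T.comm_t _ x.2).eq, mul_inv_cancel_right]

include T in
/-- The centre of a `3`-group meets no fixed point of an element of prime order beyond three. -/
theorem fpf_three {R : Subgroup G} (hR : IsPGroup 3 R) {s : ℕ} [Fact s.Prime] (hs2 : s ≠ 2)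
    (hs3 : s ≠ 3) {c : G} (hc : orderOf c = s) {x : G} (hx : x ∈ R) (hcx : Commute c x) : x = 1 := by
  by_contra hx1
  obtain ⟨i, hi⟩ := hR ⟨x, hx⟩
  obtain ⟨j, -, hj⟩ := (Nat.dvd_prime_pow Nat.prime_three).1
    (orderOf_dvd_of_pow_eq_one (congrArg Subtype.val hi) : orderOf x ∣ 3 ^ i)
  rcases j with - | j
  · exact hx1 (orderOf_eq_one_iff.1 (by simpa using hj))
  exact T.no_three_mul hs2 hs3 (orderOf_pow_orderOf_div (orderOf_pos x).ne'
    (hj ▸ dvd_pow_self 3 (Nat.succ_ne_zero j))) hc ((hcx.pow_right _).symm)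

/-- A Sylow `3`-subgroup normalized by `t` and `w`. -/
theorem exists_invariant_three : ∃ (N : NFrame T) (P : Subgroup G), Nat.card P = q ^ 3 ∧
    IsPGroup 3 P ∧ T.t ∈ normalizer (P : Set G) ∧ N.w ∈ normalizer (P : Set G) := by
  haveI : Fact (Nat.Prime 3) := ⟨Nat.prime_three⟩
  haveI : Fact (Nat.Prime 2) := ⟨Nat.prime_two⟩
  obtain ⟨N, p₀, E, hp₀, hp₀n, hmin, hv, hE, hE1, hwE, htE⟩ := T.exists_base
  haveI := Fact.mk hp₀
  have hp₀2 : p₀ ≠ 2 := fun e => T.kit.data.two_not_mo (e ▸ hp₀n)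
  have hp₀3 : p₀ ≠ 3 := fun e => T.kit.three_not_n (e ▸ hp₀n)
  obtain ⟨R, hRmem, hRmax⟩ := Set.Finite.exists_maximalFor (fun R : Subgroup G => Nat.card R)
    {R : Subgroup G | IsPGroup 3 R ∧ R ≠ ⊥ ∧ T.t ∈ normalizer (R : Set G) ∧
      N.w ∈ normalizer (R : Set G)} (Set.toFinite _) ⟨E, hE, hE1, htE, hwE⟩
  obtain ⟨hR, hR1, htR, hwR⟩ := hRmem
  refine ⟨N, R, ?_, hR, htR, hwR⟩
  obtain ⟨k, -, hk⟩ := T.kit.q_pow
  have hq0 : 0 < q := by have := T.kit.q_ge; omega
  have hsyl : ∀ S : Sylow 3 G, Nat.card (S : Subgroup G) = q ^ 3 := fun S => by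
    have h32n : ¬ 3 ∣ 2 * n := fun h =>
      (Nat.prime_three.dvd_mul.1 h).elim (by norm_num) T.kit.three_not_n
    have h3c : ¬ 3 ∣ q ^ 3 + 1 := fun h => Nat.prime_three.not_dvd_one
      ((Nat.dvd_add_right (dvd_pow T.kit.three_dvd_q (by norm_num : 3 ≠ 0))).1 h)
    have hf : (Nat.card G).factorization 3 = (2 * k + 1) * 3 := by
      rw [T.card_eq, show q - 1 = 2 * n by have := T.kit.hn; omega,
        Nat.factorization_mul (by positivity) (by have := T.kit.data.one_lt; omega),
        Nat.factorization_mul (by positivity) (by positivity), Finsupp.add_apply, Finsupp.add_apply,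
        Nat.factorization_eq_zero_of_not_dvd h3c, Nat.factorization_eq_zero_of_not_dvd h32n, hk,
        ← pow_mul, Nat.Prime.factorization_pow Nat.prime_three, Finsupp.single_eq_same]
      simp
    rw [S.card_eq_multiplicity, hf, hk, ← pow_mul]
  by_contra hcard
  -- a larger `3`-group in the normalizer
  set NR := normalizer (R : Set G) with hNR
  have h2N : 2 ∣ Nat.card NR := T.order_t ▸ Subgroup.orderOf_dvd_natCard NR htR
  obtain ⟨O, hON, hNO, hOodd, hNcard, hOmem⟩ :=
    exists_odd_part NR h2N (T.not_four_normalizer hR hR1)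
  have hRo : ∀ x ∈ R, Odd (orderOf x) := fun x hx => by
    obtain ⟨i, hi⟩ := hR ⟨x, hx⟩
    exact (Odd.pow (by decide : Odd 3)).of_dvd_nat
      (orderOf_dvd_of_pow_eq_one (congrArg Subtype.val hi) : orderOf x ∣ 3 ^ i)
  have hRO : R ≤ O := fun x hx => hOmem x (le_normalizer hx) (hRo x hx)
  have hOR : O ≤ normalizer (R : Set G) := hON
  have htO : T.t ∈ normalizer (O : Set G) := hNO htR
  have hwO : N.w ∈ O := hOmem _ hwR (N.odd_of_mem (mem_zpowers _))
  obtain ⟨iR, hiR⟩ := hR.exists_card_eq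
  have h3dvd : 3 * Nat.card R ∣ Nat.card O := by
    obtain ⟨S, hS⟩ := hR.exists_le_sylow
    have hlt : R < (S : Subgroup G) := lt_of_le_of_ne hS fun e => hcard (e ▸ hsyl S)
    obtain ⟨R', hR'⟩ : ∃ R' : Subgroup G, R' = (S : Subgroup G) ⊓ NR := ⟨_, rfl⟩
    have hRR' : R < R' := by
      refine lt_of_le_of_ne (hR' ▸ le_inf hS le_normalizer) fun e => ?_
      haveI := S.2.isNilpotent
      have hnc := (Group.normalizerCondition_of_isNilpotent (G := (S : Subgroup G)))
        (R.subgroupOf S) (lt_of_le_of_ne le_top fun h => hlt.not_ge (subgroupOf_eq_top.1 h))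
      refine hnc.not_ge fun x hx => ?_
      rw [← subgroupOf_normalizer_eq hS, mem_subgroupOf] at hx
      exact mem_subgroupOf.2 (e.symm ▸ (hR' ▸ mem_inf.2 ⟨x.2, hx⟩))
    have hR'p : IsPGroup 3 R' := S.2.to_le (hR' ▸ inf_le_left)
    have hR'O : R' ≤ O := fun x hx => hOmem x (mem_inf.1 (hR' ▸ hx)).2 (by
      obtain ⟨i, hi⟩ := hR'p ⟨x, hx⟩
      exact (Odd.pow (by decide : Odd 3)).of_dvd_nat
        (orderOf_dvd_of_pow_eq_one (congrArg Subtype.val hi) : orderOf x ∣ 3 ^ i))
    obtain ⟨i', hi'⟩ := hR'p.exists_card_eq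
    refine dvd_trans ?_ (card_dvd_of_le hR'O)
    rw [hiR, hi', ← pow_succ']
    refine pow_dvd_pow 3 ?_
    have h1 : Nat.card R < Nat.card R' := by
      refine lt_of_le_of_ne (card_le_of_le hRR'.le) fun e => hRR'.ne (eq_of_le_of_card_ge hRR'.le e.ge)
    rw [hiR, hi'] at h1
    exact (Nat.pow_lt_pow_iff_right (by norm_num)).1 h1
  have hRlt : Nat.card R < Nat.card O := by
    have h0 : 0 < Nat.card R := Nat.card_pos
    have := Nat.le_of_dvd Nat.card_pos h3dvd
    omega
  obtain ⟨p, A, hp, hRA, hAO, hOA, hAlt, ⟨j, hAcard⟩, hAab⟩ :=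
    exists_elementary_above (FT.isSolvable_of_odd O hOodd) hRO hOR hRlt
  haveI := Fact.mk hp
  by_cases hp3 : p = 3
  · -- the join with the conjugate under `t` is a larger `3`-group
    subst hp3
    have hA3 : IsPGroup 3 A := IsPGroup.of_card (n := j + iR) (by rw [hAcard, hiR, pow_add])
    set At := A.map (MulAut.conj T.t).toMonoidHom with hAt
    have hAtO : At ≤ O := by
      rintro _ ⟨a, ha, rfl⟩
      exact (mem_normalizer_iff.1 htO a).1 (hAO ha)
    have hOAt : O ≤ normalizer (At : Set G) := by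
      intro g hg
      rw [mem_normalizer_iff_map_conj_eq, hAt, map_map]
      have hg' : T.t⁻¹ * g * T.t ∈ normalizer (A : Set G) := hOA ((mem_normalizer_iff''.1 htO g).1 hg)
      conv_rhs => rw [← mem_normalizer_iff_map_conj_eq.1 hg']
      rw [map_map]
      congr 1
      ext a
      simp [mul_assoc]
    have hAA : At ≤ normalizer (A : Set G) := hAtO.trans hOA
    have hjoin : IsPGroup 3 (A ⊔ At : Subgroup G) :=
      hA3.to_sup_of_normal_left' (hA3.map _) hAA
    have htt : T.t * T.t = 1 := T.t_sq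
    have htJ : T.t ∈ normalizer ((A ⊔ At : Subgroup G) : Set G) := by
      rw [mem_normalizer_iff_map_conj_eq, Subgroup.map_sup]
      have e : At.map (MulAut.conj T.t : G →* G) = A := by
        rw [hAt, map_map]
        convert map_id A using 2
        ext a
        simp [mul_assoc, htt, Invol.invol_inv T.order_t]
        rw [← mul_assoc, htt, one_mul]
      rw [e]
      exact sup_comm At A
    have hwJ : N.w ∈ normalizer ((A ⊔ At : Subgroup G) : Set G) := by
      rw [mem_normalizer_iff_map_conj_eq, Subgroup.map_sup, mem_normalizer_iff_map_conj_eq.1 (hOA hwO),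
        mem_normalizer_iff_map_conj_eq.1 (hOAt hwO)]
    have hne : (A ⊔ At : Subgroup G) ≠ ⊥ := fun h => hR1 (le_bot_iff.1 (h ▸ hRA.trans le_sup_left))
    have hge : Nat.card A ≤ Nat.card (A ⊔ At : Subgroup G) := card_le_of_le le_sup_left
    have : Nat.card (A ⊔ At : Subgroup G) ≤ Nat.card R :=
      hRmax (j := A ⊔ At) ⟨hjoin, hne, htJ, hwJ⟩ (hAlt.le.trans hge)
    omega
  · have hp2 : p ≠ 2 := by
      rintro rfl
      have h1 : 2 ∣ Nat.card A := by
        rcases j with - | j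
        · rw [hAcard, pow_zero, one_mul] at hAlt
          exact absurd hAlt (lt_irrefl _)
        · rw [hAcard]
          exact dvd_mul_of_dvd_left (dvd_pow_self 2 (Nat.succ_ne_zero j)) _
      exact Nat.not_even_iff_odd.2 hOodd (even_iff_two_dvd.2 (h1.trans (card_dvd_of_le hAO)))
    -- a Sylow subgroup of `A` and the elements of its normalizer
    obtain ⟨Q₀⟩ : Nonempty (Sylow p A) := inferInstance
    set Q := (Q₀ : Subgroup A).map A.subtype with hQ
    have hQA : Q ≤ A := map_subtype_le _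
    have hQp : IsPGroup p Q := Q₀.2.map _
    have hpR : ¬ p ∣ Nat.card R := fun h => hp3 (by
      rw [hiR] at h
      exact (Nat.prime_dvd_prime_iff_eq hp Nat.prime_three).1 (hp.dvd_of_dvd_pow h))
    have hQc : Nat.card Q = p ^ j := by
      rw [hQ, card_map_of_injective A.subtype_injective, Q₀.card_eq_multiplicity, hAcard,
        Nat.factorization_mul (pow_ne_zero _ hp.ne_zero) Nat.card_pos.ne', Finsupp.add_apply,
        Nat.factorization_eq_zero_of_not_dvd hpR, Nat.Prime.factorization_pow hp, Finsupp.single_eq_same,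
        add_zero]
    have hQR : ∀ x ∈ Q, x ∈ R → x = 1 := fun x hxQ hxR => orderOf_eq_one_iff.1
      (Nat.eq_one_of_dvd_coprimes ((hp.coprime_iff_not_dvd.2 hpR).pow_left j)
        (hQc ▸ Subgroup.orderOf_dvd_natCard Q hxQ) (Subgroup.orderOf_dvd_natCard R hxR))
    have hQcomm : ∀ x ∈ Q, ∀ y ∈ Q, x * y = y * x := fun x hx y hy => by
      have := hQR _ (mul_mem (mul_mem (mul_mem hx hy) (inv_mem hx)) (inv_mem hy))
        (hAab x (hQA hx) y (hQA hy)).2
      rw [mul_inv_eq_one] at this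
      exact mul_inv_eq_iff_eq_mul.1 this
    have hQexp : ∀ x ∈ Q, x ^ p = 1 := fun x hx => hQR _ (pow_mem hx p) (hAab x (hQA hx) x (hQA hx)).1
    have hj0 : j ≠ 0 := by
      rintro rfl
      rw [hAcard, pow_zero, one_mul] at hAlt
      exact lt_irrefl _ hAlt
    -- the Frattini argument
    set NQ := O ⊓ normalizer (Q : Set G) with hNQ
    have hsplit : ∀ x ∈ O, ∃ r ∈ R, r * x ∈ NQ := by
      intro x hx
      haveI : (A.subgroupOf O).Normal := (normal_subgroupOf_iff_le_normalizer hAO).2 hOA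
      let Q₁ : Sylow p A := Q₀
      have hQx : Coprime.IsSylowIn p Q A := Coprime.isSylowIn_map Q₀
      obtain ⟨a, ha, hconj⟩ := (hQx.conjBy (hOA hx)).exists_conj hQx
      obtain ⟨r, hr, c, hc, hrc⟩ : ∃ r ∈ R, ∃ c ∈ Q, r * c = a⁻¹ := by
        have hsup : R ⊔ Q = A := by
          refine eq_of_le_of_card_ge (sup_le hRA hQA) ?_
          rw [hAcard]
          refine Nat.le_of_dvd Nat.card_pos (Nat.Coprime.mul_dvd_of_dvd_of_dvd
            ((hp.coprime_iff_not_dvd.2 hpR).pow_left j) ?_ (card_dvd_of_le le_sup_left))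
          exact hQc ▸ card_dvd_of_le le_sup_right
        exact Coprime.mem_sup_exists (hQA.trans (hAO.trans hOR)) (hsup ▸ inv_mem ha)
      refine ⟨r⁻¹, inv_mem hr, mem_inf.2 ⟨mul_mem (inv_mem (hRO hr)) hx, ?_⟩⟩
      have e : r⁻¹ * x = c * (a * x) := by
        have ha' : a = c⁻¹ * r⁻¹ := by rw [← mul_inv_rev, hrc, inv_inv]
        rw [ha']; group
      rw [e]
      refine mul_mem (le_normalizer hc) ?_
      rw [mem_normalizer_iff_map_conj_eq]
      refine Eq.trans ?_ hconj
      ext b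
      simp [Coprime.conjBy, mul_assoc]
    have hdvd : ∀ {r : ℕ}, r.Prime → r * Nat.card R ∣ Nat.card O → r ∣ Nat.card NQ := by
      intro r hr hrO
      haveI : (R.subgroupOf O).Normal := (normal_subgroupOf_iff_le_normalizer hRO).2 hOR
      let f : NQ →* O ⧸ R.subgroupOf O :=
        (QuotientGroup.mk' (R.subgroupOf O)).comp (Subgroup.inclusion inf_le_left)
      have hf : Function.Surjective f := by
        intro z
        obtain ⟨x, rfl⟩ := QuotientGroup.mk'_surjective _ z
        obtain ⟨r', hr', hmem⟩ := hsplit x x.2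
        refine ⟨⟨r' * x, hmem⟩, ?_⟩
        show QuotientGroup.mk' (R.subgroupOf O) (⟨r' * x, hNQ ▸ hmem |> fun h => (mem_inf.1 h).1⟩ : O) = _
        rw [show (⟨r' * (x : G), _⟩ : O) = ⟨r', hRO hr'⟩ * x from rfl, map_mul,
          show QuotientGroup.mk' (R.subgroupOf O) ⟨r', hRO hr'⟩ = 1 from (QuotientGroup.eq_one_iff _).2 hr',
          one_mul]
      have h1 : r * Nat.card R ∣ Nat.card (O ⧸ R.subgroupOf O) * Nat.card R := by
        refine hrO.trans (dvd_of_eq ?_)
        rw [← Nat.card_congr (subgroupOfEquivOfLe hRO).toEquiv,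
          ← card_eq_card_quotient_mul_card_subgroup]
      exact (Nat.dvd_of_mul_dvd_mul_right Nat.card_pos h1).trans (card_dvd_of_surjective f hf)
    by_cases hpn : p ∣ n
    · obtain ⟨x, hx⟩ := exists_prime_orderOf_dvd_card' (G := NQ) 3 (hdvd Nat.prime_three h3dvd)
      obtain ⟨y, hy⟩ := exists_prime_orderOf_dvd_card' (G := Q) p (hQc ▸ dvd_pow_self p hj0)
      refine T.no_three_normalize hpn (x := (x : G)) (y := (y : G)) (by rw [Subgroup.orderOf_coe, hx])
        (by rw [Subgroup.orderOf_coe, hy]) ?_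
      have hmem : (x : G) * y * (x : G)⁻¹ ∈ Q :=
        (mem_normalizer_iff.1 (mem_inf.1 x.2).2 y).1 y.2
      exact T.mem_zpowers_of_comm hpn (by rw [Subgroup.orderOf_coe, hy]) (hQexp _ hmem)
        (hQcomm _ y.2 _ hmem)
    · have hvO : N.v ∈ O := zpowers_le.2 hwO N.v_mem
      have hp₀R : p₀ * Nat.card R ∣ Nat.card O := by
        refine Nat.Coprime.mul_dvd_of_dvd_of_dvd ?_ ?_ (card_dvd_of_le hRO)
        · rw [hiR]
          exact ((Nat.coprime_primes hp₀ Nat.prime_three).2 hp₀3).pow_right iR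
        · exact hv ▸ Subgroup.orderOf_dvd_natCard O hvO
      obtain ⟨v', hv'⟩ := exists_prime_orderOf_dvd_card' (G := NQ) p₀ (hdvd hp₀ hp₀R)
      have hv'o : orderOf (v' : G) = p₀ := by rw [Subgroup.orderOf_coe, hv']
      set Z : Subgroup G := (Subgroup.center R).map R.subtype with hZ
      haveI : Nontrivial R := (Subgroup.nontrivial_iff_ne_bot R).2 hR1
      have hZ1 : Nontrivial (Subgroup.center R) := hR.center_nontrivial
      obtain ⟨z, hz1⟩ := exists_ne (1 : Subgroup.center R)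
      have hZR : Z ≤ R := map_subtype_le _
      have hnZ : normalizer (R : Set G) ≤ normalizer (Z : Set G) := by
        intro g hg
        rw [mem_normalizer_iff]
        intro y
        constructor
        · rintro ⟨c, hc, rfl⟩
          refine ⟨⟨g * c * g⁻¹, (mem_normalizer_iff.1 hg c).1 c.2⟩, Subgroup.mem_center_iff.2 fun d => ?_,
            rfl⟩
          apply Subtype.ext
          have hd : g⁻¹ * d * g ∈ R := (mem_normalizer_iff''.1 hg d).1 d.2
          have h1 := congrArg Subtype.val (Subgroup.mem_center_iff.1 hc ⟨_, hd⟩)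
          change g⁻¹ * (d : G) * g * c = c * (g⁻¹ * d * g) at h1
          show (d : G) * (g * c * g⁻¹) = g * c * g⁻¹ * d
          calc (d : G) * (g * c * g⁻¹) = g * ((g⁻¹ * d * g) * c) * g⁻¹ := by group
            _ = g * (c * (g⁻¹ * d * g)) * g⁻¹ := by rw [h1]
            _ = g * c * g⁻¹ * d := by group
        · rintro ⟨c, hc, he⟩
          simp only [Subgroup.coe_subtype] at he
          have hy : y ∈ R := (mem_normalizer_iff.1 hg y).2 (he ▸ c.2)
          refine ⟨⟨y, hy⟩, Subgroup.mem_center_iff.2 fun d => Subtype.ext ?_, rfl⟩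
          have hd : g * d * g⁻¹ ∈ R := (mem_normalizer_iff.1 hg d).1 d.2
          have h1 := congrArg Subtype.val (Subgroup.mem_center_iff.1 hc ⟨_, hd⟩)
          change g * (d : G) * g⁻¹ * c = c * (g * d * g⁻¹) at h1
          rw [he] at h1
          show (d : G) * y = y * d
          calc (d : G) * y = g⁻¹ * (g * d * g⁻¹ * (g * y * g⁻¹)) * g := by group
            _ = y * d := by rw [h1]; group
      have hpow := pow_card_eq_one_of_fpf hp₀ hv'o (X := Z) (A := Q)
        (fun x hx y hy => by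
          obtain ⟨c, hc, rfl⟩ := hy
          exact congrArg Subtype.val (Subgroup.mem_center_iff.1 hc ⟨x, hZR hx⟩))
        ((hQA.trans (hAO.trans hOR)).trans hnZ) (hnZ (hOR (mem_inf.1 v'.2).1)) (mem_inf.1 v'.2).2
        (fun h => by
          rw [h, card_bot] at hQc
          exact hj0 ((Nat.pow_eq_one.1 hQc.symm).resolve_left hp.ne_one))
        (fun c hc hcv => by
          by_contra hc1
          exact hpn (T.dvd_n_of_min hp₀n hmin hp2 hv'o (orderOf_eq_prime (hQexp c hc) hc1) hcv.symm))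
        (fun c hc hc1 x hx hcx =>
          T.fpf_three hR hp2 hp3 (orderOf_eq_prime (hQexp c hc) hc1) (hZR hx) hcx)
        (fun x hx hvx => T.fpf_three hR hp₀2 hp₀3 hv'o (hZR hx) hvx)
      have hzZ : ((z : R) : G) ∈ Z := ⟨z, z.2, rfl⟩
      refine hz1 (Subtype.ext (Subtype.ext (orderOf_eq_one_iff.1 (Nat.eq_one_of_dvd_coprimes
        ((hp.coprime_iff_not_dvd.2 hpR).pow_left j) (hQc ▸ orderOf_dvd_of_pow_eq_one (hpow _ hzZ))
        (Subgroup.orderOf_dvd_natCard R (z : R).2)))))

include T in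
/-- The split pair, with every element of prime order dividing `n` conjugate into `⟨η⟩`. -/
theorem exists_modular_split : ∃ S : Modular.Split 3 q G,
    ∀ r : ℕ, r.Prime → r ∣ n → ∀ y : G, orderOf y = r → ∃ g : G, ∃ i : ℕ, g * y * g⁻¹ = S.η ^ i := by
  haveI : Fact (Nat.Prime 3) := ⟨Nat.prime_three⟩
  obtain ⟨N, P, hPc, hP, htP, hwP⟩ := T.exists_invariant_three
  obtain ⟨k, -, hk⟩ := T.kit.q_pow
  have hn0 : 0 < n := Nat.zero_lt_of_lt T.kit.data.one_lt
  set η := T.t * N.w with hη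
  have hηo : orderOf η = 2 * n := by
    rw [hη, N.w_t.symm.orderOf_mul_eq_mul_orderOf_of_coprime (by
      rw [T.order_t, N.order_w]; exact Nat.coprime_two_left.2 T.kit.data.mo_odd), T.order_t, N.order_w]
  have hηP : η ∈ normalizer (P : Set G) := mul_mem htP hwP
  have hP1 : P ≠ ⊥ := fun h => by
    rw [h, card_bot] at hPc
    have := Nat.le_self_pow (by norm_num : 3 ≠ 0) q
    have := T.kit.q_ge
    omega
  have hinter : ∀ x ∈ P, x ∈ zpowers η → x = 1 := fun x hx hxη => by
    have h1 := Subgroup.orderOf_dvd_natCard P hx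
    have h2 := Subgroup.orderOf_dvd_natCard _ hxη
    rw [hPc, hk, ← pow_mul] at h1
    rw [Nat.card_zpowers, hηo] at h2
    exact orderOf_eq_one_iff.1 (Nat.eq_one_of_dvd_coprimes (Nat.Coprime.pow_left _
      ((Nat.prime_three.coprime_iff_not_dvd).2 fun h =>
        (Nat.prime_three.dvd_mul.1 h).elim (by norm_num) T.kit.three_not_n)) h1 h2)
  have hfree : ∀ x ∈ P, (∃ y ∈ P, ∃ i : ℕ, N.u * x * N.u = y * η ^ i) → x = 1 := by
    intro x hx ⟨y, hy, i, he⟩
    -- the conjugate is a `3`-element normalizing `P`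
    have hmem : N.u * x * N.u ∈ P := by
      have hB : N.u * x * N.u ∈ normalizer (P : Set G) :=
        he ▸ mul_mem (le_normalizer hy) (pow_mem hηP i)
      have h3 : IsPGroup 3 (zpowers (N.u * x * N.u)) := by
        obtain ⟨j, hj⟩ := hP ⟨x, hx⟩
        obtain ⟨c, -, hc⟩ := (Nat.dvd_prime_pow Nat.prime_three).1
          (orderOf_dvd_of_pow_eq_one (congrArg Subtype.val hj) : orderOf x ∣ 3 ^ j)
        refine IsPGroup.of_card (n := c) ?_
        rw [Nat.card_zpowers, show N.u * x * N.u = N.u * x * N.u⁻¹ by rw [Invol.invol_inv N.order_u],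
          ← MulAut.conj_apply, MulEquiv.orderOf_eq, hc]
      have hsup := hP.to_sup_of_normal_left' h3 (zpowers_le.2 hB)
      obtain ⟨S, hS⟩ := hsup.exists_le_sylow
      have hSc : Nat.card (S : Subgroup G) ≤ q ^ 3 := by
        obtain ⟨c, hc⟩ := S.2.exists_card_eq
        have h1 : 3 ^ c ∣ Nat.card G := hc ▸ card_subgroup_dvd_card _
        rw [T.card_eq, show q - 1 = 2 * n by have := T.kit.hn; omega, mul_assoc] at h1
        have hcop : (3 ^ c).Coprime ((q ^ 3 + 1) * (2 * n)) := Nat.Coprime.pow_left _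
          ((Nat.prime_three.coprime_iff_not_dvd).2 (Nat.prime_three.not_dvd_mul
            (fun h => Nat.prime_three.not_dvd_one
              ((Nat.dvd_add_right (dvd_pow T.kit.three_dvd_q (by norm_num : 3 ≠ 0))).1 h))
            fun h => (Nat.prime_three.dvd_mul.1 h).elim (by norm_num) T.kit.three_not_n))
        rw [hc]
        exact Nat.le_of_dvd (pow_pos (by have := T.kit.q_ge; omega) 3) (hcop.dvd_of_dvd_mul_right h1)
      rw [eq_of_le_of_card_ge (le_sup_left.trans hS) (hPc ▸ hSc)]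
      exact hS (mem_sup_right (mem_zpowers _))
    have hD := T.four_three (R := P ⊓ P.map (MulAut.conj N.u).toMonoidHom) (hP.to_le inf_le_left)
      T.order_t N.order_u N.u_t.symm N.u_ne.symm ?_ ?_
    · have hxD : x ∈ P ⊓ P.map (MulAut.conj N.u).toMonoidHom := mem_inf.2 ⟨hx, _, hmem, by
        simp [mul_assoc, N.u_sq, Invol.invol_inv N.order_u]
        rw [← mul_assoc, N.u_sq, one_mul]⟩
      rw [hD] at hxD
      exact mem_bot.1 hxD
    · have h1 : T.t ∈ normalizer ((P.map (MulAut.conj N.u).toMonoidHom : Subgroup G) : Set G) := by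
        rw [mem_normalizer_iff_map_conj_eq, map_map]
        conv_rhs => rw [← mem_normalizer_iff_map_conj_eq.1 htP]
        rw [map_map]
        congr 1
        ext a
        show T.t * (N.u * a * N.u⁻¹) * T.t⁻¹ = N.u * (T.t * a * T.t⁻¹) * N.u⁻¹
        calc T.t * (N.u * a * N.u⁻¹) * T.t⁻¹ = (T.t * N.u) * a * (T.t * N.u)⁻¹ := by group
          _ = (N.u * T.t) * a * (N.u * T.t)⁻¹ := by rw [N.u_t.symm.eq]
          _ = _ := by group
      exact mem_normalizer_iff_map_conj_eq.2 (by
        rw [Subgroup.map_inf _ _ _ (MulAut.conj T.t).injective, mem_normalizer_iff_map_conj_eq.1 htP,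
          mem_normalizer_iff_map_conj_eq.1 h1])
    · exact mem_normalizer_iff_map_conj_eq.2 (by
        rw [Subgroup.map_inf _ _ _ (MulAut.conj N.u).injective, map_map,
          show (MulAut.conj N.u : G →* G).comp (MulAut.conj N.u).toMonoidHom = MonoidHom.id G from
            MonoidHom.ext fun a => by
              show N.u * (N.u * a * N.u⁻¹) * N.u⁻¹ = a
              rw [← mul_assoc, ← mul_assoc, N.u_sq, one_mul, Invol.invol_inv N.order_u, mul_assoc,
                N.u_sq, mul_one],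
          map_id, inf_comm]
        rfl)
  have huB : ∀ y ∈ P, ∀ i : ℕ, N.u ≠ y * η ^ i := by
    intro y hy i e
    refine hP1 (T.four_three hP T.order_t N.order_u N.u_t.symm N.u_ne.symm htP ?_)
    exact e.symm ▸ mul_mem (le_normalizer hy) (pow_mem hηP i)
  -- the two cells
  have hBmem : ∀ {g : G}, g ∈ P ⊔ zpowers η → ∃ y ∈ P, ∃ i : ℕ, g = y * η ^ i := by
    intro g hg
    obtain ⟨y, hy, z, hz, rfl⟩ := Coprime.mem_sup_exists (zpowers_le.2 hηP) hg
    obtain ⟨i, -, rfl⟩ := (mem_zpowers_iff_mem_range_orderOf).1 hz |> Finset.mem_image.1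
    exact ⟨y, hy, i, rfl⟩
  set B := P ⊔ zpowers η with hB
  have hmemB : ∀ {y : G}, y ∈ P → ∀ i : ℕ, y * η ^ i ∈ B := fun hy i =>
    mul_mem (mem_sup_left hy) (mem_sup_right (pow_mem (mem_zpowers η) i))
  have hBcard : Nat.card B = q ^ 3 * (2 * n) := by
    rw [← hηo, ← hPc, ← Nat.card_zpowers, ← Nat.card_prod]
    refine (Nat.card_congr (Equiv.ofBijective
      (fun z : P × zpowers η => (⟨z.1 * z.2, mul_mem (mem_sup_left z.1.2) (mem_sup_right z.2.2)⟩ : B))
      ⟨?_, ?_⟩)).symm
    · rintro ⟨a, b⟩ ⟨a', b'⟩ e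
      have e' : (a : G) * b = a' * b' := congrArg Subtype.val e
      have h1 : (a' : G)⁻¹ * a = b' * (b : G)⁻¹ := by
        calc (a' : G)⁻¹ * a = (a' : G)⁻¹ * (a * b) * (b : G)⁻¹ := by group
          _ = b' * (b : G)⁻¹ := by rw [e']; group
      have h2 := hinter _ (mul_mem (inv_mem a'.2) a.2) (h1 ▸ mul_mem b'.2 (inv_mem b.2))
      exact Prod.ext (Subtype.ext (inv_mul_eq_one.1 h2).symm)
        (Subtype.ext (mul_inv_eq_one.1 (h1 ▸ h2)).symm)
    · rintro ⟨g, hg⟩
      obtain ⟨y, hy, i, rfl⟩ := hBmem hg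
      exact ⟨(⟨y, hy⟩, ⟨η ^ i, pow_mem (mem_zpowers η) i⟩), rfl⟩
  let f : Option P × B → G := fun z => match z.1 with
    | none => z.2
    | some x => x * N.u * z.2
  have hu2 := N.u_sq
  have hf : Function.Injective f := by
    rintro ⟨a, b⟩ ⟨a', b'⟩ e
    rcases a with - | a <;> rcases a' with - | a'
    · exact Prod.ext rfl (Subtype.ext e)
    · exfalso
      obtain ⟨y, hy, i, hi⟩ := hBmem (mul_mem (mul_mem (inv_mem (mem_sup_left (S := P)
        (T := zpowers η) a'.2)) b.2) (inv_mem b'.2))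
      exact huB y hy i (hi ▸ (show N.u = (a' : G)⁻¹ * b * (b' : G)⁻¹ by
        rw [show (b : G) = a' * N.u * b' from e]; group))
    · exfalso
      obtain ⟨y, hy, i, hi⟩ := hBmem (mul_mem (mul_mem (inv_mem (mem_sup_left (S := P)
        (T := zpowers η) a.2)) b'.2) (inv_mem b.2))
      exact huB y hy i (hi ▸ (show N.u = (a : G)⁻¹ * b' * (b : G)⁻¹ by
        rw [show (b' : G) = a * N.u * b from e.symm]; group))
    · have e' : (a : G) * N.u * b = a' * N.u * b' := e
      obtain ⟨y, hy, i, hi⟩ := hBmem (mul_mem b'.2 (inv_mem b.2))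
      have h1 := hfree ((a' : G)⁻¹ * a) (mul_mem (inv_mem a'.2) a.2) ⟨y, hy, i, by
        rw [← hi]
        calc N.u * ((a' : G)⁻¹ * a) * N.u
            = N.u * (a' : G)⁻¹ * (a * N.u * b) * (b : G)⁻¹ := by group
          _ = N.u * N.u * (b' * (b : G)⁻¹) := by rw [e']; group
          _ = b' * (b : G)⁻¹ := by rw [hu2, one_mul]⟩
      have ha : a = a' := Subtype.ext (inv_mul_eq_one.1 h1).symm
      subst ha
      exact Prod.ext rfl (Subtype.ext (mul_left_cancel e'))
  have hbij : Function.Bijective f := (Nat.bijective_iff_injective_and_card f).2 ⟨hf, by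
    rw [Nat.card_prod, Finite.card_option, hPc, hBcard, T.card_eq,
      show q - 1 = 2 * n by have := T.kit.hn; omega]
    ring⟩
  refine ⟨
    { P := P
      η := η
      u := N.u
      hP := hP
      q_pow := ⟨2 * k + 1, by omega, hk⟩
      u_sq := hu2
      u_η := by
        calc N.u * (T.t * N.w) * N.u⁻¹ = (N.u * T.t * N.u⁻¹) * (N.u * N.w * N.u⁻¹) := by group
          _ = T.t * N.w⁻¹ := by rw [N.u_w, N.u_t.eq, mul_inv_cancel_right]
          _ = (T.t * N.w)⁻¹ := by
              rw [mul_inv_rev, Invol.invol_inv T.order_t, N.w_t.inv_left.eq]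
      norm := mem_normalizer_iff.1 hηP
      η_pow := by
        rw [show q - 1 = 2 * n by have := T.kit.hn; omega, ← hηo, pow_orderOf_eq_one]
      cover := fun g => by
        obtain ⟨⟨a, b⟩, rfl⟩ := hbij.2 g
        obtain ⟨y, hy, i, hi⟩ := hBmem b.2
        rcases a with - | a
        · exact Or.inl ⟨y, hy, i, hi⟩
        · exact Or.inr ⟨a, a.2, y, hy, i, by
            show (a : G) * N.u * (b : G) = _
            rw [hi, ← mul_assoc]⟩
      nontriv := by
        obtain ⟨x, hx, hx1⟩ := (Subgroup.bot_or_exists_ne_one P).resolve_left hP1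
        exact ⟨⟨x, hx⟩, fun e => hx1 (congrArg Subtype.val e)⟩
      free := hfree }, ?_⟩
  intro r hr hrn y hy
  show ∃ g : G, ∃ i : ℕ, g * y * g⁻¹ = η ^ i
  haveI := Fact.mk hr
  have hy1 : y ≠ 1 := fun e => hr.one_lt.ne (by rw [← hy, e, orderOf_one])
  obtain ⟨i, hi, hyi⟩ := T.exists_invol_commute (Or.inl hrn) hy
  obtain ⟨c, hc⟩ := isConj_iff.1 (T.conj i hi)
  have hy't : Commute (c⁻¹ * y * c) T.t := by
    have := hyi.map (MulAut.conj c⁻¹)
    rw [← hc] at this
    simpa [mul_assoc] using this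
  have hy'o : orderOf (c⁻¹ * y * c) = r := by
    rw [show c⁻¹ * y * c = MulAut.conj c⁻¹ y by simp, MulEquiv.orderOf_eq, hy]
  have hy'K := T.mem_K_of_odd hy't (by rw [hy'o]; exact T.kit.data.mo_odd.of_dvd_nat hrn)
  have hwK := T.mem_K_of_odd N.w_t (N.odd_of_mem (mem_zpowers N.w))
  obtain ⟨g, hg⟩ := T.kit.conj_n hr hrn (v := (⟨N.w, hwK⟩ : T.K) ^ (n / r))
    (v' := (⟨_, hy'K⟩ : T.K)) (by
      have h := orderOf_pow_orderOf_div (x := (⟨N.w, hwK⟩ : T.K)) (n := r) (orderOf_pos _).ne'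
        (by rw [Subgroup.orderOf_mk, N.order_w]; exact hrn)
      have hh : orderOf (⟨N.w, hwK⟩ : T.K) = n := by rw [Subgroup.orderOf_mk, N.order_w]
      rw [hh] at h
      exact h) (by rw [Subgroup.orderOf_mk, hy'o])
  obtain ⟨e, he⟩ := mem_zpowers_iff.1 hg
  have h1 := congrArg Subtype.val he
  push_cast at h1
  obtain ⟨d, hd⟩ : ∃ d : ℕ, (N.w ^ (n / r)) ^ e = η ^ d := by
    have hwη : N.w ∈ zpowers η := by
      have : η ^ (n + 1) = N.w := by
        rw [hη, N.w_t.symm.mul_pow, pow_succ N.w,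
          show N.w ^ n = 1 from orderOf_dvd_iff_pow_eq_one.1 (dvd_of_eq N.order_w), one_mul]
        obtain ⟨j, hj⟩ := T.kit.data.mo_odd
        rw [show n + 1 = 2 * (j + 1) by omega, pow_mul, pow_two, T.t_sq, one_pow, one_mul]
      exact this ▸ pow_mem (mem_zpowers η) _
    have hm : (N.w ^ (n / r)) ^ e ∈ zpowers η := zpow_mem (pow_mem hwη _) e
    obtain ⟨d, -, hd⟩ := (mem_zpowers_iff_mem_range_orderOf).1 hm |> Finset.mem_image.1
    exact ⟨d, hd.symm⟩
  exact ⟨(g : G) * c⁻¹, d, by rw [← hd, h1]; group⟩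

end Setup

end CfsgLib.ReeType
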