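import Cfsg.Agent.Lib.Char.SignedIrr
import Cfsg.Agent.Lib.Char.Exceptional

/-!
# Five generalized characters of norm three with pairwise inner products two
-/

set_option autoImplicit false
set_option linter.unusedSectionVars false

namespace CfsgLib.ReeType

open scoped ComplexConjugate
open Cfsg CfsgLib.Char CfsgLib.Char.Signed

universe u

variable {G : Type u} [Group G] [Fintype G]

theorem sg_one : Sg (fun _ : G => (1 : ℂ)) := Sg.of_irr ⟨_, isIrrCharacter_one⟩

theorem iq_mk {f g : G → ℂ} {a : ℤ} {z : ℂ} (h : classInner f g = z) (hz : z = (a : ℂ)) :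
    iq f g = a := iq_eq a (h.trans hz)

/-- The coherent decomposition of such a family. -/
theorem coherent_five (F : Fin 5 → G → ℂ) (hgen : ∀ i, Gen (F i)) (h1 : ∀ i, F i 1 = 0)
    (hgram : ∀ i j, classInner (F i) (F j) = (if i = j then 1 else 0) + 2) (a : ℤ)
    (ha : ∀ i, classInner (F i) (fun _ => 1) = a) :
    ∃ Γ : G → ℂ, ∃ X : Fin 5 → G → ℂ, Gen Γ ∧ iq Γ Γ = 2 ∧ (∀ i, Sg (X i)) ∧
      (∀ i j, i ≠ j → iq (X i) (X j) = 0) ∧ (∀ i, iq Γ (X i) = 0) ∧
      (∀ i, iq (X i) (fun _ => 1) = 0) ∧ iq Γ (fun _ => 1) = a ∧ ∀ i, F i = Γ + X i := by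
  classical
  have hone : Gen (fun _ : G => (1 : ℂ)) := sg_one.gen
  have hq : ∀ i j, iq (F i) (F j) = (if i = j then 1 else 0) + 2 := fun i j =>
    iq_mk (hgram i j) (by split_ifs <;> norm_num)
  obtain ⟨ε, hε, μ, hμ, hinj, hτ⟩ := exceptional_of_isometry (0 : Fin 5) (fun i => F i - F 0)
    (sub_self _) (fun i => isGeneralizedCharacter_sub (hgen i) (hgen 0))
    (fun i => by rw [Pi.sub_apply, h1, h1, sub_self]) fun i j hi hj => by
      simp only [classInner_sub_left, classInner_sub_right, hgram, if_pos, if_neg hi, if_neg hj.symm]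
      split_ifs <;> norm_num
  set X : Fin 5 → G → ℂ := fun i => ε • μ i with hX
  have hsg : ∀ i, Sg (X i) := by
    intro i
    rcases hε with rfl | rfl
    · simp only [hX, one_smul]; exact Sg.of_irr ⟨_, hμ i⟩
    · simp only [hX, neg_one_smul]; exact (Sg.of_irr ⟨_, hμ i⟩).neg
  have horth : ∀ i j, i ≠ j → iq (X i) (X j) = 0 := by
    intro i j hij
    refine iq_eq 0 ?_
    simp only [hX]
    rw [classInner_smul_left, classInner_smul_right,
      classInner_irr_ne (χ := ⟨_, hμ i⟩) (ψ := ⟨_, hμ j⟩) fun e => hij (hinj (congrArg Subtype.val e))]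
    simp
  have hdiff : ∀ i, F i - F 0 = X i - X 0 := fun i => by rw [hX]; simp only [← smul_sub]; exact hτ i
  set Γ := F 0 - X 0 with hΓ
  have hΓg : Gen Γ := isGeneralizedCharacter_sub (hgen 0) (hsg 0).gen
  have hdec : ∀ i, F i = Γ + X i := fun i => by
    rw [hΓ, sub_add_eq_add_sub, add_sub_assoc, ← hdiff i, add_sub_cancel]
  -- coefficients of `F 0`
  have hco : ∀ i, i ≠ 0 → iq (F 0) (X i) = iq (F 0) (X 0) - 1 := by
    intro i hi
    have h2 : iq (F 0) (F i - F 0) = -1 := by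
      rw [iq_sub_right (hgen 0) (hgen i) (hgen 0), hq, hq, if_neg hi.symm, if_pos rfl]
      norm_num
    rw [hdiff, iq_sub_right (hgen 0) (hsg i).gen (hsg 0).gen] at h2
    omega
  have hbes := Orth.bessel (G := G) (l := [X 0, X 1, X 2, X 3, X 4])
    ⟨fun b hb => by
      simp only [List.mem_cons, List.not_mem_nil, or_false] at hb
      rcases hb with rfl | rfl | rfl | rfl | rfl <;> exact hsg _,
     by simp [List.pairwise_cons, horth]⟩ (hgen 0)
  simp only [List.map_cons, List.map_nil, List.sum_cons, List.sum_nil, hco 1 (by decide),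
    hco 2 (by decide), hco 3 (by decide), hco 4 (by decide), hq, if_pos] at hbes
  set c := iq (F 0) (X 0) - 1 with hc
  have hc' : iq (F 0) (X 0) = c + 1 := by omega
  rw [hc'] at hbes
  have hc0 : c = 0 := by
    have h5 : c ≤ 0 := by nlinarith
    have h6 : -1 < c := by nlinarith
    omega
  have hΓX : ∀ i, iq Γ (X i) = 0 := by
    intro i
    rw [hΓ, iq_sub_left (hgen 0) (hsg 0).gen (hsg i).gen]
    rcases eq_or_ne i 0 with rfl | hi
    · rw [hc', hc0, (hsg 0).iq_self]; norm_num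
    · rw [hco i hi, hc0, horth 0 i hi.symm]; norm_num
  have hΓn : iq Γ Γ = 2 := by
    have h2 : iq (F 0) (F 0) = 3 := by rw [hq, if_pos rfl]; norm_num
    rw [hdec 0, iq_add_left hΓg (hsg 0).gen (isGeneralizedCharacter_add hΓg (hsg 0).gen),
      iq_add_right hΓg hΓg (hsg 0).gen, iq_add_right (hsg 0).gen hΓg (hsg 0).gen,
      iq_comm (hsg 0).gen hΓg, hΓX, (hsg 0).iq_self] at h2
    omega
  have hX1 : ∀ i, iq Γ (fun _ => 1) + iq (X i) (fun _ => 1) = a := fun i => by
    rw [← iq_add_left hΓg (hsg i).gen hone, ← hdec i]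
    exact iq_eq a (ha i)
  have hX0 : ∀ i, iq (X i) (fun _ => 1) = 0 := by
    intro i
    by_contra hne
    obtain ⟨j, hj⟩ : ∃ j : Fin 5, j ≠ i := exists_ne i
    have hj' : iq (X j) (fun _ => 1) ≠ 0 := by
      have := hX1 i; have := hX1 j; omega
    rcases (hsg i).iq_cases sg_one with h | ⟨-, h⟩ | ⟨-, h⟩
    · exact hne h
    · exact hj' (h ▸ horth j i hj)
    · refine hj' ?_
      have h2 := horth j i hj
      rw [h, iq_neg_right (hsg j).gen hone] at h2
      omega
  exact ⟨Γ, X, hΓg, hΓn, hsg, horth, hΓX, hX0, by have := hX1 0; rw [hX0 0] at this; omega, hdec⟩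

/-- Two such families, orthogonal to each other, involve different irreducible characters. -/
theorem orth_five {A B : Fin 5 → G → ℂ} (hA : ∀ i, Sg (A i)) (hB : ∀ i, Sg (B i))
    (hAA : ∀ i j, i ≠ j → iq (A i) (A j) = 0) (hBB : ∀ i j, i ≠ j → iq (B i) (B j) = 0)
    (h : ∀ i j k l, iq (A i - A j) (B k - B l) = 0) : ∀ i k, iq (A i) (B k) = 0 := by
  intro i k
  by_contra hne
  have hM : ∀ j l, iq (A i) (B k) - iq (A i) (B l) - (iq (A j) (B k) - iq (A j) (B l)) = 0 := by
    intro j l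
    rw [← iq_sub_right (hA i).gen (hB k).gen (hB l).gen, ← iq_sub_right (hA j).gen (hB k).gen (hB l).gen,
      ← iq_sub_left (hA i).gen (hA j).gen (isGeneralizedCharacter_sub (hB k).gen (hB l).gen)]
    exact h i j k l
  obtain ⟨j, hj⟩ := exists_ne i
  have key : ∀ l, l ≠ k → iq (A j) (B l) ≠ 0 := by
    intro l hl
    have h2 := hM j l
    have h3 : iq (A i) (B l) = 0 ∧ iq (A j) (B k) = 0 := by
      rcases (hA i).iq_cases (hB k) with e | ⟨-, e⟩ | ⟨-, e⟩
      · exact absurd e hne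
      · exact ⟨by rw [e]; exact hBB k l hl.symm, by rw [← e]; exact hAA j i hj⟩
      · refine ⟨by rw [e, iq_neg_left (hB k).gen (hB l).gen, hBB k l hl.symm, neg_zero], ?_⟩
        have e' : B k = -A i := by rw [e, neg_neg]
        rw [e', iq_neg_right (hA j).gen (hA i).gen, hAA j i hj, neg_zero]
    rw [h3.1, h3.2] at h2
    omega
  obtain ⟨l, l', hl, hl', hll⟩ : ∃ l l' : Fin 5, l ≠ k ∧ l' ≠ k ∧ l ≠ l' := by
    fin_cases k
    exacts [⟨1, 2, by decide, by decide, by decide⟩, ⟨0, 2, by decide, by decide, by decide⟩,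
      ⟨0, 1, by decide, by decide, by decide⟩, ⟨0, 1, by decide, by decide, by decide⟩,
      ⟨0, 1, by decide, by decide, by decide⟩]
  rcases (hA j).iq_cases (hB l) with e | ⟨-, e⟩ | ⟨-, e⟩
  · exact key l hl e
  · exact key l' hl' (by rw [e]; exact hBB l l' hll)
  · exact key l' hl' (by rw [e, iq_neg_left (hB l).gen (hB l').gen, hBB l l' hll, neg_zero])

end CfsgLib.ReeType
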