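import Cfsg.Agent.Lib.Ree.CuspBasic
import Cfsg.Agent.Lib.Char.Exceptional
import Cfsg.Agent.Lib.Char.SmallGraph.Coprime

/-!
# The exceptional characters of the torus of order `(q+1)/4`
-/

set_option autoImplicit false
set_option linter.unusedSectionVars false

namespace CfsgLib.ReeType

open scoped ComplexConjugate
open Subgroup Cfsg CfsgLib.Char CfsgLib.Char.Signed

universe u

attribute [local instance] _root_.Classical.propDecidable

theorem hom_inv_inv {Y : Type*} [Group Y] (μ : Y →* ℂˣ) : μ⁻¹⁻¹ = μ :=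
  MonoidHom.ext fun y => by simp [MonoidHom.inv_apply]

variable {G : Type u} [Group G] [Fintype G] {q m n : ℕ}

namespace Setup

variable (T : Setup G q m n)

/-- The value of a generalized character at the involution, for any frame of `K`. -/
theorem value_at_t (F : KFrame T.K q m n) (ψ : F.E →* ℂˣ) [Fintype (F.L →* ℂˣ)]
    [Fintype (F.A →* ℂˣ)] {χ : G → ℂ} (hχ : Gen χ) :
    χ T.t = ((q : ℂ) + 1) / 2 * ((∑ μ : F.L →* ℂˣ, iq (T.lift (F.Q ψ μ)) χ : ℤ) : ℂ) +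
      (n : ℂ) * ((∑ θ : F.A →* ℂˣ, iq (T.lift (F.P ψ θ)) χ : ℤ) : ℂ) := by
  rw [← T.inner_lift_regular (isClassFunction_of_isGeneralized hχ), F.regular_eq T.kit ψ,
    T.lift_add, T.lift_smul, T.lift_smul, T.lift_sum, T.lift_sum, classInner_add_right,
    classInner_smul_right, classInner_smul_right, classInner_sum_right, classInner_sum_right]
  push_cast
  congr 1
  · congr 1
    · simp [map_ofNat]
    · refine Finset.sum_congr rfl fun μ _ => ?_
      rw [iq_spec hχ (T.gen_lift (F.Q_gen _ _)), iq_comm hχ (T.gen_lift (F.Q_gen _ _))]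
  · congr 1
    · simp
    · refine Finset.sum_congr rfl fun θ _ => ?_
      rw [iq_spec hχ (T.gen_lift (F.P_gen _ _)), iq_comm hχ (T.gen_lift (F.P_gen _ _))]

end Setup

namespace CuspCtx

variable {T : Setup G q m n} (X : CuspCtx T)

theorem cA_cube (ψ : X.K'.A →* ℂˣ) : ((ψ.comp X.cA).comp X.cA).comp X.cA = ψ := by
  refine MonoidHom.ext fun y => congrArg ψ ?_
  apply Subtype.ext; apply Subtype.ext
  show X.τ * (X.τ * (X.τ * ((y : T.K) : G) * X.τ⁻¹) * X.τ⁻¹) * X.τ⁻¹ = ((y : T.K) : G)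
  have h3 : X.τ * X.τ * X.τ = 1 := by
    have := pow_orderOf_eq_one X.τ
    rwa [X.order_τ, pow_three, ← mul_assoc] at this
  calc _ = (X.τ * X.τ * X.τ) * ((y : T.K) : G) * (X.τ * X.τ * X.τ)⁻¹ := by group
    _ = _ := by rw [h3, one_mul, inv_one, mul_one]

theorem cA_fixed {y : X.K'.A} (h : X.cA y = y) : y = 1 := by
  have h1 : X.τ * ((y : T.K) : G) * X.τ⁻¹ = ((y : T.K) : G) :=
    congrArg (fun z : X.K'.A => ((z : T.K) : G)) h
  exact Subtype.ext (Subtype.ext (X.F.tau_fpf X.τ_t ((X.hA _).1 y.2) (mul_inv_eq_iff_eq_mul.1 h1)))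

theorem comp_ne {ψ : X.K'.A →* ℂˣ} (hψ : ψ ≠ 1) : ψ.comp X.cA ≠ ψ := fun e => by
  apply hψ
  let g : X.K'.A → X.K'.A := fun y => y⁻¹ * X.cA y
  have hcomm : ∀ a b : X.K'.A, a * b = b * a := fun a b =>
    Subtype.ext (X.K'.torus_A.comm a a.2 b b.2)
  have hg : Function.Injective g := fun a b h => by
    have h1 : X.cA (a * b⁻¹) = a * b⁻¹ := by
      have h2 : X.cA a = a * (b⁻¹ * X.cA b) := by
        rw [show b⁻¹ * X.cA b = a⁻¹ * X.cA a from h.symm, mul_inv_cancel_left]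
      rw [map_mul, map_inv, h2, mul_assoc, mul_assoc, mul_inv_cancel, mul_one]
    exact mul_inv_eq_one.1 (X.cA_fixed h1)
  refine MonoidHom.ext fun y => ?_
  obtain ⟨x, hx⟩ := Finite.surjective_of_injective hg y
  rw [← hx]
  show ψ (x⁻¹ * X.cA x) = 1
  rw [map_mul, map_inv, show ψ (X.cA x) = ψ x from DFunLike.congr_fun e x, inv_mul_cancel]

theorem ne_inv {ψ : X.K'.A →* ℂˣ} (hψ : ψ ≠ 1) : ψ ≠ ψ⁻¹ := fun e => hψ (MonoidHom.ext fun y => by
  have h2 : ψ y ^ 2 = 1 := by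
    have := DFunLike.congr_fun e y
    rw [MonoidHom.inv_apply, eq_inv_iff_mul_eq_one] at this
    rwa [pow_two]
  have hm : ψ y ^ m = 1 := by
    rw [← map_pow, show y ^ m = 1 from ?_, map_one]
    exact orderOf_dvd_iff_pow_eq_one.1 ((_root_.orderOf_dvd_natCard y).trans X.K'.card_A.dvd)
  rw [MonoidHom.one_apply]
  exact orderOf_eq_one_iff.1 (Nat.eq_one_of_dvd_coprimes (Nat.coprime_two_left.2 T.kit.m_odd)
    (orderOf_dvd_of_pow_eq_one h2) (orderOf_dvd_of_pow_eq_one hm)))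

theorem comp_ne_one {ψ : X.K'.A →* ℂˣ} (hψ : ψ ≠ 1) : ψ.comp X.cA ≠ 1 := fun e => hψ (by
  rw [← X.cA_cube ψ, e]; rfl)

theorem comp_ne_inv {ψ : X.K'.A →* ℂˣ} (hψ : ψ ≠ 1) : ψ.comp X.cA ≠ ψ⁻¹ := fun e => by
  have h2 : (ψ.comp X.cA).comp X.cA = ψ := by
    rw [e]
    show (ψ.comp X.cA)⁻¹ = ψ
    rw [e, hom_inv_inv]
  exact X.comp_ne hψ (by
    have h3 := X.cA_cube ψ
    rwa [h2] at h3)

/-- The orbit of a character under `τ`. -/
noncomputable def th (φ : X.K'.A →* ℂˣ) : Fin 3 → (X.K'.A →* ℂˣ) :=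
  ![φ, φ.comp X.cA, (φ.comp X.cA).comp X.cA]

theorem th_spec {φ : X.K'.A →* ℂˣ} (hφ : φ ≠ 1) : (∀ i, X.th φ i ≠ 1) ∧
    ∀ i j, i ≠ j → X.th φ i ≠ X.th φ j ∧ X.th φ i ≠ (X.th φ j)⁻¹ := by
  have h0 : ∀ i, X.th φ i ≠ 1 := by
    intro i
    fin_cases i
    exacts [hφ, X.comp_ne_one hφ, X.comp_ne_one (X.comp_ne_one hφ)]
  have hcyc : ∀ ψ : X.K'.A →* ℂˣ, ψ ≠ 1 →
      ψ ≠ ψ.comp X.cA ∧ ψ ≠ (ψ.comp X.cA)⁻¹ ∧ ψ.comp X.cA ≠ ψ ∧ ψ.comp X.cA ≠ ψ⁻¹ :=
    fun ψ h => ⟨(X.comp_ne h).symm, fun e => X.comp_ne_inv h (by conv_rhs => rw [e, hom_inv_inv]),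
      X.comp_ne h, X.comp_ne_inv h⟩
  obtain ⟨a1, a2, a3, a4⟩ := hcyc φ hφ
  obtain ⟨b1, b2, b3, b4⟩ := hcyc _ (X.comp_ne_one hφ)
  obtain ⟨c1, c2, c3, c4⟩ := hcyc _ (X.comp_ne_one (X.comp_ne_one hφ))
  rw [X.cA_cube φ] at c1 c2 c3 c4
  refine ⟨h0, fun i j hij => ?_⟩
  fin_cases i <;> fin_cases j <;>
    first | exact absurd rfl hij | exact ⟨a1, a2⟩ | exact ⟨a3, a4⟩ | exact ⟨b1, b2⟩ | exact ⟨b3, b4⟩ |
      exact ⟨c1, c2⟩ | exact ⟨c3, c4⟩

theorem th_pair {φ : X.K'.A →* ℂˣ} (hφ : φ ≠ 1) (i j : Fin 3) :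
    ((if X.th φ i = X.th φ j then 1 else 0) +
      (if X.th φ i = (X.th φ j)⁻¹ then 1 else 0) : ℂ) = if i = j then 1 else 0 := by
  rcases eq_or_ne i j with rfl | h
  · rw [if_pos rfl, if_pos rfl, if_neg (X.ne_inv ((X.th_spec hφ).1 i)), add_zero]
  · rw [if_neg ((X.th_spec hφ).2 i j h).1, if_neg ((X.th_spec hφ).2 i j h).2, if_neg h, add_zero]

/-- The lift of `P_θ`. -/
noncomputable def LP (θ : X.K'.A →* ℂˣ) : G → ℂ := T.lift (X.K'.P X.psi θ)

theorem gen_LP (θ : X.K'.A →* ℂˣ) : Gen (X.LP θ) := T.gen_lift (X.K'.P_gen _ _)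

theorem LP_LP (θ θ' : X.K'.A →* ℂˣ) : classInner (X.LP θ) (X.LP θ') =
    4 * ((if θ = θ' then 1 else 0) + (if θ = θ'⁻¹ then 1 else 0) : ℂ) := by
  rw [LP, LP, T.inner_lift (X.K'.P_oddSupp T.kit _ _) (X.K'.P_oddSupp T.kit _ _) (X.K'.P_classFun _ _),
    X.K'.inner_P_P T.kit X.psi_ne]
  ring

theorem LP_diff (φ : X.K'.A →* ℂˣ) (k : Fin 3) :
    X.LP (X.th φ k) - X.LP (X.th φ 0) = (2 : ℂ) • (X.aInd φ - X.aInd (X.th φ k)) := by
  have hL : ∀ θ, X.LP θ = (2 : ℂ) • T.lift (X.K'.Xi X.psi) - T.lift (indFun X.K'.A (lc θ)) :=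
    fun θ => by rw [LP, KFrame.P, T.lift_sub, T.lift_smul]
  have h := X.lift_iA
  fin_cases k
  · simp [th]
  · show X.LP (φ.comp X.cA) - X.LP φ = (2 : ℂ) • (X.aInd φ - X.aInd (φ.comp X.cA))
    rw [hL, hL, h, h, X.ind_hat, X.cA_cube]
    module
  · show X.LP ((φ.comp X.cA).comp X.cA) - X.LP φ =
      (2 : ℂ) • (X.aInd φ - X.aInd ((φ.comp X.cA).comp X.cA))
    rw [hL, hL, h, h, X.cA_cube, X.ind_hat, X.ind_hat]
    module

/-- The exceptional characters of an orbit. -/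
structure Exc (φ : X.K'.A →* ℂˣ) where
  Z : G → ℂ
  Y : Fin 3 → G → ℂ
  D : ℤ
  sgZ : Sg Z
  sgY : ∀ k, Sg (Y k)
  orth : ∀ i j, i ≠ j → iq (Y i) (Y j) = 0
  orthZ : ∀ i, iq Z (Y i) = 0
  dec : ∀ k, X.LP (X.th φ k) = Z - (Y 0 + Y 1 + Y 2) + (2 : ℂ) • Y k
  D_ne : D ≠ 0
  one_Z : Z 1 = D
  one_Y : ∀ k, Y k 1 = D

theorem exists_exc {φ : X.K'.A →* ℂˣ} (hφ : φ ≠ 1) : Nonempty (X.Exc φ) := by
  set τ : Fin 3 → G → ℂ := fun k => X.aInd φ - X.aInd (X.th φ k) with hτdef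
  have hτ2 : ∀ k, X.LP (X.th φ k) - X.LP (X.th φ 0) = (2 : ℂ) • τ k := X.LP_diff φ
  have hgram : ∀ i j, i ≠ 0 → j ≠ 0 → classInner (τ i) (τ j) = if i = j then 2 else 1 := by
    intro i j hi hj
    have h : classInner ((2 : ℂ) • τ i) ((2 : ℂ) • τ j) = 4 * (if i = j then 2 else 1) := by
      rw [← hτ2, ← hτ2, classInner_sub_left, classInner_sub_right, classInner_sub_right, X.LP_LP,
        X.LP_LP, X.LP_LP, X.LP_LP, X.th_pair hφ, X.th_pair hφ, X.th_pair hφ, X.th_pair hφ,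
        if_neg hi, if_neg (Ne.symm hj), if_pos rfl]
      split_ifs <;> ring
    rw [classInner_smul_left, classInner_smul_right, map_ofNat] at h
    linear_combination (1 / 4 : ℂ) * h
  obtain ⟨ε, hε, μ, hμ, hinj, hτ⟩ := exceptional_of_isometry (0 : Fin 3) τ
    (by simp [hτdef, th]) (fun k => isGeneralizedCharacter_sub (X.gen_aInd _) (X.gen_aInd _))
    (fun k => by
      have h := congrFun (hτ2 k) 1
      rw [Pi.sub_apply, LP, LP, T.lift_one, T.lift_one, Pi.smul_apply, smul_eq_mul] at h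
      linear_combination (-1 / 2 : ℂ) * h) hgram
  set Y : Fin 3 → G → ℂ := fun k => ε • μ k with hY
  have hsg : ∀ k, Sg (Y k) := by
    intro k
    rcases hε with rfl | rfl
    · simp only [hY, one_smul]; exact Sg.of_irr ⟨_, hμ k⟩
    · simp only [hY, neg_one_smul]; exact (Sg.of_irr ⟨_, hμ k⟩).neg
  have horth : ∀ i j, i ≠ j → iq (Y i) (Y j) = 0 := by
    intro i j hij
    refine iq_eq 0 ?_
    simp only [hY]
    rw [classInner_smul_left, classInner_smul_right,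
      classInner_irr_ne (χ := ⟨_, hμ i⟩) (ψ := ⟨_, hμ j⟩) fun e => hij (hinj (congrArg Subtype.val e))]
    simp
  have hτY : ∀ k, τ k = Y k - Y 0 := fun k => by rw [hτ k, smul_sub]
  clear_value Y
  set L := X.LP (X.th φ 0) with hLdef
  have hL : Gen L := X.gen_LP _
  have hdiff : ∀ k, X.LP (X.th φ k) = L + ((2 : ℂ) • Y k - (2 : ℂ) • Y 0) := by
    intro k
    have h := hτ2 k
    rw [hτY k, smul_sub] at h
    rw [← h]
    abel
  have hLL : ∀ k, iq L (X.LP (X.th φ k)) = if (0 : Fin 3) = k then 4 else 0 := fun k => iq_eq _ (by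
    rw [hLdef, X.LP_LP, X.th_pair hφ]; split_ifs <;> norm_num)
  have hw : ∀ k : Fin 3, k ≠ 0 → iq L (Y k) = iq L (Y 0) - 2 := by
    intro k hk
    have h1 : classInner L (X.LP (X.th φ k) - L) = ((-4 : ℤ) : ℂ) := by
      rw [classInner_sub_right, hLdef, X.LP_LP, X.LP_LP, X.th_pair hφ, X.th_pair hφ, if_pos rfl,
        if_neg hk.symm]
      norm_num
    rw [hdiff k, add_sub_cancel_left, classInner_sub_right, classInner_smul_right, classInner_smul_right,
      map_ofNat, iq_spec hL (hsg k).gen, iq_spec hL (hsg 0).gen] at h1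
    have h2 : (2 : ℤ) * iq L (Y k) - 2 * iq L (Y 0) = -4 := by exact_mod_cast h1
    omega
  have hbes := Orth.bessel (G := G) (l := [Y 0, Y 1, Y 2])
    ⟨fun b hb => by
      simp only [List.mem_cons, List.not_mem_nil, or_false] at hb
      rcases hb with rfl | rfl | rfl <;> exact hsg _,
     by simp [List.pairwise_cons, horth]⟩ hL
  simp only [List.map_cons, List.map_nil, List.sum_cons, List.sum_nil, hw 1 (by decide),
    hw 2 (by decide)] at hbes
  have hn0 : iq L L = 4 := by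
    have := hLL 0
    rwa [← hLdef, if_pos rfl] at this
  rw [hn0] at hbes
  set w := iq L (Y 0) with hwdef
  have hw12 : w = 1 ∨ w = 2 := by
    have h1 : 0 < w := by nlinarith
    have h2 : w ≤ 2 := by nlinarith
    omega
  have hY2 : Gen ((2 : ℂ) • Y 0) := by simpa using Gen.zsmul (hsg 0).gen 2
  have hw1 : w = 1 := by
    refine hw12.resolve_right fun h2 => ?_
    have h3 : L - (2 : ℂ) • Y 0 = 0 := by
      refine eq_zero_of_iq_self (isGeneralizedCharacter_sub hL hY2) (iq_eq 0 ?_)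
      rw [classInner_sub_left, classInner_sub_right, classInner_sub_right, classInner_smul_right,
        classInner_smul_left, classInner_smul_left, classInner_smul_right, iq_spec hL hL,
        iq_spec hL (hsg 0).gen, iq_spec (hsg 0).gen hL, (hsg 0).2, iq_comm (hsg 0).gen hL, hn0,
        ← hwdef, h2, map_ofNat]
      norm_num
    have h4 := congrFun h3 1
    rw [Pi.sub_apply, hLdef, LP, T.lift_one, Pi.smul_apply, Pi.zero_apply, smul_eq_mul] at h4
    exact (hsg 0).apply_one_ne (by linear_combination (-1 / 2 : ℂ) * h4)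
  set Z := L - Y 0 + (Y 1 + Y 2) with hZdef
  have g01 : Gen (L - Y 0) := isGeneralizedCharacter_sub hL (hsg 0).gen
  have g12 : Gen (Y 1 + Y 2) := isGeneralizedCharacter_add (hsg 1).gen (hsg 2).gen
  have hZg : Gen Z := isGeneralizedCharacter_add g01 g12
  have hLY : ∀ j, iq L (Y j) = if j = 0 then 1 else -1 := fun j => by
    rcases eq_or_ne j 0 with rfl | hj
    · rw [if_pos rfl]; exact hw1
    · rw [if_neg hj, hw j hj, hw1]; norm_num
  have hYY : ∀ i j, iq (Y i) (Y j) = if i = j then 1 else 0 := fun i j => by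
    rcases eq_or_ne i j with rfl | h
    · rw [if_pos rfl]; exact (hsg i).iq_self
    · rw [if_neg h]; exact horth i j h
  have hZY : ∀ j, iq Z (Y j) = 0 := fun j => by
    rw [hZdef, iq_add_left g01 g12 (hsg j).gen, iq_sub_left hL (hsg 0).gen (hsg j).gen,
      iq_add_left (hsg 1).gen (hsg 2).gen (hsg j).gen, hLY, hYY, hYY, hYY]
    fin_cases j <;> simp
  have hZL : iq Z L = 1 := by
    rw [hZdef, iq_add_left g01 g12 hL, iq_sub_left hL (hsg 0).gen hL,
      iq_add_left (hsg 1).gen (hsg 2).gen hL, iq_comm (hsg 0).gen hL, iq_comm (hsg 1).gen hL,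
      iq_comm (hsg 2).gen hL, hLY, hLY, hLY, hn0]
    simp
  have hZ : Sg Z := by
    refine Sg.of_iq hZg ?_
    nth_rw 2 [hZdef]
    rw [iq_add_right hZg g01 g12, iq_sub_right hZg hL (hsg 0).gen,
      iq_add_right hZg (hsg 1).gen (hsg 2).gen, hZL, hZY, hZY, hZY]
    norm_num
  have hdec : ∀ k, X.LP (X.th φ k) = Z - (Y 0 + Y 1 + Y 2) + (2 : ℂ) • Y k := fun k => by
    rw [hdiff k, hZdef]; module
  obtain ⟨D, hD0, hD⟩ := hZ.apply_one_int
  have hk : ∀ k, Z 1 - (Y 0 1 + Y 1 1 + Y 2 1) + 2 * Y k 1 = 0 := fun k => by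
    have h := congrFun (hdec k) 1
    rw [LP, T.lift_one] at h
    simpa using h.symm
  refine ⟨⟨Z, Y, D, hZ, hsg, horth, hZY, hdec, hD0, hD, fun k => ?_⟩⟩
  have h0 := hk 0
  have h1 := hk 1
  have h2 := hk 2
  rw [hD] at h0 h1 h2
  fin_cases k <;> simp only [Fin.zero_eta, Fin.mk_one, Fin.reduceFinMk]
  · linear_combination (-1 / 2 : ℂ) * h1 + (-1 / 2 : ℂ) * h2
  · linear_combination (-1 / 2 : ℂ) * h0 + (-1 / 2 : ℂ) * h2
  · linear_combination (-1 / 2 : ℂ) * h0 + (-1 / 2 : ℂ) * h1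

variable {X} {φ : X.K'.A →* ℂˣ} (E : X.Exc φ)

/-- The coefficients of a function orthogonal to the orbit. -/
theorem coef_other {f : T.K → ℂ} (hfg : IsGeneralizedCharacter T.K f) (hf : Setup.OddSupp f)
    (horth : ∀ k, classInner f (X.K'.P X.psi (X.th φ k)) = 0) :
    (∀ k, iq (T.lift f) (E.Y k) = iq (T.lift f) E.Z) ∧
      4 * iq (T.lift f) E.Z ^ 2 ≤ iq (T.lift f) (T.lift f) ∧
      (4 * iq (T.lift f) E.Z ^ 2 = iq (T.lift f) (T.lift f) → iq (T.lift f) E.Z = 0) := by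
  set Ψ := T.lift f with hΨ
  have hP : Gen Ψ := T.gen_lift hfg
  have hzero : ∀ k, classInner Ψ (X.LP (X.th φ k)) = 0 := fun k => by
    rw [hΨ, LP, T.inner_lift hf (X.K'.P_oddSupp T.kit _ _) (X.K'.P_classFun _ _), horth k, mul_zero]
  have he : ∀ k, iq Ψ E.Z - (iq Ψ (E.Y 0) + iq Ψ (E.Y 1) + iq Ψ (E.Y 2)) + 2 * iq Ψ (E.Y k) = 0 := by
    intro k
    have h := hzero k
    rw [E.dec k, classInner_add_right, classInner_sub_right, classInner_add_right, classInner_add_right,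
      classInner_smul_right, map_ofNat, iq_spec hP E.sgZ.gen, iq_spec hP (E.sgY 0).gen,
      iq_spec hP (E.sgY 1).gen, iq_spec hP (E.sgY 2).gen, iq_spec hP (E.sgY k).gen] at h
    exact_mod_cast h
  have h0 := he 0
  have h1 := he 1
  have h2 := he 2
  set c := iq Ψ E.Z with hc
  have hy : ∀ k, iq Ψ (E.Y k) = c := by
    intro k
    fin_cases k <;> simp only [Fin.zero_eta, Fin.mk_one, Fin.reduceFinMk] <;> omega
  refine ⟨hy, ?_⟩
  set W := E.Z + (E.Y 0 + E.Y 1 + E.Y 2) with hW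
  have g01 : Gen (E.Y 0 + E.Y 1) := isGeneralizedCharacter_add (E.sgY 0).gen (E.sgY 1).gen
  have g012 : Gen (E.Y 0 + E.Y 1 + E.Y 2) := isGeneralizedCharacter_add g01 (E.sgY 2).gen
  have hWg : Gen W := isGeneralizedCharacter_add E.sgZ.gen g012
  have hiW : ∀ v : G → ℂ, Gen v →
      iq v W = iq v E.Z + (iq v (E.Y 0) + iq v (E.Y 1) + iq v (E.Y 2)) := fun v hv => by
    rw [hW, iq_add_right hv E.sgZ.gen g012, iq_add_right hv g01 (E.sgY 2).gen,
      iq_add_right hv (E.sgY 0).gen (E.sgY 1).gen]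
  have hWW : iq W W = 4 := by
    rw [hiW W hWg, iq_comm hWg E.sgZ.gen, hiW _ E.sgZ.gen]
    rw [iq_comm hWg (E.sgY 0).gen, iq_comm hWg (E.sgY 1).gen, iq_comm hWg (E.sgY 2).gen,
      hiW _ (E.sgY 0).gen, hiW _ (E.sgY 1).gen, hiW _ (E.sgY 2).gen]
    simp only [iq_comm (E.sgY _).gen E.sgZ.gen, E.orthZ, E.sgZ.iq_self, (E.sgY _).iq_self]
    simp only [E.orth 0 1 (by decide), E.orth 0 2 (by decide), E.orth 1 0 (by decide),
      E.orth 1 2 (by decide), E.orth 2 0 (by decide), E.orth 2 1 (by decide)]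
    norm_num
  have hPW : iq Ψ W = 4 * c := by rw [hiW Ψ hP, hy, hy, hy, ← hc]; ring
  have hcW : Gen ((c : ℂ) • W) := Gen.zsmul hWg c
  have hd : Gen (Ψ - (c : ℂ) • W) := isGeneralizedCharacter_sub hP hcW
  have hn : iq (Ψ - (c : ℂ) • W) (Ψ - (c : ℂ) • W) = iq Ψ Ψ - 4 * c ^ 2 := by
    rw [iq_sub_left hP hcW hd, iq_sub_right hP hP hcW, iq_sub_right hcW hP hcW,
      iq_smul_left hWg hP, iq_smul_left hWg hcW, iq_smul_right hP hWg, iq_smul_right hWg hWg,
      iq_comm hWg hP, hPW, hWW]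
    ring
  have hnn := iq_self_nonneg hd
  rw [hn] at hnn
  refine ⟨by linarith, fun heq => ?_⟩
  have h3 := congrFun (eq_zero_of_iq_self hd (by rw [hn]; omega)) 1
  rw [Pi.sub_apply, hΨ, T.lift_one, Pi.smul_apply, hW, Pi.add_apply, Pi.add_apply, Pi.add_apply,
    E.one_Z, E.one_Y, E.one_Y, E.one_Y, Pi.zero_apply, smul_eq_mul] at h3
  have h4 : c * E.D = 0 := by
    have : ((c * E.D : ℤ) : ℂ) = 0 := by push_cast; linear_combination (-1 / 4 : ℂ) * h3
    exact_mod_cast this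
  exact (mul_eq_zero.1 h4).resolve_right E.D_ne

theorem coef_Q (μ : X.K'.L →* ℂˣ) :
    iq (T.lift (X.K'.Q X.psi μ)) E.Z = 0 ∧ ∀ k, iq (T.lift (X.K'.Q X.psi μ)) (E.Y k) = 0 := by
  obtain ⟨h1, h2, h3⟩ := coef_other E (f := X.K'.Q X.psi μ) (X.K'.Q_gen _ _) (X.K'.Q_oddSupp T.kit _ _)
    fun k => X.K'.inner_Q_P T.kit X.psi_ne _ _
  have hn : iq (T.lift (X.K'.Q X.psi μ)) (T.lift (X.K'.Q X.psi μ)) =
      2 * (1 + (if μ = μ⁻¹ then 1 else 0)) := iq_eq _ (by
    rw [T.inner_lift (X.K'.Q_oddSupp T.kit _ _) (X.K'.Q_oddSupp T.kit _ _) (X.K'.Q_classFun _ _),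
      X.K'.inner_Q_Q T.kit X.psi_ne, if_pos rfl]
    split_ifs <;> norm_num)
  rw [hn] at h2 h3
  set c := iq (T.lift (X.K'.Q X.psi μ)) E.Z with hc
  have hc0 : c = 0 := by
    by_contra hne
    have hsq : 1 ≤ c ^ 2 := by
      have := sq_pos_of_ne_zero hne
      omega
    have heq : 4 * c ^ 2 = 2 * (1 + (if μ = μ⁻¹ then 1 else 0)) := by
      split_ifs at h2 ⊢ <;> omega
    exact hne (h3 heq)
  exact ⟨hc0, fun k => (h1 k).trans hc0⟩

/-- The coefficient of the lift of `P_1`. -/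
noncomputable def c1 : ℤ := iq (X.LP 1) E.Z

variable (hφ : φ ≠ 1)
include hφ

theorem c1_spec : c1 E ^ 2 ≤ 1 ∧ ∀ k, iq (X.LP 1) (E.Y k) = c1 E := by
  obtain ⟨h1, h2, -⟩ := coef_other E (f := X.K'.P X.psi 1) (X.K'.P_gen _ _) (X.K'.P_oddSupp T.kit _ _)
    fun k => by
      have h0 := (X.th_spec hφ).1 k
      rw [X.K'.inner_P_P T.kit X.psi_ne, if_neg (Ne.symm h0),
        if_neg (Ne.symm (inv_hom_ne_one h0)), add_zero, mul_zero]
  have hn : iq (X.LP 1) (X.LP 1) = 8 := iq_eq _ (by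
    rw [X.LP_LP, if_pos rfl, if_pos (MonoidHom.ext fun y => by simp [MonoidHom.inv_apply])]
    norm_num)
  refine ⟨?_, h1⟩
  have h2' : 4 * c1 E ^ 2 ≤ 8 := hn ▸ h2
  by_contra hc
  push Not at hc
  have h4 : c1 E ^ 2 = 2 := by omega
  rcases le_or_gt (c1 E) (-2) with h | h
  · nlinarith
  rcases le_or_gt 2 (c1 E) with h' | h'
  · nlinarith
  obtain h5 | h5 | h5 : c1 E = -1 ∨ c1 E = 0 ∨ c1 E = 1 := by omega
  all_goals rw [h5] at h4; norm_num at h4

theorem coef_P (θ : X.K'.A →* ℂˣ) {V : G → ℂ} (hV : V = E.Z ∨ ∃ j, V = E.Y j) :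
    iq (X.LP θ) V = (∑ k, iq (X.LP (X.th φ k)) V *
      ((if θ = X.th φ k then 1 else 0) + (if θ = (X.th φ k)⁻¹ then 1 else 0))) +
        c1 E * (if θ = 1 then 1 else 0) := by
  by_cases hθ : θ = 1
  · subst hθ
    rw [if_pos rfl, mul_one, Finset.sum_eq_zero (fun k _ => by
      rw [if_neg (Ne.symm ((X.th_spec hφ).1 k)),
        if_neg (Ne.symm (inv_hom_ne_one ((X.th_spec hφ).1 k))), add_zero, mul_zero]), zero_add]
    rcases hV with rfl | ⟨j, rfl⟩
    · rfl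
    · exact (c1_spec E hφ).2 j
  rw [if_neg hθ, mul_zero, add_zero]
  by_cases hk : ∃ k, θ = X.th φ k ∨ θ = (X.th φ k)⁻¹
  · obtain ⟨k, hk⟩ := hk
    have hP : X.K'.P X.psi θ = X.K'.P X.psi (X.th φ k) := by
      rcases hk with rfl | rfl
      · rfl
      · refine sub_eq_zero.1 (classInner_self_eq_zero ?_)
        rw [classInner_sub_left, classInner_sub_right, classInner_sub_right,
          X.K'.inner_P_P T.kit X.psi_ne, X.K'.inner_P_P T.kit X.psi_ne, X.K'.inner_P_P T.kit X.psi_ne,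
          X.K'.inner_P_P T.kit X.psi_ne]
        have h := X.ne_inv ((X.th_spec hφ).1 k)
        simp [hom_inv_inv, h, h.symm]
    rw [Finset.sum_eq_single k, show X.LP θ = X.LP (X.th φ k) from congrArg T.lift hP]
    · rcases hk with rfl | rfl
      · rw [if_pos rfl, if_neg (X.ne_inv ((X.th_spec hφ).1 k)), add_zero, mul_one]
      · rw [if_neg (X.ne_inv ((X.th_spec hφ).1 k)).symm, if_pos rfl, zero_add, mul_one]
    · intro j _ hj
      have h := (X.th_spec hφ).2 k j hj.symm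
      rcases hk with rfl | rfl
      · rw [if_neg h.1, if_neg h.2, add_zero, mul_zero]
      · rw [if_neg (fun e => h.2 (by rw [← e, hom_inv_inv])),
          if_neg (fun e => h.1 (by rw [← hom_inv_inv (X.th φ k), e, hom_inv_inv])), add_zero, mul_zero]
    · exact fun hn => absurd (Finset.mem_univ k) hn
  · push Not at hk
    rw [Finset.sum_eq_zero fun k _ => by rw [if_neg (hk k).1, if_neg (hk k).2, add_zero, mul_zero]]
    obtain ⟨h1, h2, h3⟩ := coef_other E (f := X.K'.P X.psi θ) (X.K'.P_gen _ _)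
      (X.K'.P_oddSupp T.kit _ _) fun k => by
        rw [X.K'.inner_P_P T.kit X.psi_ne, if_neg (hk k).1, if_neg (hk k).2, add_zero, mul_zero]
    have hn : iq (X.LP θ) (X.LP θ) = 4 := iq_eq _ (by
      rw [X.LP_LP, if_pos rfl, if_neg (X.ne_inv hθ)]; norm_num)
    have hc0 : iq (X.LP θ) E.Z = 0 := by
      by_contra hne
      have hsq := sq_pos_of_ne_zero hne
      have h2' : 4 * iq (X.LP θ) E.Z ^ 2 ≤ 4 := hn ▸ h2
      exact hne (h3 (by show 4 * iq (X.LP θ) E.Z ^ 2 = iq (X.LP θ) (X.LP θ); omega))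
    rcases hV with rfl | ⟨j, rfl⟩
    · exact hc0
    · exact (h1 j).trans hc0

theorem value_t {V : G → ℂ} (hV : V = E.Z ∨ ∃ j, V = E.Y j) :
    V T.t = (n : ℂ) * ((2 * (∑ k, iq (X.LP (X.th φ k)) V) + c1 E : ℤ) : ℂ) := by
  haveI : Finite (X.K'.L →* ℂˣ) := finite_dual
  haveI : Finite (X.K'.A →* ℂˣ) := finite_dual
  let _ := Fintype.ofFinite (X.K'.L →* ℂˣ)
  let _ := Fintype.ofFinite (X.K'.A →* ℂˣ)
  have hVg : Gen V := by
    rcases hV with rfl | ⟨j, rfl⟩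
    · exact E.sgZ.gen
    · exact (E.sgY j).gen
  have hQ : ∀ μ : X.K'.L →* ℂˣ, iq (T.lift (X.K'.Q X.psi μ)) V = 0 := fun μ => by
    rcases hV with rfl | ⟨j, rfl⟩
    · exact (coef_Q E μ).1
    · exact (coef_Q E μ).2 j
  rw [T.value_at_t X.K' X.psi hVg, Finset.sum_eq_zero fun μ _ => hQ μ]
  simp only [← LP.eq_def]
  rw [Finset.sum_congr rfl fun θ _ => coef_P E hφ θ hV, Finset.sum_add_distrib, Finset.sum_comm]
  simp only [← Finset.mul_sum, Finset.sum_add_distrib, Finset.sum_ite_eq', Finset.mem_univ, if_true]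
  simp only [Finset.mul_sum]
  push_cast
  simp only [mul_one, ← Finset.mul_sum, ← Finset.sum_mul]
  ring

theorem Z_t : E.Z T.t = (n : ℂ) * (6 + (c1 E : ℂ)) := by
  have h : ∀ k, iq (X.LP (X.th φ k)) E.Z = 1 := fun k => by
    have g : Gen (E.Y 0 + E.Y 1) := isGeneralizedCharacter_add (E.sgY 0).gen (E.sgY 1).gen
    refine iq_eq 1 ?_
    rw [E.dec k, classInner_add_left, classInner_sub_left, classInner_add_left, classInner_add_left,
      classInner_smul_left, E.sgZ.2, iq_spec (E.sgY 0).gen E.sgZ.gen, iq_spec (E.sgY 1).gen E.sgZ.gen,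
      iq_spec (E.sgY 2).gen E.sgZ.gen, iq_spec (E.sgY k).gen E.sgZ.gen]
    simp only [iq_comm (E.sgY _).gen E.sgZ.gen, E.orthZ]
    simp
  rw [value_t E hφ (Or.inl rfl)]
  simp only [h, Fin.sum_univ_three]
  push_cast
  ring

theorem Y_t (j : Fin 3) : E.Y j T.t = (n : ℂ) * (-2 + (c1 E : ℂ)) := by
  have h : ∀ k, iq (X.LP (X.th φ k)) (E.Y j) = 2 * (if k = j then 1 else 0) - 1 := fun k => by
    have hYY : ∀ i l, iq (E.Y i) (E.Y l) = if i = l then 1 else 0 := fun i l => by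
      rcases eq_or_ne i l with rfl | h
      · rw [if_pos rfl]; exact (E.sgY i).iq_self
      · rw [if_neg h]; exact E.orth i l h
    refine iq_eq _ ?_
    rw [E.dec k, classInner_add_left, classInner_sub_left, classInner_add_left, classInner_add_left,
      classInner_smul_left, iq_spec E.sgZ.gen (E.sgY j).gen, iq_spec (E.sgY 0).gen (E.sgY j).gen,
      iq_spec (E.sgY 1).gen (E.sgY j).gen, iq_spec (E.sgY 2).gen (E.sgY j).gen,
      iq_spec (E.sgY k).gen (E.sgY j).gen, E.orthZ, hYY, hYY, hYY, hYY]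
    fin_cases j <;> fin_cases k <;> simp <;> norm_num
  rw [value_t E hφ (Or.inr ⟨j, rfl⟩)]
  simp only [h, Fin.sum_univ_three]
  fin_cases j <;> simp <;> ring

/-- The second equation for the number of involutions. -/
theorem second_equation : ((n : ℤ) * (c1 E + 2)) * (Nat.card {x : G // IsConj T.t x} : ℤ) =
    (q : ℤ) ^ 2 * E.D := by
  have hI : (Nat.card {x : G // IsConj T.t x} : ℂ) ≠ 0 := by
    have : Nonempty {x : G // IsConj T.t x} := ⟨⟨T.t, IsConj.refl _⟩⟩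
    exact_mod_cast Nat.card_pos.ne'
  have hq := T.qfun_lift (X.K'.P_oddSupp T.kit X.psi (X.th φ 0))
  rw [X.K'.sum_P_invCount T.kit X.psi_ne ((X.th_spec hφ).1 0)] at hq
  change qfun T.t (X.LP (X.th φ 0)) = _ at hq
  rw [show X.LP (X.th φ 0) = E.Z + E.Y 0 - E.Y 1 - E.Y 2 by rw [E.dec 0]; module, qfun_sub, qfun_sub,
    qfun_add, qfun_sg _ E.sgZ, qfun_sg _ (E.sgY 0), qfun_sg _ (E.sgY 1), qfun_sg _ (E.sgY 2),
    Z_t E hφ, Y_t E hφ, Y_t E hφ, Y_t E hφ, E.one_Z, E.one_Y, E.one_Y, E.one_Y] at hq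
  have hD : (E.D : ℂ) ≠ 0 := by exact_mod_cast E.D_ne
  have hn : (n : ℂ) ≠ 0 := by exact_mod_cast T.kit.pos.2.2.ne'
  field_simp at hq
  have h : ((n : ℂ) * ((c1 E : ℂ) + 2)) * (Nat.card {x : G // IsConj T.t x} : ℂ) =
      (q : ℂ) ^ 2 * (E.D : ℂ) := by
    refine mul_left_cancel₀ (by norm_num : (16 : ℂ) ≠ 0) ?_
    linear_combination hq
  exact_mod_cast h

end CuspCtx

namespace Setup

variable (T : Setup G q m n)

include T in
theorem three_pow_dvd {k : ℕ} (hk : q = 3 ^ (2 * k + 1)) :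
    (3 : ℤ) ^ (4 * k + 1) ∣ (Nat.card {x : G // IsConj T.t x} : ℤ) := by
  obtain ⟨X⟩ := T.exists_cuspCtx
  obtain ⟨φ, hφ⟩ : ∃ φ : X.K'.A →* ℂˣ, φ ≠ 1 := by
    let _ : CommGroup X.K'.A :=
      { (inferInstance : Group X.K'.A) with
        mul_comm := fun a b => Subtype.ext (X.K'.torus_A.comm a a.2 b b.2) }
    obtain ⟨y, hy⟩ : ∃ y : X.K'.A, y ≠ 1 := by
      by_contra hc
      push Not at hc
      have h1 : Nat.card X.K'.A = 1 := Nat.card_eq_one_iff_unique.2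
        ⟨⟨fun a b => (hc a).trans (hc b).symm⟩, ⟨1⟩⟩
      rw [X.K'.card_A] at h1
      have := T.one_lt_m
      omega
    obtain ⟨φ, hφ⟩ := CommGroup.exists_apply_ne_one_of_hasEnoughRootsOfUnity X.K'.A ℂ hy
    exact ⟨φ, fun e => hφ (by rw [e]; rfl)⟩
  obtain ⟨E⟩ := X.exists_exc hφ
  have heq := CuspCtx.second_equation E hφ
  have hc := (CuspCtx.c1_spec E hφ).1
  set c := CuspCtx.c1 E
  set I : ℤ := (Nat.card {x : G // IsConj T.t x} : ℤ)
  have hq2 : (q : ℤ) ^ 2 = 3 ^ (4 * k + 1) * 3 := by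
    rw [hk]; push_cast; rw [← pow_mul, ← pow_succ]
    congr 1; omega
  have hcn : IsCoprime ((3 : ℤ) ^ (4 * k + 1)) (n : ℤ) := by
    refine (Int.prime_three.coprime_iff_not_dvd.2 fun h => T.kit.three_not_n ?_).pow_left
    exact_mod_cast h
  have h1 : (3 : ℤ) ^ (4 * k + 1) * 3 ∣ ((n : ℤ) * (c + 2)) * I := by
    rw [heq, hq2]; exact dvd_mul_right _ _
  have h2 : (3 : ℤ) ^ (4 * k + 1) ∣ n * ((c + 2) * I) :=
    (mul_assoc _ _ I) ▸ (dvd_mul_right _ _).trans h1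
  obtain hcv | hcv | hcv : c = -1 ∨ c = 0 ∨ c = 1 := by
    have a : -1 ≤ c := by nlinarith
    have b : c ≤ 1 := by nlinarith
    omega
  · rw [hcv] at h2
    have := hcn.dvd_of_dvd_mul_left h2
    simpa using this
  · rw [hcv] at h2
    have h3 := hcn.dvd_of_dvd_mul_left h2
    exact ((Int.prime_three.coprime_iff_not_dvd.2 (by norm_num : ¬ (3 : ℤ) ∣ 0 + 2)).pow_left).dvd_of_dvd_mul_left h3
  · rw [hcv] at h1
    have hcn' : IsCoprime ((3 : ℤ) ^ (4 * k + 1) * 3) (n : ℤ) :=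
      hcn.mul_left (Int.prime_three.coprime_iff_not_dvd.2 fun h => T.kit.three_not_n (by exact_mod_cast h))
    have h3 := hcn'.dvd_of_dvd_mul_left ((mul_assoc _ _ I) ▸ h1)
    rw [show ((1 : ℤ) + 2) * I = I * 3 by ring] at h3
    exact (mul_dvd_mul_iff_right (by norm_num : (3 : ℤ) ≠ 0)).1 h3

include T in
theorem card_modEq_three {r : ℕ} (hr : r.Prime) (hrm : r ∣ m) :
    Nat.card {x : G // IsConj T.t x} ≡ 3 [MOD r] := by
  obtain ⟨X⟩ := T.exists_cuspCtx
  haveI := Fact.mk hr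
  set v : G := X.F.a ^ (m / r) with hv
  have hvo : orderOf v = r := by
    have h := orderOf_pow_orderOf_div (x := X.F.a) (n := r) (orderOf_pos _).ne'
      (X.F.order_a.symm ▸ hrm)
    rwa [X.F.order_a] at h
  have hvA : v ∈ zpowers X.F.a := pow_mem (mem_zpowers _) _
  have hv1 : v ≠ 1 := fun e => hr.one_lt.ne (by rw [← hvo, e, orderOf_one])
  let σ : Equiv.Perm {x : G // IsConj T.t x} :=
    (MulAut.conj v).toEquiv.subtypeEquiv fun x => by
      refine ⟨fun h => h.trans (isConj_iff.2 ⟨v, rfl⟩), fun h => h.trans ?_⟩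
      exact (isConj_iff.2 ⟨v, rfl⟩ : IsConj x (v * x * v⁻¹)).symm
  have hσk : ∀ (k : ℕ) (a : {x : G // IsConj T.t x}), ((σ ^ k) a : G) = v ^ k * a * (v ^ k)⁻¹ := by
    intro k
    induction k with
    | zero => intro a; simp
    | succ k ih =>
      intro a
      rw [pow_succ', Equiv.Perm.mul_apply]
      show v * ((σ ^ k) a : G) * v⁻¹ = _
      rw [ih a, pow_succ']
      group
  have hσ : σ ^ r = 1 := Equiv.ext fun a => Subtype.ext (by
    rw [hσk, ← hvo, pow_orderOf_eq_one]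
    simp)
  have hmod := SmallGraph.card_fixed_modEq (r := r) σ hσ
  suffices e : Nat.card {a : {x : G // IsConj T.t x} // σ a = a} = 3 by rwa [e] at hmod
  have hfix : ∀ a : {x : G // IsConj T.t x}, σ a = a ↔ X.F.InV (a : G) := by
    intro a
    refine ⟨fun h => ?_, fun h => Subtype.ext ?_⟩
    · have h1 : v * (a : G) * v⁻¹ = a := congrArg Subtype.val h
      obtain ⟨c, hc⟩ := isConj_iff.1 a.2
      exact X.F.invol_inV hvA hv1 (hc ▸ Invol.invol_conj T.order_t c)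
        (mul_inv_eq_iff_eq_mul.1 h1).symm
    · show v * (a : G) * v⁻¹ = a
      have hc : Commute v (a : G) := (X.F.a_comm h).pow_left _
      rw [hc.eq, mul_inv_cancel_right]
  have e : {a : {x : G // IsConj T.t x} // σ a = a} ≃ ({T.t, X.F.u, T.t * X.F.u} : Finset G) :=
    { toFun := fun a => ⟨a.1, by simpa [Setup.VFrame.InV] using (hfix a.1).1 a.2⟩
      invFun := fun g => ⟨⟨g, T.conj g (Setup.VFrame.InV.order X.F
          (by
          simpa only [Setup.VFrame.InV, Finset.mem_insert, Finset.mem_singleton] using g.2))⟩,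
        (hfix _).2 (by
          simpa only [Setup.VFrame.InV, Finset.mem_insert, Finset.mem_singleton] using g.2)⟩
      left_inv := fun a => Subtype.ext (Subtype.ext rfl)
      right_inv := fun g => rfl }
  rw [Nat.card_congr e, Nat.card_eq_fintype_card, Fintype.card_coe, Finset.card_insert_of_notMem (by
    simp [X.F.ne.symm, X.F.tu_ne_t.symm]), Finset.card_pair X.F.tu_ne_u.symm]

end Setup

end CfsgLib.ReeType
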