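import Cfsg.Agent.Lib.Ree.FamilyBasic

/-!
# The torus of order `(q+1)/4` inside `V × ⟨a⟩`
-/

set_option autoImplicit false
set_option linter.unusedSectionVars false

namespace CfsgLib.ReeType

open scoped ComplexConjugate
open Subgroup Cfsg CfsgLib.Char CfsgLib.Char.Signed

universe u

attribute [local instance] _root_.Classical.propDecidable

/-- Data for the torus of order `(q+1)/4`. -/
structure CuspCtx {G : Type u} [Group G] {q m n : ℕ} (T : Setup G q m n) where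
  K' : KFrame T.K q m n
  psi : K'.E →* ℂˣ
  psi_ne : psi ≠ 1
  F : Setup.VFrame T
  hA : ∀ x : T.K, x ∈ K'.A ↔ (x : G) ∈ zpowers F.a
  τ : G
  order_τ : orderOf τ = 3
  τ_t : τ * T.t * τ⁻¹ = F.u
  τ_u : τ * F.u * τ⁻¹ = T.t * F.u

variable {G : Type u} [Group G] [Fintype G] {q m n : ℕ}

namespace Setup

variable (T : Setup G q m n)

include T in
theorem exists_cuspCtx : Nonempty (CuspCtx T) := by
  obtain ⟨X⟩ := T.exists_torusCtx
  set K' := X.F with hK
  obtain ⟨x, hx, hx1⟩ : ∃ x ∈ K'.A, x ≠ 1 := by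
    rcases K'.A.bot_or_exists_ne_one with e | e
    · have h := K'.card_A
      rw [e, card_bot] at h
      have := T.one_lt_m
      omega
    · exact e
  have hxG : (x : G) ≠ 1 := fun e => hx1 (Subtype.ext e)
  have hxm : orderOf (x : G) ∣ m := by
    rw [Subgroup.orderOf_coe]
    exact (Subgroup.orderOf_dvd_natCard _ hx).trans K'.card_A.dvd
  obtain ⟨F, hF⟩ := T.exists_frame_mem (T.comm_t _ x.2) hxG hxm
  have hle : ∀ y ∈ K'.A, (y : G) ∈ zpowers F.a := fun y hy => by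
    have hc : Commute (y : G) x := congrArg Subtype.val (K'.torus_A.comm y hy x hx)
    obtain ⟨ht, hu, -⟩ := F.mem_D.1 (F.cent_A hF hxG hc)
    refine F.mem_A_of_odd ht hu (T.kit.m_odd.of_dvd_nat ?_)
    rw [Subgroup.orderOf_coe]
    exact (Subgroup.orderOf_dvd_natCard _ hy).trans K'.card_A.dvd
  have heq : K'.A.map T.K.subtype = zpowers F.a := by
    refine eq_of_le_of_card_ge (fun g hg => ?_) ?_
    · obtain ⟨y, hy, rfl⟩ := hg
      exact hle y hy
    · rw [Nat.card_zpowers, F.order_a, card_map_of_injective T.K.subtype_injective, K'.card_A]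
  obtain ⟨τ, hτ, h1, h2⟩ := F.exists_tau
  refine ⟨⟨K', X.psi, X.psi_ne, F, fun y => ⟨hle y, fun hy => ?_⟩, τ, hτ, h1, h2⟩⟩
  rw [← heq] at hy
  obtain ⟨z, hz, hzy⟩ := hy
  exact (Subtype.ext hzy : z = y) ▸ hz

end Setup

namespace CuspCtx

variable {T : Setup G q m n} (X : CuspCtx T)

theorem D_le : X.F.D ≤ T.C := fun _ hg =>
  mem_centralizer_singleton_iff.2 (X.F.mem_D.1 hg).1.eq

theorem card_D : Nat.card X.F.D = 4 * m := X.F.card_D

/-- An element of `V ×⟨a⟩` to the power `m` lies in the four-group. -/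
theorem pow_m_mem (g : X.F.D) : (g : G) ^ m ∈ X.F.V ∧ (g : G) ^ (m + 1) ∈ zpowers X.F.a := by
  obtain ⟨e, he, i, hg⟩ := X.F.D_form g.2
  have hc : Commute e (X.F.a ^ i) := by
    rcases X.F.mem_V.1 he with rfl | h
    · exact Commute.one_left _
    · exact (X.F.a_comm h).symm.zpow_right i
  rw [hg, hc.mul_pow, hc.mul_pow, X.F.a_zpow_pow_m, mul_one]
  refine ⟨pow_mem he m, ?_⟩
  obtain ⟨j, hj⟩ := T.kit.m_odd
  have he2 : e ^ (m + 1) = 1 := by
    have e1 : e ^ (m + 1) = (e * e) ^ (j + 1) := by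
      rw [← pow_two, ← pow_mul]
      exact congrArg (e ^ ·) (by omega)
    rw [e1, X.F.sq_V he, one_pow]
  rw [he2, one_mul]
  exact pow_mem (zpow_mem (mem_zpowers _) i) _

theorem D_mul_pow (g h : X.F.D) (k : ℕ) :
    ((g * h : X.F.D) : G) ^ k = (g : G) ^ k * (h : G) ^ k := by
  push_cast
  exact (X.F.D_comm g.2 h.2).mul_pow k

/-- The projection onto the torus. -/
noncomputable def projA : X.F.D →* X.K'.A where
  toFun g := ⟨⟨(g : G) ^ (m + 1), by
      have h := (X.pow_m_mem g).2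
      exact T.mem_K_of_odd (X.F.A_comm_V h (Or.inl rfl))
        (T.kit.m_odd.of_dvd_nat (X.F.orderOf_dvd_m h))⟩, (X.hA _).2 (X.pow_m_mem g).2⟩
  map_one' := by
    apply Subtype.ext; apply Subtype.ext
    show ((1 : X.F.D) : G) ^ (m + 1) = 1
    rw [OneMemClass.coe_one, one_pow]
  map_mul' g h := by
    apply Subtype.ext; apply Subtype.ext
    show ((g * h : X.F.D) : G) ^ (m + 1) = (g : G) ^ (m + 1) * (h : G) ^ (m + 1)
    exact X.D_mul_pow g h _

theorem inV_prod {x y z : G} (hx : X.F.InV x) (hy : X.F.InV y) (hz : X.F.InV z) (hyx : y ≠ x)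
    (hzx : z ≠ x) : y * z = 1 ∨ y * z = x := by
  have h1 := T.t_sq
  have h2 := X.F.u_sq
  have h3 : X.F.u * T.t = T.t * X.F.u := X.F.comm_u.eq
  have h4 : T.t * (T.t * X.F.u) = X.F.u := X.F.t_mul_tu
  have h5 : X.F.u * (T.t * X.F.u) = T.t := X.F.u_mul_tu
  have h6 : T.t * X.F.u * T.t = X.F.u := by rw [mul_assoc, h3, h4]
  have h7 : T.t * X.F.u * X.F.u = T.t := by rw [mul_assoc, h2, mul_one]
  have h8 : T.t * X.F.u * (T.t * X.F.u) = 1 := Invol.invol_mul_self X.F.order_tu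
  rcases hx with rfl | rfl | rfl <;> rcases hy with rfl | rfl | rfl <;>
    rcases hz with rfl | rfl | rfl <;>
    first
      | exact absurd rfl hyx
      | exact absurd rfl hzx
      | simp only [h1, h2, h3, h4, h5, h6, h7, h8, true_or, or_true]

/-- The sign character with kernel generated by `x` and the torus. -/
noncomputable def sigma (x : G) (hx : X.F.InV x) : X.F.D →* ℂˣ where
  toFun g := if (g : G) ^ m = 1 ∨ (g : G) ^ m = x then 1 else -1
  map_one' := if_pos (Or.inl (by rw [OneMemClass.coe_one, one_pow]))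
  map_mul' g h := by
    have hx2 : x * x = 1 := Invol.invol_mul_self (Setup.VFrame.InV.order X.F hx)
    rw [X.D_mul_pow g h m]
    set a := (g : G) ^ m with ha
    set b := (h : G) ^ m with hb
    have haV := X.F.mem_V.1 (X.pow_m_mem g).1
    have hbV := X.F.mem_V.1 (X.pow_m_mem h).1
    rw [← ha] at haV
    rw [← hb] at hbV
    clear_value a b
    by_cases ha' : a = 1 ∨ a = x
    · rw [if_pos ha', one_mul]
      refine if_congr ?_ rfl rfl
      rcases ha' with rfl | rfl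
      · rw [one_mul]
      · constructor
        · rintro (e | e)
          · exact Or.inr ((eq_inv_of_mul_eq_one_right e).trans (inv_eq_of_mul_eq_one_right hx2))
          · exact Or.inl (mul_eq_left.1 e)
        · rintro (rfl | rfl)
          · exact Or.inr (mul_one _)
          · exact Or.inl hx2
    · rw [if_neg ha']
      by_cases hb' : b = 1 ∨ b = x
      · rw [if_pos hb', mul_one, if_neg]
        rcases hb' with rfl | rfl
        · rwa [mul_one]
        · rintro (e | e)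
          · exact ha' (Or.inr ((eq_inv_of_mul_eq_one_left e).trans (inv_eq_of_mul_eq_one_right hx2)))
          · exact ha' (Or.inl (mul_eq_right.1 e))
      · rw [if_neg hb', neg_mul_neg, one_mul, if_pos]
        exact X.inV_prod hx (haV.resolve_left fun e => ha' (Or.inl e))
          (hbV.resolve_left fun e => hb' (Or.inl e)) (fun e => ha' (Or.inr e)) fun e => hb' (Or.inr e)

/-- The character `φ` extended to `V × ⟨a⟩`. -/
noncomputable def hat (φ : X.K'.A →* ℂˣ) : X.F.D →* ℂˣ := φ.comp X.projA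

theorem inV_t : X.F.InV T.t := Or.inl rfl
theorem inV_u : X.F.InV X.F.u := Or.inr (Or.inl rfl)
theorem inV_tu : X.F.InV (T.t * X.F.u) := Or.inr (Or.inr rfl)

/-- The function supported on `t⟨a⟩`. -/
noncomputable def hfun (φ : X.K'.A →* ℂˣ) : X.F.D → ℂ :=
  lc (X.hat φ) + lc (X.sigma _ X.inV_t * X.hat φ) - lc (X.sigma _ X.inV_u * X.hat φ) -
    lc (X.sigma _ X.inV_tu * X.hat φ)

theorem hfun_apply (φ : X.K'.A →* ℂˣ) (g : X.F.D) :
    X.hfun φ g = if (g : G) ^ m = T.t then 4 * (φ (X.projA g) : ℂ) else 0 := by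
  have e1 : T.t ≠ X.F.u := X.F.ne.symm
  have e2 : T.t ≠ T.t * X.F.u := X.F.tu_ne_t.symm
  have e3 : X.F.u ≠ T.t * X.F.u := X.F.tu_ne_u.symm
  have f1 : (1 : G) ≠ T.t := (Invol.invol_ne_one T.order_t).symm
  have f2 : (1 : G) ≠ X.F.u := (Invol.invol_ne_one X.F.order_u).symm
  have f3 : (1 : G) ≠ T.t * X.F.u := (Invol.invol_ne_one X.F.order_tu).symm
  simp only [hfun, Pi.add_apply, Pi.sub_apply, lc_apply, MonoidHom.mul_apply, Units.val_mul, sigma,
    MonoidHom.coe_mk, OneHom.coe_mk, hat, MonoidHom.comp_apply]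
  rcases X.F.mem_V.1 (X.pow_m_mem g).1 with h | h | h | h <;> rw [h] <;>
    simp [e1, e1.symm, e2, e2.symm, e3, e3.symm, f1, f2, f3, f1.symm, f2.symm, f3.symm] <;> ring

theorem tau_conj_D {g : G} (hg : g ∈ X.F.D) : X.τ * g * X.τ⁻¹ ∈ X.F.D := by
  obtain ⟨e, he, i, rfl⟩ := X.F.D_form hg
  have ht : X.F.InV (X.τ * T.t * X.τ⁻¹) := X.τ_t ▸ X.inV_u
  have hu : X.F.InV (X.τ * X.F.u * X.τ⁻¹) := X.τ_u ▸ X.inV_tu
  have ha := X.F.conj_a_mem ht hu
  have hVD : ∀ e ∈ X.F.V, e ∈ X.F.D := by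
    intro e he
    rcases X.F.mem_V.1 he with rfl | h
    · exact one_mem _
    · exact X.F.mem_D.2 ⟨Setup.VFrame.InV.commute X.F h X.inV_t, Setup.VFrame.InV.commute X.F h X.inV_u,
        (X.F.a_comm h).symm⟩
  have haD : zpowers X.F.a ≤ X.F.D := zpowers_le.2
    (X.F.mem_D.2 ⟨X.F.a_t, X.F.a_u, Commute.refl _⟩)
  rw [← conj_mul, ← conj_zpow]
  refine mul_mem (hVD _ ?_) (haD (zpow_mem ha i))
  rcases X.F.mem_V.1 he with rfl | h
  · rw [mul_one, mul_inv_cancel]; exact one_mem _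
  · exact X.F.mem_V.2 (Or.inr (X.F.inV_conj ht hu h))

/-- Conjugation by `τ` on `V × ⟨a⟩`. -/
def cD : X.F.D →* X.F.D where
  toFun g := ⟨X.τ * g * X.τ⁻¹, X.tau_conj_D g.2⟩
  map_one' := Subtype.ext (by simp)
  map_mul' g h := Subtype.ext (by push_cast; group)

theorem tau_conj_A {y : X.K'.A} : X.τ * ((y : T.K) : G) * X.τ⁻¹ ∈ zpowers X.F.a := by
  obtain ⟨i, hi⟩ := mem_zpowers_iff.1 ((X.hA _).1 y.2)
  rw [← hi, ← conj_zpow]
  exact zpow_mem (X.F.conj_a_mem (X.τ_t ▸ X.inV_u) (X.τ_u ▸ X.inV_tu)) i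

/-- Conjugation by `τ` on the torus. -/
def cA : X.K'.A →* X.K'.A where
  toFun y := ⟨⟨X.τ * ((y : T.K) : G) * X.τ⁻¹, T.mem_K_of_odd
    (X.F.A_comm_V X.tau_conj_A (Or.inl rfl))
    (T.kit.m_odd.of_dvd_nat (X.F.orderOf_dvd_m X.tau_conj_A))⟩, (X.hA _).2 X.tau_conj_A⟩
  map_one' := Subtype.ext (Subtype.ext (by simp))
  map_mul' g h := Subtype.ext (Subtype.ext (by push_cast; group))

theorem projA_cD (g : X.F.D) : X.projA (X.cD g) = X.cA (X.projA g) := by
  apply Subtype.ext; apply Subtype.ext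
  show (X.τ * (g : G) * X.τ⁻¹) ^ (m + 1) = X.τ * (g : G) ^ (m + 1) * X.τ⁻¹
  exact conj_pow

theorem indFun_cD (f : X.F.D → ℂ) : indFun X.F.D (fun g => f (X.cD g)) = indFun X.F.D f := by
  funext g
  simp only [indFun]
  congr 1
  refine Fintype.sum_bijective (fun x => x * X.τ⁻¹) (Group.mulRight_bijective _) _ _ fun x => ?_
  have e : (x * X.τ⁻¹)⁻¹ * g * (x * X.τ⁻¹) = X.τ * (x⁻¹ * g * x) * X.τ⁻¹ := by group
  show extendByZero X.F.D (fun h => f (X.cD h)) (x⁻¹ * g * x) =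
    extendByZero X.F.D f ((x * X.τ⁻¹)⁻¹ * g * (x * X.τ⁻¹))
  rw [e]
  by_cases hm : x⁻¹ * g * x ∈ X.F.D
  · rw [extendByZero_mem _ _ hm, extendByZero_mem _ _ (X.tau_conj_D hm)]
    rfl
  · rw [extendByZero_not_mem _ _ hm, extendByZero_not_mem]
    intro hm'
    apply hm
    have h2 := X.tau_conj_D (X.tau_conj_D hm')
    have h3 : X.τ * X.τ * X.τ = 1 := by
      have := pow_orderOf_eq_one X.τ
      rwa [X.order_τ, pow_three, ← mul_assoc] at this
    rwa [show X.τ * (X.τ * (X.τ * (x⁻¹ * g * x) * X.τ⁻¹) * X.τ⁻¹) * X.τ⁻¹ =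
      (X.τ * X.τ * X.τ) * (x⁻¹ * g * x) * (X.τ * X.τ * X.τ)⁻¹ by group, h3, one_mul, inv_one,
      mul_one] at h2

theorem tau_tu : X.τ * (T.t * X.F.u) * X.τ⁻¹ = T.t := by
  rw [← conj_mul, X.τ_t, X.τ_u, X.F.u_mul_tu]

theorem sigma_cD {x y : G} (hx : X.F.InV x) (hy : X.F.InV y) (hxy : X.τ * y * X.τ⁻¹ = x) (g : X.F.D) :
    X.sigma x hx (X.cD g) = X.sigma y hy g := by
  simp only [sigma, MonoidHom.coe_mk, OneHom.coe_mk]
  refine if_congr ?_ rfl rfl
  show (X.τ * (g : G) * X.τ⁻¹) ^ m = 1 ∨ (X.τ * (g : G) * X.τ⁻¹) ^ m = x ↔ _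
  rw [conj_pow, conj_eq_one_iff, ← hxy]
  refine or_congr Iff.rfl ⟨fun e => mul_left_cancel (mul_right_cancel e), fun e => by rw [e]⟩

/-- The generalized character attached to a character of the torus. -/
noncomputable def aInd (φ : X.K'.A →* ℂˣ) : G → ℂ :=
  indFun X.F.D (lc (X.sigma _ X.inV_t * X.hat φ))

theorem gen_aInd (φ : X.K'.A →* ℂˣ) : Gen (X.aInd φ) :=
  isGeneralizedCharacter_indFun _ (isGeneralizedCharacter_lc _)

theorem ind_hat (φ : X.K'.A →* ℂˣ) :
    indFun X.F.D (lc (X.hat (φ.comp X.cA))) = indFun X.F.D (lc (X.hat φ)) := by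
  rw [← X.indFun_cD (lc (X.hat φ))]
  exact congrArg _ (funext fun g => by
    simp only [lc_apply, hat, MonoidHom.comp_apply, X.projA_cD])

theorem ind_sigma {x y : G} (hx : X.F.InV x) (hy : X.F.InV y) (hxy : X.τ * y * X.τ⁻¹ = x)
    (φ : X.K'.A →* ℂˣ) : indFun X.F.D (lc (X.sigma y hy * X.hat (φ.comp X.cA))) =
      indFun X.F.D (lc (X.sigma x hx * X.hat φ)) := by
  rw [← X.indFun_cD (lc (X.sigma x hx * X.hat φ))]
  exact congrArg _ (funext fun g => by
    simp only [lc_apply, hat, MonoidHom.comp_apply, MonoidHom.mul_apply, X.projA_cD,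
      X.sigma_cD hx hy hxy])

/-- The induced function is the lift of `Ind_A φ`. -/
theorem ind_hfun (φ : X.K'.A →* ℂˣ) :
    indFun X.F.D (X.hfun φ) = T.lift (indFun X.K'.A (lc φ)) := by
  rw [Setup.lift, ← indFun_trans X.F.D T.C X.D_le (X.hfun φ)]
  refine congrArg _ (funext fun c => ?_)
  set h' : (X.F.D.subgroupOf T.C) → ℂ := fun y => X.hfun φ ⟨(y : T.C), mem_subgroupOf.mp y.2⟩ with hh'
  have hterm : ∀ c y : T.C, extendByZero (X.F.D.subgroupOf T.C) h' (y⁻¹ * c * y) =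
      if (c : G) ∈ T.K then 0 else
        4 * extendByZero X.K'.A (lc φ) ((T.proj y)⁻¹ * T.proj c * T.proj y) := by
    intro c y
    set d := y⁻¹ * c * y with hd
    rw [← map_inv, ← map_mul, ← map_mul, ← hd]
    have hcd : (d : G) ∈ T.K ↔ (c : G) ∈ T.K := by
      have hη : T.eta d = T.eta c := by rw [hd, map_mul, map_mul, map_inv, mul_comm, ← mul_assoc,
        mul_inv_cancel, one_mul]
      by_cases h1 : (d : G) ∈ T.K <;> by_cases h2 : (c : G) ∈ T.K <;>
        simp [Setup.eta, h1, h2] at hη ⊢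
    by_cases hcK : (c : G) ∈ T.K
    · rw [if_pos hcK]
      by_cases hm : d ∈ X.F.D.subgroupOf T.C
      · rw [extendByZero_mem _ _ hm, hh']
        dsimp only
        rw [X.hfun_apply, if_neg]
        intro e
        exact T.not_mem (e ▸ pow_mem (hcd.2 hcK) m)
      · exact extendByZero_not_mem _ _ hm
    · rw [if_neg hcK]
      obtain ⟨z, hz⟩ := (T.exists_tx d).resolve_left fun h => hcK (hcd.1 h)
      rw [T.proj_tK (x := z) (c := d) (by rw [hz, Setup.tx_val])]
      by_cases hzA : z ∈ X.K'.A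
      · have hza := (X.hA z).1 hzA
        have hD : (d : G) ∈ X.F.D := by
          rw [hz, Setup.tx_val]
          exact mul_mem (X.F.mem_D.2 ⟨Commute.refl _, X.F.comm_u.symm, X.F.a_t.symm⟩)
            (zpowers_le.2 (X.F.mem_D.2 ⟨X.F.a_t, X.F.a_u, Commute.refl _⟩) hza)
        rw [extendByZero_mem _ _ (mem_subgroupOf.2 hD), extendByZero_mem _ _ hzA, hh']
        dsimp only
        have hpm : (d : G) ^ m = T.t := by
          rw [hz, Setup.tx_val, T.pow_tx T.kit.m_odd (X.F.orderOf_dvd_m hza)]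
        rw [X.hfun_apply, if_pos hpm]
        refine congrArg (fun w : X.K'.A => 4 * ((φ w : ℂˣ) : ℂ)) ?_
        apply Subtype.ext; apply Subtype.ext
        show (d : G) ^ (m + 1) = z
        rw [pow_succ, hpm, hz, Setup.tx_val, ← mul_assoc, T.t_sq, one_mul]
      · rw [extendByZero_not_mem _ _ hzA, mul_zero]
        by_cases hm : d ∈ X.F.D.subgroupOf T.C
        · rw [extendByZero_mem _ _ hm, hh']
          dsimp only
          rw [X.hfun_apply, if_neg]
          intro e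
          apply hzA
          have hdD : (d : G) ∈ X.F.D := mem_subgroupOf.1 hm
          have h1 := (X.pow_m_mem ⟨_, hdD⟩).2
          rw [pow_succ] at h1
          rw [show ((⟨(d : G), hdD⟩ : X.F.D) : G) = d from rfl, e, hz, Setup.tx_val, ← mul_assoc,
            T.t_sq, one_mul] at h1
          exact (X.hA z).2 h1
        · exact extendByZero_not_mem _ _ hm
  rw [indFun, Finset.sum_congr rfl fun y _ => hterm c y]
  by_cases hcK : (c : G) ∈ T.K
  · rw [T.gf_K _ hcK, Finset.sum_eq_zero fun y _ => if_pos hcK, mul_zero]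
  obtain ⟨x, hx⟩ := (T.exists_tx c).resolve_left hcK
  rw [T.gf_tK _ (x := x) (by rw [hx, Setup.tx_val]), Finset.sum_congr rfl fun y _ => if_neg hcK,
    T.proj_tK (x := x) (c := c) (by rw [hx, Setup.tx_val])]
  have hsum : ∑ y : T.C, extendByZero X.K'.A (lc φ) ((T.proj y)⁻¹ * x * T.proj y) =
      2 * ∑ z : T.K, extendByZero X.K'.A (lc φ) (z⁻¹ * x * z) := by
    rw [← Finset.sum_filter_add_sum_filter_not Finset.univ (fun y : T.C => (y : G) ∈ T.K), two_mul]
    congr 1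
    · refine (Finset.sum_bij (fun (z : T.K) _ => (⟨(z : G), T.K_le_C z.2⟩ : T.C))
        (fun z _ => Finset.mem_filter.2 ⟨Finset.mem_univ _, z.2⟩)
        (fun a _ b _ e => Subtype.ext (congrArg (fun w : T.C => (w : G)) e))
        (fun y hy => ⟨⟨y, (Finset.mem_filter.1 hy).2⟩, Finset.mem_univ _, rfl⟩) fun z _ => ?_).symm
      rw [T.proj_K (c := ⟨(z : G), T.K_le_C z.2⟩) z.2]
    · refine (Finset.sum_bij (fun z _ => T.tx z)
        (fun z _ => Finset.mem_filter.2 ⟨Finset.mem_univ _, T.tK_not_mem z.2⟩)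
        (fun a _ b _ e => Subtype.ext (mul_left_cancel (congrArg (fun w : T.C => (w : G)) e)))
        (fun y hy => ?_) fun z _ => ?_).symm
      · obtain ⟨z, hz⟩ := (T.exists_tx y).resolve_left (Finset.mem_filter.1 hy).2
        exact ⟨z, Finset.mem_univ _, hz.symm⟩
      · rw [T.proj_tK (x := z) (T.tx_val z)]
  rw [← Finset.mul_sum, hsum, Nat.card_congr (subgroupOfEquivOfLe X.D_le).toEquiv, X.card_D,
    indFun, X.K'.card_A]
  have hm0 : (m : ℂ) ≠ 0 := by exact_mod_cast T.kit.m_pos.ne'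
  push_cast
  field_simp

/-- The lifts of `Ind_A` in terms of `aInd`. -/
theorem lift_iA (φ : X.K'.A →* ℂˣ) :
    T.lift (indFun X.K'.A (lc φ)) = indFun X.F.D (lc (X.hat φ)) + X.aInd φ -
      X.aInd (φ.comp X.cA) - X.aInd ((φ.comp X.cA).comp X.cA) := by
  have hc3 : ∀ ψ : X.K'.A →* ℂˣ, ((ψ.comp X.cA).comp X.cA).comp X.cA = ψ := fun ψ => by
    refine MonoidHom.ext fun y => congrArg ψ ?_
    apply Subtype.ext; apply Subtype.ext
    show X.τ * (X.τ * (X.τ * ((y : T.K) : G) * X.τ⁻¹) * X.τ⁻¹) * X.τ⁻¹ = ((y : T.K) : G)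
    have h3 : X.τ * X.τ * X.τ = 1 := by
      have := pow_orderOf_eq_one X.τ
      rwa [X.order_τ, pow_three, ← mul_assoc] at this
    calc _ = (X.τ * X.τ * X.τ) * ((y : T.K) : G) * (X.τ * X.τ * X.τ)⁻¹ := by group
      _ = _ := by rw [h3, one_mul, inv_one, mul_one]
  rw [← X.ind_hfun, hfun, indFun_sub, indFun_sub, indFun_add]
  have hu : indFun X.F.D (lc (X.sigma _ X.inV_u * X.hat φ)) = X.aInd (φ.comp X.cA) := by
    rw [aInd, X.ind_sigma X.inV_u X.inV_t X.τ_t φ]
  have htu : indFun X.F.D (lc (X.sigma _ X.inV_tu * X.hat φ)) =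
      X.aInd ((φ.comp X.cA).comp X.cA) := by
    rw [aInd, ← X.ind_sigma X.inV_t X.inV_tu X.tau_tu ((φ.comp X.cA).comp X.cA), hc3]
  rw [hu, htu]
  rfl

end CuspCtx

end CfsgLib.ReeType
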