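import Cfsg.Agent.Lib.Ree.Order
import Cfsg.Agent.Lib.Char.DefectZero

/-!
# Groups of Ree type: the degrees `q³`, `q³ + 1`; the centralizers of the elements of order three

An element of order three commutes with no element of prime order `p ≥ 5`: for `p ∣ q³ + 1` both
characters vanish on the product by defect zero and so does `Ind (λ - 1)`, but their difference is `1`.
-/

set_option autoImplicit false
set_option linter.unusedSectionVars false

namespace CfsgLib.ReeType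

open Subgroup Cfsg CfsgLib.Char CfsgLib.Char.Signed

universe u

attribute [local instance] _root_.Classical.propDecidable

/-- The roots of the quadratic equation for the degree. -/
theorem degree_root {q d : ℤ} (hq : 3 ≤ q)
    (h : (d - q) ^ 2 * (q ^ 2 * (q ^ 2 - q + 1)) = q * (q ^ 2 - 1) * (q - 1) * (d * (d + 1))) :
    d = q ^ 3 := by
  have h1 : q * ((d - q ^ 3) * ((2 * q - 1) * d - (q ^ 2 - q + 1))) = 0 := by linear_combination h
  rcases mul_eq_zero.1 ((mul_eq_zero.1 h1).resolve_left (by omega)) with h2 | h2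
  · linarith
  · exfalso
    have h3 : (2 * q - 1) ∣ 3 := ⟨4 * d - (2 * q - 1), by linear_combination -4 * h2⟩
    have := Int.le_of_dvd (by norm_num) h3
    omega

namespace TorusCtx

variable {G : Type u} [Group G] [Fintype G] {q m n : ℕ} {T : Setup G q m n} {X : TorusCtx T}
  (Ch : X.Coh)

theorem D_one : Ch.D 1 = ((q ^ 3 : ℕ) : ℂ) ∧ Ch.X1 0 1 = ((q ^ 3 + 1 : ℕ) : ℂ) := by
  obtain ⟨d, hd0, hd⟩ := Ch.sgD.apply_one_int
  obtain ⟨d1, hd10, hd1⟩ := (Ch.sg1 0).apply_one_int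
  have hX1 : Ch.X1 0 1 = (d : ℂ) + 1 := by
    have h := congrFun (Ch.dec1 0) 1
    rw [X.F1_one, Pi.sub_apply, Pi.sub_apply, hd] at h
    linear_combination -h
  have hq' := X.qfun_F1 (X.fam_spec 0).1 (X.fam_spec 0).2.1
  rw [Ch.dec1 0, qfun_sub, qfun_sub, qfun_sg _ (Ch.sg1 0), qfun_sg _ Ch.sgD, qfun_sg _ sg_one,
    TorusCtx.X1_t Ch, TorusCtx.D_t Ch, hX1, hd, one_pow, div_one] at hq'
  set I := Nat.card {x : G // IsConj T.t x} with hI
  have hI0 : 0 < I := by
    have : Nonempty {x : G // IsConj T.t x} := ⟨⟨T.t, IsConj.refl _⟩⟩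
    exact Nat.card_pos
  have hIC : (I : ℂ) ≠ 0 := by exact_mod_cast hI0.ne'
  have hdC : (d : ℂ) ≠ 0 := by exact_mod_cast hd0
  have hd1C : (d : ℂ) + 1 ≠ 0 := by
    rw [← hX1, hd1]; exact_mod_cast hd10
  have hC : (Nat.card T.C : ℂ) = 2 * ((q : ℂ) * n * (4 * m)) := by
    rw [T.card_C]; push_cast; ring
  rw [hC] at hq'
  field_simp at hq'
  have hmain : ((d : ℂ) - q) ^ 2 * I = (q : ℂ) * ((q : ℂ) ^ 2 - 1) * ((q : ℂ) - 1) * (d * (d + 1)) := by
    simp only [T.kit.cast_m', T.kit.cast_q] at hq' ⊢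
    linear_combination -hq'
  have heq : (d - q) ^ 2 * (I : ℤ) = (q : ℤ) * ((q : ℤ) ^ 2 - 1) * ((q : ℤ) - 1) * (d * (d + 1)) := by
    exact_mod_cast hmain
  rw [hI, T.invol_eq] at heq
  have hq3 : d = (q : ℤ) ^ 3 := degree_root (by have := T.kit.q_ge; omega) heq
  refine ⟨?_, ?_⟩
  · rw [hd, hq3]; push_cast; rfl
  · rw [hX1, hq3]; push_cast; rfl

/-- A signed irreducible of positive degree is irreducible. -/
theorem exists_irr_of_pos {f : G → ℂ} (hf : Sg f) {d : ℕ} (hd : 0 < d) (h1 : f 1 = d) :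
    ∃ χ : IrrCharacter G, (χ : G → ℂ) = f := by
  obtain ⟨χ, ε, hε, he⟩ := hf.exists_irr
  obtain ⟨d', hd', h1'⟩ := isIrrCharacter_degree χ.2
  rcases hε with rfl | rfl
  · exact ⟨χ, by rw [he]; simp⟩
  · exfalso
    rw [he, Pi.smul_apply, smul_eq_mul, h1'] at h1
    have h2 : (((-1 : ℤ) * d' : ℤ) : ℂ) = ((d : ℤ) : ℂ) := by push_cast at h1 ⊢; exact h1
    have h3 : (-1 : ℤ) * d' = d := Int.cast_inj.1 h2
    omega

end TorusCtx

namespace Setup

variable {G : Type u} [Group G] [Finite G] {q m n : ℕ} (T : Setup G q m n)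

include T in
theorem q_sq_ge : q ≤ q ^ 2 := Nat.le_self_pow two_ne_zero q

include T in
/-- The primes dividing `q³ + 1`. -/
theorem card_split : Nat.card G = q ^ 3 * ((q ^ 2 - q + 1) * (4 * m)) * (2 * n) := by
  rw [T.card_eq, ← T.kit.hm, show q - 1 = 2 * n by have := T.kit.hn; omega]
  congr 2
  have hq := T.q_sq_ge
  zify [hq]
  ring

include T in
theorem prime_cases {p : ℕ} (hp : p.Prime) (hp2 : p ≠ 2) (hd : p ∣ Nat.card G) :
    p = 3 ∨ p ∣ n ∨ p ∣ m ∨ p ∣ q ^ 2 - q + 1 := by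
  rw [T.card_split] at hd
  have h2 : ¬ p ∣ 2 := fun h => hp2 ((Nat.prime_dvd_prime_iff_eq hp Nat.prime_two).1 h)
  rcases hp.dvd_mul.1 hd with h | h
  · rcases hp.dvd_mul.1 h with h | h
    · obtain ⟨k, -, rfl⟩ := T.kit.q_pow
      exact Or.inl ((Nat.prime_dvd_prime_iff_eq hp Nat.prime_three).1
        (hp.dvd_of_dvd_pow (hp.dvd_of_dvd_pow h)))
    · rcases hp.dvd_mul.1 h with h | h
      · exact Or.inr (Or.inr (Or.inr h))
      · rcases hp.dvd_mul.1 h with h | h
        · exact absurd (hp.dvd_of_dvd_pow (n := 2) (by norm_num; exact h)) h2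
        · exact Or.inr (Or.inr (Or.inl h))
  · exact Or.inr (Or.inl ((hp.dvd_mul.1 h).resolve_left h2))

include T in
/-- A prime of `q³ + 1` beyond three does not divide `q`, `n`. -/
theorem not_dvd_of_cube {p : ℕ} (hp : p.Prime) (hp2 : p ≠ 2) (hd : p ∣ q ^ 3 + 1) :
    ¬ p ∣ q ∧ ¬ p ∣ n := by
  have hq : ¬ p ∣ q := fun h =>
    hp.not_dvd_one ((Nat.dvd_add_right (dvd_pow h (by norm_num : 3 ≠ 0))).1 hd)
  refine ⟨hq, fun h => hp2 ?_⟩
  have h1 : (p : ℤ) ∣ (q : ℤ) ^ 3 + 1 := by exact_mod_cast hd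
  have h2 : (p : ℤ) ∣ (q : ℤ) ^ 3 - 1 := by
    have hn : (q : ℤ) = 2 * n + 1 := by exact_mod_cast T.kit.hn
    have hz : (p : ℤ) ∣ (n : ℤ) := by exact_mod_cast h
    rw [show (q : ℤ) ^ 3 - 1 = (n : ℤ) * (2 * ((q : ℤ) ^ 2 + q + 1)) by rw [hn]; ring]
    exact dvd_mul_of_dvd_left hz _
  have h3 : (p : ℤ) ∣ 2 := by simpa using dvd_sub h1 h2
  exact (Nat.prime_dvd_prime_iff_eq hp Nat.prime_two).1 (by exact_mod_cast h3)

include T in
theorem cube_dvd_iff {p : ℕ} (hp : p.Prime) (hd : p ∣ m ∨ p ∣ q ^ 2 - q + 1) :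
    p ≠ 2 ∧ p ≠ 3 ∧ p ∣ q ^ 3 + 1 := by
  have hq := T.q_sq_ge
  have e : q ^ 3 + 1 = (q ^ 2 - q + 1) * (4 * m) := by
    rw [← T.kit.hm]
    zify [hq]
    ring
  have h3q : 3 ∣ q := T.kit.three_dvd_q
  refine ⟨?_, ?_, e ▸ hd.elim (fun h => dvd_mul_of_dvd_right (dvd_mul_of_dvd_right h _) _)
    (fun h => dvd_mul_of_dvd_left h _)⟩
  · rintro rfl
    rcases hd with h | h
    · exact T.kit.two_not_m h
    · have h2 : 2 ∣ q ^ 2 - q := by
        rw [pow_two, ← Nat.mul_sub_one]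
        exact (Nat.even_mul_pred_self q).two_dvd
      omega
  · rintro rfl
    rcases hd with h | h
    · exact T.kit.three_not_m h
    · have h2 : 3 ∣ q ^ 2 - q := Nat.dvd_sub (dvd_pow h3q two_ne_zero) h3q
      omega

include T in
/-- The product of commuting elements of orders three and `p ∣ q³ + 1` does not exist. -/
theorem no_three_cube {p : ℕ} [hp : Fact p.Prime] (hp2 : p ≠ 2) (hp3 : p ≠ 3) (hd : p ∣ q ^ 3 + 1)
    {x y : G} (hx : orderOf x = 3) (hy : orderOf y = p) (hc : Commute x y) : False := by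
  classical
  let _ := Fintype.ofFinite G
  haveI : Fact (Nat.Prime 3) := ⟨Nat.prime_three⟩
  obtain ⟨X⟩ := T.exists_torusCtx
  obtain ⟨Ch⟩ := X.exists_coh
  obtain ⟨hD1, hX1⟩ := TorusCtx.D_one Ch
  have hq0 : 0 < q := by have := T.kit.q_ge; omega
  obtain ⟨χD, hχD⟩ := TorusCtx.exists_irr_of_pos Ch.sgD (pow_pos hq0 3) hD1
  obtain ⟨χX, hχX⟩ := TorusCtx.exists_irr_of_pos (Ch.sg1 0) (Nat.succ_pos _) hX1
  have hord : orderOf (x * y) = 3 * p := by
    rw [hc.orderOf_mul_eq_mul_orderOf_of_coprime (by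
      rw [hx, hy]; exact (Nat.coprime_primes Nat.prime_three hp.out).2 hp3.symm), hx, hy]
  obtain ⟨hpq, hpn⟩ := T.not_dvd_of_cube hp.out hp2 hd
  have hp2n : ¬ p ∣ 2 * n := fun h => (hp.out.dvd_mul.1 h).elim
    (fun h => hp2 ((Nat.prime_dvd_prime_iff_eq hp.out Nat.prime_two).1 h)) hpn
  have hG : Nat.card G = q ^ 3 * (q ^ 3 + 1) * (2 * n) := by
    rw [T.card_eq, show q - 1 = 2 * n by have := T.kit.hn; omega]
  have hDzero : Ch.D (x * y) = 0 := by
    obtain ⟨k, -, hk⟩ := T.kit.q_pow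
    have h32n : ¬ 3 ∣ 2 * n := fun h => (Nat.prime_three.dvd_mul.1 h).elim (by norm_num) T.kit.three_not_n
    have h3c : ¬ 3 ∣ q ^ 3 + 1 := fun h => Nat.prime_three.not_dvd_one
      ((Nat.dvd_add_right (dvd_pow T.kit.three_dvd_q (by norm_num : 3 ≠ 0))).1 h)
    rw [← hχD]
    refine char_defect_zero_vanishes χD (p := 3) (n := (2 * k + 1) * 3) (d := q ^ 3) ?_ ?_
      (by rw [hχD]; exact hD1) ?_ (hord ▸ dvd_mul_right 3 p)
    · rw [hG, hk, ← pow_mul]
      exact dvd_mul_of_dvd_left (dvd_mul_right _ _) _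
    · rw [hG, pow_succ, show (3 : ℕ) ^ ((2 * k + 1) * 3) = q ^ 3 by rw [hk, ← pow_mul], mul_assoc,
        Nat.mul_dvd_mul_iff_left (pow_pos hq0 3)]
      exact Nat.prime_three.not_dvd_mul h3c h32n
    · rw [hk, ← pow_mul]
  have hXzero : Ch.X1 0 (x * y) = 0 := by
    rw [← hχX]
    refine char_defect_zero_vanishes χX (p := p) (n := (q ^ 3 + 1).factorization p) (d := q ^ 3 + 1)
      ?_ ?_ (by rw [hχX]; exact hX1) (Nat.ordProj_dvd _ _) (hord ▸ dvd_mul_left p 3)
    · rw [hG]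
      exact dvd_mul_of_dvd_left (dvd_mul_of_dvd_right (Nat.ordProj_dvd _ _) _) _
    · intro h
      rw [hG, show q ^ 3 * (q ^ 3 + 1) * (2 * n) = (q ^ 3 + 1) * (q ^ 3 * (2 * n)) by ring] at h
      have hcop : (p ^ ((q ^ 3 + 1).factorization p + 1)).Coprime (q ^ 3 * (2 * n)) :=
        (hp.out.coprime_iff_not_dvd.2 (hp.out.not_dvd_mul
          (fun h => hpq (hp.out.dvd_of_dvd_pow h)) hp2n)).pow_left _
      exact Nat.pow_succ_factorization_not_dvd (Nat.succ_ne_zero _) hp.out (hcop.dvd_of_dvd_mul_right h)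
  have hF : X.F1 (X.fam 0) (x * y) = 0 := by
    simp only [TorusCtx.F1, indFun]
    rw [Finset.sum_eq_zero fun g _ => ?_, mul_zero]
    by_cases hg : g⁻¹ * (x * y) * g ∈ X.H
    · exfalso
      have h1 := Subgroup.orderOf_dvd_natCard X.H hg
      have e : g⁻¹ * (x * y) * g = MulAut.conj g⁻¹ (x * y) := by simp [MulAut.conj_apply]
      rw [e, MulEquiv.orderOf_eq, hord, X.card_H] at h1
      exact hp2n ((dvd_mul_left p 3).trans h1)
    · simp [extendByZero, hg]
  have h := congrFun (Ch.dec1 0) (x * y)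
  simp only [Pi.sub_apply, hF, hXzero, hDzero] at h
  norm_num at h

include T in
/-- An element of prime order dividing `m n` commutes with an involution. -/
theorem exists_invol_commute {p : ℕ} [hp : Fact p.Prime] (hd : p ∣ n ∨ p ∣ m) {y : G}
    (hy : orderOf y = p) : ∃ i : G, orderOf i = 2 ∧ Commute y i := by
  set C := centralizer ({T.t} : Set G) with hC
  obtain ⟨P⟩ : Nonempty (Sylow p C) := inferInstance
  have hndvd : ¬ p ∣ C.index := by
    intro h
    have hq := T.q_sq_ge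
    have hidx : C.index = q ^ 2 * (q ^ 2 - q + 1) := by
      have h1 := card_mul_index C
      rw [hC, T.card_C, T.card_split] at h1
      have hpos : 0 < 2 * (q * n * (4 * m)) := by
        have hq0 : 0 < q := by have := T.kit.q_ge; omega
        have hn0 : 0 < n := Nat.zero_lt_of_lt T.kit.data.one_lt
        have := T.kit.m_pos
        positivity
      refine Nat.eq_of_mul_eq_mul_left hpos (h1.trans ?_)
      ring
    rw [hidx] at h
    rcases hp.out.dvd_mul.1 h with h | h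
    · have h3 : p = 3 := by
        obtain ⟨k, -, hk⟩ := T.kit.q_pow
        rw [hk] at h
        exact (Nat.prime_dvd_prime_iff_eq hp.out Nat.prime_three).1
          (hp.out.dvd_of_dvd_pow (hp.out.dvd_of_dvd_pow h))
      subst h3
      rcases hd with h' | h'
      · exact T.kit.three_not_n h'
      · exact T.kit.three_not_m h'
    · obtain ⟨h2, h3, hc⟩ := T.cube_dvd_iff hp.out (Or.inr h)
      rcases hd with h' | h'
      · exact (T.not_dvd_of_cube hp.out h2 hc).2 h'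
      · have hm : (p : ℤ) ∣ (q : ℤ) + 1 := by
          have : (p : ℤ) ∣ (m : ℤ) := by exact_mod_cast h'
          rw [show (q : ℤ) + 1 = 4 * m by exact_mod_cast T.kit.hm]
          exact dvd_mul_of_dvd_right this _
        have hl : (p : ℤ) ∣ (q : ℤ) ^ 2 - q + 1 := by
          have := Int.natCast_dvd_natCast.2 h
          push_cast [Nat.cast_sub hq] at this
          exact this
        have h9 : (p : ℤ) ∣ 3 := by
          rw [show (3 : ℤ) = ((q : ℤ) ^ 2 - q + 1) - ((q : ℤ) + 1) * ((q : ℤ) - 2) by ring]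
          exact dvd_sub hl (dvd_mul_of_dvd_left hm _)
        exact h3 ((Nat.prime_dvd_prime_iff_eq hp.out Nat.prime_three).1 (by exact_mod_cast h9))
  set S : Sylow p G := (P.2.map C.subtype).toSylow (by
    rw [Subgroup.index_map_subtype]
    exact hp.out.not_dvd_mul P.not_dvd_index hndvd) with hS
  obtain ⟨Q, hQ⟩ := (IsPGroup.of_card (G := zpowers y) (p := p) (n := 1)
    (by rw [Nat.card_zpowers, hy, pow_one])).exists_le_sylow
  obtain ⟨g, hg⟩ := MulAction.exists_smul_eq G Q S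
  have h1 : g * y * g⁻¹ ∈ (S : Subgroup G) := by
    rw [← hg, Sylow.coe_subgroup_smul]
    exact mem_map_of_mem _ (hQ (mem_zpowers y))
  have h2 : Commute (g * y * g⁻¹) T.t := mem_centralizer_singleton_iff.1 (map_subtype_le _ h1)
  refine ⟨g⁻¹ * T.t * g, by
    rw [show g⁻¹ * T.t * g = MulAut.conj g⁻¹ T.t by simp [MulAut.conj_apply], MulEquiv.orderOf_eq,
      T.order_t], ?_⟩
  simpa [mul_assoc] using h2.map (MulAut.conj g⁻¹)

include T in
/-- An element of order three commutes with no element of prime order beyond three. -/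
theorem no_three_mul {p : ℕ} [hp : Fact p.Prime] (hp2 : p ≠ 2) (hp3 : p ≠ 3) {x y : G}
    (hx : orderOf x = 3) (hy : orderOf y = p) (hc : Commute x y) : False := by
  rcases T.prime_cases hp.out hp2 (hy ▸ orderOf_dvd_natCard y) with h | h | h | h
  · exact hp3 h
  · obtain ⟨i, hi, hyi⟩ := T.exists_invol_commute (Or.inl h) hy
    obtain ⟨T', rfl⟩ := T.exists_setup hi
    have hy1 : y ≠ 1 := fun e => hp.out.one_lt.ne' (by rw [← hy, e, orderOf_one])
    obtain ⟨u, hu, hut, huv⟩ := T'.exists_inverter hyi hy1 (hy ▸ h)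
    obtain ⟨N, hNv, -⟩ := T'.exists_nframe hyi hy1 (hy ▸ h) hu hut huv
    refine N.not_three_dvd (hx ▸ Subgroup.orderOf_dvd_natCard N.O
      (N.mem_O.2 ⟨hNv ▸ hc, by rw [hx]; decide⟩))
  · exact T.no_three_cube hp2 hp3 (T.cube_dvd_iff hp.out (Or.inl h)).2.2 hx hy hc
  · exact T.no_three_cube hp2 hp3 (T.cube_dvd_iff hp.out (Or.inr h)).2.2 hx hy hc

end Setup

end CfsgLib.ReeType
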