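import Cfsg.Agent.Lib.Ree.Lift

/-!
# The functions `Q` and `P`: integrality and support
-/

set_option autoImplicit false
set_option linter.unusedSectionVars false

namespace CfsgLib.ReeType

open Subgroup Cfsg CfsgLib.Char

universe u

theorem isGeneralizedCharacter_lc {K : Type*} [Group K] (θ : K →* ℂˣ) :
    IsGeneralizedCharacter K (lc θ) :=
  isGeneralizedCharacter_of_isCharacter (isCharacter_of_isIrr (isIrrCharacter_lc θ))

namespace KFrame

variable {K : Type u} [Group K] [Fintype K] {q m n : ℕ} (F : KFrame K q m n)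

theorem Q_gen (ψ : F.E →* ℂˣ) (l : F.L →* ℂˣ) : IsGeneralizedCharacter K (F.Q ψ l) :=
  isGeneralizedCharacter_sub (isGeneralizedCharacter_indFun _ (isGeneralizedCharacter_lc l))
    (isGeneralizedCharacter_indFun _
      (isGeneralizedCharacter_add (isGeneralizedCharacter_lc ψ) (isGeneralizedCharacter_lc ψ⁻¹)))

theorem P_gen (ψ : F.E →* ℂˣ) (θ : F.A →* ℂˣ) : IsGeneralizedCharacter K (F.P ψ θ) :=
  isGeneralizedCharacter_sub
    (by
      have h := isGeneralizedCharacter_zsmul (isGeneralizedCharacter_indFun F.E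
        (isGeneralizedCharacter_add (isGeneralizedCharacter_lc ψ) (isGeneralizedCharacter_lc ψ⁻¹))) 2
      push_cast at h
      exact h)
    (isGeneralizedCharacter_indFun _ (isGeneralizedCharacter_lc θ))

theorem Q_classFun (ψ : F.E →* ℂˣ) (l : F.L →* ℂˣ) : IsClassFunction K (F.Q ψ l) :=
  isClassFunction_of_isGeneralized (F.Q_gen ψ l)

theorem P_classFun (ψ : F.E →* ℂˣ) (θ : F.A →* ℂˣ) : IsClassFunction K (F.P ψ θ) :=
  isClassFunction_of_isGeneralized (F.P_gen ψ θ)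

variable (h : Kit K q m n)

include h

theorem even_ndvd {x : K} (hx : Even (orderOf x)) : ¬ orderOf x ∣ Nat.card F.E ∧
    ¬ orderOf x ∣ Nat.card F.A ∧ ¬ orderOf x ∣ Nat.card F.L := by
  have h2 : 2 ∣ orderOf x := even_iff_two_dvd.1 hx
  rw [F.card_E, F.card_A, F.card_L]
  exact ⟨fun hd => by have := h2.trans hd; have := h.hn; omega, fun hd => h.two_not_m (h2.trans hd),
    fun hd => h.data.two_not_mo (h2.trans hd)⟩

theorem Q_oddSupp (ψ : F.E →* ℂˣ) (l : F.L →* ℂˣ) : Setup.OddSupp (F.Q ψ l) := by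
  intro x hx
  rw [Q, Xi, Pi.sub_apply, indFun_eq_zero _ _ (F.even_ndvd h hx).2.2,
    indFun_eq_zero _ _ (F.even_ndvd h hx).1, sub_zero]

theorem P_oddSupp (ψ : F.E →* ℂˣ) (θ : F.A →* ℂˣ) : Setup.OddSupp (F.P ψ θ) := by
  intro x hx
  rw [P, Xi, Pi.sub_apply, Pi.smul_apply, indFun_eq_zero _ _ (F.even_ndvd h hx).2.1,
    indFun_eq_zero _ _ (F.even_ndvd h hx).1, smul_zero, sub_zero]

theorem exists_psi : ∃ ψ : F.E →* ℂˣ, ψ ≠ 1 := by
  let _ : CommGroup F.E :=
    { (inferInstance : Group F.E) with mul_comm := fun a b => Subtype.ext (F.comm_E a a.2 b b.2) }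
  obtain ⟨y, hy⟩ : ∃ y : F.E, y ≠ 1 := by
    by_contra hc
    push Not at hc
    have h1 : Nat.card F.E = 1 := Nat.card_eq_one_iff_unique.2
      ⟨⟨fun a b => (hc a).trans (hc b).symm⟩, ⟨1⟩⟩
    rw [F.card_E] at h1
    have := h.q_ge
    omega
  obtain ⟨ψ, hψ⟩ := CommGroup.exists_apply_ne_one_of_hasEnoughRootsOfUnity F.E ℂ hy
  exact ⟨ψ, fun e => hψ (by rw [e]; rfl)⟩

end KFrame

end CfsgLib.ReeType
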