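import Cfsg.Agent.Lib.Ree.TorusNFull
import Cfsg.Agent.Lib.Ree.KGen

/-!
# The families of characters attached to the torus of order `(q-1)/2`
-/

set_option autoImplicit false
set_option linter.unusedSectionVars false

namespace CfsgLib.ReeType

open scoped ComplexConjugate
open Subgroup Cfsg CfsgLib.Char CfsgLib.Char.Signed

universe u

attribute [local instance] _root_.Classical.propDecidable

/-- Data for the torus: an element of smallest prime order and a compatible frame of `K`. -/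
structure TorusCtx {G : Type u} [Group G] {q m n : ℕ} (T : Setup G q m n) where
  N : Setup.NFrame T
  p : ℕ
  prime : p.Prime
  hv : orderOf N.v = p
  hmin : ∀ r : ℕ, r.Prime → r ∣ n → p ≤ r
  F : KFrame T.K q m n
  hL : ∀ x : T.K, x ∈ F.L ↔ (x : G) ∈ zpowers N.w
  psi : F.E →* ℂˣ
  psi_ne : psi ≠ 1

namespace Setup

variable {G : Type u} [Group G] [Fintype G] {q m n : ℕ} (T : Setup G q m n)

include T in
theorem exists_torusCtx : Nonempty (TorusCtx T) := by
  have hn1 : 1 < n := T.kit.data.one_lt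
  set p := n.minFac with hp
  have hpp : p.Prime := Nat.minFac_prime hn1.ne'
  obtain ⟨v₀, hv₀⟩ := T.kit.data.exO
  have hv₀t : Commute (v₀ : G) T.t := T.comm_t _ v₀.2
  set v : G := (v₀ : G) ^ (n / p) with hv
  have hvo : orderOf v = p := by
    have hv₀G : orderOf (v₀ : G) = n := (Subgroup.orderOf_coe v₀).trans hv₀
    have h := orderOf_pow_orderOf_div (x := (v₀ : G)) (n := p) (orderOf_pos _).ne'
      (hv₀G.symm ▸ n.minFac_dvd)
    rwa [hv₀G, ← hv] at h
  have hv1 : v ≠ 1 := fun e => hpp.one_lt.ne (by rw [← hvo, e, orderOf_one])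
  have hvt : Commute v T.t := hv₀t.pow_left _
  have hvn : orderOf v ∣ n := hvo ▸ n.minFac_dvd
  obtain ⟨u, hu, hut, huv⟩ := T.exists_inverter hvt hv1 hvn
  obtain ⟨N, hNv, -⟩ := T.exists_nframe hvt hv1 hvn hu hut huv
  have hwK : N.w ∈ T.K := T.mem_K_of_odd N.w_t (N.odd_of_mem (mem_zpowers _))
  obtain ⟨F, hF⟩ := T.kit.exists_kframe (v := (⟨N.w, hwK⟩ : T.K))
    (by rw [Subgroup.orderOf_mk, N.order_w])
  obtain ⟨ψ, hψ⟩ := F.exists_psi T.kit
  refine ⟨⟨N, p, hpp, hNv ▸ hvo, fun r hr hrn => Nat.minFac_le_of_dvd hr.two_le hrn, F, fun x => ?_,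
    ψ, hψ⟩⟩
  rw [hF, mem_zpowers_iff, mem_zpowers_iff]
  constructor
  · rintro ⟨k, hk⟩
    exact ⟨k, by rw [← hk]; push_cast; rfl⟩
  · rintro ⟨k, hk⟩
    exact ⟨k, Subtype.ext (by push_cast; exact hk)⟩

end Setup

namespace TorusCtx

variable {G : Type u} [Group G] [Fintype G] {q m n : ℕ} {T : Setup G q m n} (X : TorusCtx T)

/-- The centralizer of `v`. -/
abbrev H : Subgroup G := centralizer ({X.N.v} : Set G)

theorem mem_H {g : G} (hg : g ∈ X.H) : Commute g T.t ∧ (g ∈ zpowers X.N.w ∨ T.t * g ∈ zpowers X.N.w) :=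
  haveI := Fact.mk X.prime
  X.N.cent_N X.hv X.hmin (mem_centralizer_singleton_iff.1 hg)

theorem H_le : X.H ≤ T.C := fun _ hg => mem_centralizer_singleton_iff.2 (X.mem_H hg).1.eq

theorem w_le : zpowers X.N.w ≤ X.H := fun _ hg =>
  mem_centralizer_singleton_iff.2 (X.N.comm_w hg X.N.v_mem).eq

theorem t_mem : T.t ∈ X.H := mem_centralizer_singleton_iff.2 X.N.v_t.symm.eq

theorem card_H : Nat.card X.H = 2 * n := by
  haveI := Fact.mk X.prime
  rw [X.N.card_cent, X.N.O_eq X.hv X.hmin, Nat.card_zpowers, X.N.order_w]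

theorem comm_H {a b : G} (ha : a ∈ X.H) (hb : b ∈ X.H) : a * b = b * a := by
  have hsplit : ∀ g ∈ X.H, ∃ y ∈ zpowers X.N.w, g = y ∨ g = T.t * y := fun g hg => by
    rcases (X.mem_H hg).2 with h | h
    · exact ⟨g, h, Or.inl rfl⟩
    · exact ⟨_, h, Or.inr (by rw [← mul_assoc, T.t_sq, one_mul])⟩
  obtain ⟨x, hx, hax⟩ := hsplit a ha
  obtain ⟨y, hy, hby⟩ := hsplit b hb
  have hxy : Commute x y := X.N.comm_w hx hy
  have hxt : Commute x T.t := X.N.commute_t hx
  have hyt : Commute y T.t := X.N.commute_t hy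
  rcases hax with rfl | rfl <;> rcases hby with rfl | rfl
  · exact hxy.eq
  · exact (hxt.mul_right hxy).eq
  · exact ((hyt.symm).mul_left hxy).eq
  · exact (((Commute.refl T.t).mul_right hyt.symm).mul_left (hxt.mul_right hxy)).eq

/-- The projection of `H` onto the torus of `K`. -/
noncomputable def projL : X.H →* X.F.L :=
  ((T.proj.comp (Subgroup.inclusion X.H_le))).codRestrict X.F.L fun h => by
    rw [X.hL]
    rcases (X.mem_H h.2).2 with hw | hw
    · have hK : (h : G) ∈ T.K := T.mem_K_of_odd (X.N.commute_t hw) (X.N.odd_of_mem hw)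
      rw [MonoidHom.comp_apply, T.proj_K (c := Subgroup.inclusion X.H_le h) hK]
      exact hw
    · have hK : T.t * (h : G) ∈ T.K := T.mem_K_of_odd (X.N.commute_t hw) (X.N.odd_of_mem hw)
      rw [MonoidHom.comp_apply, T.proj_tK (c := Subgroup.inclusion X.H_le h) (x := ⟨_, hK⟩)
        (by rw [← mul_assoc, T.t_sq, one_mul]; rfl)]
      exact hw

/-- The sign character of `H`. -/
noncomputable def etaH : X.H →* ℂˣ := T.eta.comp (Subgroup.inclusion X.H_le)

/-- A character of `H` trivial on `t`. -/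
noncomputable def lam (l : X.F.L →* ℂˣ) : X.H →* ℂˣ := l.comp X.projL

theorem projL_eq {h : X.H} {x : X.F.L} (hx : (h : G) = ((x : T.K) : G) ∨ (h : G) = T.t * ((x : T.K) : G)) :
    X.projL h = x := by
  apply Subtype.ext
  show T.proj (Subgroup.inclusion X.H_le h) = (x : T.K)
  rcases hx with hx | hx
  · have hK : (h : G) ∈ T.K := hx ▸ (x : T.K).2
    rw [T.proj_K (c := Subgroup.inclusion X.H_le h) hK]
    exact Subtype.ext hx
  · exact T.proj_tK hx

theorem etaH_t : (X.etaH ⟨T.t, X.t_mem⟩ : ℂ) = -1 := by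
  simp [etaH, Setup.eta, T.not_mem]

theorem lam_t (l : X.F.L →* ℂˣ) : X.lam l ⟨T.t, X.t_mem⟩ = 1 := by
  rw [lam, MonoidHom.comp_apply, X.projL_eq (x := 1) (Or.inr (by simp)), map_one]

theorem etaH_sq : X.etaH * X.etaH = 1 := by
  refine MonoidHom.ext fun h => ?_
  simp only [MonoidHom.mul_apply, etaH, MonoidHom.comp_apply, Setup.eta, MonoidHom.coe_mk, OneHom.coe_mk,
    MonoidHom.one_apply]
  split_ifs <;> simp

theorem etaH_inv : X.etaH⁻¹ = X.etaH := MonoidHom.ext fun h =>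
  inv_eq_of_mul_eq_one_right (DFunLike.congr_fun X.etaH_sq h)

theorem hom_mul_inv (a b : X.H →* ℂˣ) : (a * b)⁻¹ = a⁻¹ * b⁻¹ := MonoidHom.ext fun h => by
  simp [MonoidHom.inv_apply, MonoidHom.mul_apply, mul_comm]

theorem hom_one_inv : (1 : X.H →* ℂˣ)⁻¹ = 1 := MonoidHom.ext fun h => by simp [MonoidHom.inv_apply]

theorem hom_one_mul (c : X.H →* ℂˣ) : 1 * c = c := MonoidHom.ext fun h => one_mul (c h)

theorem hom_cancel {a b c : X.H →* ℂˣ} (e : a * c = b * c) : a = b := MonoidHom.ext fun h =>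
  mul_right_cancel (DFunLike.congr_fun e h : a h * c h = b h * c h)

theorem hom_cancel_one {a c : X.H →* ℂˣ} (e : a * c = c) : a = 1 :=
  X.hom_cancel (e.trans (MonoidHom.ext fun h => (one_mul (c h)).symm))

theorem lam_inj {l l' : X.F.L →* ℂˣ} (h : X.lam l = X.lam l') : l = l' := by
  refine MonoidHom.ext fun x => ?_
  have hxH : ((x : T.K) : G) ∈ X.H := X.w_le ((X.hL x).1 x.2)
  have := DFunLike.congr_fun h ⟨_, hxH⟩
  rw [lam, lam, MonoidHom.comp_apply, MonoidHom.comp_apply, X.projL_eq (x := x) (Or.inl rfl)] at this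
  exact this

theorem lam_inv (l : X.F.L →* ℂˣ) : X.lam l⁻¹ = (X.lam l)⁻¹ := rfl

theorem lam_one : X.lam 1 = 1 := rfl

theorem lam_mul_eta_ne (l l' : X.F.L →* ℂˣ) : X.lam l * X.etaH ≠ X.lam l' := by
  intro e
  have h1 := congrArg (fun z : X.H →* ℂˣ => ((z ⟨T.t, X.t_mem⟩ : ℂˣ) : ℂ)) e
  simp only [MonoidHom.mul_apply, Units.val_mul, X.lam_t, Units.val_one, X.etaH_t] at h1
  norm_num at h1

/-- An element whose order is divisible by `p`. -/
def Reg (h : X.H) : Prop := X.p ∣ orderOf (h : G)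

theorem reg_of_lam {l : X.F.L →* ℂˣ} (hl : l ^ X.p = 1) {h : X.H} (hh : X.lam l h ≠ 1) : X.Reg h := by
  by_contra hr
  refine hh (orderOf_eq_one_iff.1 (Nat.eq_one_of_dvd_coprimes
    (X.prime.coprime_iff_not_dvd.2 hr) (orderOf_dvd_of_pow_eq_one ?_)
    (orderOf_dvd_of_pow_eq_one ?_)))
  · rw [lam, MonoidHom.comp_apply, ← MonoidHom.pow_apply, hl, MonoidHom.one_apply]
  · rw [Subgroup.orderOf_coe, ← map_pow, pow_orderOf_eq_one, map_one]

/-- Whoever maps a regular element into `H` normalizes `⟨v⟩`. -/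
theorem mem_D_of_conj {h : X.H} (hh : X.Reg h) {x : G} (hx : x * h * x⁻¹ ∈ X.H) :
    x * X.N.v * x⁻¹ ∈ zpowers X.N.v := by
  haveI := Fact.mk X.prime
  have hline : ∀ y ∈ X.H, orderOf y = X.p → y ∈ zpowers X.N.v := by
    intro y hy hyo
    have hodd : Odd (orderOf y) := hyo ▸ X.prime.odd_of_ne_two (X.N.p_ne_two X.hv)
    have hyO : y ∈ X.N.O := X.N.mem_O.2 ⟨mem_centralizer_singleton_iff.1 hy, hodd⟩
    rw [X.N.O_eq X.hv X.hmin] at hyO
    exact X.N.mem_zpowers_v X.hv hyO (hyo ▸ pow_orderOf_eq_one y)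
  set y : G := (h : G) ^ (orderOf (h : G) / X.p) with hy
  have hyo : orderOf y = X.p := orderOf_pow_orderOf_div (orderOf_pos _).ne' hh
  have h1 := hline y (pow_mem h.2 _) hyo
  have h2 : x * y * x⁻¹ ∈ zpowers X.N.v :=
    hline _ (by rw [hy, ← conj_pow]; exact pow_mem hx _) (by rw [← MulAut.conj_apply, MulEquiv.orderOf_eq, hyo])
  have hgen : zpowers y = zpowers X.N.v := eq_of_le_of_card_ge (zpowers_le.2 h1)
    (by rw [Nat.card_zpowers, Nat.card_zpowers, X.hv, hyo])
  obtain ⟨i, hi⟩ := mem_zpowers_iff.1 (hgen.symm ▸ mem_zpowers X.N.v : X.N.v ∈ zpowers y)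
  have h3 : x * X.N.v * x⁻¹ = (x * y * x⁻¹) ^ i := by rw [← hi, ← conj_zpow]
  rw [h3]
  exact zpow_mem h2 i

/-- Outside `H` the normalizer of `⟨v⟩` inverts `H`. -/
theorem conj_D {x : G} (hx : x * X.N.v * x⁻¹ ∈ zpowers X.N.v) (hxH : x ∉ X.H) :
    (∀ a ∈ X.H, x * a * x⁻¹ = a⁻¹) ∧ X.N.u * x ∈ X.H := by
  haveI := Fact.mk X.prime
  set k := x * T.t * x⁻¹ with hk
  have hko : orderOf k = 2 := Invol.invol_conj T.order_t x
  have hxv : zpowers (x * X.N.v * x⁻¹) = zpowers X.N.v := eq_of_le_of_card_ge (zpowers_le.2 hx)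
    (by rw [Nat.card_zpowers, Nat.card_zpowers, ← MulAut.conj_apply, MulEquiv.orderOf_eq])
  have hkv : k ∈ X.H := by
    obtain ⟨i, hi⟩ := mem_zpowers_iff.1
      (hxv.symm ▸ mem_zpowers X.N.v : X.N.v ∈ zpowers (x * X.N.v * x⁻¹))
    refine mem_centralizer_singleton_iff.2 ?_
    rw [← hi]
    exact ((X.N.v_t.symm.map (MulAut.conj x)).zpow_right i).eq
  have hkt : k = T.t := by
    rcases (X.mem_H hkv).2 with h | h
    · have := X.N.odd_of_mem h
      rw [hko] at this
      exact absurd this (by decide)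
    · have h1 : T.t * k = 1 := orderOf_eq_one_iff.1 (Nat.eq_one_of_dvd_coprimes
        (Nat.coprime_two_left.2 (X.N.odd_of_mem h)) (orderOf_dvd_of_pow_eq_one (by
          rw [(X.mem_H hkv).1.symm.mul_pow, pow_two, pow_two, T.t_sq, Invol.invol_mul_self hko,
            one_mul])) dvd_rfl)
      exact (eq_inv_of_mul_eq_one_left h1).trans (Invol.invol_inv hko) |>.symm
  have hxt : Commute x T.t := mul_inv_eq_iff_eq_mul.1 hkt
  obtain ⟨e, he, i, rfl⟩ := X.N.norm x hxt hx
  have hwi : X.N.w ^ i ∈ X.H := X.w_le (zpow_mem (mem_zpowers _) i)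
  have he' : e = X.N.u ∨ e = T.t * X.N.u := by
    rcases he with rfl | rfl | h | h
    · exact absurd (mul_mem (one_mem _) hwi) hxH
    · exact absurd (mul_mem X.t_mem hwi) hxH
    · exact Or.inl h
    · exact Or.inr h
  have huH : X.N.u * (e * X.N.w ^ i) ∈ X.H := by
    rw [← mul_assoc]
    refine mul_mem ?_ hwi
    rcases he' with rfl | rfl
    · rw [X.N.u_sq]; exact one_mem _
    · rw [← mul_assoc, X.N.u_t.eq, mul_assoc, X.N.u_sq, mul_one]; exact X.t_mem
  refine ⟨fun a ha => ?_, huH⟩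
  have hwa : X.N.w ^ i * a * (X.N.w ^ i)⁻¹ = a := by
    rw [X.comm_H hwi ha, mul_inv_cancel_right]
  have hinv : ∀ y ∈ zpowers X.N.w, e * y * e⁻¹ = y⁻¹ := by
    intro y hy
    rcases he' with rfl | rfl
    · exact X.N.u_inverts hy
    · exact X.N.swap.u_inverts hy
  have het : e * T.t * e⁻¹ = T.t := by
    have : Commute e T.t := by
      rcases he' with rfl | rfl
      · exact X.N.u_t
      · exact (Commute.refl T.t).mul_left X.N.u_t
    rw [this.eq, mul_inv_cancel_right]
  calc e * X.N.w ^ i * a * (e * X.N.w ^ i)⁻¹ = e * (X.N.w ^ i * a * (X.N.w ^ i)⁻¹) * e⁻¹ := by group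
    _ = a⁻¹ := by
        rw [hwa]
        rcases (X.mem_H ha).2 with h | h
        · exact hinv a h
        · have h1 := hinv _ h
          calc e * a * e⁻¹ = e * (T.t * (T.t * a)) * e⁻¹ := by rw [← mul_assoc T.t, T.t_sq, one_mul]
            _ = (e * T.t * e⁻¹) * (e * (T.t * a) * e⁻¹) := by group
            _ = a⁻¹ := by
                rw [het, h1, mul_inv_rev, inv_eq_of_mul_eq_one_right T.t_sq,
                  ((X.mem_H ha).1.inv_left).eq, ← mul_assoc, T.t_sq, one_mul]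

theorem u_conj : X.N.u * X.N.v * X.N.u⁻¹ ∈ zpowers X.N.v ∧ X.N.u ∉ X.H := by
  refine ⟨by rw [X.N.u_v]; exact inv_mem (mem_zpowers _), fun h => X.N.v_ne ?_⟩
  exact X.N.eq_one_of_inverted_commute X.N.v_mem (mem_centralizer_singleton_iff.1 h).symm

/-- The induced function at a regular element of `H`. -/
theorem indFun_reg (f : X.H → ℂ) {h : X.H} (hh : X.Reg h) :
    indFun X.H f h = f h + f h⁻¹ := by
  set D : G → Prop := fun x => x * X.N.v * x⁻¹ ∈ zpowers X.N.v with hD
  have hterm : ∀ x : G, extendByZero X.H f (x⁻¹ * h * x) =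
      (if x ∈ X.H then f h else 0) + (if x ∈ Finset.univ.map (mulLeftEmbedding X.N.u) ∧
        X.N.u⁻¹ * x ∈ X.H then f h⁻¹ else 0) := by
    intro x
    by_cases hxH : x ∈ X.H
    · have e : x⁻¹ * h * x = h := by rw [mul_assoc, ← X.comm_H hxH h.2, inv_mul_cancel_left]
      rw [e, extendByZero_mem _ _ h.2, if_pos hxH, if_neg ?_, add_zero]
      rintro ⟨-, hu⟩
      refine X.u_conj.2 ?_
      have := mul_mem hxH (inv_mem hu)
      rwa [mul_inv_rev, inv_inv, mul_inv_cancel_left] at this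
    rw [if_neg hxH, zero_add]
    by_cases hxD : D x⁻¹
    · have hxH' : x⁻¹ ∉ X.H := fun h => hxH (by simpa using inv_mem h)
      obtain ⟨hinv, hu⟩ := X.conj_D hxD hxH'
      have e : x⁻¹ * h * x = ((h⁻¹ : X.H) : G) := by
        have := hinv h h.2
        rwa [inv_inv] at this
      rw [e, extendByZero_mem _ _ (h⁻¹).2, if_pos]
      refine ⟨Finset.mem_map.2 ⟨X.N.u⁻¹ * x, Finset.mem_univ _, by simp⟩, ?_⟩
      have hxu : X.N.u⁻¹ * x = (x⁻¹ * X.N.u)⁻¹ := by group
      rw [hxu, inv_mem_iff]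
      have := inv_mem hu
      rw [mul_inv_rev, inv_inv] at this
      rw [← Invol.invol_inv X.N.order_u] at this
      have h2 : X.N.u * (X.N.u * x⁻¹)⁻¹⁻¹ * X.N.u⁻¹ ∈ X.H := by
        rw [inv_inv]
        have h3 : ∀ a ∈ X.H, X.N.u * a * X.N.u⁻¹ ∈ X.H := fun a ha => by
          rw [(X.conj_D X.u_conj.1 X.u_conj.2).1 a ha]; exact inv_mem ha
        exact h3 _ hu
      rwa [inv_inv, ← mul_assoc, X.N.u_sq, one_mul, Invol.invol_inv X.N.order_u] at h2
    · rw [if_neg, extendByZero_not_mem _ _ fun hm => hxD ?_]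
      · exact X.mem_D_of_conj hh (by rwa [inv_inv])
      · rintro ⟨-, hu⟩
        apply hxD
        show x⁻¹ * X.N.v * x⁻¹⁻¹ ∈ _
        have hc : Commute (X.N.u⁻¹ * x) X.N.v := mem_centralizer_singleton_iff.1 hu
        have e : x⁻¹ * X.N.v * x⁻¹⁻¹ =
            (X.N.u⁻¹ * x)⁻¹ * (X.N.u⁻¹ * X.N.v * X.N.u) * (X.N.u⁻¹ * x) := by group
        have hu2 : X.N.u⁻¹ * X.N.v * X.N.u = X.N.v⁻¹ := by
          have h := X.N.u_v
          rw [Invol.invol_inv X.N.order_u] at h ⊢
          exact h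
        rw [e, hu2, mul_assoc, ← hc.inv_right.eq, inv_mul_cancel_left]
        exact inv_mem (mem_zpowers _)
  have hH : (Finset.univ.filter fun k => k ∈ X.H).card = Nat.card X.H := by
    rw [← Fintype.card_subtype, ← Nat.card_eq_fintype_card]
  have hu : (Finset.univ.filter fun x => x ∈ Finset.univ.map (mulLeftEmbedding X.N.u) ∧
      X.N.u⁻¹ * x ∈ X.H).card = Nat.card X.H := by
    rw [← hH]
    refine (Finset.card_bij (fun a _ => X.N.u * a) (fun a ha => ?_) (fun a _ b _ e => mul_left_cancel e)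
      fun b hb => ⟨X.N.u⁻¹ * b, Finset.mem_filter.2
        ⟨Finset.mem_univ _, (Finset.mem_filter.1 hb).2.2⟩, mul_inv_cancel_left _ _⟩).symm
    refine Finset.mem_filter.2 ⟨Finset.mem_univ _, Finset.mem_map.2 ⟨a, Finset.mem_univ _, rfl⟩, ?_⟩
    rw [inv_mul_cancel_left]
    exact (Finset.mem_filter.1 ha).2
  rw [indFun, Finset.sum_congr rfl (fun x _ => hterm x), Finset.sum_add_distrib, ← Finset.sum_filter,
    ← Finset.sum_filter, Finset.sum_const, Finset.sum_const, hH, hu, nsmul_eq_mul, nsmul_eq_mul,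
    ← mul_add, ← mul_assoc, inv_mul_cancel₀ (by exact_mod_cast Nat.card_pos.ne'), one_mul]

/-- Inner products of inductions of functions living on regular elements. -/
theorem inner_ind [Fintype X.H] (f g : X.H → ℂ) (hf : ∀ h, f h ≠ 0 → X.Reg h) :
    classInner (indFun X.H f) (indFun X.H g) = classInner f (fun h => g h + g h⁻¹) := by
  rw [classInner_indFun _ _ _ (isClassFunction_indFun _ _)]
  simp only [classInner]
  congr 1
  refine Finset.sum_congr rfl fun h _ => ?_
  by_cases h0 : f h = 0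
  · rw [h0, zero_mul, zero_mul]
  · rw [X.indFun_reg g (hf h h0)]

/-- `Ind (λ - 1)`. -/
noncomputable def F1 (l : X.F.L →* ℂˣ) : G → ℂ := indFun X.H (lc (X.lam l) - lc 1)

/-- `Ind η(λ - 1)`. -/
noncomputable def F0 (l : X.F.L →* ℂˣ) : G → ℂ := indFun X.H (lc (X.lam l * X.etaH) - lc X.etaH)

theorem supp1 {l : X.F.L →* ℂˣ} (hl : l ^ X.p = 1) :
    ∀ h, (lc (X.lam l) - lc 1 : X.H → ℂ) h ≠ 0 → X.Reg h := fun h hh => X.reg_of_lam hl fun e => hh (by
  simp [lc_apply, e])

theorem supp0 {l : X.F.L →* ℂˣ} (hl : l ^ X.p = 1) :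
    ∀ h, (lc (X.lam l * X.etaH) - lc X.etaH : X.H → ℂ) h ≠ 0 → X.Reg h := fun h hh =>
  X.reg_of_lam hl fun e => hh (by simp [lc_apply, e])

theorem fold (a b : X.H →* ℂˣ) :
    (fun h => (lc a - lc b : X.H → ℂ) h + (lc a - lc b : X.H → ℂ) h⁻¹) =
      lc a + lc a⁻¹ - (lc b + lc b⁻¹) := by
  funext h
  simp only [Pi.sub_apply, Pi.add_apply, lc_apply, MonoidHom.inv_apply, map_inv]
  ring

theorem gen_F1 (l : X.F.L →* ℂˣ) : Gen (X.F1 l) :=
  isGeneralizedCharacter_indFun _
    (isGeneralizedCharacter_sub (isGeneralizedCharacter_lc _) (isGeneralizedCharacter_lc _))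

theorem gen_F0 (l : X.F.L →* ℂˣ) : Gen (X.F0 l) :=
  isGeneralizedCharacter_indFun _
    (isGeneralizedCharacter_sub (isGeneralizedCharacter_lc _) (isGeneralizedCharacter_lc _))

theorem F1_one (l : X.F.L →* ℂˣ) : X.F1 l 1 = 0 := by
  rw [F1, indFun_one, Pi.sub_apply, lc_apply, lc_apply, map_one, map_one, sub_self, mul_zero]

theorem F0_one (l : X.F.L →* ℂˣ) : X.F0 l 1 = 0 := by
  rw [F0, indFun_one, Pi.sub_apply, lc_apply, lc_apply, map_one, map_one, sub_self, mul_zero]

variable {l l' : X.F.L →* ℂˣ}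

theorem F1_F1 (hl : l ^ X.p = 1) (h1 : l ≠ 1) (h1' : l' ≠ 1) :
    classInner (X.F1 l) (X.F1 l') =
      (if l = l' then 1 else 0) + (if l = l'⁻¹ then 1 else 0) + 2 := by
  rw [F1, F1, X.inner_ind _ _ (X.supp1 hl), X.fold, X.hom_one_inv, classInner_sub_left, classInner_sub_right,
    classInner_sub_right, classInner_add_right, classInner_add_right, classInner_add_right,
    classInner_add_right, classInner_lc', classInner_lc', classInner_lc', classInner_lc',
    classInner_lc', classInner_lc']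
  have e1 : X.lam l ≠ 1 := fun e => h1 (X.lam_inj (e.trans X.lam_one.symm))
  have e2 : (1 : X.H →* ℂˣ) ≠ X.lam l' := fun e => h1' (X.lam_inj (e.symm.trans X.lam_one.symm))
  have e3 : (1 : X.H →* ℂˣ) ≠ (X.lam l')⁻¹ := fun e =>
    inv_hom_ne_one h1' (X.lam_inj ((X.lam_inv l').trans (e.symm.trans X.lam_one.symm)))
  rw [if_neg e1, if_neg e2, if_neg e3, if_pos rfl, ← X.lam_inv]
  simp only [show ∀ a b, (X.lam a = X.lam b) = (a = b) from fun a b =>
    propext ⟨X.lam_inj, fun e => by rw [e]⟩]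
  ring

theorem F0_F0 (hl : l ^ X.p = 1) (h1 : l ≠ 1) (h1' : l' ≠ 1) :
    classInner (X.F0 l) (X.F0 l') =
      (if l = l' then 1 else 0) + (if l = l'⁻¹ then 1 else 0) + 2 := by
  rw [F0, F0, X.inner_ind _ _ (X.supp0 hl), X.fold, X.hom_mul_inv, X.etaH_inv, ← X.lam_inv,
    classInner_sub_left, classInner_sub_right, classInner_sub_right, classInner_add_right,
    classInner_add_right, classInner_add_right, classInner_add_right, classInner_lc', classInner_lc',
    classInner_lc', classInner_lc', classInner_lc', classInner_lc']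
  have e1 : X.lam l * X.etaH ≠ X.etaH := fun e =>
    h1 (X.lam_inj ((X.hom_cancel_one e).trans X.lam_one.symm))
  have e2 : X.etaH ≠ X.lam l' * X.etaH := fun e =>
    h1' (X.lam_inj ((X.hom_cancel_one e.symm).trans X.lam_one.symm))
  have e3 : X.etaH ≠ X.lam l'⁻¹ * X.etaH := fun e =>
    inv_hom_ne_one h1' (X.lam_inj ((X.hom_cancel_one e.symm).trans X.lam_one.symm))
  rw [if_neg e1, if_neg e2, if_neg e3, if_pos rfl]
  simp only [show ∀ a b, (a * X.etaH = b * X.etaH) = (a = b) from fun a b =>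
    propext ⟨X.hom_cancel, fun e => by rw [e]⟩, show ∀ a b, (X.lam a = X.lam b) = (a = b) from fun a b =>
    propext ⟨X.lam_inj, fun e => by rw [e]⟩]
  ring

theorem F1_F0 (hl : l ^ X.p = 1) : classInner (X.F1 l) (X.F0 l') = 0 := by
  rw [F1, F0, X.inner_ind _ _ (X.supp1 hl), X.fold, X.hom_mul_inv, X.etaH_inv, ← X.lam_inv,
    classInner_sub_left, classInner_sub_right, classInner_sub_right, classInner_add_right,
    classInner_add_right, classInner_add_right, classInner_add_right, classInner_lc', classInner_lc',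
    classInner_lc', classInner_lc', classInner_lc', classInner_lc']
  have a1 : ∀ a b, X.lam a ≠ X.lam b * X.etaH := fun a b e => X.lam_mul_eta_ne b a e.symm
  have a2 : ∀ a, X.lam a ≠ X.etaH := fun a => by simpa [X.lam_one, X.hom_one_mul] using a1 a 1
  have a3 : (1 : X.H →* ℂˣ) ≠ X.etaH := by simpa [X.lam_one] using a2 1
  have a4 : ∀ b, (1 : X.H →* ℂˣ) ≠ X.lam b * X.etaH := fun b => by simpa [X.lam_one] using a1 1 b
  rw [if_neg (a1 _ _), if_neg (a1 _ _), if_neg (a2 _), if_neg (a4 _), if_neg (a4 _), if_neg a3]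
  ring

theorem F1_triv (h1 : l ≠ 1) : classInner (X.F1 l) (fun _ => 1) = -1 := by
  rw [F1, classInner_indFun _ _ _ (fun _ _ => rfl),
    show (fun _ : X.H => (1 : ℂ)) = lc (1 : X.H →* ℂˣ) from rfl, classInner_sub_left, classInner_lc',
    classInner_lc', if_pos rfl, if_neg fun e => h1 (X.lam_inj (e.trans X.lam_one.symm))]
  ring

theorem F0_triv : classInner (X.F0 l) (fun _ => 1) = 0 := by
  rw [F0, classInner_indFun _ _ _ (fun _ _ => rfl),
    show (fun _ : X.H => (1 : ℂ)) = lc (1 : X.H →* ℂˣ) from rfl, classInner_sub_left, classInner_lc',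
    classInner_lc', if_neg (by simpa [X.lam_one] using X.lam_mul_eta_ne l 1),
    if_neg fun e => X.lam_mul_eta_ne 1 1 (by
      rw [X.lam_one, e]; exact MonoidHom.ext fun h => one_mul 1)]
  ring

/-- The inner product with a lift. -/
theorem F_lift {f : T.K → ℂ} (hf : Setup.OddSupp f) (hfc : IsClassFunction T.K f) :
    classInner (X.F1 l) (T.lift f) = classInner (lc l - lc 1) (fun y : X.F.L => f (y : T.K)) ∧
    classInner (X.F0 l) (T.lift f) = -classInner (lc l - lc 1) (fun y : X.F.L => f (y : T.K)) := by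
  have hkey : ∀ (χ : X.H →* ℂˣ) (ε : ℂ), (∀ h, (χ h : ℂ) =
      if (h : G) ∈ zpowers X.N.w then (1 : ℂ) else ε) →
      classInner (indFun X.H (fun h => (χ h : ℂ) * (lc (X.lam l) h - 1))) (T.lift f) =
        ε * classInner (lc l - lc 1) (fun y : X.F.L => f (y : T.K)) := by
    intro χ ε hχ
    rw [classInner_indFun _ _ _ (T.isClassFunction_lift f)]
    simp only [classInner]
    have hsum : ∑ h : X.H, (χ h : ℂ) * (lc (X.lam l) h - 1) * conj (T.lift f h) =
        ∑ y : X.F.L, ε * ((lc l - lc 1 : X.F.L → ℂ) y) * conj (2 * f (y : T.K)) := by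
      rw [← Finset.sum_filter_of_ne (p := fun h : X.H => (h : G) ∉ zpowers X.N.w) fun h _ hh hw =>
        hh (by rw [T.lift_odd hf (X.N.odd_of_mem hw), map_zero, mul_zero])]
      symm
      refine Finset.sum_bij (fun y _ => ⟨T.t * ((y : T.K) : G),
        mul_mem X.t_mem (X.w_le ((X.hL y).1 y.2))⟩) (fun y _ => Finset.mem_filter.2
        ⟨Finset.mem_univ _, fun hw => T.tK_not_mem (y : T.K).2
          (T.mem_K_of_odd (X.N.commute_t hw) (X.N.odd_of_mem hw))⟩)
        (fun y _ y' _ e => Subtype.ext (Subtype.ext (mul_left_cancel (congrArg Subtype.val e))))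
        (fun h hh => ?_) (fun y _ => ?_)
      · have hw := (X.mem_H h.2).2.resolve_left (Finset.mem_filter.1 hh).2
        have hK : T.t * (h : G) ∈ T.K := T.mem_K_of_odd (X.N.commute_t hw) (X.N.odd_of_mem hw)
        refine ⟨⟨⟨_, hK⟩, (X.hL _).2 hw⟩, Finset.mem_univ _, Subtype.ext ?_⟩
        show T.t * (T.t * (h : G)) = h
        rw [← mul_assoc, T.t_sq, one_mul]
      · set h : X.H := ⟨T.t * ((y : T.K) : G), mul_mem X.t_mem (X.w_le ((X.hL y).1 y.2))⟩ with hh
        have hnw : (h : G) ∉ zpowers X.N.w := fun hw => T.tK_not_mem (y : T.K).2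
          (T.mem_K_of_odd (X.N.commute_t hw) (X.N.odd_of_mem hw))
        have hyo : Odd (orderOf (y : T.K)) := by
          rw [← Subgroup.orderOf_coe]; exact X.N.odd_of_mem ((X.hL y).1 y.2)
        rw [hχ h, if_neg hnw, show T.lift f (h : G) = 2 * f (y : T.K) from T.lift_tx hf hfc hyo,
          lc_apply, lam, MonoidHom.comp_apply, X.projL_eq (x := y) (Or.inr rfl)]
        simp [lc_apply]
    rw [hsum, X.card_H, X.F.card_L, Finset.mul_sum, Finset.mul_sum, Finset.mul_sum]
    refine Finset.sum_congr rfl fun y _ => ?_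
    rw [map_mul, map_ofNat]
    push_cast
    rw [mul_inv]
    ring
  constructor
  · have h := hkey 1 1 (fun h => by simp)
    rw [one_mul] at h
    rw [← h, F1]
    exact congrArg (fun z => classInner (indFun X.H z) (T.lift f)) (funext fun h => by simp [lc_apply])
  · have h := hkey X.etaH (-1) (fun h => by
      have hiff : (Subgroup.inclusion X.H_le h : G) ∈ T.K ↔ (h : G) ∈ zpowers X.N.w := by
        refine ⟨fun hK => ?_, fun hw => T.mem_K_of_odd (X.N.commute_t hw) (X.N.odd_of_mem hw)⟩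
        rcases (X.mem_H h.2).2 with hw | hw
        · exact hw
        · exact absurd (T.mem_K_of_odd (X.N.commute_t hw) (X.N.odd_of_mem hw)) (T.tK_not_mem hK)
      have hval : (X.etaH h : ℂ) = if (Subgroup.inclusion X.H_le h : G) ∈ T.K then 1 else -1 := by
        show ((if (Subgroup.inclusion X.H_le h : G) ∈ T.K then (1 : ℂˣ) else -1 : ℂˣ) : ℂ) = _
        split_ifs <;> simp
      rw [hval]
      exact if_congr hiff rfl rfl)
    rw [neg_one_mul] at h
    rw [← h, F0]
    exact congrArg (fun z => classInner (indFun X.H z) (T.lift f))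
      (funext fun h => by simp [lc_apply]; ring)

end TorusCtx

end CfsgLib.ReeType
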