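import Cfsg.Agent.Lib.Ree.FamilyBasic
import Cfsg.Agent.Lib.Ree.Coherence

/-!
# The coherent families and the values at the involution
-/

set_option autoImplicit false
set_option linter.unusedSectionVars false

namespace CfsgLib.ReeType

open scoped ComplexConjugate
open Subgroup Cfsg CfsgLib.Char CfsgLib.Char.Signed

universe u

attribute [local instance] _root_.Classical.propDecidable

variable {G : Type u} [Group G] [Fintype G] {q m n : ℕ} {T : Setup G q m n}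

namespace TorusCtx

variable (X : TorusCtx T)

theorem eleven_le : 11 ≤ X.p := by
  haveI := Fact.mk X.prime
  have hpn : X.p ∣ n := X.N.p_dvd_n X.hv
  have hp2 : X.p ≠ 2 := X.N.p_ne_two X.hv
  have hp3 : X.p ≠ 3 := fun e => T.kit.three_not_n (e ▸ hpn)
  have hq1 : q % X.p = 1 := by
    obtain ⟨c, hc⟩ := hpn
    refine (congrArg (· % X.p) (T.kit.hn.trans (congrArg (fun a => 2 * a + 1) hc))).trans ?_
    show (2 * (X.p * c) + 1) % X.p = 1
    rw [show 2 * (X.p * c) + 1 = 1 + X.p * (2 * c) by ring, Nat.add_mul_mod_self_left,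
      Nat.one_mod_eq_one]
    exact X.prime.one_lt.ne'
  obtain ⟨k, -, hk⟩ := T.kit.q_pow
  have h5 : ∀ i : ℕ, 3 ^ (2 * i + 1) % 5 = 3 ∨ 3 ^ (2 * i + 1) % 5 = 2 := fun i => by
    induction i with
    | zero => norm_num
    | succ i ih =>
      rw [show 2 * (i + 1) + 1 = 2 + (2 * i + 1) by ring, pow_add, Nat.mul_mod]
      rcases ih with h | h <;> rw [h] <;> norm_num
  have h7 : ∀ i : ℕ, 3 ^ (2 * i + 1) % 7 = 3 ∨ 3 ^ (2 * i + 1) % 7 = 6 ∨ 3 ^ (2 * i + 1) % 7 = 5 :=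
    fun i => by
    induction i with
    | zero => norm_num
    | succ i ih =>
      rw [show 2 * (i + 1) + 1 = 2 + (2 * i + 1) by ring, pow_add, Nat.mul_mod]
      rcases ih with h | h | h <;> rw [h] <;> norm_num
  by_contra hlt
  have h2 := X.prime.two_le
  obtain ⟨d, hd⟩ : ∃ d, d = X.p := ⟨_, rfl⟩
  rw [← hd] at hlt h2 hp2 hp3 hq1
  have hpr : d.Prime := hd ▸ X.prime
  have h5' := h5 k
  have h7' := h7 k
  rw [← hk] at h5' h7'
  interval_cases d <;> first | omega | norm_num at hpr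

/-- A character of order `p` of the torus. -/
theorem exists_lam0 : ∃ l : X.F.L →* ℂˣ, (∀ y, l y ^ X.p = 1) ∧ ∃ y, l y ≠ 1 := by
  haveI := Fact.mk X.prime
  let _ : CommGroup X.F.L :=
    { (inferInstance : Group X.F.L) with
      mul_comm := fun a b => Subtype.ext (X.F.torus_L.comm a a.2 b b.2) }
  haveI : Finite (X.F.L →* ℂˣ) := finite_dual
  obtain ⟨l, hl⟩ := exists_prime_orderOf_dvd_card' (G := X.F.L →* ℂˣ) X.p (by
    rw [CommGroup.card_monoidHom_of_hasEnoughRootsOfUnity X.F.L ℂ, X.F.card_L]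
    exact X.N.p_dvd_n X.hv)
  have h1 : l ^ X.p = 1 := hl ▸ pow_orderOf_eq_one l
  refine ⟨l, fun y => ?_, ?_⟩
  · exact DFunLike.congr_fun h1 y
  · by_contra hc
    push Not at hc
    have : l = 1 := MonoidHom.ext hc
    rw [this, orderOf_one] at hl
    exact X.prime.one_lt.ne hl

/-- The five characters used. -/
noncomputable def fam (i : Fin 5) : X.F.L →* ℂˣ :=
  (powMonoidHom ((i : ℕ) + 1)).comp X.exists_lam0.choose

theorem fam_apply (i : Fin 5) (y : X.F.L) :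
    X.fam i y = X.exists_lam0.choose y ^ ((i : ℕ) + 1) := rfl

theorem fam_spec (i : Fin 5) : X.fam i ^ X.p = 1 ∧ X.fam i ≠ 1 ∧ X.fam i ≠ (X.fam i)⁻¹ ∧
    ∀ j, i ≠ j → X.fam i ≠ X.fam j ∧ X.fam i ≠ (X.fam j)⁻¹ := by
  obtain ⟨hlp, y, hy⟩ := X.exists_lam0.choose_spec
  haveI := Fact.mk X.prime
  set ω := X.exists_lam0.choose y with hω
  have ho : orderOf ω = X.p := orderOf_eq_prime (hlp y) hy
  have hp := X.eleven_le
  have hi := i.2
  have hne : ∀ k : ℕ, 0 < k → k < 11 → ω ^ k ≠ 1 := fun k h1 h2 e => by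
    have := Nat.le_of_dvd h1 (orderOf_dvd_of_pow_eq_one e)
    omega
  have hval : ∀ j, X.fam j y = ω ^ ((j : ℕ) + 1) := fun j => rfl
  refine ⟨MonoidHom.ext fun z => ?_, fun e => ?_, fun e => ?_, fun j hij => ⟨fun e => ?_, fun e => ?_⟩⟩
  · rw [MonoidHom.pow_apply, fam_apply, ← pow_mul, mul_comm, pow_mul, hlp, one_pow, MonoidHom.one_apply]
  · have h := DFunLike.congr_fun e y
    rw [hval, MonoidHom.one_apply] at h
    exact hne _ (by omega) (by omega) h
  · have h := DFunLike.congr_fun e y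
    rw [MonoidHom.inv_apply, hval, eq_inv_iff_mul_eq_one, ← pow_add] at h
    exact hne _ (by omega) (by omega) h
  · have h := DFunLike.congr_fun e y
    rw [hval, hval] at h
    have hj := j.2
    have h1 := pow_eq_pow_iff_modEq.1 h
    rw [ho] at h1
    have := h1.eq_of_lt_of_lt (by omega) (by omega)
    exact hij (Fin.ext (by omega))
  · have h := DFunLike.congr_fun e y
    rw [MonoidHom.inv_apply, hval, hval, eq_inv_iff_mul_eq_one, ← pow_add] at h
    have hj := j.2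
    exact hne _ (by omega) (by omega) h

theorem fam_pair (i j : Fin 5) : ((if X.fam i = X.fam j then 1 else 0) +
    (if X.fam i = (X.fam j)⁻¹ then 1 else 0) : ℂ) = if i = j then 1 else 0 := by
  rcases eq_or_ne i j with rfl | h
  · rw [if_pos rfl, if_pos rfl, if_neg (X.fam_spec i).2.2.1, add_zero]
  · rw [if_neg ((X.fam_spec i).2.2.2 j h).1, if_neg ((X.fam_spec i).2.2.2 j h).2, if_neg h, add_zero]

/-- The coherent families. -/
structure Coh where
  D : G → ℂ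
  Γ0 : G → ℂ
  X1 : Fin 5 → G → ℂ
  X0 : Fin 5 → G → ℂ
  sgD : Sg D
  sg1 : ∀ i, Sg (X1 i)
  sg0 : ∀ i, Sg (X0 i)
  genΓ0 : Gen Γ0
  orth11 : ∀ i j, i ≠ j → iq (X1 i) (X1 j) = 0
  orth00 : ∀ i j, i ≠ j → iq (X0 i) (X0 j) = 0
  orth10 : ∀ i j, iq (X1 i) (X0 j) = 0
  triv1 : ∀ i, iq (X1 i) (fun _ => 1) = 0
  trivD : iq D (fun _ => 1) = 0
  orthD : ∀ i, iq D (X1 i) = 0
  dec1 : ∀ i, X.F1 (X.fam i) = X1 i - D - (fun _ => 1)
  dec0 : ∀ i, X.F0 (X.fam i) = Γ0 + X0 i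

theorem exists_coh : Nonempty X.Coh := by
  have hone : Gen (fun _ : G => (1 : ℂ)) := sg_one.gen
  obtain ⟨Γ, X1, hΓg, hΓ2, hs1, ho1, hΓX, h1one, hΓ1, hd1⟩ := coherent_five
    (fun i => X.F1 (X.fam i)) (fun i => X.gen_F1 _) (fun i => X.F1_one _)
    (fun i j => by rw [X.F1_F1 (X.fam_spec i).1 (X.fam_spec i).2.1 (X.fam_spec j).2.1, X.fam_pair])
    (-1) (fun i => by rw [X.F1_triv (X.fam_spec i).2.1]; norm_num)
  obtain ⟨Γ0, X0, hΓ0g, -, hs0, ho0, -, -, -, hd0⟩ := coherent_five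
    (fun i => X.F0 (X.fam i)) (fun i => X.gen_F0 _) (fun i => X.F0_one _)
    (fun i j => by rw [X.F0_F0 (X.fam_spec i).1 (X.fam_spec i).2.1 (X.fam_spec j).2.1, X.fam_pair])
    0 (fun i => by rw [X.F0_triv]; norm_num)
  have hsum : Gen (Γ + (fun _ => 1)) := isGeneralizedCharacter_add hΓg hone
  have hD : Sg (-(Γ + fun _ => 1)) := (Sg.of_iq hsum (by
    rw [iq_add_left hΓg hone hsum, iq_add_right hΓg hΓg hone, iq_add_right hone hΓg hone, hΓ2, hΓ1,
      iq_comm hone hΓg, hΓ1, sg_one.iq_self]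
    norm_num)).neg
  have h10 : ∀ i j k l, iq (X1 i - X1 j) (X0 k - X0 l) = 0 := by
    intro i j k l
    have e1 : X1 i - X1 j = X.F1 (X.fam i) - X.F1 (X.fam j) := by rw [hd1 i, hd1 j]; abel
    have e0 : X0 k - X0 l = X.F0 (X.fam k) - X.F0 (X.fam l) := by rw [hd0 k, hd0 l]; abel
    refine iq_eq 0 ?_
    rw [e1, e0, classInner_sub_left, classInner_sub_right, classInner_sub_right,
      X.F1_F0 (X.fam_spec i).1, X.F1_F0 (X.fam_spec i).1, X.F1_F0 (X.fam_spec j).1,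
      X.F1_F0 (X.fam_spec j).1]
    simp
  refine ⟨⟨-(Γ + fun _ => 1), Γ0, X1, X0, hD, hs1, hs0, hΓ0g, ho1, ho0,
    orth_five hs1 hs0 ho1 ho0 h10, h1one, ?_, fun i => ?_, fun i => ?_, hd0⟩⟩
  · rw [iq_neg_left hsum hone, iq_add_left hΓg hone hone, hΓ1, sg_one.iq_self]
    norm_num
  · rw [iq_neg_left hsum (hs1 i).gen, iq_add_left hΓg hone (hs1 i).gen, hΓX,
      iq_comm hone (hs1 i).gen, h1one]
    norm_num
  · have e : X.F1 (X.fam i) = Γ + X1 i := hd1 i
    rw [e]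
    abel

/-- The inner products of `λ - 1` with a function on the torus. -/
theorem e_Q (μ : X.F.L →* ℂˣ) (i : Fin 5) :
    classInner (lc (X.fam i) - lc 1) (fun y : X.F.L => X.F.Q X.psi μ (y : T.K)) =
      (if X.fam i = μ then 1 else 0) + (if X.fam i = μ⁻¹ then 1 else 0) -
        2 * (if μ = 1 then 1 else 0) := by
  have e : (fun y : X.F.L => X.F.Q X.psi μ (y : T.K)) = lc μ + lc μ⁻¹ +
      ((4 * (q : ℂ) * m - 2) - ((q : ℂ) ^ 2 - 1)) • oneAt X.F.L := by
    rw [sub_smul, ← X.F.Xi_restrict_of T.kit (Or.inr rfl) X.psi, add_sub_assoc']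
    funext y
    simp only [Pi.sub_apply, KFrame.Q]
    exact congrArg (fun z => z - X.F.Xi X.psi (y : T.K))
      (congrFun (X.F.iL_restrict_L T.kit μ) y)
  have hcases : ((1 : X.F.L →* ℂˣ) = μ⁻¹) = (μ = 1) := propext ⟨fun e => by
      by_contra hne; exact inv_hom_ne_one hne e.symm,
    fun e => MonoidHom.ext fun y => by simp [e, MonoidHom.inv_apply]⟩
  rw [e, classInner_sub_left, classInner_add_right, classInner_add_right, classInner_add_right,
    classInner_add_right, classInner_smul_right, classInner_smul_right, classInner_lc_oneAt,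
    classInner_lc_oneAt, classInner_lc', classInner_lc', classInner_lc', classInner_lc']
  simp only [hcases, eq_comm (a := (1 : X.F.L →* ℂˣ))]
  ring

theorem e_P (θ : X.F.A →* ℂˣ) (i : Fin 5) :
    classInner (lc (X.fam i) - lc 1) (fun y : X.F.L => X.F.P X.psi θ (y : T.K)) = 0 := by
  have e : (fun y : X.F.L => X.F.P X.psi θ (y : T.K)) =
      (2 * ((q : ℂ) ^ 2 - 1) - 4 * (q : ℂ) * n) • oneAt X.F.L := by
    rw [sub_smul, ← smul_smul, ← X.F.Xi_restrict_of T.kit (Or.inr rfl) X.psi,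
      ← X.F.iA_restrict_of T.kit (Or.inr rfl) θ]
    rfl
  rw [e, classInner_smul_right, classInner_sub_left, classInner_lc_oneAt, classInner_lc_oneAt, sub_self,
    mul_zero]

variable {X} (Ch : X.Coh)

/-- Coefficients of a lift in the families. -/
theorem coef {f : T.K → ℂ} (hfg : IsGeneralizedCharacter T.K f) (hf : Setup.OddSupp f) (e : Fin 5 → ℤ)
    (he : ∀ i, classInner (lc (X.fam i) - lc 1) (fun y : X.F.L => f (y : T.K)) = (e i : ℂ)) :
    ∀ i, iq (T.lift f) (Ch.X1 i) - iq (T.lift f) Ch.D - iq (T.lift f) (fun _ => 1) = e i ∧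
      iq (T.lift f) Ch.Γ0 + iq (T.lift f) (Ch.X0 i) = -e i := by
  intro i
  have hL := T.gen_lift hfg
  have hone : Gen (fun _ : G => (1 : ℂ)) := sg_one.gen
  have hfc := isClassFunction_of_isGeneralized hfg
  obtain ⟨h1, h0⟩ := X.F_lift (l := X.fam i) hf hfc
  constructor
  · have h : iq (X.F1 (X.fam i)) (T.lift f) = e i := iq_eq _ (h1.trans (he i))
    rw [iq_comm (X.gen_F1 _) hL, Ch.dec1 i,
      iq_sub_right hL (isGeneralizedCharacter_sub (Ch.sg1 i).gen Ch.sgD.gen) hone,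
      iq_sub_right hL (Ch.sg1 i).gen Ch.sgD.gen] at h
    exact h
  · have h : iq (X.F0 (X.fam i)) (T.lift f) = -e i :=
      iq_eq _ (by rw [h0, he i]; push_cast; rfl)
    rw [iq_comm (X.gen_F0 _) hL, Ch.dec0 i, iq_add_right hL Ch.genΓ0 (Ch.sg0 i).gen] at h
    exact h

theorem bessel_ten {f : G → ℂ} (hf : Gen f) :
    (iq f (Ch.X1 0) ^ 2 + iq f (Ch.X1 1) ^ 2 + iq f (Ch.X1 2) ^ 2 + iq f (Ch.X1 3) ^ 2 +
      iq f (Ch.X1 4) ^ 2) + (iq f (Ch.X0 0) ^ 2 + iq f (Ch.X0 1) ^ 2 + iq f (Ch.X0 2) ^ 2 +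
      iq f (Ch.X0 3) ^ 2 + iq f (Ch.X0 4) ^ 2) ≤ iq f f := by
  have h := Orth.bessel (G := G) (l := [Ch.X1 0, Ch.X1 1, Ch.X1 2, Ch.X1 3, Ch.X1 4,
      Ch.X0 0, Ch.X0 1, Ch.X0 2, Ch.X0 3, Ch.X0 4])
    ⟨fun b hb => by
      simp only [List.mem_cons, List.not_mem_nil, or_false] at hb
      rcases hb with rfl | rfl | rfl | rfl | rfl | rfl | rfl | rfl | rfl | rfl <;>
        first | exact Ch.sg1 _ | exact Ch.sg0 _,
     by simp [List.pairwise_cons, Ch.orth11, Ch.orth00, Ch.orth10]⟩ hf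
  simp only [List.map_cons, List.map_nil, List.sum_cons, List.sum_nil] at h
  linarith

theorem norm_Q (μ : X.F.L →* ℂˣ) : iq (T.lift (X.F.Q X.psi μ)) (T.lift (X.F.Q X.psi μ)) =
    2 * (1 + (if μ = μ⁻¹ then 1 else 0)) := by
  refine iq_eq _ ?_
  rw [T.inner_lift (X.F.Q_oddSupp T.kit _ _) (X.F.Q_oddSupp T.kit _ _) (X.F.Q_classFun _ _),
    X.F.inner_Q_Q T.kit X.psi_ne, if_pos rfl]
  split_ifs <;> norm_num

theorem psi_fam (k : Fin 5) : T.lift (X.F.Q X.psi (X.fam k)) = Ch.X1 k - Ch.X0 k := by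
  set Ψ := T.lift (X.F.Q X.psi (X.fam k)) with hΨ
  have hL : Gen Ψ := T.gen_lift (X.F.Q_gen _ _)
  have he := coef Ch (f := X.F.Q X.psi (X.fam k)) (X.F.Q_gen _ _) (X.F.Q_oddSupp T.kit _ _)
    (fun i => if i = k then 1 else 0) fun i => by
      rw [X.e_Q, X.fam_pair, if_neg (X.fam_spec k).2.1]
      split_ifs <;> simp
  have hn : iq Ψ Ψ = 2 := by rw [hΨ, norm_Q, if_neg (X.fam_spec k).2.2.1]; norm_num
  set a := iq Ψ Ch.D + iq Ψ (fun _ => 1) with ha
  set b := iq Ψ Ch.Γ0 with hb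
  have h1 : ∀ i, iq Ψ (Ch.X1 i) = a + if i = k then 1 else 0 := fun i => by
    have := (he i).1
    rw [← hΨ] at this
    linarith
  have h0 : ∀ i, iq Ψ (Ch.X0 i) = -b - if i = k then 1 else 0 := fun i => by
    have := (he i).2
    rw [← hΨ] at this
    linarith
  have hB := bessel_ten Ch hL
  simp only [h1, h0, hn] at hB
  have hab : a = 0 ∧ b = 0 := by
    have hB2 : (5 * a ^ 2 + 2 * a + 1) + (5 * b ^ 2 + 2 * b + 1) ≤ 2 := by
      fin_cases k <;> simp at hB <;> nlinarith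
    have ha0 : a * (5 * a + 2) ≤ 0 → a = 0 := fun h => by
      rcases lt_trichotomy a 0 with h' | h' | h'
      · nlinarith
      · exact h'
      · nlinarith
    have hb0 : b * (5 * b + 2) ≤ 0 → b = 0 := fun h => by
      rcases lt_trichotomy b 0 with h' | h' | h'
      · nlinarith
      · exact h'
      · nlinarith
    have hpos : ∀ z : ℤ, 0 ≤ z * (5 * z + 2) := fun z => by
      rcases lt_trichotomy z 0 with h' | h' | h' <;> nlinarith
    have := hpos a
    have := hpos b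
    exact ⟨ha0 (by nlinarith), hb0 (by nlinarith)⟩
  have e1 : iq Ψ (Ch.X1 k) = 1 := by rw [h1, hab.1, if_pos rfl]; norm_num
  have e0 : iq Ψ (Ch.X0 k) = -1 := by rw [h0, hab.2, if_pos rfl]; norm_num
  have hX : Gen (Ch.X1 k - Ch.X0 k) := isGeneralizedCharacter_sub (Ch.sg1 k).gen (Ch.sg0 k).gen
  refine sub_eq_zero.1 (eq_zero_of_iq_self (isGeneralizedCharacter_sub hL hX) ?_)
  rw [iq_sub_left hL hX (isGeneralizedCharacter_sub hL hX), iq_sub_right hL hL hX,
    iq_sub_right hX hL hX, iq_comm hX hL, iq_sub_right hL (Ch.sg1 k).gen (Ch.sg0 k).gen, e1, e0,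
    iq_sub_left (Ch.sg1 k).gen (Ch.sg0 k).gen hX, iq_sub_right (Ch.sg1 k).gen (Ch.sg1 k).gen (Ch.sg0 k).gen,
    iq_sub_right (Ch.sg0 k).gen (Ch.sg1 k).gen (Ch.sg0 k).gen, (Ch.sg1 k).iq_self, (Ch.sg0 k).iq_self,
    iq_comm (Ch.sg0 k).gen (Ch.sg1 k).gen, Ch.orth10, hn]
  norm_num

/-- A lift orthogonal to all the `Q_λ` of the family has no coefficient in the families. -/
theorem coef_zero {f : T.K → ℂ} (hfg : IsGeneralizedCharacter T.K f) (hf : Setup.OddSupp f) (e : ℤ)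
    (he : ∀ i, classInner (lc (X.fam i) - lc 1) (fun y : X.F.L => f (y : T.K)) = (e : ℂ))
    (horth : ∀ i, classInner f (X.F.Q X.psi (X.fam i)) = 0)
    (hn : iq (T.lift f) (T.lift f) < 10) : ∀ i, iq (T.lift f) (Ch.X1 i) = 0 := by
  set Ψ := T.lift f with hΨ
  have hL : Gen Ψ := T.gen_lift hfg
  have heq : ∀ i, iq Ψ (Ch.X1 i) = iq Ψ (Ch.X0 i) := fun i => by
    have h : iq Ψ (T.lift (X.F.Q X.psi (X.fam i))) = 0 := iq_eq 0 (by
      rw [hΨ, T.inner_lift hf (X.F.Q_oddSupp T.kit _ _) (X.F.Q_classFun _ _), horth i, mul_zero,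
        Int.cast_zero])
    rw [psi_fam Ch i, iq_sub_right hL (Ch.sg1 i).gen (Ch.sg0 i).gen] at h
    linarith
  have hco := coef Ch hfg hf (fun _ => e) he
  have hconst : ∀ i, iq Ψ (Ch.X1 i) = iq Ψ (Ch.X1 0) := fun i => by
    have h1 := (hco i).1
    have h2 := (hco 0).1
    rw [← hΨ] at h1 h2
    linarith
  have hB := bessel_ten Ch hL
  simp only [← heq] at hB
  rw [hconst 1, hconst 2, hconst 3, hconst 4] at hB
  intro i
  rw [hconst i]
  nlinarith

end TorusCtx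

end CfsgLib.ReeType
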