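import Cfsg.Agent.Lib.Ree.FamilyCoh

/-!
# The first equation for the number of involutions
-/

set_option autoImplicit false
set_option linter.unusedSectionVars false

namespace CfsgLib.ReeType

open scoped ComplexConjugate
open Subgroup Cfsg CfsgLib.Char CfsgLib.Char.Signed

universe u

attribute [local instance] _root_.Classical.propDecidable

variable {G : Type u} [Group G] [Fintype G]

/-- The class-algebra functional of an induced function. -/
theorem qfun_indFun_count (H : Subgroup G) [Fintype H] (i : G) (f : H → ℂ) :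
    qfun i (indFun H f) = (Nat.card G : ℂ) / (Nat.card {x : G // IsConj i x} : ℂ) ^ 2 *
      ((Nat.card H : ℂ)⁻¹ * ∑ h : H, f h * (classConst i i (h : G) : ℂ)) := by
  have := Fintype.ofFinite (IrrCharacter G)
  have hk : (Nat.card {x : G // IsConj i x} : ℂ) ≠ 0 := by
    have : Nonempty {x : G // IsConj i x} := ⟨⟨i, IsConj.refl i⟩⟩
    exact_mod_cast Nat.card_pos.ne'
  have hG : (Nat.card G : ℂ) ≠ 0 := by exact_mod_cast Nat.card_pos.ne'
  set F : G → ℂ := fun x => (classConst i i x : ℂ) with hF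
  have hFc : IsClassFunction G F := fun g h => by
    simp only [hF]
    rw [classConst_conj]
  have hFre : ∀ x, conj (F x) = F x := fun x => map_natCast _ _
  have h1 : classInner (indFun H f) F = (Nat.card {x : G // IsConj i x} : ℂ) ^ 2 / (Nat.card G : ℂ) *
      qfun i (indFun H f) := by
    simp only [classInner, hFre]
    simp only [hF, classConst_formula, qfun, finsum_eq_sum_of_fintype, classInner, Finset.mul_sum,
      Finset.sum_mul, Finset.sum_div]
    rw [Finset.sum_comm]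
    refine Finset.sum_congr rfl fun χ _ => Finset.sum_congr rfl fun x _ => ?_
    ring
  have h2 : classInner (indFun H f) F =
      (Nat.card H : ℂ)⁻¹ * ∑ h : H, f h * (classConst i i (h : G) : ℂ) := by
    rw [classInner_indFun H f F hFc]
    simp only [classInner, hF, map_natCast]
  rw [← h2, h1]
  field_simp

variable {q m n : ℕ} {T : Setup G q m n} {X : TorusCtx T}

namespace TorusCtx

theorem inv_inv_hom {Y : Type*} [Group Y] (μ : Y →* ℂˣ) : μ⁻¹⁻¹ = μ :=
  MonoidHom.ext fun y => by simp [MonoidHom.inv_apply]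

variable (Ch : X.Coh)

/-- The coefficients of the lift of `Q_μ` in `X₁` and `D`. -/
theorem coef_Q (μ : X.F.L →* ℂˣ) :
    iq (T.lift (X.F.Q X.psi μ)) (Ch.X1 0) =
        (if X.fam 0 = μ then 1 else 0) + (if X.fam 0 = μ⁻¹ then 1 else 0) ∧
      iq (T.lift (X.F.Q X.psi μ)) Ch.D = (if μ = 1 then 1 else 0) := by
  set Ψ := T.lift (X.F.Q X.psi μ) with hΨ
  have hL : Gen Ψ := T.gen_lift (X.F.Q_gen _ _)
  have hone : Gen (fun _ : G => (1 : ℂ)) := sg_one.gen
  set A : Fin 5 → ℤ := fun i => (if X.fam i = μ then 1 else 0) + (if X.fam i = μ⁻¹ then 1 else 0) with hA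
  have hco := coef Ch (f := X.F.Q X.psi μ) (X.F.Q_gen _ _) (X.F.Q_oddSupp T.kit _ _)
    (fun i => A i - 2 * (if μ = 1 then 1 else 0)) fun i => by
      rw [X.e_Q]
      simp only [hA]
      split_ifs <;> norm_num
  have h1 : iq Ψ (Ch.X1 0) = A 0 := by
    by_cases hfam : ∃ k, X.fam k = μ ∨ X.fam k = μ⁻¹
    · obtain ⟨k, hk⟩ := hfam
      have heq : X.F.Q X.psi μ = X.F.Q X.psi (X.fam k) := by
        rcases hk with rfl | hk
        · rfl
        · have hk2 : X.fam k ≠ (X.fam k)⁻¹ := (X.fam_spec k).2.2.1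
          have hμ : μ = (X.fam k)⁻¹ := by rw [hk, inv_inv_hom]
          refine sub_eq_zero.1 (classInner_self_eq_zero ?_)
          rw [classInner_sub_left, classInner_sub_right, classInner_sub_right,
            X.F.inner_Q_Q T.kit X.psi_ne, X.F.inner_Q_Q T.kit X.psi_ne, X.F.inner_Q_Q T.kit X.psi_ne,
            X.F.inner_Q_Q T.kit X.psi_ne, hμ, inv_inv_hom]
          simp [hk2, hk2.symm]
      have hpsi := psi_fam Ch k
      rw [← heq, ← hΨ] at hpsi
      rw [hpsi, iq_sub_left (Ch.sg1 k).gen (Ch.sg0 k).gen (Ch.sg1 0).gen,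
        iq_comm (Ch.sg0 k).gen (Ch.sg1 0).gen, Ch.orth10, sub_zero]
      have hval : A 0 = if (0 : Fin 5) = k then 1 else 0 := by
        have hp := X.fam_pair 0 k
        simp only [hA]
        rcases hk with rfl | hk
        · rcases eq_or_ne 0 k with rfl | hne
          · simp [(X.fam_spec 0).2.2.1]
          · simp [((X.fam_spec 0).2.2.2 k hne).1, ((X.fam_spec 0).2.2.2 k hne).2, hne]
        · have hμ : μ = (X.fam k)⁻¹ := by rw [hk, inv_inv_hom]
          rw [hμ, inv_inv_hom]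
          rcases eq_or_ne 0 k with rfl | hne
          · simp [(X.fam_spec 0).2.2.1]
          · simp [((X.fam_spec 0).2.2.2 k hne).1, ((X.fam_spec 0).2.2.2 k hne).2, hne]
      rw [hval]
      rcases eq_or_ne 0 k with rfl | hne
      · rw [if_pos rfl, (Ch.sg1 0).iq_self]
      · rw [if_neg hne, Ch.orth11 k 0 hne.symm]
    · push Not at hfam
      have hA0 : ∀ i, A i = 0 := fun i => by simp [hA, (hfam i).1, (hfam i).2]
      rw [hA0]
      refine coef_zero Ch (X.F.Q_gen _ _) (X.F.Q_oddSupp T.kit _ _)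
        (-2 * (if μ = 1 then 1 else 0)) (fun i => ?_) (fun i => ?_) ?_ 0
      · rw [X.e_Q, if_neg (hfam i).1, if_neg (hfam i).2]
        split_ifs <;> norm_num
      · rw [X.F.inner_Q_Q T.kit X.psi_ne, if_neg fun e => (hfam i).1 e.symm, if_neg fun e =>
          (hfam i).2 (by rw [e, inv_inv_hom]), add_zero]
      · rw [norm_Q]
        split_ifs <;> norm_num
  refine ⟨h1, ?_⟩
  have h2 := (hco 0).1
  have h3 : iq Ψ (fun _ => 1) = if μ = 1 then 1 else 0 := iq_eq _ (by
    rw [hΨ, T.inner_lift_one, X.F.inner_Q_one T.kit X.psi_ne]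
    split_ifs <;> norm_num)
  rw [← hΨ] at h2
  rw [h1, h3] at h2
  linarith

/-- The coefficients of the lift of `P_θ` in `X₁` and `D`. -/
theorem coef_P (θ : X.F.A →* ℂˣ) :
    iq (T.lift (X.F.P X.psi θ)) (Ch.X1 0) = 0 ∧
      iq (T.lift (X.F.P X.psi θ)) Ch.D = (if θ = 1 then 1 else 0) := by
  have h1 : iq (T.lift (X.F.P X.psi θ)) (Ch.X1 0) = 0 := by
    refine coef_zero Ch (X.F.P_gen _ _) (X.F.P_oddSupp T.kit _ _) 0
      (fun i => by rw [X.e_P]; norm_num) (fun i => ?_) ?_ 0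
    · rw [← classInner_conj, X.F.inner_Q_P T.kit X.psi_ne, map_zero]
    · rw [iq_eq (2 * (2 * (1 + (if θ = θ⁻¹ then 1 else 0)))) (by
        rw [T.inner_lift (X.F.P_oddSupp T.kit _ _) (X.F.P_oddSupp T.kit _ _) (X.F.P_classFun _ _),
          X.F.inner_P_P T.kit X.psi_ne, if_pos rfl]
        split_ifs <;> norm_num)]
      split_ifs <;> norm_num
  refine ⟨h1, ?_⟩
  have h2 := (coef Ch (f := X.F.P X.psi θ) (X.F.P_gen _ _) (X.F.P_oddSupp T.kit _ _) (fun _ => 0)
    (fun i => by rw [X.e_P]; norm_num) 0).1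
  have h3 : iq (T.lift (X.F.P X.psi θ)) (fun _ => 1) = -(if θ = 1 then 1 else 0) := iq_eq _ (by
    rw [T.inner_lift_one, X.F.inner_P_one T.kit X.psi_ne]
    split_ifs <;> norm_num)
  rw [h1, h3] at h2
  linarith

variable (X) in
/-- The value of a generalized character at the involution. -/
theorem eval_t [Fintype (X.F.L →* ℂˣ)] [Fintype (X.F.A →* ℂˣ)] {χ : G → ℂ} (hχ : Gen χ) :
    χ T.t = ((q : ℂ) + 1) / 2 * ((∑ μ : X.F.L →* ℂˣ, iq (T.lift (X.F.Q X.psi μ)) χ : ℤ) : ℂ) +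
      (n : ℂ) * ((∑ θ : X.F.A →* ℂˣ, iq (T.lift (X.F.P X.psi θ)) χ : ℤ) : ℂ) := by
  rw [← T.inner_lift_regular (isClassFunction_of_isGeneralized hχ), X.F.regular_eq T.kit X.psi,
    T.lift_add, T.lift_smul, T.lift_smul, T.lift_sum, T.lift_sum, classInner_add_right,
    classInner_smul_right, classInner_smul_right, classInner_sum_right, classInner_sum_right]
  push_cast
  congr 1
  · congr 1
    · simp [map_ofNat]
    · refine Finset.sum_congr rfl fun μ _ => ?_
      rw [iq_spec hχ (T.gen_lift (X.F.Q_gen _ _)), iq_comm hχ (T.gen_lift (X.F.Q_gen _ _))]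
  · congr 1
    · simp
    · refine Finset.sum_congr rfl fun θ _ => ?_
      rw [iq_spec hχ (T.gen_lift (X.F.P_gen _ _)), iq_comm hχ (T.gen_lift (X.F.P_gen _ _))]

theorem X1_t : Ch.X1 0 T.t = (q : ℂ) + 1 := by
  haveI : Finite (X.F.L →* ℂˣ) := finite_dual
  haveI : Finite (X.F.A →* ℂˣ) := finite_dual
  let _ := Fintype.ofFinite (X.F.L →* ℂˣ)
  let _ := Fintype.ofFinite (X.F.A →* ℂˣ)
  rw [X.eval_t (Ch.sg1 0).gen, Finset.sum_congr rfl fun μ _ => (coef_Q Ch μ).1,
    Finset.sum_congr rfl fun θ _ => (coef_P Ch θ).1, Finset.sum_add_distrib]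
  have e : ∀ μ : X.F.L →* ℂˣ, (X.fam 0 = μ⁻¹) = ((X.fam 0)⁻¹ = μ) := fun μ => propext
    ⟨fun h => by rw [h, inv_inv_hom], fun h => by rw [← h, inv_inv_hom]⟩
  simp only [e, Finset.sum_ite_eq, Finset.mem_univ, if_true, Finset.sum_const_zero]
  push_cast
  ring

theorem D_t : Ch.D T.t = (q : ℂ) := by
  haveI : Finite (X.F.L →* ℂˣ) := finite_dual
  haveI : Finite (X.F.A →* ℂˣ) := finite_dual
  let _ := Fintype.ofFinite (X.F.L →* ℂˣ)
  let _ := Fintype.ofFinite (X.F.A →* ℂˣ)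
  rw [X.eval_t Ch.sgD.gen, Finset.sum_congr rfl fun μ _ => (coef_Q Ch μ).2,
    Finset.sum_congr rfl fun θ _ => (coef_P Ch θ).2]
  simp only [Finset.sum_ite_eq', Finset.mem_univ, if_true]
  push_cast
  linear_combination (-1 / 2 : ℂ) * T.kit.cast_q

variable (X) in
/-- The number of ways to write a regular element as a product of two involutions. -/
theorem classConst_reg {h : X.H} (hh : X.Reg h) : classConst T.t T.t (h : G) = 2 * n := by
  rw [classConst, ← X.card_H]
  have hinvol : ∀ {y : G}, IsConj T.t y ↔ orderOf y = 2 := fun {y} => by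
    refine ⟨fun hy => ?_, T.conj y⟩
    obtain ⟨c, rfl⟩ := isConj_iff.1 hy
    exact Invol.invol_conj T.order_t c
  have hord : (h : G) * h ≠ 1 := fun e => by
    have h1 : X.p ∣ 2 := hh.trans (orderOf_dvd_of_pow_eq_one ((pow_two _).trans e))
    have := Nat.le_of_dvd two_pos h1
    have := X.eleven_le
    omega
  have hout : ∀ a : G, a ∈ X.H → X.N.u * a ∉ X.H := fun a ha e => X.u_conj.2 (by
    have := mul_mem e (inv_mem ha)
    rwa [mul_inv_cancel_right] at this)
  have hD : ∀ a : G, a ∈ X.H → orderOf (X.N.u * a) = 2 ∧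
      (∀ b ∈ X.H, X.N.u * a * b * (X.N.u * a)⁻¹ = b⁻¹) := by
    intro a ha
    have hv : X.N.u * a * X.N.v * (X.N.u * a)⁻¹ ∈ zpowers X.N.v := by
      rw [show X.N.u * a * X.N.v * (X.N.u * a)⁻¹ = X.N.u * (a * X.N.v * a⁻¹) * X.N.u⁻¹ by group,
        mem_centralizer_singleton_iff.1 ha, mul_inv_cancel_right]
      exact X.u_conj.1
    refine ⟨orderOf_eq_prime ?_ fun e => hout a ha (e ▸ one_mem _), (X.conj_D hv (hout a ha)).1⟩
    have h1 := (X.conj_D X.u_conj.1 X.u_conj.2).1 a ha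
    rw [Invol.invol_inv X.N.order_u] at h1
    rw [pow_two, show X.N.u * a * (X.N.u * a) = X.N.u * a * X.N.u * a by group, h1, inv_mul_cancel]
  refine (Nat.card_congr (Equiv.ofBijective
    (fun a : X.H => (⟨(X.N.u * a, (X.N.u * (a : G))⁻¹ * h), hinvol.2 (hD a a.2).1, hinvol.2 (by
      have e := (hD a a.2).2 h h.2
      refine orderOf_eq_prime ?_ ?_
      · rw [pow_two, Invol.invol_inv (hD a a.2).1]
        calc X.N.u * (a : G) * h * (X.N.u * (a : G) * h)
            = (X.N.u * (a : G) * h * (X.N.u * (a : G))⁻¹) *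
                ((X.N.u * (a : G)) * (X.N.u * (a : G))) * h := by group
          _ = 1 := by rw [e, Invol.invol_mul_self (hD a a.2).1, mul_one, inv_mul_cancel]
      · intro e1
        exact hout a a.2 ((inv_mul_eq_one.1 e1).symm ▸ h.2)),
      mul_inv_cancel_left _ _⟩ : {p : G × G // IsConj T.t p.1 ∧ IsConj T.t p.2 ∧ p.1 * p.2 = (h : G)}))
    ⟨fun a b e => Subtype.ext (mul_left_cancel (congrArg (fun z => z.1.1) e)), ?_⟩)).symm
  rintro ⟨⟨y, z⟩, hy, hz, hyz⟩
  have hy2 := hinvol.1 hy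
  have hz2 := hinvol.1 hz
  have hinv : y * h * y⁻¹ = ((h : G))⁻¹ := by
    rw [← hyz, ← mul_assoc, Invol.invol_mul_self hy2, one_mul, mul_inv_rev, Invol.invol_inv hy2,
      Invol.invol_inv hz2]
  have hyD : y * X.N.v * y⁻¹ ∈ zpowers X.N.v :=
    X.mem_D_of_conj hh (hinv.symm ▸ inv_mem h.2)
  have hyH : y ∉ X.H := fun hm => hord (by
    rw [X.comm_H hm h.2, mul_inv_cancel_right] at hinv
    nth_rw 2 [hinv]
    exact mul_inv_cancel _)
  refine ⟨⟨_, (X.conj_D hyD hyH).2⟩, Subtype.ext (Prod.ext ?_ ?_)⟩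
  · show X.N.u * (X.N.u * y) = y
    rw [← mul_assoc, X.N.u_sq, one_mul]
  · show (X.N.u * (X.N.u * y))⁻¹ * (h : G) = z
    rw [← mul_assoc, X.N.u_sq, one_mul, ← hyz, inv_mul_cancel_left]

variable (X) in
theorem qfun_F1 {l : X.F.L →* ℂˣ} (hl : l ^ X.p = 1) (h1 : l ≠ 1) :
    qfun T.t (X.F1 l) = -(2 * (n : ℂ) * (Nat.card T.C : ℂ)) /
      (Nat.card {x : G // IsConj T.t x} : ℂ) := by
  rw [F1, qfun_indFun_count, Finset.sum_congr rfl
    (g := fun h : X.H => (lc (X.lam l) h - lc 1 h) * (2 * (n : ℂ))) fun h _ => by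
      by_cases h0 : (lc (X.lam l) - lc 1 : X.H → ℂ) h = 0
      · rw [h0, zero_mul]
        rw [Pi.sub_apply] at h0
        rw [h0, zero_mul]
      · rw [X.classConst_reg (X.supp1 hl h h0)]
        push_cast
        rfl,
    ← Finset.sum_mul, Finset.sum_sub_distrib,
    sum_lc X.H (fun e => h1 (X.lam_inj (e.trans X.lam_one.symm)))]
  simp only [lc_apply, MonoidHom.one_apply, Units.val_one, Finset.sum_const, Finset.card_univ,
    nsmul_eq_mul, mul_one]
  rw [← Nat.card_eq_fintype_card, X.card_H, ← card_isConj_mul T.t]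
  have hI : (Nat.card {x : G // IsConj T.t x} : ℂ) ≠ 0 := by
    have : Nonempty {x : G // IsConj T.t x} := ⟨⟨T.t, IsConj.refl _⟩⟩
    exact_mod_cast Nat.card_pos.ne'
  have hn : (n : ℂ) ≠ 0 := by exact_mod_cast T.kit.pos.2.2.ne'
  push_cast
  field_simp
  ring

end TorusCtx

namespace Setup

variable {G : Type u} [Group G] [Fintype G] {q m n : ℕ} (T : Setup G q m n)

/-- The first equation, with the congruence modulo eight. -/
theorem exists_equation : ∃ d : ℤ, d ≠ (q : ℤ) ∧ (8 : ℤ) ∣ d - q ∧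
    (d - q) ^ 2 * (Nat.card {x : G // IsConj T.t x} : ℤ) =
      (q : ℤ) * ((q : ℤ) ^ 2 - 1) * ((q : ℤ) - 1) * (d * (d + 1)) := by
  obtain ⟨X⟩ := T.exists_torusCtx
  obtain ⟨Ch⟩ := X.exists_coh
  obtain ⟨d, hd0, hd⟩ := Ch.sgD.apply_one_int
  obtain ⟨d1, hd10, hd1⟩ := (Ch.sg1 0).apply_one_int
  have hX1 : Ch.X1 0 1 = (d : ℂ) + 1 := by
    have h := congrFun (Ch.dec1 0) 1
    rw [X.F1_one, Pi.sub_apply, Pi.sub_apply, hd] at h
    linear_combination -h
  have hd1' : d1 = d + 1 := by exact_mod_cast hd1.symm.trans hX1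
  have hq' := X.qfun_F1 (X.fam_spec 0).1 (X.fam_spec 0).2.1
  rw [Ch.dec1 0, qfun_sub, qfun_sub, qfun_sg _ (Ch.sg1 0), qfun_sg _ Ch.sgD, qfun_sg _ sg_one,
    TorusCtx.X1_t Ch, TorusCtx.D_t Ch, hX1, hd, one_pow, div_one] at hq'
  set I := Nat.card {x : G // IsConj T.t x} with hI
  have hI0 : 0 < I := by
    have : Nonempty {x : G // IsConj T.t x} := ⟨⟨T.t, IsConj.refl _⟩⟩
    exact Nat.card_pos
  have hIC : (I : ℂ) ≠ 0 := by exact_mod_cast hI0.ne'
  have hdC : (d : ℂ) ≠ 0 := by exact_mod_cast hd0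
  have hd1C : (d : ℂ) + 1 ≠ 0 := by
    rw [← hX1, hd1]; exact_mod_cast hd10
  have hC : (Nat.card T.C : ℂ) = 2 * ((q : ℂ) * n * (4 * m)) := by
    rw [T.card_C]; push_cast; ring
  rw [hC] at hq'
  field_simp at hq'
  have hmain : ((d : ℂ) - q) ^ 2 * I = (q : ℂ) * ((q : ℂ) ^ 2 - 1) * ((q : ℂ) - 1) * (d * (d + 1)) := by
    simp only [T.kit.cast_m', T.kit.cast_q] at hq' ⊢
    linear_combination -hq'
  have heq : (d - q) ^ 2 * (I : ℤ) = (q : ℤ) * ((q : ℤ) ^ 2 - 1) * ((q : ℤ) - 1) * (d * (d + 1)) := by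
    exact_mod_cast hmain
  refine ⟨d, fun e => ?_, ?_, heq⟩
  · have hq27 : (27 : ℤ) ≤ q := by exact_mod_cast T.kit.q_ge
    rw [e, sub_self, zero_pow two_ne_zero, zero_mul] at heq
    have h1 : (0 : ℤ) < (q : ℤ) ^ 2 - 1 := by nlinarith
    have h2 : (0 : ℤ) < (q : ℤ) * ((q : ℤ) ^ 2 - 1) * ((q : ℤ) - 1) * ((q : ℤ) * ((q : ℤ) + 1)) := by
      have := mul_pos (mul_pos (mul_pos (show (0 : ℤ) < q by omega) h1) (show (0 : ℤ) < (q : ℤ) - 1 by omega))
        (mul_pos (show (0 : ℤ) < q by omega) (show (0 : ℤ) < (q : ℤ) + 1 by omega))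
      exact this
    omega
  · -- restriction to an elementary group of order eight
    haveI : Fact (Nat.Prime 2) := ⟨Nat.prime_two⟩
    have h8 : 2 ^ 3 ∣ Nat.card G := by
      refine (dvd_trans ⟨q * n * m, ?_⟩ (card_subgroup_dvd_card T.C))
      rw [T.card_C]; ring
    obtain ⟨S, hS⟩ := Sylow.exists_subgroup_card_pow_prime 2 h8
    have hSp : IsPGroup 2 S := IsPGroup.of_card hS
    have hval : ∀ s : S, s ≠ 1 → Ch.D (S.subtype s) = q := by
      intro s hs
      show Ch.D (s : G) = q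
      have ho : orderOf (s : G) = 2 :=
        orderOf_eq_prime (T.sq_of_isPGroup hSp s.2) fun e => hs (Subtype.ext e)
      obtain ⟨c, hc⟩ := isConj_iff.1 (T.conj (s : G) ho)
      rw [← hc, isClassFunction_of_isGeneralized Ch.sgD.gen, TorusCtx.D_t Ch]
    obtain ⟨z, hz⟩ := classInner_generalized_int
      (isGeneralizedCharacter_comp Ch.sgD.gen S.subtype)
      (isGeneralizedCharacter_of_isCharacter (isCharacter_of_isIrr (isIrrCharacter_one (G := S))))
    simp only [classInner, map_one, mul_one] at hz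
    rw [← Finset.add_sum_erase _ _ (Finset.mem_univ (1 : S)),
      Finset.sum_congr rfl (g := fun _ => (q : ℂ)) fun s hs => hval s (Finset.mem_erase.1 hs).1,
      Finset.sum_const, Finset.card_erase_of_mem (Finset.mem_univ _), Finset.card_univ,
      ← Nat.card_eq_fintype_card, hS] at hz
    have hz' : (d : ℂ) + 7 * q = 8 * (z : ℂ) := by
      rw [show S.subtype (1 : S) = (1 : G) from rfl, hd] at hz
      norm_num [nsmul_eq_mul] at hz
      linear_combination 8 * hz
    have hz'' : d + 7 * q = 8 * z := by exact_mod_cast hz'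
    exact ⟨z - q, by linarith⟩

end Setup

end CfsgLib.ReeType
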