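import Cfsg.Agent.Lib.Ree.PSLKit

/-!
# The three abelian subgroups of `PSL(2, q)`, `q = 3^(2k+1)`

A Sylow `3`-subgroup `E` and the odd parts `A`, `L` of the tori of orders `(q+1)/2`, `(q-1)/2`.
-/

set_option autoImplicit false
set_option linter.unusedSectionVars false

namespace CfsgLib.ReeType

open Subgroup

variable {K : Type*} [Group K]

/-- `H` is the centralizer of every nontrivial element of `Y` and `D ⊇ H` inverts it. -/
structure Torus (Y H D : Subgroup K) : Prop where
  comm : ∀ a ∈ Y, ∀ b ∈ Y, a * b = b * a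
  le : Y ≤ H
  cent : ∀ x ∈ Y, x ≠ 1 → ∀ g, g * x = x * g ↔ g ∈ H
  fusion : ∀ x ∈ Y, x ≠ 1 → ∀ g, g * x * g⁻¹ ∈ Y → g ∈ D
  sub : H ≤ D
  inv : ∀ g ∈ D, g ∉ H → ∀ x ∈ Y, g * x * g⁻¹ = x⁻¹
  card : Nat.card D = 2 * Nat.card H

/-- The three subgroups. -/
structure KFrame (K : Type*) [Group K] (q m n : ℕ) where
  E : Subgroup K
  A : Subgroup K
  HA : Subgroup K
  DA : Subgroup K
  L : Subgroup K
  DL : Subgroup K
  card_E : Nat.card E = q
  card_A : Nat.card A = m
  card_HA : Nat.card HA = 2 * m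
  card_L : Nat.card L = n
  comm_E : ∀ a ∈ E, ∀ b ∈ E, a * b = b * a
  cube : ∀ a ∈ E, a ^ 3 = 1
  cent_E : ∀ x ∈ E, x ≠ 1 → ∀ g, g * x = x * g ↔ g ∈ E
  fusion_E : ∀ x ∈ E, x ≠ 1 → ∀ g, g * x * g⁻¹ ∈ E → g ∈ normalizer (E : Set K)
  card_NE : Nat.card (normalizer (E : Set K)) = q * n
  torus_A : Torus A HA DA
  invol_A : ∀ g ∈ DA, g ∉ HA → orderOf g = 2
  torus_L : Torus L L DL

namespace Kit

variable [Finite K] {q m n : ℕ} (h : Kit K q m n)
include h

/-- The number of Sylow `3`-subgroups is one modulo `q`. -/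
theorem card_sylow_modEq (P : Sylow 3 K) : Nat.card (Sylow 3 K) ≡ 1 [MOD q] := by
  classical
  haveI : Fact (Nat.Prime 3) := ⟨Nat.prime_three⟩
  set E := (P : Subgroup K) with hE
  haveI : Fintype (MulAction.orbitRel.Quotient E (Sylow 3 K)) := Fintype.ofFinite _
  rw [Nat.card_congr (MulAction.selfEquivSigmaOrbits E (Sylow 3 K)), Nat.card_sigma,
    ← Finset.add_sum_erase _ _ (Finset.mem_univ
      (Quotient.mk _ P : MulAction.orbitRel.Quotient E (Sylow 3 K)))]
  have hfix : ∀ e : E, e • P = P := fun e => by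
    have := (Sylow.smul_eq_iff_mem_normalizer (g := (e : K)) (P := P)).2 (le_normalizer e.2)
    exact this
  have h0 : Nat.card (MulAction.orbit E
      (Quotient.mk (MulAction.orbitRel E (Sylow 3 K)) P).out) = 1 := by
    have hrep : (Quotient.mk (MulAction.orbitRel E (Sylow 3 K)) P).out = P := by
      obtain ⟨e, he⟩ := MulAction.orbitRel_apply.1
        (Quotient.mk_out (s := MulAction.orbitRel E (Sylow 3 K)) P)
      exact he.symm.trans (hfix e)
    rw [hrep, Nat.card_eq_one_iff_unique]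
    refine ⟨⟨fun a b => Subtype.ext ?_⟩, ⟨⟨P, MulAction.mem_orbit_self P⟩⟩⟩
    obtain ⟨e, he⟩ := a.2
    obtain ⟨e', he'⟩ := b.2
    rw [← he, ← he']
    exact (hfix e).trans (hfix e').symm
  have hsum : q ∣ ∑ ω ∈ Finset.univ.erase (Quotient.mk _ P : MulAction.orbitRel.Quotient E (Sylow 3 K)),
      Nat.card (MulAction.orbit E ω.out) := by
    refine Finset.dvd_sum fun ω hω => ?_
    have hne : ω.out ≠ P := fun e => (Finset.mem_erase.1 hω).1 (by rw [← e, Quotient.out_eq])
    have hstab : MulAction.stabilizer E ω.out = ⊥ := by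
      refine (Subgroup.eq_bot_iff_forall _).2 fun e he => ?_
      by_contra he1
      have he' : ((e : K) • ω.out) = ω.out := MulAction.mem_stabilizer_iff.1 he
      have hN := Sylow.smul_eq_iff_mem_normalizer.1 he'
      obtain ⟨j, hj⟩ := P.2 e
      -- a `3`-element normalizing a Sylow subgroup lies in it
      have hle : zpowers (e : K) ≤ (ω.out : Subgroup K) := by
        have hp : IsPGroup 3 (zpowers (e : K) ⊔ (ω.out : Subgroup K) : Subgroup K) :=
          (P.2.to_le (zpowers_le.2 e.2)).to_sup_of_normal_right' ω.out.2 (zpowers_le.2 hN)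
        exact le_sup_left.trans (ω.out.3 hp le_sup_right).le
      have he1' : (e : K) ≠ 1 := fun e' => he1 (Subtype.ext e')
      have hord : orderOf (e : K) = 3 := by
        have hd : orderOf (e : K) ∣ 3 ^ j :=
          orderOf_dvd_of_pow_eq_one (congrArg Subtype.val hj)
        rcases h.data.orders (e : K) with ho | ho | ho
        · exact ((Nat.dvd_prime Nat.prime_three).1 ho).resolve_left fun e'' =>
            he1' (orderOf_eq_one_iff.1 e'')
        · exact absurd (orderOf_eq_one_iff.1 (Nat.eq_one_of_dvd_coprimes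
            ((Nat.prime_three.coprime_iff_not_dvd.2 h.data.p_not_me).pow_left j) hd ho)) he1'
        · exact absurd (orderOf_eq_one_iff.1 (Nat.eq_one_of_dvd_coprimes
            ((Nat.prime_three.coprime_iff_not_dvd.2 h.three_not_n).pow_left j) hd ho)) he1'
      refine hne (Sylow.ext ?_)
      rw [← h.cent_eq_sylow hord ω.out (hle (mem_zpowers _)), h.cent_eq_sylow hord P e.2]
    rw [Nat.card_congr (MulAction.orbitEquivQuotientStabilizer E ω.out), hstab,
      ← Subgroup.index_eq_card, index_bot, hE, h.card_sylow_three P]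
  rw [h0]
  obtain ⟨c, hc⟩ := hsum
  rw [hc]
  simp [Nat.ModEq, Nat.add_mul_mod_self_left]

/-- The normalizer of a Sylow `3`-subgroup has order `q (q-1)/2`. -/
theorem card_normalizer_three (P : Sylow 3 K) :
    Nat.card (normalizer ((P : Subgroup K) : Set K)) = q * n := by
  classical
  haveI : Fact (Nat.Prime 3) := ⟨Nat.prime_three⟩
  set N := normalizer ((P : Subgroup K) : Set K) with hN
  have hq := h.q_ge
  have hPN : (P : Subgroup K) ≤ N := le_normalizer
  obtain ⟨c, hc⟩ : q ∣ Nat.card N := h.card_sylow_three P ▸ card_dvd_of_le hPN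
  have h1 : Nat.card N * Nat.card (Sylow 3 K) = q * n * (4 * m) := by
    rw [P.card_eq_index_normalizer, ← h.card]
    exact card_mul_index N
  rw [hc, mul_assoc, mul_assoc] at h1
  have h2 := Nat.eq_of_mul_eq_mul_left (by omega) h1
  -- the orbit of an element of order three in its Sylow subgroup
  obtain ⟨y, hy, hy1⟩ : ∃ y ∈ (P : Subgroup K), y ≠ 1 := by
    rcases (P : Subgroup K).bot_or_exists_ne_one with e | e
    · have := h.card_sylow_three P
      rw [e, card_bot] at this
      omega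
    · exact e
  have hy3 : orderOf y = 3 := by
    obtain ⟨j, hj⟩ := P.2 ⟨y, hy⟩
    have hd : orderOf y ∣ 3 ^ j := orderOf_dvd_of_pow_eq_one (congrArg Subtype.val hj)
    rcases h.data.orders y with ho | ho | ho
    · exact ((Nat.dvd_prime Nat.prime_three).1 ho).resolve_left fun e'' =>
        hy1 (orderOf_eq_one_iff.1 e'')
    · exact absurd (orderOf_eq_one_iff.1 (Nat.eq_one_of_dvd_coprimes
        ((Nat.prime_three.coprime_iff_not_dvd.2 h.data.p_not_me).pow_left j) hd ho)) hy1
    · exact absurd (orderOf_eq_one_iff.1 (Nat.eq_one_of_dvd_coprimes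
        ((Nat.prime_three.coprime_iff_not_dvd.2 h.three_not_n).pow_left j) hd ho)) hy1
  have hcq : c < q := by
    let φ : N ⧸ (P : Subgroup K).subgroupOf N → (((P : Subgroup K) : Set K) \ {1} : Set K) :=
      fun a => ⟨(a.out : K) * y * (a.out : K)⁻¹,
        (mem_normalizer_iff.1 a.out.2 y).1 hy, fun e => hy1 (conj_eq_one_iff.1 e)⟩
    have hφ : Function.Injective φ := by
      intro a b e
      have e' : (a.out : K) * y * (a.out : K)⁻¹ = (b.out : K) * y * (b.out : K)⁻¹ :=
        congrArg Subtype.val e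
      rw [← a.out_eq', ← b.out_eq', QuotientGroup.eq, mem_subgroupOf]
      refine (h.cent_eq_sylow hy3 P hy).le (mem_centralizer_singleton_iff.2 ?_)
      push_cast
      calc ((a.out : K))⁻¹ * b.out * y
          = ((a.out : K))⁻¹ * ((b.out : K) * y * (b.out : K)⁻¹) * b.out := by group
        _ = y * (((a.out : K))⁻¹ * b.out) := by rw [← e']; group
    have h3 := Nat.card_le_card_of_injective φ hφ
    rw [← Subgroup.index_eq_card] at h3
    have h4 : Nat.card (((P : Subgroup K) : Set K) \ {1} : Set K) = q - 1 := by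
      rw [Nat.card_coe_set_eq, Set.ncard_sdiff_singleton_of_mem (one_mem _), ← Nat.card_coe_set_eq]
      exact congrArg (· - 1) (h.card_sylow_three P)
    have h5 := ((P : Subgroup K).subgroupOf N).card_mul_index
    rw [Nat.card_congr (subgroupOfEquivOfLe hPN).toEquiv, h.card_sylow_three P, hc] at h5
    have h6 := Nat.eq_of_mul_eq_mul_left (by omega) h5
    omega
  have hn : n < q := by have := h.hn; omega
  have hmod : c ≡ n [MOD q] := by
    have h7 := ((h.card_sylow_modEq P).mul_left c).symm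
    rw [mul_one, h2, ← h.hm, show n * (q + 1) = n + q * n by ring] at h7
    exact h7.trans (by simp [Nat.ModEq, Nat.add_mul_mod_self_left])
  rw [hc, hmod.eq_of_lt_of_lt hcq hn]

/-- The frame exists. -/
theorem exists_kframe {v : K} (hv : orderOf v = n) :
    ∃ F : KFrame K q m n, F.L = zpowers v := by
  classical
  haveI : Fact (Nat.Prime 3) := ⟨Nat.prime_three⟩
  -- the Sylow subgroup
  let P : Sylow 3 K := default
  have hEord : ∀ x ∈ (P : Subgroup K), x ≠ 1 → orderOf x = 3 := by
    intro x hx hx1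
    obtain ⟨j, hj⟩ := P.2 ⟨x, hx⟩
    have hd : orderOf x ∣ 3 ^ j := orderOf_dvd_of_pow_eq_one (congrArg Subtype.val hj)
    rcases h.data.orders x with ho | ho | ho
    · exact ((Nat.dvd_prime Nat.prime_three).1 ho).resolve_left fun e'' =>
        hx1 (orderOf_eq_one_iff.1 e'')
    · exact absurd (orderOf_eq_one_iff.1 (Nat.eq_one_of_dvd_coprimes
        ((Nat.prime_three.coprime_iff_not_dvd.2 h.data.p_not_me).pow_left j) hd ho)) hx1
    · exact absurd (orderOf_eq_one_iff.1 (Nat.eq_one_of_dvd_coprimes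
        ((Nat.prime_three.coprime_iff_not_dvd.2 h.three_not_n).pow_left j) hd ho)) hx1
  have hcentE : ∀ x ∈ (P : Subgroup K), x ≠ 1 → ∀ g, g * x = x * g ↔ g ∈ (P : Subgroup K) := by
    intro x hx hx1 g
    rw [← h.cent_eq_sylow (hEord x hx hx1) P hx, mem_centralizer_singleton_iff]
  have hfusE : ∀ x ∈ (P : Subgroup K), x ≠ 1 → ∀ g, g * x * g⁻¹ ∈ (P : Subgroup K) →
      g ∈ normalizer ((P : Subgroup K) : Set K) := by
    intro x hx hx1 g hg
    refine mem_normalizer_iff.2 fun a => ?_
    rw [← hcentE x hx hx1, ← hcentE _ hg (fun e => hx1 (conj_eq_one_iff.1 e))]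
    constructor
    · intro e
      calc g * a * g⁻¹ * (g * x * g⁻¹) = g * (a * x) * g⁻¹ := by group
        _ = g * x * g⁻¹ * (g * a * g⁻¹) := by rw [e]; group
    · intro e
      calc a * x = g⁻¹ * (g * a * g⁻¹ * (g * x * g⁻¹)) * g := by group
        _ = x * a := by rw [e]; group
  -- the torus of order `(q+1)/2`
  obtain ⟨u, hu⟩ := h.exists_invol
  obtain ⟨w, hw, hwu, hcardC, hwC, hall, -⟩ := h.invol_torus hu
  set A := zpowers (w ^ 2) with hA
  have hAw : A ≤ zpowers w := zpowers_le.2 (pow_mem (mem_zpowers _) _)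
  have hAm : Nat.card A = m := by
    rw [hA, Nat.card_zpowers, orderOf_pow, hw, Nat.gcd_mul_right_left,
      Nat.mul_div_cancel_left _ two_pos]
  have hAcent : ∀ x ∈ A, x ≠ 1 → ∀ g, g * x = x * g ↔ g ∈ zpowers w := by
    intro x hx hx1
    obtain ⟨w', hw', hC⟩ := h.cent_m hx1 (hAm ▸ Subgroup.orderOf_dvd_natCard A hx)
    have hww : zpowers w = zpowers w' := by
      refine eq_of_le_of_card_ge (zpowers_le.2 (hC ▸ mem_centralizer_singleton_iff.2 ?_)) ?_
      · obtain ⟨i, hi⟩ := mem_zpowers_iff.1 (hAw hx)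
        exact hi ▸ ((Commute.refl w).zpow_right i).eq
      · rw [Nat.card_zpowers, Nat.card_zpowers, hw, hw']
    intro g
    rw [hww, ← hC, mem_centralizer_singleton_iff]
  have hAfus : ∀ x ∈ A, x ≠ 1 → ∀ g, g * x * g⁻¹ ∈ A → g ∈ centralizer ({u} : Set K) := by
    intro x hx hx1 g hg
    have hgw : g * w * g⁻¹ ∈ zpowers w := by
      rw [← hAcent _ hg (fun e => hx1 (conj_eq_one_iff.1 e))]
      calc g * w * g⁻¹ * (g * x * g⁻¹) = g * (w * x) * g⁻¹ := by group
        _ = g * x * g⁻¹ * (g * w * g⁻¹) := by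
            rw [(hAcent x hx hx1 w).2 (mem_zpowers w)]; group
    have hgu : g * u * g⁻¹ ∈ zpowers w := by
      rw [← hwu, ← conj_pow]
      exact pow_mem hgw m
    have hguo : orderOf (g * u * g⁻¹) = 2 := by
      rw [← MulAut.conj_apply, MulEquiv.orderOf_eq, hu]
    have heq := PSLSpectrum.eq_of_le_zpowers (zpowers_le.2 hgu)
      (zpowers_le.2 (hwu ▸ pow_mem (mem_zpowers w) m : u ∈ zpowers w))
      (by rw [Nat.card_zpowers, Nat.card_zpowers, hguo, hu])
    rw [mem_centralizer_singleton_iff]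
    refine mul_inv_eq_iff_eq_mul.1 ?_
    obtain ⟨i, hi⟩ := mem_zpowers_iff.1 (heq ▸ mem_zpowers (g * u * g⁻¹) : g * u * g⁻¹ ∈ zpowers u)
    rcases Int.even_or_odd i with ⟨c, rfl⟩ | ⟨c, rfl⟩
    · rw [← two_mul, zpow_mul, zpow_two, ← pow_two, ← hu, pow_orderOf_eq_one, one_zpow] at hi
      rw [← hi, orderOf_one] at hguo
      norm_num at hguo
    · rw [← hi, zpow_add, zpow_mul, zpow_two, ← pow_two, ← hu, pow_orderOf_eq_one, one_zpow, one_mul,
        zpow_one]
  -- the torus of order `(q-1)/2`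
  set L := zpowers v with hL
  have hLn : Nat.card L = n := by rw [hL, Nat.card_zpowers, hv]
  have hLc : ∀ x ∈ L, x ≠ 1 → (∀ g, g * x = x * g ↔ g ∈ L) ∧
      normalizer (zpowers x : Set K) = normalizer (L : Set K) ∧
      Nat.card (normalizer (L : Set K)) = 2 * n ∧
      ∃ u' : K, ∀ a ∈ L, u' * a * u'⁻¹ = a⁻¹ := by
    intro x hx hx1
    obtain ⟨w', hw', hC, hNx, u', -, hu'⟩ := h.cent_n hx1 (hLn ▸ Subgroup.orderOf_dvd_natCard L hx)
    have hvw : L = zpowers w' := by
      refine eq_of_le_of_card_ge (zpowers_le.2 (hC ▸ mem_centralizer_singleton_iff.2 ?_)) ?_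
      · obtain ⟨i, hi⟩ := mem_zpowers_iff.1 hx
        exact hi ▸ ((Commute.refl v).zpow_right i).eq
      · rw [hLn, Nat.card_zpowers, hw']
    have hN : normalizer (zpowers x : Set K) = normalizer (L : Set K) := by
      refine le_antisymm (PSLSpectrum.normalizer_le_normalizer_centralizer.trans ?_)
        (PSLSpectrum.normalizer_zpowers_le (zpowers_le.2 hx))
      rw [hC, hvw]
    refine ⟨fun g => ?_, hN, hN ▸ hNx, u', fun a ha => hu' a (hvw ▸ ha)⟩
    rw [hvw, ← hC, mem_centralizer_singleton_iff]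
  have hvL : v ∈ L := mem_zpowers v
  have hv1 : v ≠ 1 := fun e => by
    have := h.data.one_lt
    rw [e, orderOf_one] at hv
    omega
  obtain ⟨hLcv, -, hLN, u', hu'⟩ := hLc v hvL hv1
  have hu'N : u' ∈ normalizer (L : Set K) := by
    rw [← (hLc v hvL hv1).2.1, mem_normalizer_iff_map_conj_eq, MonoidHom.map_zpowers]
    show zpowers (u' * v * u'⁻¹) = zpowers v
    rw [hu' v hvL, zpowers_inv]
  have hu'L : u' ∉ L := fun e => by
    have h1 := hu' v hvL
    rw [(hLcv u').2 e, mul_inv_cancel_right] at h1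
    have h2 := orderOf_dvd_of_pow_eq_one
      (show v ^ 2 = 1 by rw [pow_two]; nth_rw 2 [h1]; exact mul_inv_cancel _)
    rw [hv] at h2
    have := Nat.le_of_dvd two_pos h2
    have := h.q_ge
    have := h.hn
    omega
  refine ⟨
    { E := P
      A := A
      HA := zpowers w
      DA := centralizer ({u} : Set K)
      L := L
      DL := normalizer (L : Set K)
      card_E := h.card_sylow_three P
      card_A := hAm
      card_HA := by rw [Nat.card_zpowers, hw]
      card_L := hLn
      comm_E := h.comm P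
      cube := fun a ha => ?_
      cent_E := hcentE
      fusion_E := hfusE
      card_NE := h.card_normalizer_three P
      torus_A := ⟨?_, hAw, hAcent, hAfus, hwC, fun g hg hgw x hx => ?_, ?_⟩
      invol_A := fun g hg hgw => (hall g hg hgw).2
      torus_L := ⟨?_, le_rfl, fun x hx hx1 => (hLc x hx hx1).1, fun x hx hx1 g hg => ?_,
        le_normalizer, fun g hg hgL x hx => ?_, by rw [hLN, hLn]⟩ }, rfl⟩
  · rcases eq_or_ne a 1 with rfl | ha1
    · exact one_pow 3
    · rw [← hEord a ha ha1, pow_orderOf_eq_one]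
  · intro a ha b hb
    obtain ⟨i, rfl⟩ := mem_zpowers_iff.1 ha
    obtain ⟨j, rfl⟩ := mem_zpowers_iff.1 hb
    exact ((Commute.refl _).zpow_zpow i j).eq
  · obtain ⟨i, rfl⟩ := mem_zpowers_iff.1 (hAw hx)
    rw [← conj_zpow, (hall g hg hgw).1, inv_zpow]
  · rw [hcardC, Nat.card_zpowers, hw]; ring
  · intro a ha b hb
    obtain ⟨i, rfl⟩ := mem_zpowers_iff.1 ha
    obtain ⟨j, rfl⟩ := mem_zpowers_iff.1 hb
    exact ((Commute.refl _).zpow_zpow i j).eq
  · refine mem_normalizer_iff.2 fun a => ?_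
    rw [← (hLc x hx hx1).1, ← (hLc _ hg fun e => hx1 (conj_eq_one_iff.1 e)).1]
    constructor
    · intro e
      calc g * a * g⁻¹ * (g * x * g⁻¹) = g * (a * x) * g⁻¹ := by group
        _ = g * x * g⁻¹ * (g * a * g⁻¹) := by rw [e]; group
    · intro e
      calc a * x = g⁻¹ * (g * a * g⁻¹ * (g * x * g⁻¹)) * g := by group
        _ = x * a := by rw [e]; group
  · have hidx : (L.subgroupOf (normalizer (L : Set K))).index = 2 := by
      have h1 := (L.subgroupOf (normalizer (L : Set K))).card_mul_index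
      rw [Nat.card_congr (subgroupOfEquivOfLe le_normalizer).toEquiv, hLN, hLn, mul_comm 2] at h1
      exact Nat.eq_of_mul_eq_mul_left (by have := h.data.one_lt; omega) h1
    have hmem : (⟨u', hu'N⟩ : normalizer (L : Set K))⁻¹ * ⟨g, hg⟩ ∈
        L.subgroupOf (normalizer (L : Set K)) := by
      rw [mul_mem_iff_of_index_two hidx, inv_mem_iff, mem_subgroupOf, mem_subgroupOf]
      exact iff_of_false hu'L hgL
    have hl : u'⁻¹ * g ∈ L := mem_subgroupOf.1 hmem
    obtain ⟨i, hi⟩ := mem_zpowers_iff.1 hl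
    obtain ⟨j, rfl⟩ := mem_zpowers_iff.1 hx
    have hge : g = u' * v ^ i := by rw [hi, mul_inv_cancel_left]
    rw [hge, show u' * v ^ i * v ^ j * (u' * v ^ i)⁻¹ = u' * v ^ j * u'⁻¹ by group]
    exact hu' _ (zpow_mem (mem_zpowers v) j)

end Kit

end CfsgLib.ReeType
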