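import Cfsg.Agent.Lib.Ree.KInd
import Cfsg.Agent.Lib.Char.SignedIrr

/-!
# Class functions of `PSL(2, q)` vanishing on elements of even order

`Q_λ = Ind_L λ - Ξ` and `P_θ = 2Ξ - Ind_A θ`, with `Ξ = Ind_E (ψ + ψ⁻¹)`.
-/

set_option autoImplicit false
set_option linter.unusedSectionVars false

namespace CfsgLib.ReeType

open scoped ComplexConjugate
open Subgroup Cfsg CfsgLib.Char

universe u

variable {K : Type u} [Group K] [Fintype K] {q m n : ℕ}

theorem inv_hom_ne_one {Y : Type*} [Group Y] {ψ : Y →* ℂˣ} (hψ : ψ ≠ 1) : ψ⁻¹ ≠ 1 := fun e =>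
  hψ (MonoidHom.ext fun y => by simpa using DFunLike.congr_fun e y)

namespace Kit

variable (h : Kit K q m n)

include h

theorem cast_q : (q : ℂ) = 2 * (n : ℂ) + 1 := by
  exact_mod_cast congrArg (fun a : ℕ => (a : ℂ)) h.hn

theorem cast_m : 4 * (m : ℂ) = 2 * (n : ℂ) + 2 := by
  have h1 : 4 * m = 2 * n + 2 := by have := h.hm; have := h.hn; omega
  exact_mod_cast congrArg (fun a : ℕ => (a : ℂ)) h1

theorem cast_m' : (m : ℂ) = ((n : ℂ) + 1) / 2 := by linear_combination (1 / 4 : ℂ) * h.cast_m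

theorem pos : 0 < q ∧ 0 < m ∧ 0 < n :=
  ⟨by have := h.q_ge; omega, h.m_pos, by have := h.q_ge; have := h.hn; omega⟩

end Kit

namespace KFrame

variable (F : KFrame K q m n)

/-- `Ind_E (ψ + ψ⁻¹)`. -/
noncomputable def Xi (ψ : F.E →* ℂˣ) : K → ℂ := indFun F.E (lc ψ + lc ψ⁻¹)

/-- `Ind_L λ - Ξ`. -/
noncomputable def Q (ψ : F.E →* ℂˣ) (l : F.L →* ℂˣ) : K → ℂ := indFun F.L (lc l) - F.Xi ψ

/-- `2Ξ - Ind_A θ`. -/
noncomputable def P (ψ : F.E →* ℂˣ) (θ : F.A →* ℂˣ) : K → ℂ :=
  (2 : ℂ) • F.Xi ψ - indFun F.A (lc θ)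

/-- The number of involutions inverting an element. -/
noncomputable def invCount (x : K) : ℂ :=
  (Nat.card {w : K // orderOf w = 2 ∧ w * x * w⁻¹ = x⁻¹} : ℂ)

theorem Xi_classFun (ψ : F.E →* ℂˣ) : IsClassFunction K (F.Xi ψ) := isClassFunction_indFun _ _

variable (h : Kit K q m n)

include h

theorem index_A : F.A.index = q * n * 4 := by
  have h1 := F.A.card_mul_index
  rw [F.card_A, h.card] at h1
  exact Nat.eq_of_mul_eq_mul_left h.m_pos (h1.trans (by ring))

theorem index_L : F.L.index = q * (4 * m) := by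
  have h1 := F.L.card_mul_index
  rw [F.card_L, h.card] at h1
  exact Nat.eq_of_mul_eq_mul_left h.pos.2.2 (h1.trans (by ring))

theorem index_E : F.E.index = n * (4 * m) := by
  have h1 := F.E.card_mul_index
  rw [F.card_E, h.card] at h1
  exact Nat.eq_of_mul_eq_mul_left h.pos.1 (h1.trans (by ring))

theorem cop_AL : ∀ {x : K}, x ∈ F.A → x ≠ 1 → ¬ orderOf x ∣ Nat.card F.L := fun {x} hx hx1 hd =>
  hx1 (orderOf_eq_one_iff.1 (Nat.eq_one_of_dvd_coprimes h.cop_mn
    (F.card_A ▸ Subgroup.orderOf_dvd_natCard _ hx) (F.card_L ▸ hd)))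

theorem order_E {x : K} (hx : x ∈ F.E) (hx1 : x ≠ 1) : orderOf x = 3 :=
  orderOf_eq_prime (F.cube x hx) hx1

theorem cop_E : ∀ {x : K}, x ∈ F.E → x ≠ 1 →
    ¬ orderOf x ∣ Nat.card F.A ∧ ¬ orderOf x ∣ Nat.card F.L := fun {x} hx hx1 => by
  rw [F.order_E h hx hx1, F.card_A, F.card_L]
  exact ⟨h.three_not_m, h.three_not_n⟩

theorem cop_ALE : ∀ {x : K}, (x ∈ F.A ∨ x ∈ F.L) → x ≠ 1 → ¬ orderOf x ∣ Nat.card F.E := by
  intro x hx hx1 hd
  rw [F.card_E] at hd
  obtain ⟨k, -, hk⟩ := h.q_pow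
  have hd' : orderOf x ∣ 3 ^ (2 * k + 1) := hk ▸ hd
  refine hx1 (orderOf_eq_one_iff.1 ?_)
  rcases hx with hx | hx
  · exact Nat.eq_one_of_dvd_coprimes ((Nat.prime_three.coprime_iff_not_dvd.2 h.three_not_m).pow_left _)
      hd' (F.card_A ▸ Subgroup.orderOf_dvd_natCard _ hx)
  · exact Nat.eq_one_of_dvd_coprimes ((Nat.prime_three.coprime_iff_not_dvd.2 h.three_not_n).pow_left _)
      hd' (F.card_L ▸ Subgroup.orderOf_dvd_natCard _ hx)

theorem cop_LA : ∀ {x : K}, x ∈ F.L → x ≠ 1 → ¬ orderOf x ∣ Nat.card F.A := fun {x} hx hx1 hd =>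
  hx1 (orderOf_eq_one_iff.1 (Nat.eq_one_of_dvd_coprimes h.cop_mn.symm
    (F.card_L ▸ Subgroup.orderOf_dvd_natCard _ hx) (F.card_A ▸ hd)))

/-- The value of `Ξ` on the Sylow subgroup. -/
theorem Xi_E {ψ : F.E →* ℂˣ} (hψ : ψ ≠ 1) {x : K} (hx : x ∈ F.E) (hx1 : x ≠ 1) :
    F.Xi ψ x = -1 := by
  classical
  set N := normalizer (F.E : Set K) with hN
  set e : F.E := ⟨x, hx⟩ with he
  -- conjugation of `x` and of its inverse cover the nontrivial elements equally often
  let f : N × Bool → F.E := fun p =>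
    ⟨(p.1 : K)⁻¹ * (bif p.2 then x else x⁻¹) * (p.1 : K), by
      have h1 : (bif p.2 then x else x⁻¹) ∈ F.E := by
        cases p.2
        · exact inv_mem hx
        · exact hx
      have := (mem_normalizer_iff.1 (inv_mem p.1.2) _).1 h1
      rwa [inv_inv] at this⟩
  have hf1 : ∀ p, f p ≠ 1 := by
    intro p e'
    have h1 : (bif p.2 then x else x⁻¹) = 1 := conj_eq_one_iff.1
      (show (p.1 : K)⁻¹ * (bif p.2 then x else x⁻¹) * (p.1 : K)⁻¹⁻¹ = 1 by
        rw [inv_inv]; exact congrArg Subtype.val e')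
    cases hb : p.2 <;> simp [hb] at h1 <;> exact hx1 h1
  set S : Finset F.E := Finset.univ.erase 1 with hS
  have hmaps : ∀ p ∈ (Finset.univ : Finset (N × Bool)), f p ∈ S := fun p _ =>
    Finset.mem_erase.2 ⟨hf1 p, Finset.mem_univ _⟩
  have hfib : ∀ y ∈ S, (Finset.univ.filter fun p => f p = y).card ≤ q := by
    intro y _
    rcases Finset.eq_empty_or_nonempty (Finset.univ.filter fun p => f p = y) with h0 | ⟨p₀, hp₀⟩
    · simp [h0]
    · have hp0 : f p₀ = y := (Finset.mem_filter.1 hp₀).2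
      have hcent : ∀ p, f p = f p₀ → p.2 = p₀.2 ∧ (p.1 : K) * (p₀.1 : K)⁻¹ ∈ F.E := by
        intro p hp
        have e' : (p.1 : K)⁻¹ * (bif p.2 then x else x⁻¹) * (p.1 : K) =
            (p₀.1 : K)⁻¹ * (bif p₀.2 then x else x⁻¹) * (p₀.1 : K) := congrArg Subtype.val hp
        set g := (p.1 : K) * (p₀.1 : K)⁻¹ with hg
        have e'' : g * (bif p₀.2 then x else x⁻¹) * g⁻¹ = (bif p.2 then x else x⁻¹) := by
          calc g * (bif p₀.2 then x else x⁻¹) * g⁻¹
              = (p.1 : K) * ((p₀.1 : K)⁻¹ * (bif p₀.2 then x else x⁻¹) * (p₀.1 : K)) * (p.1 : K)⁻¹ := by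
                rw [hg]; group
            _ = _ := by rw [← e']; group
        have hb : p.2 = p₀.2 := by
          by_contra hne
          cases hp2 : p.2 <;> cases hp02 : p₀.2 <;> simp [hp2, hp02] at hne e''
          · exact h.not_inverted_three (F.order_E h hx hx1) e''
          · refine h.not_inverted_three (F.order_E h hx hx1) (g := g⁻¹) ?_
            calc g⁻¹ * x * g⁻¹⁻¹ = g⁻¹ * (g * x⁻¹ * g⁻¹) * g := by rw [e'', inv_inv]
              _ = x⁻¹ := by group
        refine ⟨hb, ?_⟩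
        rw [hb] at e''
        cases hp02 : p₀.2 <;> simp [hp02] at e''
        · exact (F.cent_E _ (inv_mem hx) (inv_ne_one.2 hx1) g).1 (mul_inv_eq_iff_eq_mul.1 e'')
        · exact (F.cent_E x hx hx1 g).1 (mul_inv_eq_iff_eq_mul.1 e'')
      calc (Finset.univ.filter fun p => f p = y).card
          ≤ (Finset.univ : Finset F.E).card := by
            let g : N × Bool → F.E := fun p =>
              if hm : (p.1 : K) * (p₀.1 : K)⁻¹ ∈ F.E then ⟨_, hm⟩ else 1
            refine Finset.card_le_card_of_injOn g (fun p _ => Finset.mem_univ _) ?_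
            intro p hp p' hp' e'
            have h1 := hcent p ((Finset.mem_filter.1 (Finset.mem_coe.1 hp)).2.trans hp0.symm)
            have h2 := hcent p' ((Finset.mem_filter.1 (Finset.mem_coe.1 hp')).2.trans hp0.symm)
            simp only [g, dif_pos h1.2, dif_pos h2.2] at e'
            exact Prod.ext (Subtype.ext (mul_right_cancel (congrArg Subtype.val e')))
              (h1.1.trans h2.1.symm)
        _ = q := by rw [Finset.card_univ, ← Nat.card_eq_fintype_card, F.card_E]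
  have hcard : ∑ y ∈ S, (Finset.univ.filter fun p => f p = y).card = ∑ y ∈ S, q := by
    rw [← Finset.card_eq_sum_card_fiberwise hmaps, Finset.sum_const, hS,
      Finset.card_erase_of_mem (Finset.mem_univ _), Finset.card_univ, Finset.card_univ,
      Fintype.card_prod, Fintype.card_bool, ← Nat.card_eq_fintype_card, ← Nat.card_eq_fintype_card,
      F.card_E, hN, F.card_NE, smul_eq_mul]
    have := h.hn
    rw [show q - 1 = 2 * n by omega]
    ring
  have heq := (Finset.sum_eq_sum_iff_of_le hfib).1 hcard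
  have hterm : ∀ k : K, extendByZero F.E (lc ψ + lc ψ⁻¹) (k⁻¹ * x * k) =
      if hk : k ∈ N then lc ψ (f (⟨k, hk⟩, true)) + lc ψ (f (⟨k, hk⟩, false)) else 0 := by
    intro k
    by_cases hk : k ∈ N
    · have hm : k⁻¹ * x * k ∈ F.E := by
        have := (mem_normalizer_iff.1 (inv_mem hk) x).1 hx
        rwa [inv_inv] at this
      rw [dif_pos hk, extendByZero_mem _ _ hm, Pi.add_apply]
      congr 1
      rw [lc_apply, lc_apply, MonoidHom.inv_apply, ← map_inv]
      exact congrArg (fun z => ((ψ z : ℂˣ) : ℂ)) (Subtype.ext (by simp [f, mul_assoc]))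
    · rw [dif_neg hk, extendByZero_not_mem]
      intro hm
      have := F.fusion_E x hx hx1 k⁻¹ (by rwa [inv_inv])
      exact hk (by simpa using inv_mem this)
  have hsum : ∑ k : K, extendByZero F.E (lc ψ + lc ψ⁻¹) (k⁻¹ * x * k) =
      ∑ p : N × Bool, lc ψ (f p) := by
    rw [Finset.sum_congr rfl fun k _ => hterm k, Fintype.sum_prod_type,
      ← Finset.sum_filter_add_sum_filter_not Finset.univ (fun k => k ∈ N)]
    rw [Finset.sum_eq_zero (s := Finset.univ.filter fun k => ¬ k ∈ N) fun k hk => by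
      rw [dif_neg (Finset.mem_filter.1 hk).2], add_zero,
      Finset.sum_subtype (p := fun k => k ∈ N) _ (fun k => by simp)]
    refine Finset.sum_congr rfl fun k _ => ?_
    rw [Fintype.sum_bool, dif_pos k.2]
  rw [Xi, indFun, hsum, F.card_E, ← Finset.sum_fiberwise_of_maps_to hmaps (fun p => lc ψ (f p)),
    Finset.sum_congr rfl (g := fun y => (q : ℂ) * lc ψ y) fun y hy => by
      rw [Finset.sum_congr rfl (g := fun _ => lc ψ y) fun p hp => by rw [(Finset.mem_filter.1 hp).2],
        Finset.sum_const, heq y hy, nsmul_eq_mul],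
    ← Finset.mul_sum, ← mul_assoc, inv_mul_cancel₀ (by exact_mod_cast h.pos.1.ne'), one_mul]
  have h0 := sum_lc F.E hψ
  rw [← Finset.add_sum_erase _ _ (Finset.mem_univ (1 : F.E)), lc_apply, map_one, Units.val_one] at h0
  rw [hS]
  linear_combination h0

theorem Xi_one (ψ : F.E →* ℂˣ) : F.Xi ψ 1 = (q : ℂ) ^ 2 - 1 := by
  rw [Xi, indFun_one, F.index_E h, Pi.add_apply, lc_apply, lc_apply, map_one, map_one, Units.val_one]
  push_cast
  rw [h.cast_m, h.cast_q]
  ring

theorem Xi_restrict_E {ψ : F.E →* ℂˣ} (hψ : ψ ≠ 1) :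
    (fun y : F.E => F.Xi ψ (y : K)) = ((q : ℂ) ^ 2) • oneAt F.E - lc (1 : F.E →* ℂˣ) := by
  funext y
  rw [Pi.sub_apply, Pi.smul_apply, lc_apply, MonoidHom.one_apply, Units.val_one, smul_eq_mul]
  rcases eq_or_ne y 1 with rfl | hy
  · rw [oneAt_one, mul_one, OneMemClass.coe_one, F.Xi_one h]
  · rw [oneAt_ne hy, F.Xi_E h hψ y.2 fun e => hy (Subtype.ext e)]
    ring

theorem Xi_restrict_of {Y : Subgroup K} (hY : Y = F.A ∨ Y = F.L) (ψ : F.E →* ℂˣ) :
    (fun y : Y => F.Xi ψ (y : K)) = ((q : ℂ) ^ 2 - 1) • oneAt Y := by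
  funext y
  rw [Pi.smul_apply, smul_eq_mul]
  rcases eq_or_ne y 1 with rfl | hy
  · rw [oneAt_one, mul_one, OneMemClass.coe_one, F.Xi_one h]
  · have hy1 : (y : K) ≠ 1 := fun e => hy (Subtype.ext e)
    rw [oneAt_ne hy, mul_zero, Xi]
    refine indFun_eq_zero _ _ (F.cop_ALE h ?_ hy1)
    rcases hY with rfl | rfl
    · exact Or.inl y.2
    · exact Or.inr y.2

theorem iA_restrict_A (θ : F.A →* ℂˣ) : (fun y : F.A => indFun F.A (lc θ) (y : K)) =
    (2 : ℂ) • (lc θ + lc θ⁻¹) + (4 * (q : ℂ) * n - 4) • oneAt F.A := by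
  funext y
  simp only [Pi.add_apply, Pi.smul_apply, smul_eq_mul]
  rcases eq_or_ne y 1 with rfl | hy
  · rw [oneAt_one, OneMemClass.coe_one, indFun_one, F.index_A h]
    simp only [lc_apply, map_one, Units.val_one]
    push_cast
    ring
  · rw [indFun_torus F.torus_A θ y.2 fun e => hy (Subtype.ext e), oneAt_ne hy, F.card_A, F.card_HA]
    have : (m : ℂ) ≠ 0 := by exact_mod_cast h.m_pos.ne'
    push_cast
    field_simp
    ring

theorem iL_restrict_L (l : F.L →* ℂˣ) : (fun y : F.L => indFun F.L (lc l) (y : K)) =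
    (lc l + lc l⁻¹) + (4 * (q : ℂ) * m - 2) • oneAt F.L := by
  funext y
  simp only [Pi.add_apply, Pi.smul_apply, smul_eq_mul]
  rcases eq_or_ne y 1 with rfl | hy
  · rw [oneAt_one, OneMemClass.coe_one, indFun_one, F.index_L h]
    simp only [lc_apply, map_one, Units.val_one]
    push_cast
    ring
  · rw [indFun_torus F.torus_L l y.2 fun e => hy (Subtype.ext e), oneAt_ne hy,
      div_self (by rw [F.card_L]; exact_mod_cast h.pos.2.2.ne'), one_mul, mul_zero, add_zero]

theorem iA_restrict_of {Y : Subgroup K} (hY : Y = F.E ∨ Y = F.L) (θ : F.A →* ℂˣ) :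
    (fun y : Y => indFun F.A (lc θ) (y : K)) = (4 * (q : ℂ) * n) • oneAt Y := by
  funext y
  rw [Pi.smul_apply, smul_eq_mul]
  rcases eq_or_ne y 1 with rfl | hy
  · rw [oneAt_one, OneMemClass.coe_one, indFun_one, F.index_A h, lc_apply, map_one, Units.val_one]
    push_cast
    ring
  · have hy1 : (y : K) ≠ 1 := fun e => hy (Subtype.ext e)
    rw [oneAt_ne hy, mul_zero]
    refine indFun_eq_zero _ _ ?_
    rcases hY with rfl | rfl
    · exact (F.cop_E h y.2 hy1).1
    · exact F.cop_LA h y.2 hy1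

theorem iL_restrict_of {Y : Subgroup K} (hY : Y = F.E ∨ Y = F.A) (l : F.L →* ℂˣ) :
    (fun y : Y => indFun F.L (lc l) (y : K)) = (4 * (q : ℂ) * m) • oneAt Y := by
  funext y
  rw [Pi.smul_apply, smul_eq_mul]
  rcases eq_or_ne y 1 with rfl | hy
  · rw [oneAt_one, OneMemClass.coe_one, indFun_one, F.index_L h, lc_apply, map_one, Units.val_one]
    push_cast
    ring
  · have hy1 : (y : K) ≠ 1 := fun e => hy (Subtype.ext e)
    rw [oneAt_ne hy, mul_zero]
    refine indFun_eq_zero _ _ ?_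
    rcases hY with rfl | rfl
    · exact (F.cop_E h y.2 hy1).2
    · exact F.cop_AL h y.2 hy1

theorem inner_Xi_Xi {ψ : F.E →* ℂˣ} (hψ : ψ ≠ 1) : classInner (F.Xi ψ) (F.Xi ψ) = 2 * (q : ℂ) := by
  classical
  have hq : (q : ℂ) ≠ 0 := by exact_mod_cast h.pos.1.ne'
  nth_rw 1 [Xi]
  rw [classInner_indFun _ _ _ (F.Xi_classFun ψ), F.Xi_restrict_E h hψ,
    classInner_sub_right, classInner_smul_right, classInner_add_left, classInner_add_left,
    classInner_lc_oneAt, classInner_lc_oneAt, classInner_lc', classInner_lc', if_neg hψ,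
    if_neg (inv_hom_ne_one hψ), F.card_E, map_pow, map_natCast]
  field_simp
  ring

theorem inner_iA_Xi {ψ : F.E →* ℂˣ} (θ : F.A →* ℂˣ) :
    classInner (indFun F.A (lc θ)) (F.Xi ψ) = ((q : ℂ) ^ 2 - 1) / m := by
  classical
  rw [classInner_indFun _ _ _ (F.Xi_classFun ψ),
    F.Xi_restrict_of h (Or.inl rfl), classInner_smul_right, classInner_lc_oneAt, F.card_A, map_sub,
    map_pow, map_natCast, map_one]
  ring

theorem inner_iL_Xi {ψ : F.E →* ℂˣ} (l : F.L →* ℂˣ) :
    classInner (indFun F.L (lc l)) (F.Xi ψ) = ((q : ℂ) ^ 2 - 1) / n := by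
  classical
  rw [classInner_indFun _ _ _ (F.Xi_classFun ψ),
    F.Xi_restrict_of h (Or.inr rfl), classInner_smul_right, classInner_lc_oneAt, F.card_L, map_sub,
    map_pow, map_natCast, map_one]
  ring

theorem inner_iA_iA (θ θ' : F.A →* ℂˣ) :
    classInner (indFun F.A (lc θ)) (indFun F.A (lc θ')) = (by classical exact
      2 * ((if θ = θ' then 1 else 0) + (if θ = θ'⁻¹ then 1 else 0)) + (4 * (q : ℂ) * n - 4) / m) := by
  classical
  rw [classInner_indFun _ _ _ (isClassFunction_indFun F.A (lc θ')), F.iA_restrict_A h,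
    classInner_add_right, classInner_smul_right, classInner_smul_right, classInner_add_right,
    classInner_lc', classInner_lc', classInner_lc_oneAt, F.card_A, map_sub, map_mul, map_mul,
    map_natCast, map_natCast, map_ofNat, map_ofNat]
  ring

theorem inner_iL_iL (l l' : F.L →* ℂˣ) :
    classInner (indFun F.L (lc l)) (indFun F.L (lc l')) = (by classical exact
      ((if l = l' then 1 else 0) + (if l = l'⁻¹ then 1 else 0)) + (4 * (q : ℂ) * m - 2) / n) := by
  classical
  rw [classInner_indFun _ _ _ (isClassFunction_indFun F.L (lc l')), F.iL_restrict_L h,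
    classInner_add_right, classInner_smul_right, classInner_add_right,
    classInner_lc', classInner_lc', classInner_lc_oneAt, F.card_L, map_sub, map_mul, map_mul,
    map_natCast, map_natCast, map_ofNat, map_ofNat]
  ring

theorem inner_iL_iA (l : F.L →* ℂˣ) (θ : F.A →* ℂˣ) :
    classInner (indFun F.L (lc l)) (indFun F.A (lc θ)) = 4 * (q : ℂ) := by
  classical
  have hn : (n : ℂ) ≠ 0 := by exact_mod_cast h.pos.2.2.ne'
  rw [classInner_indFun _ _ _ (isClassFunction_indFun F.A (lc θ)), F.iA_restrict_of h (Or.inr rfl),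
    classInner_smul_right, classInner_lc_oneAt, F.card_L, map_mul, map_mul, map_natCast, map_natCast,
    map_ofNat]
  field_simp

theorem inner_Q_Q {ψ : F.E →* ℂˣ} (hψ : ψ ≠ 1) (l l' : F.L →* ℂˣ) :
    classInner (F.Q ψ l) (F.Q ψ l') = (by classical exact
      (if l = l' then 1 else 0) + (if l = l'⁻¹ then 1 else 0) : ℂ) := by
  classical
  have hn : (n : ℂ) ≠ 0 := by exact_mod_cast h.pos.2.2.ne'
  rw [Q, Q, classInner_sub_left, classInner_sub_right, classInner_sub_right, F.inner_iL_iL h,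
    F.inner_iL_Xi h, F.inner_Xi_Xi h hψ, ← classInner_conj (indFun F.L (lc l')) (F.Xi ψ), F.inner_iL_Xi h,
    map_div₀, map_sub, map_pow, map_natCast, map_natCast, map_one]
  field_simp
  simp only [h.cast_m', h.cast_q]; ring

theorem inner_P_P {ψ : F.E →* ℂˣ} (hψ : ψ ≠ 1) (θ θ' : F.A →* ℂˣ) :
    classInner (F.P ψ θ) (F.P ψ θ') = (by classical exact
      2 * ((if θ = θ' then 1 else 0) + (if θ = θ'⁻¹ then 1 else 0)) : ℂ) := by
  classical
  have hm : (m : ℂ) ≠ 0 := by exact_mod_cast h.m_pos.ne'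
  rw [P, P, classInner_sub_left, classInner_sub_right, classInner_sub_right, classInner_smul_left,
    classInner_smul_right, classInner_smul_right, classInner_smul_left, F.inner_iA_iA h,
    F.inner_iA_Xi h, F.inner_Xi_Xi h hψ, ← classInner_conj (indFun F.A (lc θ')) (F.Xi ψ), F.inner_iA_Xi h,
    map_div₀, map_sub, map_pow, map_natCast, map_natCast, map_one, map_ofNat]
  field_simp
  simp only [h.cast_m', h.cast_q]; ring

theorem inner_Q_P {ψ : F.E →* ℂˣ} (hψ : ψ ≠ 1) (l : F.L →* ℂˣ) (θ : F.A →* ℂˣ) :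
    classInner (F.Q ψ l) (F.P ψ θ) = 0 := by
  classical
  have hm : (m : ℂ) ≠ 0 := by exact_mod_cast h.m_pos.ne'
  have hn : (n : ℂ) ≠ 0 := by exact_mod_cast h.pos.2.2.ne'
  rw [Q, P, classInner_sub_left, classInner_sub_right, classInner_sub_right, classInner_smul_right,
    classInner_smul_right, F.inner_iL_Xi h, F.inner_iL_iA h, F.inner_Xi_Xi h hψ,
    ← classInner_conj (indFun F.A (lc θ)) (F.Xi ψ), F.inner_iA_Xi h, map_div₀, map_sub, map_pow,
    map_natCast, map_natCast, map_one, map_ofNat]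
  field_simp
  simp only [h.cast_m', h.cast_q]; ring

theorem inner_one_Xi {ψ : F.E →* ℂˣ} (hψ : ψ ≠ 1) : classInner (F.Xi ψ) (fun _ => 1) = 0 := by
  classical
  rw [Xi, classInner_indFun _ _ _ (fun _ _ => rfl), classInner_add_left,
    show (fun _ : F.E => (1 : ℂ)) = lc (1 : F.E →* ℂˣ) from rfl, classInner_lc', classInner_lc',
    if_neg hψ, if_neg (inv_hom_ne_one hψ), add_zero]

theorem inner_Q_one {ψ : F.E →* ℂˣ} (hψ : ψ ≠ 1) (l : F.L →* ℂˣ) :
    classInner (F.Q ψ l) (fun _ => 1) = (by classical exact if l = 1 then 1 else 0 : ℂ) := by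
  classical
  rw [Q, classInner_sub_left, F.inner_one_Xi h hψ, sub_zero,
    classInner_indFun _ _ _ (fun _ _ => rfl),
    show (fun _ : F.L => (1 : ℂ)) = lc (1 : F.L →* ℂˣ) from rfl, classInner_lc']

theorem inner_P_one {ψ : F.E →* ℂˣ} (hψ : ψ ≠ 1) (θ : F.A →* ℂˣ) :
    classInner (F.P ψ θ) (fun _ => 1) = -(by classical exact if θ = 1 then 1 else 0 : ℂ) := by
  classical
  rw [P, classInner_sub_left, classInner_smul_left, F.inner_one_Xi h hψ, mul_zero, zero_sub,
    classInner_indFun _ _ _ (fun _ _ => rfl),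
    show (fun _ : F.A => (1 : ℂ)) = lc (1 : F.A →* ℂˣ) from rfl, classInner_lc']

/-- The regular function is a combination of all the `Q` and `P`. -/
theorem regular_eq [Fintype (F.L →* ℂˣ)] [Fintype (F.A →* ℂˣ)] (ψ : F.E →* ℂˣ) :
    (Nat.card K : ℂ) • oneAt K =
      (((q : ℂ) + 1) / 2) • ∑ l : F.L →* ℂˣ, F.Q ψ l + (n : ℂ) • ∑ θ : F.A →* ℂˣ, F.P ψ θ := by
  classical
  have hsL : ∑ l : F.L →* ℂˣ, indFun F.L (lc l) = (Nat.card K : ℂ) • oneAt K := by
    rw [← indFun_sum, sum_all_lc F.L F.torus_L.comm, indFun_smul, indFun_oneAt, smul_smul,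
      ← Nat.cast_mul, F.L.card_mul_index]
  have hsA : ∑ θ : F.A →* ℂˣ, indFun F.A (lc θ) = (Nat.card K : ℂ) • oneAt K := by
    rw [← indFun_sum, sum_all_lc F.A F.torus_A.comm, indFun_smul, indFun_oneAt, smul_smul,
      ← Nat.cast_mul, F.A.card_mul_index]
  have hcL : (Fintype.card (F.L →* ℂˣ) : ℂ) = n := by
    let _ : CommGroup F.L :=
      { (inferInstance : Group F.L) with
        mul_comm := fun a b => Subtype.ext (F.torus_L.comm a a.2 b b.2) }
    rw [← Nat.card_eq_fintype_card, CommGroup.card_monoidHom_of_hasEnoughRootsOfUnity F.L ℂ, F.card_L]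
  have hcA : (Fintype.card (F.A →* ℂˣ) : ℂ) = m := by
    let _ : CommGroup F.A :=
      { (inferInstance : Group F.A) with
        mul_comm := fun a b => Subtype.ext (F.torus_A.comm a a.2 b b.2) }
    rw [← Nat.card_eq_fintype_card, CommGroup.card_monoidHom_of_hasEnoughRootsOfUnity F.A ℂ, F.card_A]
  simp only [Q, P, Finset.sum_sub_distrib, Finset.sum_const, Finset.card_univ, hsL, hsA,
    ← Nat.cast_smul_eq_nsmul ℂ, hcL, hcA, smul_smul]
  funext x
  simp only [Pi.add_apply, Pi.sub_apply, Pi.smul_apply, smul_eq_mul]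
  simp only [h.cast_m', h.cast_q]; ring

theorem invCount_classFun : IsClassFunction K invCount := by
  intro x g
  refine congrArg (fun a : ℕ => (a : ℂ)) (Nat.card_congr ?_)
  refine (MulAut.conj g).symm.toEquiv.subtypeEquiv fun w => ?_
  show _ ↔ orderOf ((MulAut.conj g).symm w) = 2 ∧ _
  rw [MulEquiv.orderOf_eq]
  refine and_congr_right fun _ => ?_
  show _ ↔ (MulAut.conj g).symm w * x * ((MulAut.conj g).symm w)⁻¹ = x⁻¹
  conv_rhs => rw [← (MulAut.conj g).injective.eq_iff, map_mul, map_mul, map_inv,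
    MulEquiv.apply_symm_apply, map_inv, MulAut.conj_apply]

theorem invCount_one : invCount (1 : K) = (q : ℂ) * n := by
  classical
  obtain ⟨u, hu⟩ := h.exists_invol
  obtain ⟨w, -, -, hcard, -⟩ := h.invol_torus hu
  have hbij : Nat.card {v : K // orderOf v = 2 ∧ v * 1 * v⁻¹ = 1⁻¹} =
      (centralizer ({u} : Set K)).index := by
    rw [Subgroup.index_eq_card]
    let g : K ⧸ centralizer ({u} : Set K) → {v : K // orderOf v = 2 ∧ v * 1 * v⁻¹ = 1⁻¹} := fun a =>
      ⟨a.out * u * a.out⁻¹, by rw [← MulAut.conj_apply, MulEquiv.orderOf_eq, hu], by group⟩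
    refine (Nat.card_congr (Equiv.ofBijective g ⟨fun a b e => ?_, fun v => ?_⟩)).symm
    · rw [← a.out_eq', ← b.out_eq', QuotientGroup.eq, mem_centralizer_singleton_iff]
      have e' : a.out * u * a.out⁻¹ = b.out * u * b.out⁻¹ := congrArg Subtype.val e
      calc a.out⁻¹ * b.out * u = a.out⁻¹ * (b.out * u * b.out⁻¹) * b.out := by group
        _ = u * (a.out⁻¹ * b.out) := by rw [← e']; group
    · obtain ⟨c, hc⟩ := isConj_iff.1 (h.conj u v hu v.2.1)
      refine ⟨QuotientGroup.mk c, Subtype.ext ?_⟩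
      obtain ⟨d, hd⟩ := QuotientGroup.mk_out_eq_mul (centralizer ({u} : Set K)) c
      show (QuotientGroup.mk c : K ⧸ centralizer ({u} : Set K)).out * u *
        (QuotientGroup.mk c : K ⧸ centralizer ({u} : Set K)).out⁻¹ = v
      rw [hd, ← hc]
      calc c * (d : K) * u * (c * (d : K))⁻¹ = c * ((d : K) * u * (d : K)⁻¹) * c⁻¹ := by group
        _ = c * u * c⁻¹ := by rw [mem_centralizer_singleton_iff.1 d.2, mul_inv_cancel_right]
  have h1 := (centralizer ({u} : Set K)).card_mul_index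
  rw [hcard, h.card, ← hbij, mul_comm (4 * m)] at h1
  have h2 := Nat.eq_of_mul_eq_mul_right (by have := h.m_pos; omega) h1
  simp only [invCount, h2]
  push_cast
  rfl

/-- The sum of `P_θ` against the counting function, for nontrivial `θ`. -/
theorem sum_P_invCount {ψ : F.E →* ℂˣ} (hψ : ψ ≠ 1) {θ : F.A →* ℂˣ} (hθ : θ ≠ 1) :
    ∑ x : K, F.P ψ θ x * invCount x = 4 * (q : ℂ) ^ 2 * n := by
  classical
  have hq : (q : ℂ) ≠ 0 := by exact_mod_cast h.pos.1.ne'
  have hm : (m : ℂ) ≠ 0 := by exact_mod_cast h.m_pos.ne'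
  have hconv : ∑ x : K, F.P ψ θ x * invCount x =
      (Nat.card K : ℂ) * classInner (F.P ψ θ) invCount := by
    have hc : ∀ x : K, conj (invCount x) = invCount x := fun x => map_natCast _ _
    simp only [classInner, hc]
    rw [← mul_assoc, mul_inv_cancel₀ (by exact_mod_cast Nat.card_pos.ne'), one_mul]
  have hE : (fun y : F.E => invCount (y : K)) = ((q : ℂ) * n) • oneAt F.E := by
    funext y
    rw [Pi.smul_apply, smul_eq_mul]
    rcases eq_or_ne y 1 with rfl | hy
    · rw [oneAt_one, mul_one, OneMemClass.coe_one, invCount_one h]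
    · rw [oneAt_ne hy, mul_zero]
      simp only [invCount, Nat.cast_eq_zero]
      rw [Nat.card_eq_zero]
      exact Or.inl ⟨fun w => h.not_inverted_three (F.order_E h y.2 fun e => hy (Subtype.ext e)) w.2.2⟩
  have hA : (fun y : F.A => invCount (y : K)) =
      ((q : ℂ) * n - 2 * m) • oneAt F.A + (2 * (m : ℂ)) • lc (1 : F.A →* ℂˣ) := by
    funext y
    simp only [Pi.add_apply, Pi.smul_apply, smul_eq_mul, lc_apply, MonoidHom.one_apply, Units.val_one,
      mul_one]
    rcases eq_or_ne y 1 with rfl | hy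
    · rw [oneAt_one, mul_one, sub_add_cancel, OneMemClass.coe_one, invCount_one h]
    · have hy1 : (y : K) ≠ 1 := fun e => hy (Subtype.ext e)
      rw [oneAt_ne hy, mul_zero, zero_add]
      have hset : Nat.card {w : K // orderOf w = 2 ∧ w * (y : K) * w⁻¹ = (y : K)⁻¹} =
          Nat.card {w : K // w ∈ F.DA ∧ w ∉ F.HA} := by
        refine Nat.card_congr (Equiv.subtypeEquivRight fun w => ⟨fun hw => ?_, fun hw => ?_⟩)
        · refine ⟨F.torus_A.fusion _ y.2 hy1 w (by rw [hw.2]; exact inv_mem y.2), fun hwH => ?_⟩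
          have h1 := hw.2
          rw [(F.torus_A.cent _ y.2 hy1 w).2 hwH, mul_inv_cancel_right] at h1
          have h2 : orderOf (y : K) ∣ 2 := orderOf_dvd_of_pow_eq_one (by
            rw [pow_two]; nth_rw 2 [h1]; exact mul_inv_cancel _)
          exact hy1 (orderOf_eq_one_iff.1 (Nat.eq_one_of_dvd_coprimes
            (Nat.coprime_two_left.2 h.m_odd) h2 ((Subgroup.orderOf_dvd_natCard _ y.2).trans F.card_A.dvd)))
        · exact ⟨F.invol_A w hw.1 hw.2, F.torus_A.inv w hw.1 hw.2 _ y.2⟩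
      have hcnt : Nat.card {w : K // w ∈ F.DA ∧ w ∉ F.HA} = 2 * m := by
        rw [Nat.card_eq_fintype_card, Fintype.card_subtype]
        have h3 := Finset.card_filter_add_card_filter_not
          (s := Finset.univ.filter fun k => k ∈ F.DA) (fun k => k ∈ F.HA)
        rw [Finset.filter_filter, Finset.filter_filter, ← Fintype.card_subtype (fun k => k ∈ F.DA),
          ← Nat.card_eq_fintype_card, F.torus_A.card,
          show (Finset.univ.filter fun k => k ∈ F.DA ∧ k ∈ F.HA) = Finset.univ.filter fun k => k ∈ F.HA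
            from Finset.filter_congr fun k _ => ⟨fun h => h.2, fun h => ⟨F.torus_A.sub h, h⟩⟩,
          ← Fintype.card_subtype, ← Nat.card_eq_fintype_card, F.card_HA] at h3
        omega
      simp only [invCount, hset, hcnt]
      push_cast
      rfl
  rw [hconv, P, classInner_sub_left, classInner_smul_left, Xi,
    classInner_indFun _ _ _ (invCount_classFun h), classInner_indFun _ _ _ (invCount_classFun h),
    hE, hA, classInner_add_right, classInner_smul_right, classInner_smul_right, classInner_smul_right,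
    classInner_add_left, classInner_lc_oneAt, classInner_lc_oneAt, classInner_lc_oneAt, classInner_lc',
    if_neg hθ, F.card_E, F.card_A, map_sub, map_mul, map_mul, map_natCast, map_natCast, map_natCast,
    map_ofNat, h.card]
  push_cast
  field_simp
  simp only [h.cast_m', h.cast_q]; ring

end KFrame

end CfsgLib.ReeType
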