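import Cfsg.Agent.Lib.Ree.Basic
import Cfsg.Agent.Lib.Ree.KChar

/-!
# Lifting class functions of `K` through the centralizer of an involution
-/

set_option autoImplicit false
set_option linter.unusedSectionVars false

namespace CfsgLib.ReeType

open scoped ComplexConjugate
open Subgroup Cfsg CfsgLib.Char CfsgLib.Char.Signed

universe u

attribute [local instance] _root_.Classical.propDecidable

/-- The conjugacy class of an element, counted. -/
theorem card_isConj_mul {G : Type*} [Group G] [Finite G] (a : G) :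
    Nat.card {x : G // IsConj a x} * Nat.card (centralizer ({a} : Set G)) = Nat.card G := by
  let g : G ⧸ centralizer ({a} : Set G) → {x : G // IsConj a x} := fun b =>
    ⟨b.out * a * b.out⁻¹, isConj_iff.2 ⟨b.out, rfl⟩⟩
  have hg : Function.Bijective g := by
    refine ⟨fun b c e => ?_, fun v => ?_⟩
    · rw [← b.out_eq', ← c.out_eq', QuotientGroup.eq, mem_centralizer_singleton_iff]
      have e' : b.out * a * b.out⁻¹ = c.out * a * c.out⁻¹ := congrArg Subtype.val e
      calc b.out⁻¹ * c.out * a = b.out⁻¹ * (c.out * a * c.out⁻¹) * c.out := by group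
        _ = a * (b.out⁻¹ * c.out) := by rw [← e']; group
    · obtain ⟨c, hc⟩ := isConj_iff.1 v.2
      refine ⟨QuotientGroup.mk c, Subtype.ext ?_⟩
      obtain ⟨d, hd⟩ := QuotientGroup.mk_out_eq_mul (centralizer ({a} : Set G)) c
      show (QuotientGroup.mk c : G ⧸ centralizer ({a} : Set G)).out * a *
        (QuotientGroup.mk c : G ⧸ centralizer ({a} : Set G)).out⁻¹ = v
      rw [hd, ← hc]
      calc c * (d : G) * a * (c * (d : G))⁻¹ = c * ((d : G) * a * (d : G)⁻¹) * c⁻¹ := by group
        _ = c * a * c⁻¹ := by rw [mem_centralizer_singleton_iff.1 d.2, mul_inv_cancel_right]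
  rw [← Nat.card_congr (Equiv.ofBijective g hg), ← Subgroup.index_eq_card, mul_comm,
    card_mul_index]

namespace Setup

variable {G : Type u} [Group G] [Fintype G] {q m n : ℕ} (T : Setup G q m n)

/-- The centralizer of the involution. -/
abbrev C : Subgroup G := centralizer ({T.t} : Set G)

theorem comm_of_mem_C (c : T.C) : Commute (c : G) T.t := mem_centralizer_singleton_iff.1 c.2

theorem t_mem_C : T.t ∈ T.C := mem_centralizer_singleton_iff.2 rfl

theorem K_le_C : T.K ≤ T.C := fun x hx => mem_centralizer_singleton_iff.2 (T.comm_t x hx).eq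

theorem tK_not_mem {x : G} (hx : x ∈ T.K) : T.t * x ∉ T.K := fun h =>
  T.not_mem (by simpa using mul_mem h (inv_mem hx))

/-- The projection onto `K`. -/
noncomputable def proj : T.C →* T.K where
  toFun c := if h : (c : G) ∈ T.K then ⟨c, h⟩ else
    ⟨T.t * c, (T.mem_or c (T.comm_of_mem_C c)).resolve_left h⟩
  map_one' := by
    rw [dif_pos (show ((1 : T.C) : G) ∈ T.K from one_mem _)]
    rfl
  map_mul' c d := by
    have hkey : ∀ (e : T.C) (x : G), x ∈ T.K → ((e : G) = x ∨ (e : G) = T.t * x) →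
        ((if h : (e : G) ∈ T.K then (⟨e, h⟩ : T.K) else
          ⟨T.t * e, (T.mem_or e (T.comm_of_mem_C e)).resolve_left h⟩ : T.K) : G) = x := by
      intro e x hx he
      rcases he with he | he
      · rw [dif_pos (he.symm ▸ hx)]; exact he
      · rw [dif_neg (fun h => T.tK_not_mem hx (he ▸ h))]
        show T.t * (e : G) = x
        rw [he, ← mul_assoc, T.t_sq, one_mul]
    have hsplit : ∀ e : T.C, ∃ x ∈ T.K, (e : G) = x ∨ (e : G) = T.t * x := fun e => by
      rcases T.mem_or e (T.comm_of_mem_C e) with h | h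
      · exact ⟨_, h, Or.inl rfl⟩
      · exact ⟨_, h, Or.inr (by rw [← mul_assoc, T.t_sq, one_mul])⟩
    obtain ⟨x, hx, hc⟩ := hsplit c
    obtain ⟨y, hy, hd⟩ := hsplit d
    apply Subtype.ext
    refine (hkey (c * d) (x * y) (mul_mem hx hy) ?_).trans
      (by rw [Subgroup.coe_mul, hkey c x hx hc, hkey d y hy hd])
    push_cast
    have hxt : x * T.t = T.t * x := (T.comm_t x hx).eq
    rcases hc with hc | hc <;> rcases hd with hd | hd <;> rw [hc, hd]
    · exact Or.inl rfl
    · exact Or.inr (by rw [← mul_assoc, hxt, mul_assoc])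
    · exact Or.inr (mul_assoc _ _ _)
    · refine Or.inl ?_
      rw [← mul_assoc, mul_assoc T.t x, hxt, ← mul_assoc T.t, T.t_sq, one_mul]

theorem proj_K {c : T.C} (hc : (c : G) ∈ T.K) : T.proj c = ⟨c, hc⟩ := by
  show (if h : (c : G) ∈ T.K then (⟨c, h⟩ : T.K) else _) = _
  rw [dif_pos hc]

theorem proj_tK {x : T.K} {c : T.C} (hc : (c : G) = T.t * x) : T.proj c = x := by
  classical
  have hn : (c : G) ∉ T.K := hc ▸ T.tK_not_mem x.2
  show (if h : (c : G) ∈ T.K then (⟨c, h⟩ : T.K) else _) = _
  rw [dif_neg hn]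
  apply Subtype.ext
  show T.t * (c : G) = x
  rw [hc, ← mul_assoc, T.t_sq, one_mul]

/-- The linear character with kernel `K`. -/
noncomputable def eta : T.C →* ℂˣ where
  toFun c := if (c : G) ∈ T.K then 1 else -1
  map_one' := if_pos (one_mem _)
  map_mul' c d := by
    by_cases hc : (c : G) ∈ T.K
    · rw [if_pos hc, one_mul]
      exact if_congr (by push_cast; exact mul_mem_cancel_left hc) rfl rfl
    · by_cases hd : (d : G) ∈ T.K
      · rw [if_pos hd, mul_one]
        exact if_congr (by push_cast; exact mul_mem_cancel_right hd) rfl rfl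
      · rw [if_neg hc, if_neg hd, neg_mul_neg, one_mul, if_pos]
        push_cast
        have h1 := (T.mem_or c (T.comm_of_mem_C c)).resolve_left hc
        have h2 := (T.mem_or d (T.comm_of_mem_C d)).resolve_left hd
        rw [show (c : G) * d = T.t * c * (T.t * d) by
          calc (c : G) * d = (T.t * T.t) * c * d := by rw [T.t_sq, one_mul]
            _ = T.t * (T.t * c) * d := by group
            _ = T.t * (c * T.t) * d := by rw [(T.comm_of_mem_C c).eq]
            _ = _ := by group]
        exact mul_mem h1 h2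

/-- The function on the centralizer attached to a function on `K`. -/
noncomputable def gf (f : T.K → ℂ) : T.C → ℂ := fun c => (1 - (T.eta c : ℂ)) * f (T.proj c)

theorem gf_K (f : T.K → ℂ) {c : T.C} (hc : (c : G) ∈ T.K) : T.gf f c = 0 := by
  classical
  simp [gf, eta, hc]

theorem gf_tK (f : T.K → ℂ) {x : T.K} {c : T.C} (hc : (c : G) = T.t * x) : T.gf f c = 2 * f x := by
  classical
  have hn : (c : G) ∉ T.K := hc ▸ T.tK_not_mem x.2
  rw [gf, T.proj_tK hc]
  simp [eta, hn]
  norm_num

/-- `t x` as an element of the centralizer. -/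
def tx (x : T.K) : T.C := ⟨T.t * x, mul_mem T.t_mem_C (T.K_le_C x.2)⟩

theorem tx_val (x : T.K) : ((T.tx x : T.C) : G) = T.t * x := rfl

theorem exists_tx (c : T.C) : (c : G) ∈ T.K ∨ ∃ x : T.K, c = T.tx x := by
  rcases T.mem_or c (T.comm_of_mem_C c) with h | h
  · exact Or.inl h
  · exact Or.inr ⟨⟨_, h⟩, Subtype.ext (by rw [tx_val, ← mul_assoc, T.t_sq, one_mul])⟩

/-- The lift. -/
noncomputable def lift (f : T.K → ℂ) : G → ℂ := indFun T.C (T.gf f)

theorem lift_sub (f g : T.K → ℂ) : T.lift (f - g) = T.lift f - T.lift g := by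
  rw [lift, lift, lift, ← indFun_sub]
  exact congrArg _ (funext fun c => by simp [gf, mul_sub])

theorem lift_add (f g : T.K → ℂ) : T.lift (f + g) = T.lift f + T.lift g := by
  rw [lift, lift, lift, ← indFun_add]
  exact congrArg _ (funext fun c => by simp [gf, mul_add])

theorem lift_smul (a : ℂ) (f : T.K → ℂ) : T.lift (a • f) = a • T.lift f := by
  rw [lift, lift, ← indFun_smul]
  exact congrArg _ (funext fun c => by simp [gf]; ring)

theorem lift_sum {ι : Type*} (s : Finset ι) (f : ι → T.K → ℂ) :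
    T.lift (∑ i ∈ s, f i) = ∑ i ∈ s, T.lift (f i) := by
  classical
  induction s using Finset.induction_on with
  | empty =>
    simp only [Finset.sum_empty]
    rw [show (0 : T.K → ℂ) = (0 : ℂ) • (0 : T.K → ℂ) by simp, lift_smul, zero_smul]
  | insert a s ha ih => rw [Finset.sum_insert ha, Finset.sum_insert ha, lift_add, ih]

theorem gen_lift {f : T.K → ℂ} (hf : IsGeneralizedCharacter T.K f) : Gen (T.lift f) := by
  refine isGeneralizedCharacter_indFun _ (isGeneralizedCharacter_mul ?_
    (isGeneralizedCharacter_comp hf T.proj))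
  exact isGeneralizedCharacter_sub
    (isGeneralizedCharacter_of_isCharacter (isCharacter_of_isIrr (isIrrCharacter_one)))
    (isGeneralizedCharacter_of_isCharacter (isCharacter_of_isIrr (isIrrCharacter_lin T.eta)))

theorem isClassFunction_lift (f : T.K → ℂ) : IsClassFunction G (T.lift f) :=
  isClassFunction_indFun _ _

theorem lift_one (f : T.K → ℂ) : T.lift f 1 = 0 := by
  rw [lift, indFun_one, T.gf_K f (one_mem _), mul_zero]

/-- A function vanishing on elements of even order. -/
def OddSupp {K : Type*} [Group K] (f : K → ℂ) : Prop := ∀ x : K, Even (orderOf x) → f x = 0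

theorem pow_tx {x : T.K} {N : ℕ} (hN : Odd N) (hx : orderOf (x : G) ∣ N) :
    (T.t * (x : G)) ^ N = T.t := by
  rw [(T.comm_t x x.2).symm.mul_pow, orderOf_dvd_iff_pow_eq_one.1 hx, mul_one]
  obtain ⟨j, rfl⟩ := hN
  rw [pow_succ, pow_mul, pow_two, T.t_sq, one_pow, one_mul]

/-- The lift lives on elements of even order. -/
theorem lift_odd {f : T.K → ℂ} (hf : OddSupp f) {g : G} (hg : Odd (orderOf g)) : T.lift f g = 0 := by
  rw [lift, indFun, Finset.sum_eq_zero, mul_zero]
  intro z _
  by_cases hm : z⁻¹ * g * z ∈ T.C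
  · rw [extendByZero_mem T.C _ hm]
    rcases T.exists_tx ⟨_, hm⟩ with h | ⟨x, hx⟩
    · exact T.gf_K f h
    · rw [T.gf_tK f (x := x) (congrArg Subtype.val hx)]
      rcases Nat.even_or_odd (orderOf x) with he | ho
      · rw [hf x he, mul_zero]
      · exfalso
        have e1 : z⁻¹ * g * z = T.t * x := congrArg Subtype.val hx
        have hN : Odd (orderOf g * orderOf (x : G)) := by
          rw [Subgroup.orderOf_coe]; exact hg.mul ho
        have e2 := congrArg (fun a => a ^ (orderOf g * orderOf (x : G))) e1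
        rw [show z⁻¹ * g * z = z⁻¹ * g * z⁻¹⁻¹ by rw [inv_inv], conj_pow,
          T.pow_tx hN (dvd_mul_left _ _), pow_mul, pow_orderOf_eq_one, one_pow] at e2
        exact Invol.invol_ne_one T.order_t (by rw [← e2]; group)
  · exact extendByZero_not_mem T.C _ hm

/-- The lift is not changed on its support. -/
theorem lift_tx {f : T.K → ℂ} (hf : OddSupp f) (hcl : IsClassFunction T.K f) {x : T.K}
    (hx : Odd (orderOf x)) : T.lift f (T.t * x) = 2 * f x := by
  classical
  have hterm : ∀ g : G, extendByZero T.C (T.gf f) (g⁻¹ * (T.t * x) * g) =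
      if g ∈ T.C then 2 * f x else 0 := by
    intro g
    by_cases hg : g ∈ T.C
    · rw [if_pos hg]
      have hcomm : g⁻¹ * T.t * g = T.t := by
        rw [mul_assoc, ← mem_centralizer_singleton_iff.1 hg, inv_mul_cancel_left]
      set z : T.K := T.proj ⟨g, hg⟩ with hz
      have hconj : g⁻¹ * (x : G) * g = ((z⁻¹ * x * z : T.K) : G) := by
        push_cast
        rcases T.mem_or g (mem_centralizer_singleton_iff.1 hg) with h | h
        · rw [hz, T.proj_K (c := ⟨g, hg⟩) h]
        · have hgz : g = T.t * z := by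
            rw [hz, T.proj_tK (c := ⟨g, hg⟩) (x := ⟨_, h⟩) (by rw [← mul_assoc, T.t_sq, one_mul]),
              ← mul_assoc, T.t_sq, one_mul]
          calc g⁻¹ * (x : G) * g = (z : G)⁻¹ * (T.t⁻¹ * x * T.t) * z := by rw [hgz]; group
            _ = _ := by rw [mul_assoc T.t⁻¹, (T.comm_t x x.2).eq, inv_mul_cancel_left]
      have e : g⁻¹ * (T.t * x) * g = ((T.tx (z⁻¹ * x * z) : T.C) : G) := by
        rw [tx_val, show g⁻¹ * (T.t * x) * g = (g⁻¹ * T.t * g) * (g⁻¹ * x * g) by group, hcomm, hconj]
      rw [e, extendByZero_mem T.C _ (T.tx _).2, T.gf_tK f (x := z⁻¹ * x * z) (T.tx_val _)]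
      have := hcl x z⁻¹
      rw [inv_inv] at this
      rw [this]
    · rw [if_neg hg]
      by_cases hm : g⁻¹ * (T.t * x) * g ∈ T.C
      · rw [extendByZero_mem T.C _ hm]
        rcases T.exists_tx ⟨_, hm⟩ with h | ⟨x', hx'⟩
        · exact T.gf_K f h
        · rw [T.gf_tK f (x := x') (congrArg Subtype.val hx')]
          rcases Nat.even_or_odd (orderOf x') with he | ho
          · rw [hf x' he, mul_zero]
          · exfalso
            refine hg (mem_centralizer_singleton_iff.2 ?_)
            have hN : Odd (orderOf (x : G) * orderOf (x' : G)) := by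
              rw [Subgroup.orderOf_coe, Subgroup.orderOf_coe]; exact hx.mul ho
            have e1 : g⁻¹ * (T.t * x) * g = T.t * x' := congrArg Subtype.val hx'
            have e2 := congrArg (fun z => z ^ (orderOf (x : G) * orderOf (x' : G))) e1
            rw [show g⁻¹ * (T.t * x) * g = g⁻¹ * (T.t * x) * g⁻¹⁻¹ by rw [inv_inv], conj_pow,
              T.pow_tx hN (dvd_mul_right _ _), T.pow_tx hN (dvd_mul_left _ _), inv_inv] at e2
            calc g * T.t = g * (g⁻¹ * T.t * g) := by rw [e2]
              _ = T.t * g := by group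
      · exact extendByZero_not_mem T.C _ hm
  rw [lift, indFun, Finset.sum_congr rfl fun g _ => hterm g, ← Finset.sum_filter, Finset.sum_const,
    nsmul_eq_mul, ← Fintype.card_subtype, ← Nat.card_eq_fintype_card, ← mul_assoc,
    inv_mul_cancel₀ (by exact_mod_cast Nat.card_pos.ne'), one_mul]

/-- Sums over the centralizer of functions vanishing on `K`. -/
theorem sum_C [Fintype T.C] [Fintype T.K] (φ : T.C → ℂ) (hφ : ∀ c : T.C, (c : G) ∈ T.K → φ c = 0) :
    ∑ c : T.C, φ c = ∑ x : T.K, φ (T.tx x) := by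
  classical
  rw [← Finset.sum_filter_of_ne (p := fun c : T.C => (c : G) ∉ T.K) fun c _ hc hm => hc (hφ c hm)]
  refine (Finset.sum_bij (fun x _ => T.tx x) (fun x _ => Finset.mem_filter.2
    ⟨Finset.mem_univ _, T.tK_not_mem x.2⟩) (fun x _ y _ e => Subtype.ext
    (mul_left_cancel (congrArg Subtype.val e))) (fun c hc => ?_) fun x _ => rfl).symm
  obtain ⟨x, hx⟩ := (T.exists_tx c).resolve_left (Finset.mem_filter.1 hc).2
  exact ⟨x, Finset.mem_univ _, hx.symm⟩

theorem card_C_K : Nat.card T.C = 2 * Nat.card T.K := by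
  rw [T.card_C, T.kit.card]

/-- The lift doubles inner products. -/
theorem inner_lift [Fintype T.K] {f g : T.K → ℂ} (hf : OddSupp f) (hg : OddSupp g)
    (hgc : IsClassFunction T.K g) :
    classInner (T.lift f) (T.lift g) = 2 * classInner f g := by
  classical
  nth_rw 1 [lift]
  rw [classInner_indFun _ _ _ (T.isClassFunction_lift g)]
  simp only [classInner]
  rw [T.sum_C _ fun c hc => by rw [T.gf_K f hc, zero_mul], T.card_C_K,
    Finset.sum_congr rfl (g := fun x => 4 * (f x * conj (g x))) fun x _ => by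
      rw [T.gf_tK f (x := x) (T.tx_val x)]
      rcases Nat.even_or_odd (orderOf x) with he | ho
      · rw [hf x he]; ring
      · rw [T.tx_val, T.lift_tx hg hgc ho,
          map_mul, map_ofNat]
        ring,
    ← Finset.mul_sum]
  push_cast
  rw [mul_inv]
  ring

/-- The inner product with the trivial character. -/
theorem inner_lift_one [Fintype T.K] (f : T.K → ℂ) :
    classInner (T.lift f) (fun _ => 1) = classInner f (fun _ => 1) := by
  classical
  rw [lift, classInner_indFun _ _ _ (fun _ _ => rfl)]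
  simp only [classInner, map_one, mul_one]
  rw [T.sum_C _ fun c hc => T.gf_K f hc, T.card_C_K,
    Finset.sum_congr rfl fun x _ => T.gf_tK f (x := x) (T.tx_val x), ← Finset.mul_sum]
  push_cast
  rw [mul_inv]
  ring

/-- The value at `t` of a class function. -/
theorem inner_lift_regular {χ : G → ℂ} (hχ : IsClassFunction G χ) :
    classInner χ (T.lift ((Nat.card T.K : ℂ) • oneAt T.K)) = χ T.t := by
  classical
  have hK : (Nat.card T.K : ℂ) ≠ 0 := by exact_mod_cast Nat.card_pos.ne'
  rw [lift, classInner_indFun_right _ _ _ hχ]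
  simp only [classInner]
  rw [T.sum_C _ fun c hc => by rw [T.gf_K _ hc, map_zero, mul_zero], T.card_C_K,
    Finset.sum_eq_single (1 : T.K) (fun x _ hx => by
      rw [T.gf_tK _ (x := x) (T.tx_val x), Pi.smul_apply, oneAt_ne hx, smul_zero, mul_zero, map_zero,
        mul_zero])
      (fun hh => absurd (Finset.mem_univ _) hh),
    T.gf_tK _ (x := 1) (T.tx_val 1), Pi.smul_apply, oneAt_one, smul_eq_mul, mul_one, map_mul,
    map_natCast, map_ofNat, T.tx_val, OneMemClass.coe_one, mul_one]
  push_cast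
  field_simp

/-- The class-algebra functional of a lift. -/
theorem qfun_lift [Fintype T.K] {f : T.K → ℂ} (hf : OddSupp f) :
    qfun T.t (T.lift f) = 4 * (∑ x : T.K, f x * KFrame.invCount x) /
      (Nat.card {x : G // IsConj T.t x} : ℂ) := by
  classical
  have hloc : ∀ c : T.C, T.gf f c ≠ 0 → ∀ y z : G, IsConj T.t y → IsConj T.t z → y * z = (c : G) →
      y ∈ T.C := by
    intro c hc y z hy hz hyz
    rcases T.exists_tx c with h | ⟨x, rfl⟩
    · exact absurd (T.gf_K f h) hc
    rw [T.gf_tK f (x := x) (T.tx_val x)] at hc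
    have hxo : Odd (orderOf (x : G)) := by
      rw [Subgroup.orderOf_coe]
      exact Nat.not_even_iff_odd.1 fun he => hc (by rw [hf x he, mul_zero])
    obtain ⟨a, ha⟩ := isConj_iff.1 hy
    obtain ⟨b, hb⟩ := isConj_iff.1 hz
    have hy2 : y * y = 1 := ha ▸ Invol.invol_mul_self (Invol.invol_conj T.order_t a)
    have hz2 : z * z = 1 := hb ▸ Invol.invol_mul_self (Invol.invol_conj T.order_t b)
    rw [T.tx_val] at hyz
    have hinv : y * (T.t * x) * y⁻¹ = (T.t * (x : G))⁻¹ := by
      rw [← hyz, mul_inv_rev, inv_eq_of_mul_eq_one_right hy2, inv_eq_of_mul_eq_one_right hz2,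
        ← mul_assoc y y z, hy2, one_mul]
    have h1 := congrArg (fun w => w ^ orderOf (x : G)) hinv
    rw [conj_pow, inv_pow, T.pow_tx hxo dvd_rfl, inv_eq_of_mul_eq_one_right T.t_sq] at h1
    exact mem_centralizer_singleton_iff.2 (mul_inv_eq_iff_eq_mul.1 h1)
  obtain ⟨C₀, -, hC₀, hq⟩ := qfun_indFun T.C T.t (T.gf f) hloc
  rw [lift, hq]
  set S := {y : T.C // IsConj T.t (y : G)} with hS
  have hmain : (∑ᶠ p : S × S, T.gf f (p.1.1 * p.2.1)) = 4 * ∑ x : T.K, f x * KFrame.invCount x := by
    rw [finsum_eq_sum_of_fintype, ← Finset.sum_fiberwise Finset.univ (fun p : S × S => p.1.1 * p.2.1),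
      Finset.sum_congr rfl (g := fun c => ((Finset.univ.filter fun p : S × S =>
        p.1.1 * p.2.1 = c).card : ℂ) * T.gf f c) fun c _ => by
        rw [Finset.sum_congr rfl (g := fun _ => T.gf f c) fun p hp => by
          rw [(Finset.mem_filter.1 hp).2], Finset.sum_const, nsmul_eq_mul],
      T.sum_C _ fun c hc => by rw [T.gf_K f hc, mul_zero], Finset.mul_sum]
    refine Finset.sum_congr rfl fun x _ => ?_
    rw [T.gf_tK f (x := x) (T.tx_val x)]
    rcases Nat.even_or_odd (orderOf x) with he | ho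
    · rw [hf x he]; ring
    suffices hc : (Finset.univ.filter fun p : S × S => p.1.1 * p.2.1 = T.tx x).card =
        2 * Nat.card {w : T.K // orderOf w = 2 ∧ w * x * w⁻¹ = x⁻¹} by
      rw [hc]
      simp only [KFrame.invCount]
      push_cast
      ring
    have hconj : ∀ y : G, y * y = 1 → y ≠ 1 → IsConj T.t y := fun y h1 h2 =>
      T.conj y (orderOf_eq_prime (by rw [pow_two, h1]) h2)
    rw [← Fintype.card_subtype, ← Nat.card_eq_fintype_card,
      show 2 * Nat.card {w : T.K // orderOf w = 2 ∧ w * x * w⁻¹ = x⁻¹} =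
        Nat.card ({w : T.K // orderOf w = 2 ∧ w * x * w⁻¹ = x⁻¹} × Bool) by
          rw [Nat.card_prod, Nat.card_eq_fintype_card (α := Bool), Fintype.card_bool, mul_comm]]
    have hzsq : ∀ w : {w : T.K // orderOf w = 2 ∧ w * x * w⁻¹ = x⁻¹},
        (w.1 : G) * w.1 = 1 ∧ ((w.1 : G) * x) * ((w.1 : G) * x) = 1 := by
      intro w
      have h2 : (w.1 : T.K) * w.1 = 1 := Invol.invol_mul_self w.2.1
      have h3 : ((w.1 : T.K) * x) * (w.1 * x) = 1 := by
        calc (w.1 * x) * (w.1 * x) = (w.1 * x * w.1⁻¹) * (w.1 * w.1) * x := by group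
          _ = 1 := by rw [w.2.2, h2, mul_one, inv_mul_cancel]
      exact ⟨congrArg Subtype.val h2, congrArg Subtype.val h3⟩
    have hw1 : ∀ w : {w : T.K // orderOf w = 2 ∧ w * x * w⁻¹ = x⁻¹},
        (w.1 : G) ≠ 1 ∧ (w.1 : G) * x ≠ 1 := by
      intro w
      refine ⟨fun e => Invol.invol_ne_one w.2.1 (Subtype.ext e), fun e => ?_⟩
      have e' : x = w.1⁻¹ := eq_inv_of_mul_eq_one_right (Subtype.ext e : w.1 * x = 1)
      rw [e', orderOf_inv, w.2.1] at ho
      exact absurd ho (by decide)
    have htK : ∀ y : G, y ∈ T.K → Commute y T.t := T.comm_t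
    have hsqt : ∀ y : G, y ∈ T.K → (T.t * y) * (T.t * y) = y * y := fun y hy => by
      calc T.t * y * (T.t * y) = T.t * (y * T.t) * y := by group
        _ = T.t * T.t * y * y := by rw [(htK y hy).eq]; group
        _ = y * y := by rw [T.t_sq, one_mul]
    let Φ : {w : T.K // orderOf w = 2 ∧ w * x * w⁻¹ = x⁻¹} × Bool →
        {p : S × S // p.1.1 * p.2.1 = T.tx x} := fun wb =>
      bif wb.2 then
        ⟨(⟨⟨(wb.1.1 : G), T.K_le_C wb.1.1.2⟩, hconj _ (hzsq wb.1).1 (hw1 wb.1).1⟩,
          ⟨T.tx (wb.1.1 * x), hconj _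
            (by rw [T.tx_val, hsqt _ (wb.1.1 * x).2]; exact (hzsq wb.1).2)
            (fun e => T.tK_not_mem (wb.1.1 * x).2 (by rw [← T.tx_val, e]; exact one_mem _))⟩),
          Subtype.ext (by
            show (wb.1.1 : G) * (T.t * ((wb.1.1 : G) * x)) = T.t * x
            rw [← mul_assoc, (htK _ wb.1.1.2).eq, mul_assoc, ← mul_assoc (wb.1.1 : G), (hzsq wb.1).1,
              one_mul])⟩
      else
        ⟨(⟨T.tx wb.1.1, hconj _ (by rw [T.tx_val, hsqt _ wb.1.1.2]; exact (hzsq wb.1).1)
            (fun e => T.tK_not_mem wb.1.1.2 (by rw [← T.tx_val, e]; exact one_mem _))⟩,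
          ⟨⟨((wb.1.1 * x : T.K) : G), T.K_le_C (wb.1.1 * x).2⟩, hconj _ (hzsq wb.1).2 (hw1 wb.1).2⟩),
          Subtype.ext (by
            show T.t * (wb.1.1 : G) * ((wb.1.1 : G) * x) = T.t * x
            rw [mul_assoc, ← mul_assoc (wb.1.1 : G), (hzsq wb.1).1, one_mul])⟩
    refine (Nat.card_congr (Equiv.ofBijective Φ ⟨?_, ?_⟩)).symm
    · rintro ⟨w, b⟩ ⟨w', b'⟩ e
      have e' : (((Φ (w, b)).1.1.1 : T.C) : G) = (((Φ (w', b')).1.1.1 : T.C) : G) := by rw [e]
      cases b <;> cases b' <;> simp only [Φ, cond_true, cond_false, tx_val] at e'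
      · exact Prod.ext (Subtype.ext (Subtype.ext (mul_left_cancel e'))) rfl
      · exact absurd (e' ▸ w'.1.2) (T.tK_not_mem w.1.2)
      · exact absurd (e'.symm ▸ w.1.2) (T.tK_not_mem w'.1.2)
      · exact Prod.ext (Subtype.ext (Subtype.ext e')) rfl
    · rintro ⟨⟨⟨y, hy⟩, ⟨z, hz⟩⟩, hp⟩
      have hyz : (y : G) * z = T.t * x := congrArg Subtype.val hp
      obtain ⟨a, ha⟩ := isConj_iff.1 hy
      obtain ⟨b, hb⟩ := isConj_iff.1 hz
      have hy2 : (y : G) * y = 1 := ha ▸ Invol.invol_mul_self (Invol.invol_conj T.order_t a)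
      have hz2 : (z : G) * z = 1 := hb ▸ Invol.invol_mul_self (Invol.invol_conj T.order_t b)
      have hy1 : (y : G) ≠ 1 := ha ▸ Invol.invol_ne_one (Invol.invol_conj T.order_t a)
      have hzy : (z : G) = y * (T.t * x) := by rw [← hyz, ← mul_assoc, hy2, one_mul]
      have key : ∀ w : T.K, (w : G) * w = 1 → w ≠ 1 → ((w : G) * x) * ((w : G) * x) = 1 →
          orderOf w = 2 ∧ w * x * w⁻¹ = x⁻¹ := by
        intro w h1 h2 h3
        have h1' : w * w = 1 := Subtype.ext h1
        refine ⟨orderOf_eq_prime (by rw [pow_two, h1']) h2, eq_inv_of_mul_eq_one_left ?_⟩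
        rw [inv_eq_of_mul_eq_one_right h1', mul_assoc]
        exact Subtype.ext h3
      rcases T.exists_tx y with h | ⟨w, hw⟩
      · refine ⟨(⟨⟨(y : G), h⟩, key _ hy2 (fun e => hy1 (congrArg Subtype.val e)) ?_⟩, true), ?_⟩
        · have : (z : G) = T.t * ((y : G) * x) := by rw [hzy, ← mul_assoc, (htK _ h).eq, mul_assoc]
          rw [this, hsqt _ (mul_mem h x.2)] at hz2
          exact hz2
        · refine Subtype.ext (Prod.ext (Subtype.ext (Subtype.ext rfl)) (Subtype.ext (Subtype.ext ?_)))
          show T.t * ((y : G) * x) = z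
          rw [hzy, ← mul_assoc (y : G), (htK _ h).eq, mul_assoc]
      · have hyv : (y : G) = T.t * w := congrArg Subtype.val hw
        have hzw : (z : G) = w * x := by
          calc (z : G) = T.t * ((w : G) * T.t) * x := by rw [hzy, hyv]; group
            _ = (w : G) * x := by rw [(htK _ w.2).eq, ← mul_assoc T.t, T.t_sq, one_mul]
        have hw2 : (w : G) * w = 1 := by rw [← hsqt _ w.2, ← hyv, hy2]
        have hwne : w ≠ 1 := by
          rintro rfl
          rw [OneMemClass.coe_one, one_mul] at hzw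
          have hxo : orderOf (x : G) ∣ 2 := orderOf_dvd_of_pow_eq_one (by rw [pow_two, ← hzw, hz2])
          rw [Subgroup.orderOf_coe] at hxo
          have hx1 : (x : G) = 1 := by
            rw [orderOf_eq_one_iff.1 (Nat.eq_one_of_dvd_coprimes (Nat.coprime_two_left.2 ho) hxo
              dvd_rfl), OneMemClass.coe_one]
          exact Invol.invol_ne_one (Invol.invol_conj T.order_t b) (by rw [hb, hzw, hx1])
        refine ⟨(⟨w, key _ hw2 hwne (by rw [← hzw, hz2])⟩, false), ?_⟩
        exact Subtype.ext (Prod.ext (Subtype.ext (Subtype.ext hyv.symm))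
          (Subtype.ext (Subtype.ext hzw.symm)))
  rw [hmain, hC₀, div_mul_eq_mul_div, ← card_isConj_mul T.t]
  have hI : (Nat.card {x : G // IsConj T.t x} : ℂ) ≠ 0 := by
    have : Nonempty {x : G // IsConj T.t x} := ⟨⟨T.t, IsConj.refl _⟩⟩
    exact_mod_cast Nat.card_pos.ne'
  have hC : (Nat.card T.C : ℂ) ≠ 0 := by exact_mod_cast Nat.card_pos.ne'
  push_cast
  field_simp

end Setup

end CfsgLib.ReeType
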