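import Cfsg.Agent.Lib.Ree.KFrame
import Cfsg.Agent.Lib.Char.CyclicTIBasic

/-!
# Induction from the abelian subgroups of `PSL(2, q)`: generalities
-/

set_option autoImplicit false
set_option linter.unusedSectionVars false

namespace CfsgLib.ReeType

open scoped ComplexConjugate
open Subgroup Cfsg CfsgLib.Char

universe u

variable {K : Type u} [Group K] [Fintype K]

/-- The indicator of the identity. -/
noncomputable def oneAt (K : Type*) [Group K] : K → ℂ := by
  classical exact fun x => if x = 1 then 1 else 0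

theorem oneAt_one (K : Type*) [Group K] : oneAt K 1 = 1 := by simp [oneAt]

theorem oneAt_ne {K : Type*} [Group K] {x : K} (hx : x ≠ 1) : oneAt K x = 0 := by simp [oneAt, hx]

theorem classInner_lc_oneAt (Y : Subgroup K) [Fintype Y] (θ : Y →* ℂˣ) :
    classInner (lc θ) (oneAt Y) = (Nat.card Y : ℂ)⁻¹ := by
  simp only [classInner]
  rw [Finset.sum_eq_single (1 : Y) (fun y _ hy => by rw [oneAt_ne hy, map_zero, mul_zero])
    (fun hh => absurd (Finset.mem_univ _) hh), oneAt_one, lc_apply, map_one, map_one, Units.val_one,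
    one_mul, mul_one]

theorem classInner_lc' (Y : Subgroup K) [Fintype Y] (θ θ' : Y →* ℂˣ) :
    classInner (lc θ) (lc θ') = (by classical exact if θ = θ' then 1 else 0 : ℂ) := by
  classical
  exact classInner_lc θ θ'

theorem sum_lc (Y : Subgroup K) [Fintype Y] {θ : Y →* ℂˣ} (hθ : θ ≠ 1) : ∑ y : Y, lc θ y = 0 := by
  classical
  have h := classInner_lc θ 1
  rw [if_neg hθ] at h
  simp only [classInner, lc_apply, MonoidHom.one_apply, Units.val_one, map_one, mul_one] at h
  exact (mul_eq_zero.1 h).resolve_left (inv_ne_zero (by exact_mod_cast Nat.card_pos.ne'))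

/-- A subgroup whose order the order of `x` does not divide does not contribute at `x`. -/
theorem indFun_eq_zero (Y : Subgroup K) (f : Y → ℂ) {x : K}
    (hx : ¬ orderOf x ∣ Nat.card Y) : indFun Y f x = 0 := by
  rw [indFun, Finset.sum_eq_zero, mul_zero]
  intro k _
  refine extendByZero_not_mem Y f fun hk => hx ?_
  have := Subgroup.orderOf_dvd_natCard Y hk
  rwa [show k⁻¹ * x * k = MulAut.conj k⁻¹ x by simp, MulEquiv.orderOf_eq] at this

/-- The value of an induced linear character on its torus. -/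
theorem indFun_torus {Y H D : Subgroup K} (T : Torus Y H D) (θ : Y →* ℂˣ) {x : K} (hx : x ∈ Y)
    (hx1 : x ≠ 1) : indFun Y (lc θ) x =
      (Nat.card H : ℂ) / (Nat.card Y : ℂ) * (lc θ ⟨x, hx⟩ + lc θ⁻¹ ⟨x, hx⟩) := by
  classical
  have hterm : ∀ k : K, extendByZero Y (lc θ) (k⁻¹ * x * k) =
      (if k ∈ H then lc θ ⟨x, hx⟩ else 0) + (if k ∈ D ∧ k ∉ H then lc θ⁻¹ ⟨x, hx⟩ else 0) := by
    intro k
    by_cases hH : k ∈ H
    · have e : k⁻¹ * x * k = x := by
        rw [mul_assoc, ← (T.cent x hx hx1 k).2 hH, inv_mul_cancel_left]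
      rw [e, extendByZero_mem Y _ hx, if_pos hH, if_neg (fun h => h.2 hH), add_zero]
    rw [if_neg hH, zero_add]
    by_cases hD : k ∈ D
    · have e : k⁻¹ * x * k = x⁻¹ := by
        have := T.inv k⁻¹ (inv_mem hD) (fun h => hH (by simpa using inv_mem h)) x hx
        rwa [inv_inv] at this
      rw [e, extendByZero_mem Y _ (inv_mem hx), if_pos ⟨hD, hH⟩, lc_apply, lc_apply,
        MonoidHom.inv_apply, ← map_inv]
      rfl
    · rw [if_neg (fun h => hD h.1), extendByZero_not_mem Y _ fun h => hD ?_]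
      have := T.fusion x hx hx1 k⁻¹ (by rwa [inv_inv])
      simpa using inv_mem this
  rw [indFun, Finset.sum_congr rfl (fun k _ => hterm k), Finset.sum_add_distrib, 
    ← Finset.sum_filter, ← Finset.sum_filter, Finset.sum_const, Finset.sum_const, nsmul_eq_mul,
    nsmul_eq_mul]
  have h1 : (Finset.univ.filter fun k => k ∈ H).card = Nat.card H := by
    rw [← Fintype.card_subtype, ← Nat.card_eq_fintype_card]
  have h2 : (Finset.univ.filter fun k => k ∈ D ∧ k ∉ H).card = Nat.card H := by
    have h3 := Finset.card_filter_add_card_filter_not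
      (s := Finset.univ.filter fun k => k ∈ D) (fun k => k ∈ H)
    rw [Finset.filter_filter, Finset.filter_filter, ← Fintype.card_subtype (fun k => k ∈ D),
      ← Nat.card_eq_fintype_card, T.card] at h3
    rw [show (Finset.univ.filter fun k => k ∈ D ∧ k ∈ H) = Finset.univ.filter fun k => k ∈ H from
      Finset.filter_congr fun k _ => ⟨fun h => h.2, fun h => ⟨T.sub h, h⟩⟩, h1] at h3
    omega
  rw [h1, h2]
  ring

/-- Induction of the indicator of the identity. -/
theorem indFun_oneAt (Y : Subgroup K) :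
    indFun Y (oneAt Y) = (Y.index : ℂ) • oneAt K := by
  funext x
  rcases eq_or_ne x 1 with rfl | hx
  · rw [indFun_one, oneAt_one, Pi.smul_apply, oneAt_one, smul_eq_mul]
  · rw [Pi.smul_apply, oneAt_ne hx, smul_zero, indFun, Finset.sum_eq_zero, mul_zero]
    intro k _
    by_cases hk : k⁻¹ * x * k ∈ Y
    · rw [extendByZero_mem Y _ hk, oneAt_ne]
      intro e
      have h := congrArg Subtype.val e
      push_cast at h
      exact hx (conj_eq_one_iff.1 (show k⁻¹ * x * k⁻¹⁻¹ = 1 by rw [inv_inv]; exact h))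
    · exact extendByZero_not_mem Y _ hk

/-- The sum of all linear characters of an abelian subgroup. -/
theorem sum_all_lc (Y : Subgroup K) (hc : ∀ a ∈ Y, ∀ b ∈ Y, a * b = b * a) [Fintype (Y →* ℂˣ)] :
    ∑ θ : Y →* ℂˣ, lc θ = (Nat.card Y : ℂ) • oneAt Y := by
  classical
  let _ : CommGroup Y :=
    { (inferInstance : Group Y) with mul_comm := fun a b => Subtype.ext (hc a a.2 b b.2) }
  funext y
  rw [Finset.sum_apply, Pi.smul_apply, smul_eq_mul]
  rcases eq_or_ne y 1 with rfl | hy
  · simp only [oneAt_one, mul_one, lc_apply, map_one, Units.val_one, Finset.sum_const,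
      Finset.card_univ, nsmul_eq_mul]
    rw [← Nat.card_eq_fintype_card, CommGroup.card_monoidHom_of_hasEnoughRootsOfUnity Y ℂ]
  · rw [oneAt_ne hy, mul_zero]
    obtain ⟨θ₀, hθ₀⟩ := CommGroup.exists_apply_ne_one_of_hasEnoughRootsOfUnity Y ℂ hy
    have h1 : (θ₀ y : ℂ) * ∑ θ : Y →* ℂˣ, lc θ y = ∑ θ : Y →* ℂˣ, lc θ y := by
      rw [Finset.mul_sum]
      exact Fintype.sum_bijective _ (Group.mulLeft_bijective θ₀) _ _ fun θ => by
        rw [lc_apply, lc_apply, MonoidHom.mul_apply, Units.val_mul]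
    have h2 : ((θ₀ y : ℂ) - 1) * ∑ θ : Y →* ℂˣ, lc θ y = 0 := by rw [sub_mul, h1, one_mul, sub_self]
    exact (mul_eq_zero.1 h2).resolve_left fun e => hθ₀ (Units.ext (sub_eq_zero.1 e))

end CfsgLib.ReeType
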