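import Cfsg.Agent.Lib.Ree.FamilyEq
import Cfsg.Agent.Lib.Ree.Cusp
import Cfsg.Agent.Lib.Ree.Arith

/-!
# The order of a group of Ree type
-/

set_option autoImplicit false
set_option linter.unusedSectionVars false

namespace CfsgLib.ReeType

open Subgroup Cfsg

universe u

namespace Setup

variable {G : Type u} [Group G] {q m n : ℕ} (T : Setup G q m n)

include T in
theorem invol_eq [Fintype G] :
    (Nat.card {x : G // IsConj T.t x} : ℤ) = (q : ℤ) ^ 2 * ((q : ℤ) ^ 2 - q + 1) := by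
  obtain ⟨k, hk, hq⟩ := T.kit.q_pow
  obtain ⟨d, hdq, h8, heq⟩ := T.exists_equation
  have hm : (q : ℤ) + 1 = 4 * (m : ℤ) := by exact_mod_cast T.kit.hm
  have hn : (q : ℤ) - 1 = 2 * (n : ℤ) := by
    have := T.kit.hn
    omega
  refine invol_count hk (by exact_mod_cast hq) hm hn hdq h8 (T.three_pow_dvd hq) (fun r hr hrm => ?_) heq
  have hr' : (r.natAbs).Prime := Int.prime_iff_natAbs_prime.1 hr
  have hrm' : r.natAbs ∣ m := by exact_mod_cast Int.natAbs_dvd_natAbs.2 hrm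
  have h := Nat.modEq_iff_dvd.1 (T.card_modEq_three hr' hrm')
  have h' : (r.natAbs : ℤ) ∣ (Nat.card {x : G // IsConj T.t x} : ℤ) - 3 := by
    rw [← dvd_neg, neg_sub]; exact_mod_cast h
  exact Int.natAbs_dvd.1 h'

include T in
theorem card_eq [Finite G] : Nat.card G = q ^ 3 * (q ^ 3 + 1) * (q - 1) := by
  let _ := Fintype.ofFinite G
  have hI := T.invol_eq
  have hm : (q : ℤ) + 1 = 4 * (m : ℤ) := by exact_mod_cast T.kit.hm
  have hn : (q : ℤ) = 2 * (n : ℤ) + 1 := by exact_mod_cast T.kit.hn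
  have h := card_isConj_mul T.t
  rw [T.card_C] at h
  have h1 : 1 ≤ q := by have := T.kit.q_ge; omega
  have hz : (Nat.card G : ℤ) = ((q ^ 3 * (q ^ 3 + 1) * (q - 1) : ℕ) : ℤ) := by
    rw [← h]
    push_cast [Nat.cast_sub h1]
    rw [hI]
    linear_combination (-(2 * (q : ℤ) ^ 3 * ((q : ℤ) ^ 2 - q + 1) * n)) * hm -
      (q : ℤ) ^ 3 * ((q : ℤ) ^ 2 - q + 1) * ((q : ℤ) + 1) * hn
  exact_mod_cast hz

end Setup

end CfsgLib.ReeType
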