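import Cfsg.Agent.Lib.Ree.Basic

/-!
# Groups of Ree type: the interface to the scalar element of order three

For a prime `l ≥ 5` dividing `q² - q + 1` a Sylow `l`-subgroup `S` is abelian, it is inverted by an
involution `s`, and an element of order three commuting with `s` acts on `S` as `y ↦ y ^ (q²)`.
-/

set_option autoImplicit false

namespace CfsgLib.ReeType

open Subgroup

universe u

/-- The local data at a Sylow `l`-subgroup `S`, `l` dividing `q² - q + 1`. -/
structure ScalarThree {G : Type u} [Group G] (q : ℕ) (S : Subgroup G) : Prop where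
  comm : ∀ a ∈ S, ∀ b ∈ S, Commute a b
  exponent : ∀ y ∈ S, orderOf y ∣ q ^ 2 - q + 1
  cent : ∀ y ∈ S, y ≠ 1 → centralizer ({y} : Set G) = centralizer (S : Set G)
  comm_cent : ∀ a ∈ centralizer (S : Set G), ∀ b ∈ centralizer (S : Set G), Commute a b
  odd_cent : Odd (Nat.card (centralizer (S : Set G)))
  elts : ∃ s b : G, orderOf s = 2 ∧ orderOf b = 3 ∧ Commute b s ∧
    (∀ c ∈ centralizer (S : Set G), s * c * s⁻¹ = c⁻¹) ∧ ∀ y ∈ S, b * y * b⁻¹ = y ^ q ^ 2

/-- The statement proved in `Lib/Ree/Scalar`. -/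
def ScalarStmt : Prop :=
  ∀ (G : Type u) [Group G] [Finite G] (q m n : ℕ), Setup G q m n → ∀ (l : ℕ), l.Prime → 5 ≤ l →
    l ∣ q ^ 2 - q + 1 → ∀ S : Sylow l G, ScalarThree q (S : Subgroup G)

end CfsgLib.ReeType
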