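import Cfsg.Agent.Lib.Ree.Borel
import Cfsg.Agent.Lib.Ree.ScalarDef

/-!
# Groups of Ree type: the scalar element of order three at a prime of `q² - q + 1`

An `l`-element `y` is conjugate to `y ^ q`, so inverted by an involution `s`; its centralizer is an
abelian group inverted by `s`. The elements of order three of `N(S) ∩ C(s)` generate one subgroup, and
one of its elements is `y ↦ y ^ (q²)`.
-/

set_option autoImplicit false
set_option linter.unusedSectionVars false

namespace CfsgLib.ReeType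

open Subgroup

universe u

attribute [local instance] _root_.Classical.propDecidable

namespace Setup

variable {G : Type u} [Group G] [Finite G] {q m n : ℕ} (T : Setup G q m n)
  {l : ℕ} [hl : Fact l.Prime]

include T in
theorem big_arith (hd : l ∣ q ^ 2 - q + 1) :
    l ≠ 2 ∧ l ≠ 3 ∧ ¬ l ∣ m ∧ ¬ l ∣ n ∧ ¬ l ∣ q ∧ (l : ℤ) ∣ (q : ℤ) ^ 2 - q + 1 := by
  obtain ⟨h2, h3, hc⟩ := T.cube_dvd_iff hl.out (Or.inr hd)
  obtain ⟨hq, hn⟩ := T.not_dvd_of_cube hl.out h2 hc
  have hle := T.q_sq_ge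
  have hz : (l : ℤ) ∣ (q : ℤ) ^ 2 - q + 1 := by
    have := Int.natCast_dvd_natCast.2 hd
    push_cast [Nat.cast_sub hle] at this
    exact this
  refine ⟨h2, h3, fun hm => ?_, hn, hq, hz⟩
  have h1 : (l : ℤ) ∣ (q : ℤ) + 1 := by
    have h' : (l : ℤ) ∣ (m : ℤ) := by exact_mod_cast hm
    rw [show (q : ℤ) + 1 = 4 * m by exact_mod_cast T.kit.hm]
    exact dvd_mul_of_dvd_right h' _
  have h9 : (l : ℤ) ∣ 3 := by
    rw [show (3 : ℤ) = ((q : ℤ) ^ 2 - q + 1) - ((q : ℤ) + 1) * ((q : ℤ) - 2) by ring]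
    exact dvd_sub hz (dvd_mul_of_dvd_left h1 _)
  exact h3 ((Nat.prime_dvd_prime_iff_eq hl.out Nat.prime_three).1 (by exact_mod_cast h9))

include T in
/-- An element of order `l` commutes with no involution. -/
theorem no_invol_mul (hd : l ∣ q ^ 2 - q + 1) {y i : G} (hy : orderOf y = l) (hi : orderOf i = 2) :
    ¬ Commute y i := by
  intro hc
  obtain ⟨h2, h3, hm, hn, -, -⟩ := T.big_arith hd
  obtain ⟨T', rfl⟩ := T.exists_setup hi
  rcases T'.odd_orders hc (by rw [hy]; exact hl.out.odd_of_ne_two h2) with h | h | h <;> rw [hy] at h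
  · exact h3 ((Nat.prime_dvd_prime_iff_eq hl.out Nat.prime_three).1 h)
  · exact hm h
  · exact hn h

include T in
/-- An element of order `l` commutes with no element of prime order dividing `n`. -/
theorem no_n_mul (hd : l ∣ q ^ 2 - q + 1) {r : ℕ} [hr : Fact r.Prime] (hrn : r ∣ n) {y a : G}
    (hy : orderOf y = l) (ha : orderOf a = r) (hc : Commute y a) : False := by
  haveI : Fact (Nat.Prime 3) := ⟨Nat.prime_three⟩
  obtain ⟨h2, h3, hm, hn, hlq, -⟩ := T.big_arith hd
  have hr2 : r ≠ 2 := fun e => T.kit.data.two_not_mo (e ▸ hrn)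
  have hr3 : r ≠ 3 := fun e => T.kit.three_not_n (e ▸ hrn)
  obtain ⟨S, hS⟩ := T.exists_modular_split
  obtain ⟨g, i, hg⟩ := hS r hr.out hrn a ha
  set v := S.η ^ i with hv
  set z := g * y * g⁻¹ with hz
  have hzo : orderOf z = l := by rw [hz, ← MulAut.conj_apply, MulEquiv.orderOf_eq, hy]
  have hvo : orderOf v = r := by rw [← hg, ← MulAut.conj_apply, MulEquiv.orderOf_eq, ha]
  have hzv : Commute z v := hg ▸ hc.map (MulAut.conj g)
  have hηP : S.η ∈ normalizer (S.P : Set G) := mem_normalizer_iff.2 fun x => S.norm x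
  have hcube : ∀ x ∈ S.P, Commute x v → x = 1 := fun x hx hxv =>
    T.fpf_three S.hP hr2 hr3 hvo hx hxv.symm
  have hinter : ∀ x ∈ S.P, ∀ j : ℕ, x = S.η ^ j → x = 1 := by
    intro x hx j hj
    obtain ⟨c, hc⟩ := S.hP ⟨x, hx⟩
    refine orderOf_eq_one_iff.1 (Nat.eq_one_of_dvd_coprimes (Nat.Coprime.pow_left c
      ((Nat.prime_three.coprime_iff_not_dvd).2 fun h => ?_))
      (orderOf_dvd_of_pow_eq_one (congrArg Subtype.val hc)) (hj ▸ (orderOf_pow_dvd j).trans
        (orderOf_dvd_of_pow_eq_one S.η_pow)))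
    rw [show q - 1 = 2 * n by have := T.kit.hn; omega] at h
    exact (Nat.prime_three.dvd_mul.1 h).elim (by norm_num) T.kit.three_not_n
  rcases S.cover z with ⟨x, hx, j, hxj⟩ | ⟨x, hx, w, hw, j, hxj⟩
  · -- `z` in `B`: its order is not prime to the order of `B`
    obtain ⟨c, hcP⟩ : ∃ x' ∈ S.P, z ^ (q - 1) = x' := by
      have key : ∀ e : ℕ, ∃ x' ∈ S.P, (x * S.η ^ j) ^ e = x' * (S.η ^ j) ^ e := by
        intro e
        induction e with
        | zero => exact ⟨1, one_mem _, by simp⟩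
        | succ e ih =>
          obtain ⟨x', hx', he⟩ := ih
          refine ⟨x' * ((S.η ^ j) ^ e * x * ((S.η ^ j) ^ e)⁻¹), mul_mem hx'
            ((mem_normalizer_iff.1 (pow_mem (pow_mem hηP j) e) x).1 hx), ?_⟩
          rw [pow_succ, he, pow_succ]
          group
      obtain ⟨x', hx', he⟩ := key (q - 1)
      refine ⟨x', hx', ?_⟩
      rw [hxj, he, ← pow_mul, mul_comm j, pow_mul, S.η_pow, one_pow, mul_one]
    obtain ⟨c', hc'⟩ := S.hP ⟨c, hcP.1⟩
    have h1 : z ^ ((q - 1) * 3 ^ c') = 1 := by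
      rw [pow_mul, hcP.2]; exact congrArg Subtype.val hc'
    have h4 := orderOf_dvd_of_pow_eq_one h1
    rw [hzo, show q - 1 = 2 * n by have := T.kit.hn; omega] at h4
    rcases hl.out.dvd_mul.1 h4 with h | h
    · rcases hl.out.dvd_mul.1 h with h | h
      · exact h2 ((Nat.prime_dvd_prime_iff_eq hl.out Nat.prime_two).1 h)
      · exact hn h
    · exact h3 ((Nat.prime_dvd_prime_iff_eq hl.out Nat.prime_three).1 (hl.out.dvd_of_dvd_pow h))
  · -- the uniqueness of the form `x u w η^j`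
    have hu' : S.u⁻¹ = S.u := inv_eq_of_mul_eq_one_right S.u_sq
    have huv : S.u * v * S.u = v⁻¹ := by
      conv_lhs => rw [← hu', hu']
      rw [hv, show S.u * S.η ^ i * S.u = S.u * S.η ^ i * S.u⁻¹ by rw [hu'], ← conj_pow, S.u_η, inv_pow]
    have huv' : S.u * v⁻¹ = v * S.u := by
      rw [← huv, ← mul_assoc, ← mul_assoc, S.u_sq, one_mul]
    have hvP : v ∈ normalizer (S.P : Set G) := pow_mem hηP i
    set x' := v * x * v⁻¹ with hx'
    set w' := v⁻¹ * w * v with hw'
    have hx'P : x' ∈ S.P := (mem_normalizer_iff.1 hvP x).1 hx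
    have hw'P : w' ∈ S.P := (mem_normalizer_iff''.1 hvP w).1 hw
    have hvη : Commute v (S.η ^ j) := (Commute.refl S.η).pow_pow i j
    have e1 : v * z = x' * S.u * w' * (v⁻¹ * S.η ^ j) := by
      rw [hxj, hx', hw']
      calc v * (x * S.u * w * S.η ^ j) = v * x * v⁻¹ * (v * S.u) * w * S.η ^ j := by group
        _ = v * x * v⁻¹ * (S.u * v⁻¹) * w * S.η ^ j := by rw [huv']
        _ = _ := by group
    have e2 : z * v = x * S.u * w * (S.η ^ j * v) := by rw [hxj]; group
    have e : x' * S.u * w' * (v⁻¹ * S.η ^ j) = x * S.u * w * (S.η ^ j * v) := by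
      rw [← e1, ← e2, hzv.eq]
    have hin : ∀ a ∈ S.P, ∀ b ∈ zpowers S.η, a * b ∈ S.P ⊔ zpowers S.η := fun a ha b hb =>
      mul_mem (mem_sup_left ha) (mem_sup_right hb)
    have hvz : v ∈ zpowers S.η := pow_mem (mem_zpowers _) i
    have hjz : S.η ^ j ∈ zpowers S.η := pow_mem (mem_zpowers _) j
    have hB : S.u * (x⁻¹ * x') * S.u ∈ S.P ⊔ zpowers S.η := by
      have h1 : S.u * (x⁻¹ * x') * S.u = (w * (S.η ^ j * v)) * (w' * (v⁻¹ * S.η ^ j))⁻¹ := by
        calc S.u * (x⁻¹ * x') * S.u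
            = S.u * x⁻¹ * (x' * S.u * w' * (v⁻¹ * S.η ^ j)) * (w' * (v⁻¹ * S.η ^ j))⁻¹ := by group
          _ = S.u * S.u * ((w * (S.η ^ j * v)) * (w' * (v⁻¹ * S.η ^ j))⁻¹) := by rw [e]; group
          _ = _ := by rw [S.u_sq, one_mul]
      rw [h1]
      exact mul_mem (hin _ hw _ (mul_mem hjz hvz)) (inv_mem (hin _ hw'P _ (mul_mem (inv_mem hvz) hjz)))
    obtain ⟨a, ha, b, hb, hab⟩ := Coprime.mem_sup_exists (zpowers_le.2 hηP) hB
    obtain ⟨k, -, rfl⟩ := (mem_zpowers_iff_mem_range_orderOf).1 hb |> Finset.mem_image.1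
    have hx1 : x⁻¹ * x' = 1 := S.free _ (mul_mem (inv_mem hx) hx'P) ⟨a, ha, k, hab.symm⟩
    have hxx : x' = x := (inv_mul_eq_one.1 hx1).symm
    rw [hxx] at e
    have e' : w' * (v⁻¹ * S.η ^ j) = w * (S.η ^ j * v) := by
      refine mul_left_cancel (a := x * S.u) ?_
      calc x * S.u * (w' * (v⁻¹ * S.η ^ j)) = x * S.u * w' * (v⁻¹ * S.η ^ j) := (mul_assoc _ _ _).symm
        _ = x * S.u * w * (S.η ^ j * v) := e
        _ = x * S.u * (w * (S.η ^ j * v)) := mul_assoc _ _ _
    have h5 : w⁻¹ * w' = v * v := by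
      calc w⁻¹ * w' = w⁻¹ * (w' * (v⁻¹ * S.η ^ j)) * (v⁻¹ * S.η ^ j)⁻¹ := by group
        _ = w⁻¹ * (w * (S.η ^ j * v)) * (v⁻¹ * S.η ^ j)⁻¹ := by rw [e']
        _ = S.η ^ j * (v * (S.η ^ j)⁻¹) * v := by group
        _ = v * v := by rw [hvη.inv_right.eq, ← mul_assoc, mul_inv_cancel, one_mul]
    have h6 : w⁻¹ * w' = 1 := hinter _ (mul_mem (inv_mem hw) hw'P) (i + i) (by rw [h5, hv, pow_add])
    have hvv : v ^ 2 = 1 := by rw [pow_two, ← h5, h6]
    have := orderOf_dvd_of_pow_eq_one hvv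
    rw [hvo] at this
    exact hr2 ((Nat.prime_dvd_prime_iff_eq hr.out Nat.prime_two).1 this)

include T in
/-- An element of odd order commuting with an involution and an element of order `l` is trivial. -/
theorem eq_one_of_commute_big (hd : l ∣ q ^ 2 - q + 1) {y c i : G} (hy : orderOf y = l)
    (hc : Odd (orderOf c)) (hcy : Commute c y) (hi : orderOf i = 2) (hci : Commute c i) : c = 1 := by
  obtain ⟨h2, h3, hm, hn, -, -⟩ := T.big_arith hd
  by_contra hc1
  obtain ⟨r, hr, hrd⟩ := Nat.exists_prime_and_dvd (mt orderOf_eq_one_iff.1 hc1)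
  haveI := Fact.mk hr
  set a := c ^ (orderOf c / r) with ha
  have hao : orderOf a = r := orderOf_pow_orderOf_div (orderOf_pos c).ne' hrd
  have hay : Commute a y := hcy.pow_left _
  have hai : Commute a i := hci.pow_left _
  have hr2 : r ≠ 2 := fun e => Nat.not_even_iff_odd.2 hc (even_iff_two_dvd.2 (e ▸ hrd))
  obtain ⟨T', rfl⟩ := T.exists_setup hi
  rcases T'.odd_orders hai (by rw [hao]; exact hr.odd_of_ne_two hr2) with h | h | h
  · have h' : r = 3 := (Nat.prime_dvd_prime_iff_eq hr Nat.prime_three).1 (hao ▸ h)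
    exact T'.no_three_mul h2 h3 (hao.trans h') hy hay
  · have ha1 : a ≠ 1 := fun e => hr.one_lt.ne' (by rw [← hao, e, orderOf_one])
    exact hm (hy ▸ T'.orderOf_dvd_m_of_commute T'.order_t hai ha1 h
      (by rw [hy]; exact hl.out.odd_of_ne_two h2) hay.symm)
  · exact T'.no_n_mul hd (hao ▸ h) hy hao hay.symm

include T in
/-- Conjugation to the powers `q ^ i`. -/
theorem isConj_pow_q {y : G} (hy : ¬ 3 ∣ orderOf y) (i : ℕ) : IsConj y (y ^ q ^ i) := by
  haveI : Fact (Nat.Prime 3) := ⟨Nat.prime_three⟩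
  obtain ⟨S, -⟩ := T.exists_modular_split
  induction i with
  | zero => rw [pow_zero, pow_one]
  | succ i ih =>
    have h : IsConj y (y ^ q) :=
      Modular.isConj_pow S ((Nat.prime_three.coprime_iff_not_dvd.2 hy).symm)
    obtain ⟨c, hc⟩ := isConj_iff.1 ih
    refine h.trans (isConj_iff.2 ⟨c, ?_⟩)
    rw [← conj_pow, hc, ← pow_mul, ← pow_succ]

include T in
/-- **The scalar element of order three.** -/
theorem scalar_three (hd : l ∣ q ^ 2 - q + 1) (S : Sylow l G) :
    ScalarThree q (S : Subgroup G) := by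
  haveI : Fact (Nat.Prime 2) := ⟨Nat.prime_two⟩
  haveI : Fact (Nat.Prime 3) := ⟨Nat.prime_three⟩
  obtain ⟨h2, h3, hm, hn, hlq, hlz⟩ := T.big_arith hd
  have hlp := hl.out
  have hle := T.q_sq_ge
  have hpow : ∀ {y : G}, y ∈ (S : Subgroup G) → ∃ j : ℕ, orderOf y = l ^ j := fun {y} hy => by
    obtain ⟨k, hk⟩ := S.2 ⟨y, hy⟩
    obtain ⟨j, -, hj⟩ := (Nat.dvd_prime_pow hlp).1
      (orderOf_dvd_of_pow_eq_one (congrArg Subtype.val hk) : orderOf y ∣ l ^ k)
    exact ⟨j, hj⟩
  have hexp : ∀ y ∈ (S : Subgroup G), orderOf y ∣ q ^ 2 - q + 1 := by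
    intro y hy
    obtain ⟨j, hj⟩ := hpow hy
    have h1 : orderOf y ∣ Nat.card G := orderOf_dvd_natCard y
    rw [T.card_split, hj, show q ^ 3 * ((q ^ 2 - q + 1) * (4 * m)) * (2 * n) =
      (q ^ 2 - q + 1) * (q ^ 3 * (4 * m) * (2 * n)) by ring] at h1
    refine hj ▸ (Nat.Coprime.pow_left j ((hlp.coprime_iff_not_dvd).2 ?_)).dvd_of_dvd_mul_right h1
    exact hlp.not_dvd_mul (hlp.not_dvd_mul (fun h => hlq (hlp.dvd_of_dvd_pow h))
      (hlp.not_dvd_mul (fun h => h2 ((Nat.prime_dvd_prime_iff_eq hlp Nat.prime_two).1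
        (hlp.dvd_of_dvd_pow (n := 2) (by norm_num; exact h)))) hm))
      (hlp.not_dvd_mul (fun h => h2 ((Nat.prime_dvd_prime_iff_eq hlp Nat.prime_two).1 h)) hn)
  have hroot : ∀ {y : G}, y ∈ (S : Subgroup G) → y ≠ 1 → ∃ z ∈ zpowers y, orderOf z = l :=
    fun {y} hy hy1 => by
    obtain ⟨j, hj⟩ := hpow hy
    rcases j with - | j
    · exact absurd (orderOf_eq_one_iff.1 (by simpa using hj)) hy1
    · exact ⟨y ^ (orderOf y / l), pow_mem (mem_zpowers y) _,
        orderOf_pow_orderOf_div (orderOf_pos y).ne' (hj ▸ dvd_pow_self l (Nat.succ_ne_zero j))⟩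
  have hcomm_root : ∀ {y z c : G}, z ∈ zpowers y → Commute c y → Commute c z := fun hz hc => by
    obtain ⟨i, rfl⟩ := mem_zpowers_iff.1 hz
    exact hc.zpow_right i
  have hnoinv : ∀ {y : G}, y ∈ (S : Subgroup G) → y ≠ 1 → ∀ i : G, orderOf i = 2 → ¬ Commute y i :=
    fun {y} hy hy1 i hi hc => by
    obtain ⟨z, hz, hzo⟩ := hroot hy hy1
    exact T.no_invol_mul hd hzo hi (hcomm_root hz hc.symm).symm
  have hodd : ∀ {y : G}, y ∈ (S : Subgroup G) → y ≠ 1 →
      Odd (Nat.card (centralizer ({y} : Set G))) := fun {y} hy hy1 => by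
    rw [← Nat.not_even_iff_odd, even_iff_two_dvd]
    intro h
    obtain ⟨c, hc⟩ := exists_prime_orderOf_dvd_card' (G := centralizer ({y} : Set G)) 2 h
    exact hnoinv hy hy1 (c : G) (by rw [Subgroup.orderOf_coe, hc])
      (show Commute (c : G) y from mem_centralizer_singleton_iff.1 c.2).symm
  have hfpf : ∀ {y c i : G}, y ∈ (S : Subgroup G) → y ≠ 1 → Commute c y → orderOf i = 2 →
      Commute c i → c = 1 := fun {y c i} hy hy1 hcy hi hci => by
    obtain ⟨z, hz, hzo⟩ := hroot hy hy1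
    exact T.eq_one_of_commute_big hd hzo ((hodd hy hy1).of_dvd_nat
      (Subgroup.orderOf_dvd_natCard _ (mem_centralizer_singleton_iff.2 hcy.eq)))
      (hcomm_root hz hcy) hi hci
  have hthree : ∀ {y : G}, y ∈ (S : Subgroup G) → ¬ 3 ∣ orderOf y := fun {y} hy h => by
    obtain ⟨j, hj⟩ := hpow hy
    exact h3 ((Nat.prime_dvd_prime_iff_eq Nat.prime_three hlp).1
      (Nat.prime_three.dvd_of_dvd_pow (hj ▸ h))).symm
  have hord : ∀ {y : G}, y ∈ (S : Subgroup G) → (orderOf y : ℤ) ∣ (q : ℤ) ^ 2 - q + 1 := fun {y} hy => by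
    have := Int.natCast_dvd_natCast.2 (hexp y hy)
    push_cast [Nat.cast_sub hle] at this
    exact this
  -- every nontrivial element is inverted by an involution, its centralizer is abelian
  have hinv : ∀ {y : G}, y ∈ (S : Subgroup G) → y ≠ 1 → ∃ s : G, orderOf s = 2 ∧ s * y * s⁻¹ = y⁻¹ ∧
      ∀ c ∈ centralizer ({y} : Set G), s * c * s⁻¹ = c⁻¹ := by
    intro y hy hy1
    have h1 : y ^ q ^ 3 = y⁻¹ := by
      refine eq_inv_of_mul_eq_one_left ?_
      rw [← pow_succ, ← orderOf_dvd_iff_pow_eq_one]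
      have : (orderOf y : ℤ) ∣ (q : ℤ) ^ 3 + 1 := by
        rw [show (q : ℤ) ^ 3 + 1 = ((q : ℤ) ^ 2 - q + 1) * ((q : ℤ) + 1) by ring]
        exact dvd_mul_of_dvd_left (hord hy) _
      exact_mod_cast this
    obtain ⟨g, hg⟩ := isConj_iff.1 (T.isConj_pow_q (hthree hy) 3)
    rw [h1] at hg
    have hg2 : Commute (g * g) y := by
      refine mul_inv_eq_iff_eq_mul.1 ?_
      calc g * g * y * (g * g)⁻¹ = g * (g * y * g⁻¹) * g⁻¹ := by group
        _ = (g * y * g⁻¹)⁻¹ := by nth_rw 1 [hg]; group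
        _ = y := by rw [hg, inv_inv]
    have heven : ¬ Odd (orderOf g) := fun ho => by
      have hc := commute_of_odd ho hg2
      rw [hc.eq, mul_inv_cancel_right] at hg
      have h4 : y ^ 2 = 1 := by rw [pow_two]; nth_rw 2 [hg]; exact mul_inv_cancel _
      obtain ⟨j, hj⟩ := hpow hy
      exact hy1 (orderOf_eq_one_iff.1 (Nat.eq_one_of_dvd_coprimes
        (((Nat.coprime_primes hlp Nat.prime_two).2 h2).pow_left j) (dvd_of_eq hj)
        (orderOf_dvd_of_pow_eq_one h4)))
    obtain ⟨o, ho⟩ := (Nat.not_odd_iff_even.1 heven).two_dvd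
    have hoo : Odd o := by
      rw [← Nat.not_even_iff_odd, even_iff_two_dvd]
      rintro ⟨c, rfl⟩
      exact T.not_four_dvd g ⟨c, by rw [ho]; ring⟩
    have hso : orderOf (g ^ o) = 2 := by
      have h := orderOf_pow_orderOf_div (x := g) (n := 2) (orderOf_pos g).ne' (ho ▸ dvd_mul_right 2 o)
      rwa [ho, Nat.mul_div_cancel_left _ two_pos] at h
    have hsy : g ^ o * y * (g ^ o)⁻¹ = y⁻¹ := by
      obtain ⟨c, rfl⟩ := hoo
      rw [pow_succ', pow_mul, pow_two]
      have hp : Commute ((g * g) ^ c) y := hg2.pow_left c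
      calc g * (g * g) ^ c * y * (g * (g * g) ^ c)⁻¹
          = g * ((g * g) ^ c * y) * ((g * g) ^ c)⁻¹ * g⁻¹ := by group
        _ = y⁻¹ := by rw [hp.eq, ← hg]; group
    refine ⟨g ^ o, hso, hsy, inverts_of_fpf (Invol.invol_mul_self hso) (fun c hc => ?_) fun c hc h => ?_⟩
    · rw [mem_centralizer_singleton_iff]
      have h5 : Commute (g ^ o * c * (g ^ o)⁻¹) (g ^ o * y * (g ^ o)⁻¹) :=
        (show Commute c y from mem_centralizer_singleton_iff.1 hc).map (MulAut.conj (g ^ o))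
      rw [hsy] at h5
      exact (Commute.inv_right_iff.1 h5).eq
    · exact hfpf hy hy1 (mem_centralizer_singleton_iff.1 hc) hso h.symm
  have hab : ∀ {y : G}, y ∈ (S : Subgroup G) → y ≠ 1 →
      ∀ a ∈ centralizer ({y} : Set G), ∀ b ∈ centralizer ({y} : Set G), Commute a b := by
    intro y hy hy1
    obtain ⟨s, -, -, h⟩ := hinv hy hy1
    exact comm_of_inverted h
  have hS1 : Nontrivial (S : Subgroup G) := by
    rw [← Finite.one_lt_card_iff_nontrivial]
    refine lt_of_lt_of_le hlp.one_lt (Nat.le_of_dvd Nat.card_pos ?_)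
    exact S.dvd_card_of_dvd_card (hd.trans (by
      rw [T.card_split]
      exact dvd_mul_of_dvd_left (dvd_mul_of_dvd_right (dvd_mul_right _ _) _) _))
  have hcomm : ∀ a ∈ (S : Subgroup G), ∀ b ∈ (S : Subgroup G), Commute a b := by
    obtain ⟨z, hz⟩ := @exists_ne _ (IsPGroup.center_nontrivial S.2) (1 : center (S : Subgroup G))
    have hz1 : ((z : (S : Subgroup G)) : G) ≠ 1 := fun e => hz (Subtype.ext (Subtype.ext e))
    have hin : ∀ a ∈ (S : Subgroup G), a ∈ centralizer ({((z : (S : Subgroup G)) : G)} : Set G) :=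
      fun a ha => mem_centralizer_singleton_iff.2
        (congrArg Subtype.val (Subgroup.mem_center_iff.1 z.2 ⟨a, ha⟩))
    exact fun a ha b hb => hab (z : (S : Subgroup G)).2 hz1 a (hin a ha) b (hin b hb)
  have hcent : ∀ y ∈ (S : Subgroup G), y ≠ 1 →
      centralizer ({y} : Set G) = centralizer ((S : Subgroup G) : Set G) := by
    intro y hy hy1
    refine le_antisymm (fun c hc => ?_) (centralizer_le (Set.singleton_subset_iff.2 hy))
    rw [mem_centralizer_iff]
    exact fun a ha => (hab hy hy1 a (mem_centralizer_singleton_iff.2 (hcomm a ha y hy).eq) c hc).eq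
  obtain ⟨⟨y₀, hy₀⟩, hy₀'⟩ := @exists_ne _ hS1 (1 : (S : Subgroup G))
  have hy₀1 : y₀ ≠ 1 := fun e => hy₀' (Subtype.ext e)
  obtain ⟨s, hso, -, hs⟩ := hinv hy₀ hy₀1
  set C := centralizer ((S : Subgroup G) : Set G) with hC
  have hCy : centralizer ({y₀} : Set G) = C := hcent y₀ hy₀ hy₀1
  have hCodd : Odd (Nat.card C) := hCy ▸ hodd hy₀ hy₀1
  have hCcomm : ∀ a ∈ C, ∀ b ∈ C, Commute a b := hCy ▸ hab hy₀ hy₀1
  have hsC : ∀ c ∈ C, s * c * s⁻¹ = c⁻¹ := hCy ▸ hs
  have hSC : (S : Subgroup G) ≤ C := fun a ha => mem_centralizer_iff.2 fun b hb => (hcomm b hb a ha).eq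
  -- an element of order three with the action of `q²` at each point
  have hb : ∀ y ∈ (S : Subgroup G), y ≠ 1 → ∃ b : G, orderOf b = 3 ∧ Commute b s ∧
      b ∈ normalizer ((S : Subgroup G) : Set G) ∧ b * y * b⁻¹ = y ^ q ^ 2 := by
    intro y hy hy1
    obtain ⟨g, hg⟩ := isConj_iff.1 (T.isConj_pow_q (hthree hy) 1)
    rw [pow_one] at hg
    have hyq : y ^ q ∈ (S : Subgroup G) := pow_mem hy q
    have hyq1 : y ^ q ≠ 1 := fun e => hy1 (conj_eq_one_iff.1 (hg.trans e))
    have hgC : ∀ a ∈ (S : Subgroup G), g * a * g⁻¹ ∈ C := fun a ha => by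
      rw [← hcent _ hyq hyq1, mem_centralizer_singleton_iff, ← hg]
      exact ((hcomm a ha y hy).map (MulAut.conj g)).eq
    have hgN : g ∈ normalizer ((S : Subgroup G) : Set G) := by
      set S' := (S : Subgroup G).map (MulAut.conj g).toMonoidHom with hS'
      have hS'C : S' ≤ C := by
        rintro _ ⟨a, ha, rfl⟩
        exact hgC a ha
      have hn' : S' ≤ normalizer ((S : Subgroup G) : Set G) :=
        hS'C.trans (centralizer_le_normalizer _)
      have hJ : IsPGroup l ((S : Subgroup G) ⊔ S' : Subgroup G) :=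
        S.2.to_sup_of_normal_left' (S.2.map _) hn'
      have heq : S' = (S : Subgroup G) := by
        refine eq_of_le_of_card_ge ?_ (card_map_of_injective (K := (S : Subgroup G)) (MulAut.conj g).injective).ge
        exact le_sup_right.trans (S.3 hJ le_sup_left).le
      exact mem_normalizer_iff_map_conj_eq.2 heq
    have hgNC : g ∈ normalizer (C : Set G) := by
      rw [hC]
      exact Coprime.normalizer_le_normalizer_centralizer _ hgN
    -- the conjugate of `s`
    set s' := g * s * g⁻¹ with hs'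
    have hs'o : orderOf s' = 2 := Invol.invol_conj hso g
    have hs'C : ∀ c ∈ C, s' * c * s'⁻¹ = c⁻¹ := by
      intro c hc
      have hc' : g⁻¹ * c * g ∈ C := (mem_normalizer_iff''.1 hgNC c).1 hc
      calc s' * c * s'⁻¹ = g * (s * (g⁻¹ * c * g) * s⁻¹) * g⁻¹ := by rw [hs']; group
        _ = c⁻¹ := by rw [hsC _ hc']; group
    have hmem : s' * s ∈ C := by
      rw [hC, mem_centralizer_iff]
      intro a ha
      refine (mul_inv_eq_iff_eq_mul.1 ?_).symm
      calc s' * s * a * (s' * s)⁻¹ = s' * (s * a * s⁻¹) * s'⁻¹ := by group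
        _ = a := by rw [hsC a (hSC ha), hs'C _ (inv_mem (hSC ha)), inv_inv]
    obtain ⟨k, hk, hks⟩ := conj_of_odd_prod (Invol.invol_mul_self hs'o) (Invol.invol_mul_self hso)
      (hCodd.of_dvd_nat (Subgroup.orderOf_dvd_natCard C hmem))
    have hkC : k ∈ C := zpowers_le.2 hmem hk
    have hg1 : k * g * y * (k * g)⁻¹ = y ^ q := by
      calc k * g * y * (k * g)⁻¹ = k * (g * y * g⁻¹) * k⁻¹ := by group
        _ = y ^ q := by
            rw [hg, ← (mem_centralizer_iff.1 (hC ▸ hkC) _ hyq), mul_inv_cancel_right]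
    have hg1s : Commute (k * g) s := by
      refine mul_inv_eq_iff_eq_mul.1 ?_
      calc k * g * s * (k * g)⁻¹ = k * (g * s * g⁻¹) * k⁻¹ := by group
        _ = s := hks
    set b := k * g * (k * g) with hbdef
    have hby : b * y * b⁻¹ = y ^ q ^ 2 := by
      calc b * y * b⁻¹ = k * g * (k * g * y * (k * g)⁻¹) * (k * g)⁻¹ := by rw [hbdef]; group
        _ = y ^ q ^ 2 := by rw [hg1, ← conj_pow, hg1, ← pow_mul, pow_two]
    have hb3y : Commute (b ^ 3) y := by
      refine mul_inv_eq_iff_eq_mul.1 ?_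
      have key : ∀ z : G, z ∈ zpowers y → b * z * b⁻¹ = z ^ q ^ 2 := by
        intro z hz
        obtain ⟨i, rfl⟩ := mem_zpowers_iff.1 hz
        rw [← conj_zpow, hby, ← zpow_natCast, ← zpow_natCast, ← zpow_mul, ← zpow_mul, mul_comm]
      have e1 := key _ (pow_mem (mem_zpowers y) (q ^ 2))
      have e2 := key _ (pow_mem (mem_zpowers y) (q ^ 2 * q ^ 2))
      calc b ^ 3 * y * (b ^ 3)⁻¹ = b * (b * (b * y * b⁻¹) * b⁻¹) * b⁻¹ := by
            simp only [pow_succ, pow_zero, one_mul, mul_inv_rev, mul_assoc]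
        _ = y ^ (q ^ 2 * q ^ 2 * q ^ 2) := by
            rw [hby, e1, ← pow_mul, e2, ← pow_mul]
        _ = y := by
            have h6 : (orderOf y : ℤ) ∣ ((q ^ 2 * q ^ 2 * q ^ 2 : ℕ) : ℤ) - 1 := by
              push_cast
              rw [show (q : ℤ) ^ 2 * (q : ℤ) ^ 2 * (q : ℤ) ^ 2 - 1 =
                ((q : ℤ) ^ 2 - q + 1) * (((q : ℤ) + 1) * ((q : ℤ) ^ 3 - 1)) by ring]
              exact dvd_mul_of_dvd_left (hord hy) _
            conv_rhs => rw [← pow_one y]
            exact pow_eq_pow_iff_modEq.2 (Nat.modEq_iff_dvd.2 (by push_cast at h6 ⊢; rw [← dvd_neg, neg_sub]; exact h6))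
    refine ⟨b, orderOf_eq_prime (hfpf hy hy1 hb3y hso ((hg1s.mul_left hg1s).pow_left 3)) fun e => ?_,
      hg1s.mul_left hg1s, ?_, hby⟩
    · rw [e, one_mul, inv_one, mul_one] at hby
      obtain ⟨z, hz, hzo⟩ := hroot hy hy1
      obtain ⟨i, rfl⟩ := mem_zpowers_iff.1 hz
      have h7 : (y ^ i) ^ q ^ 2 = (y ^ i) ^ 1 := by
        rw [← zpow_natCast, ← zpow_mul, mul_comm, zpow_mul, zpow_natCast, ← hby, pow_one]
      have h8 : (l : ℤ) ∣ ((1 : ℕ) : ℤ) - ((q ^ 2 : ℕ) : ℤ) := by
        have := Nat.modEq_iff_dvd.1 (pow_eq_pow_iff_modEq.1 h7)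
        rwa [hzo] at this
      push_cast at h8
      have h9 : (l : ℤ) ∣ ((q : ℤ) - 2) := by
        rw [show (q : ℤ) - 2 = -((q : ℤ) ^ 2 - q + 1) - (1 - (q : ℤ) ^ 2) by ring]
        exact dvd_sub (dvd_neg.2 hlz) h8
      have h10 : (l : ℤ) ∣ 3 := by
        rw [show (3 : ℤ) = ((q : ℤ) ^ 2 - q + 1) - ((q : ℤ) - 2) * ((q : ℤ) + 1) by ring]
        exact dvd_sub hlz (dvd_mul_of_dvd_left h9 _)
      exact h3 ((Nat.prime_dvd_prime_iff_eq hlp Nat.prime_three).1 (by exact_mod_cast h10))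
    · rw [hbdef]
      exact mul_mem (mul_mem (centralizer_le_normalizer _ hkC) hgN)
        (mul_mem (centralizer_le_normalizer _ hkC) hgN)
  -- the elements of order three of `N(S) ∩ C(s)` generate one subgroup
  obtain ⟨b₀, hb₀o, hb₀s, hb₀N, -⟩ := hb y₀ hy₀ hy₀1
  have huniq : ∀ a : G, orderOf a = 3 → Commute a s → a ∈ normalizer ((S : Subgroup G) : Set G) →
      ∀ b : G, orderOf b = 3 → Commute b s → b ∈ normalizer ((S : Subgroup G) : Set G) →
      b ∈ zpowers a := by
    -- the commuting case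
    have hcase : ∀ a : G, orderOf a = 3 → Commute a s → a ∈ normalizer ((S : Subgroup G) : Set G) →
        ∀ b : G, orderOf b = 3 → Commute b s → b ∈ normalizer ((S : Subgroup G) : Set G) →
        Commute a b → b ∈ zpowers a := by
      intro a ha has haN b hb hbs hbN hcab
      by_contra hnot
      have hfix : ∀ g : G, g ^ 3 = 1 → g ≠ 1 → Commute g s → g ∈ normalizer ((S : Subgroup G) : Set G) →
          ∀ x ∈ (S : Subgroup G), x * (g * x * g⁻¹) * (g * (g * x * g⁻¹) * g⁻¹) = 1 := by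
        intro g hg hg1 hgs hgN x hx
        have hx1 := (mem_normalizer_iff.1 hgN x).1 hx
        have hx2 := (mem_normalizer_iff.1 hgN _).1 hx1
        by_contra hne
        refine hg1 (hfpf (mul_mem (mul_mem hx hx1) hx2) hne ?_ hso hgs)
        refine mul_inv_eq_iff_eq_mul.1 ?_
        have h3' : g * (g * (g * x * g⁻¹) * g⁻¹) * g⁻¹ = x := by
          calc g * (g * (g * x * g⁻¹) * g⁻¹) * g⁻¹ = g ^ 3 * x * (g ^ 3)⁻¹ := by
                simp only [pow_succ, pow_zero, one_mul, mul_inv_rev, mul_assoc]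
            _ = x := by rw [hg, one_mul, inv_one, mul_one]
        calc g * (x * (g * x * g⁻¹) * (g * (g * x * g⁻¹) * g⁻¹)) * g⁻¹
            = (g * x * g⁻¹) * (g * (g * x * g⁻¹) * g⁻¹) * (g * (g * (g * x * g⁻¹) * g⁻¹) * g⁻¹) := by group
          _ = (g * x * g⁻¹) * (g * (g * x * g⁻¹) * g⁻¹) * x := by rw [h3']
          _ = _ := by
              rw [(hcomm _ (mul_mem hx1 hx2) x hx).eq, ← mul_assoc]
      letI : CommGroup (S : Subgroup G) := { (inferInstance : Group (S : Subgroup G)) with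
        mul_comm := fun x y => Subtype.ext (hcomm x x.2 y y.2) }
      let N := normalizer ((S : Subgroup G) : Set G)
      let act : N → (S : Subgroup G) →* (S : Subgroup G) := fun g =>
        { toFun := fun x => ⟨(g : G) * x * (g : G)⁻¹, (mem_normalizer_iff.1 g.2 x).1 x.2⟩
          map_one' := Subtype.ext (by simp)
          map_mul' := fun x y => Subtype.ext (by push_cast; group) }
      have ha3 : a ^ 3 = 1 := ha ▸ pow_orderOf_eq_one a
      have hb3 : b ^ 3 = 1 := hb ▸ pow_orderOf_eq_one b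
      set A := act ⟨a, haN⟩ with hA
      set B := act ⟨b, hbN⟩ with hB
      have hAB : ∀ z, A (B z) = B (A z) := fun z => Subtype.ext (by
        show a * (b * z * b⁻¹) * a⁻¹ = b * (a * z * a⁻¹) * b⁻¹
        calc a * (b * z * b⁻¹) * a⁻¹ = (a * b) * z * (a * b)⁻¹ := by group
          _ = (b * a) * z * (b * a)⁻¹ := by rw [hcab.eq]
          _ = _ := by group)
      have hBBB : ∀ z, B (B (B z)) = z := fun z => Subtype.ext (by
        show b * (b * (b * z * b⁻¹) * b⁻¹) * b⁻¹ = z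
        calc b * (b * (b * (z : G) * b⁻¹) * b⁻¹) * b⁻¹ = b ^ 3 * z * (b ^ 3)⁻¹ := by
              simp only [pow_succ, pow_zero, one_mul, mul_inv_rev, mul_assoc]
          _ = z := by rw [hb3, one_mul, inv_one, mul_one])
      have ha1 : a ≠ 1 := fun e => by rw [e, orderOf_one] at ha; norm_num at ha
      have hb1 : b ≠ 1 := fun e => by rw [e, orderOf_one] at hb; norm_num at hb
      have eA : ∀ z, z * A z * A (A z) = 1 := fun z => Subtype.ext (hfix a ha3 ha1 has haN z z.2)
      have eB : ∀ z, z * B z * B (B z) = 1 := fun z => Subtype.ext (hfix b hb3 hb1 hbs hbN z z.2)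
      have eAB : ∀ z, z * A (B z) * A (B (A (B z))) = 1 := fun z => Subtype.ext (by
        have := hfix (a * b) (by rw [hcab.mul_pow, ha3, hb3, one_mul])
          (fun e => hnot (eq_inv_of_mul_eq_one_right e ▸ inv_mem (mem_zpowers a)))
          (has.mul_left hbs) (mul_mem haN hbN) z z.2
        refine Eq.trans ?_ this
        show (z : G) * (a * (b * z * b⁻¹) * a⁻¹) * (a * (b * (a * (b * z * b⁻¹) * a⁻¹) * b⁻¹) * a⁻¹) = _
        group)
      have eABB : ∀ z, z * A (B (B z)) * A (B (B (A (B (B z))))) = 1 := fun z => Subtype.ext (by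
        have := hfix (a * b * b) (by
            rw [(hcab.mul_left (Commute.refl b)).mul_pow, hcab.mul_pow, ha3, hb3, one_mul, one_mul])
          (fun e => hnot (by
            have h1 : a = b := by
              calc a = a * b ^ 3 := by rw [hb3, mul_one]
                _ = (a * b * b) * b := by simp only [pow_succ, pow_zero, one_mul, mul_assoc]
                _ = b := by rw [e, one_mul]
            exact h1 ▸ mem_zpowers a))
          ((has.mul_left hbs).mul_left hbs) (mul_mem (mul_mem haN hbN) hbN) z z.2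
        refine Eq.trans ?_ this
        show (z : G) * (a * (b * (b * z * b⁻¹) * b⁻¹) * a⁻¹) *
          (a * (b * (b * (a * (b * (b * z * b⁻¹) * b⁻¹) * a⁻¹) * b⁻¹) * b⁻¹) * a⁻¹) = _
        group)
      obtain ⟨z, hz, hzo⟩ := hroot hy₀ hy₀1
      let x : (S : Subgroup G) := ⟨z, zpowers_le.2 hy₀ hz⟩
      have t1 := eAB x
      have t2 := eABB x
      rw [show A (B (A (B x))) = A (A (B (B x))) by rw [← hAB]] at t1
      rw [show A (B (B (A (B (B x))))) = A (A (B x)) by rw [← hAB, ← hAB, hBBB]] at t2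
      have hx3 : x ^ 3 = 1 := by
        have h9 : (x * A x * A (A x)) * (x * B x * B (B x)) * (x * A (B x) * A (A (B (B x)))) *
            (x * A (B (B x)) * A (A (B x))) =
            x ^ 3 * ((x * A x * A (A x)) * (B x * A (B x) * A (A (B x))) *
              (B (B x) * A (B (B x)) * A (A (B (B x))))) := by
          simp only [pow_succ, pow_zero, one_mul]
          ac_rfl
        rw [eA, eB, t1, t2, eA, eA, one_mul, one_mul, one_mul, mul_one] at h9
        exact h9.symm
      have h10 := orderOf_dvd_of_pow_eq_one (congrArg Subtype.val hx3 : z ^ 3 = 1)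
      rw [hzo] at h10
      exact h3 ((Nat.prime_dvd_prime_iff_eq hlp Nat.prime_three).1 h10)
    obtain ⟨T', hT'⟩ := T.exists_setup hso
    set O := normalizer ((S : Subgroup G) : Set G) ⊓ T'.K with hO
    have hOodd : Odd (Nat.card O) := by
      rw [← Nat.not_even_iff_odd, even_iff_two_dvd]
      intro h
      obtain ⟨⟨j, hj⟩, hjo⟩ := exists_prime_orderOf_dvd_card' (G := O) 2 h
      rw [Subgroup.orderOf_mk] at hjo
      obtain ⟨hjN, hjK⟩ := mem_inf.1 hj
      have hjC : j ∈ normalizer (C : Set G) := by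
        rw [hC]; exact Coprime.normalizer_le_normalizer_centralizer _ hjN
      have hjinv := inverts_of_fpf (H := C) (Invol.invol_mul_self hjo)
        (fun c hc => (mem_normalizer_iff.1 hjC c).1 hc) fun c hc hcj =>
          hfpf hy₀ hy₀1 (mem_centralizer_singleton_iff.1 (hCy.symm ▸ hc)) hjo hcj.symm
      have hjs : j * s ∈ C := by
        rw [hC, mem_centralizer_iff]
        intro a ha
        refine (mul_inv_eq_iff_eq_mul.1 ?_).symm
        calc j * s * a * (j * s)⁻¹ = j * (s * a * s⁻¹) * j⁻¹ := by group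
          _ = a := by rw [hsC a (hSC ha), hjinv _ (inv_mem (hSC ha)), inv_inv]
      have hjt : Commute j s := hT' ▸ T'.comm_t j hjK
      have h2' : (j * s) ^ 2 = 1 := by
        rw [hjt.mul_pow, pow_two, pow_two, Invol.invol_mul_self hjo, Invol.invol_mul_self hso, one_mul]
      have h11 : j * s = 1 := orderOf_eq_one_iff.1 (Nat.eq_one_of_dvd_coprimes
        (Nat.coprime_two_left.2 (hCodd.of_dvd_nat (Subgroup.orderOf_dvd_natCard C hjs)))
        (orderOf_dvd_of_pow_eq_one h2') dvd_rfl)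
      refine T'.not_mem ?_
      rw [hT', ← Invol.invol_inv hso, ← eq_inv_of_mul_eq_one_left h11]
      exact hjK
    intro a ha has haN b hb hbs hbN
    haveI : Group.IsSolvable O := FT.isSolvable_of_odd O hOodd
    have hmemO : ∀ c : G, orderOf c = 3 → Commute c s → c ∈ normalizer ((S : Subgroup G) : Set G) →
        c ∈ O := fun c hc hcs hcN => mem_inf.2 ⟨hcN, T'.mem_K_of_odd (hT'.symm ▸ hcs) (by rw [hc]; decide)⟩
    have haO := hmemO a ha has haN
    have hbO := hmemO b hb hbs hbN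
    haveI : Nontrivial O := ⟨⟨⟨a, haO⟩, 1, fun e => by
      have := congrArg Subtype.val e
      change a = 1 at this
      rw [this, orderOf_one] at ha
      norm_num at ha⟩⟩
    obtain ⟨M, p, hMn, hM1, hp, hMp, hMc⟩ := Coprime.exists_normal_pGroup_of_isSolvable (G := O)
    haveI := Fact.mk hp
    obtain ⟨jM, hjM⟩ := hMp.exists_card_eq
    have hjM0 : jM ≠ 0 := by
      rintro rfl
      rw [pow_zero] at hjM
      exact hM1 (card_eq_one.1 hjM)
    have hMs : ∀ c : O, Commute (c : G) s := fun c => hT' ▸ T'.comm_t _ (mem_inf.1 c.2).2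
    by_cases hp3 : p = 3
    · subst hp3
      obtain ⟨c, hc⟩ := exists_prime_orderOf_dvd_card' (G := M) 3 (hjM ▸ dvd_pow_self 3 hjM0)
      set c' : G := ((c : O) : G) with hc'
      have hco : orderOf c' = 3 := by rw [hc', Subgroup.orderOf_coe, Subgroup.orderOf_coe, hc]
      have hgoal : ∀ d : G, orderOf d = 3 → Commute d s → d ∈ normalizer ((S : Subgroup G) : Set G) →
          d ∈ zpowers c' := by
        intro d hd hds hdN
        refine hcase c' hco (hMs c) (mem_inf.1 (c : O).2).1 d hd hds hdN ?_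
        set d' : O := ⟨d, hmemO d hd hds hdN⟩
        haveI : Fact (Nat.Prime 3) := ⟨Nat.prime_three⟩
        have hdo : IsPGroup 3 (zpowers d') := IsPGroup.of_card (n := 1)
          (by rw [Nat.card_zpowers, Subgroup.orderOf_mk, hd, pow_one])
        have hJ : IsPGroup 3 (M ⊔ zpowers d' : Subgroup O) :=
          hMp.to_sup_of_normal_left' hdo (by rw [normalizer_eq_top_iff.2 hMn]; exact le_top)
        obtain ⟨P, hP⟩ := (hJ.map (Subgroup.inclusion (inf_le_right : O ≤ T'.K))).exists_le_sylow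
        have h12 := T'.kit.comm P _ (hP (mem_map_of_mem _ (mem_sup_left (T := zpowers d') c.2)))
          _ (hP (mem_map_of_mem _ (mem_sup_right (S := M) (mem_zpowers d'))))
        exact congrArg (fun z : T'.K => (z : G)) h12
      have h13 : zpowers a = zpowers c' := eq_of_le_of_card_ge (zpowers_le.2 (hgoal a ha has haN))
        (by rw [Nat.card_zpowers, Nat.card_zpowers, ha, hco])
      exact h13 ▸ hgoal b hb hbs hbN
    · exfalso
      set Mg := M.map O.subtype with hMg
      have hp2 : p ≠ 2 := fun e => by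
        subst e
        exact Nat.not_even_iff_odd.2 hOodd (even_iff_two_dvd.2
          ((hjM ▸ dvd_pow_self 2 hjM0).trans (card_subgroup_dvd_card M)))
      have haM : a ∈ normalizer (Mg : Set G) := by
        rw [mem_normalizer_iff]
        intro z
        constructor
        · rintro ⟨e, he, rfl⟩
          exact ⟨⟨a, haO⟩ * e * ⟨a, haO⟩⁻¹, hMn.conj_mem e he _, rfl⟩
        · rintro ⟨e, he, hze⟩
          refine ⟨⟨a, haO⟩⁻¹ * e * ⟨a, haO⟩, hMn.conj_mem' e he _, ?_⟩
          simp only [Subgroup.coe_subtype, Subgroup.coe_mul, Subgroup.coe_inv] at hze ⊢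
          rw [hze]; group
      have hz := pow_card_eq_one_of_fpf Nat.prime_three ha (X := (S : Subgroup G)) (A := Mg)
        (fun x hx y hy => (hcomm x hx y hy).eq) (fun e he => (mem_inf.1 (map_subtype_le _ he)).1)
        haN haM (fun h => hM1 (by
          rw [hMg, map_eq_bot_iff_of_injective _ O.subtype_injective] at h
          exact h))
        (fun e he hae => by
          by_contra he1
          obtain ⟨e', he', rfl⟩ := he
          obtain ⟨i, hi⟩ := hMp ⟨e', he'⟩
          obtain ⟨c, -, hc⟩ := (Nat.dvd_prime_pow hp).1 (orderOf_dvd_of_pow_eq_one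
            (congrArg (fun z : M => ((z : O) : G)) hi) : orderOf ((e' : O) : G) ∣ p ^ i)
          rcases c with - | c
          · exact he1 (orderOf_eq_one_iff.1 (by simpa using hc))
          exact T.no_three_mul hp2 hp3 ha (orderOf_pow_orderOf_div (orderOf_pos _).ne'
            (hc ▸ dvd_pow_self p (Nat.succ_ne_zero c))) (hae.pow_right _))
        (fun e he he1 x hx hex => by
          by_contra hx1
          obtain ⟨e', he', rfl⟩ := he
          exact he1 (hfpf hx hx1 hex hso (hMs e')))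
        (fun x hx hax => by
          by_contra hx1
          have := hfpf hx hx1 hax hso has
          rw [this, orderOf_one] at ha
          norm_num at ha)
      obtain ⟨z, hz', hzo⟩ := hroot hy₀ hy₀1
      have h14 := orderOf_dvd_of_pow_eq_one (hz z (zpowers_le.2 hy₀ hz'))
      rw [hzo, hMg, card_map_of_injective O.subtype_injective, hjM] at h14
      have hpl : l = p := (Nat.prime_dvd_prime_iff_eq hlp hp).1 (hlp.dvd_of_dvd_pow h14)
      obtain ⟨c, hc⟩ := exists_prime_orderOf_dvd_card' (G := M) p (hjM ▸ dvd_pow_self p hjM0)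
      exact T.no_invol_mul hd (y := ((c : O) : G)) (i := s)
        (by rw [Subgroup.orderOf_coe, Subgroup.orderOf_coe, hc, hpl]) hso (hMs c)
  -- the two candidates
  have hN₀ : ∀ y ∈ (S : Subgroup G), b₀ * y * b₀⁻¹ = y ^ q ^ 2 ∨
      b₀ * b₀ * y * (b₀ * b₀)⁻¹ = y ^ q ^ 2 := by
    intro y hy
    rcases eq_or_ne y 1 with rfl | hy1
    · left; simp
    obtain ⟨b, hbo, hbs, hbN, hby⟩ := hb y hy hy1
    obtain ⟨i, -, hi⟩ := (mem_zpowers_iff_mem_range_orderOf).1
      (huniq b₀ hb₀o hb₀s hb₀N b hbo hbs hbN) |> Finset.mem_image.1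
    obtain ⟨i, hi3, rfl⟩ : ∃ i, i < 3 ∧ b = b₀ ^ i := ⟨i % 3, Nat.mod_lt _ (by norm_num), by
      rw [← hi, ← pow_mod_orderOf, hb₀o]⟩
    interval_cases i
    · rw [pow_zero, orderOf_one] at hbo; norm_num at hbo
    · left; rwa [pow_one] at hby
    · right; rwa [pow_two] at hby
  have hmul : ∀ c : G, ∀ x y : G, x ∈ (S : Subgroup G) → y ∈ (S : Subgroup G) →
      c * x * c⁻¹ = x ^ q ^ 2 → c * y * c⁻¹ = y ^ q ^ 2 → c * (x * y) * c⁻¹ = (x * y) ^ q ^ 2 := by
    intro c x y hx hy h1 h2'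
    rw [← conj_mul, h1, h2', (hcomm x hx y hy).mul_pow]
  have hdiv : ∀ c : G, ∀ x y : G, x ∈ (S : Subgroup G) → y ∈ (S : Subgroup G) →
      c * x * c⁻¹ = x ^ q ^ 2 → c * (x * y) * c⁻¹ = (x * y) ^ q ^ 2 → c * y * c⁻¹ = y ^ q ^ 2 := by
    intro c x y hx hy h1 h2'
    rw [← conj_mul, h1, (hcomm x hx y hy).mul_pow] at h2'
    exact mul_left_cancel h2'
  obtain ⟨b, hbo, hbs, hby⟩ : ∃ b : G, orderOf b = 3 ∧ Commute b s ∧
      ∀ y ∈ (S : Subgroup G), b * y * b⁻¹ = y ^ q ^ 2 := by
    by_cases hall : ∀ y ∈ (S : Subgroup G), b₀ * y * b₀⁻¹ = y ^ q ^ 2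
    · exact ⟨b₀, hb₀o, hb₀s, hall⟩
    push Not at hall
    obtain ⟨x, hx, hxn⟩ := hall
    have hxp := (hN₀ x hx).resolve_left hxn
    refine ⟨b₀ * b₀, ?_, hb₀s.mul_left hb₀s, fun y hy => ?_⟩
    · rw [← pow_two, Nat.Coprime.orderOf_pow (by rw [hb₀o]; norm_num), hb₀o]
    rcases hN₀ y hy with h | h
    · rcases hN₀ (y * x) (mul_mem hy hx) with h' | h'
      · exact absurd (hdiv _ y x hy hx h h') hxn
      · rw [(hcomm y hy x hx).eq] at h'
        exact hdiv _ x y hx hy hxp h'
    · exact h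
  exact ⟨hcomm, hexp, hcent, hCcomm, hCodd, s, b, hso, hbo, hbs, hsC, hby⟩

end Setup

/-- The interface statement. -/
theorem scalarStmt : ScalarStmt.{u} := by
  intro G _ _ q m n T l hl _ hd S
  haveI := Fact.mk hl
  exact T.scalar_three hd S

end CfsgLib.ReeType
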