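import Cfsg.Agent.Lib.Ree.TorusAPerm
import Cfsg.Agent.Lib.Ree.Tools
import Cfsg.Agent.Lib.Char.FrobeniusFormula

/-!
# Groups of Ree type: the centralizers of the elements of order dividing `(q+1)/4`

An element `τ` of order three in such a centralizer would give a group `P` of order `q²/3` acted on by
a dihedral group of order `2r`, against `q ≡ -1 (mod r)`.
-/

set_option autoImplicit false
set_option linter.unusedSectionVars false

namespace CfsgLib.ReeType

open Subgroup

universe u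

namespace Setup

namespace VFrame

variable {G : Type u} [Group G] [Finite G] {q m n : ℕ} {T : Setup G q m n} (F : VFrame T)

/-- The cube of an element normalizing the four-group centralizes it. -/
theorem cube_commute {g : G} (ht : F.InV (g * T.t * g⁻¹)) (hu : F.InV (g * F.u * g⁻¹)) :
    Commute (g ^ 3) T.t ∧ Commute (g ^ 3) F.u := by
  have hp : g * (T.t * F.u) * g⁻¹ = (g * T.t * g⁻¹) * (g * F.u * g⁻¹) := conj_mul.symm
  have h5 := F.u_mul_tu
  have h6 : T.t * F.u * T.t = F.u := by rw [mul_assoc, F.comm_u.eq, ← mul_assoc, T.t_sq, one_mul]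
  have e : ∀ x, g ^ 3 * x * (g ^ 3)⁻¹ = g * (g * (g * x * g⁻¹) * g⁻¹) * g⁻¹ := fun x => by
    rw [pow_three]; group
  rcases F.perm_cases ht hu with ⟨h1, h2⟩ | ⟨h1, h2⟩ | ⟨h1, h2⟩ <;>
    refine ⟨mul_inv_eq_iff_eq_mul.1 ?_, mul_inv_eq_iff_eq_mul.1 ?_⟩ <;>
    simp only [e, h1, h2, hp, h5, h6]

/-- An involution centralizing a torus element is in the four-group. -/
theorem invol_inV {v : G} (hv : v ∈ zpowers F.a) (hv1 : v ≠ 1) {g : G} (hg : orderOf g = 2)
    (hgv : Commute g v) : F.InV g := by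
  obtain ⟨ht, hu⟩ := F.cent_perm hv hv1 hgv
  obtain ⟨h1, -⟩ := F.cube_commute ht hu
  have hg3 : g ^ 3 = g := by
    rw [pow_three, Invol.invol_mul_self hg, mul_one]
  rw [hg3] at h1
  have hD := F.cent_inter hv hv1 (Or.inl rfl) h1 hgv
  refine (F.mem_V.1 (F.mem_V_of_sq hD (Invol.invol_mul_self hg))).resolve_left fun e => ?_
  rw [e, orderOf_one] at hg
  norm_num at hg

/-- Elements of prime power order `r ≠ 3` (odd) centralizing a torus element lie in the torus. -/
theorem mem_A_of_primePow {v : G} (hv : v ∈ zpowers F.a) (hv1 : v ≠ 1) {g : G} (hgv : Commute g v)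
    {r j : ℕ} (hr : r.Prime) (hr2 : r ≠ 2) (hr3 : r ≠ 3) (hg : g ^ r ^ j = 1) :
    g ∈ zpowers F.a := by
  obtain ⟨ht, hu⟩ := F.cent_perm hv hv1 hgv
  obtain ⟨h1, h2⟩ := F.cube_commute ht hu
  have hd : orderOf g ∣ r ^ j := orderOf_dvd_of_pow_eq_one hg
  have hodd : Odd (orderOf g) := ((hr.odd_of_ne_two hr2).pow).of_dvd_nat hd
  have hcop : Nat.Coprime 3 (orderOf g) :=
    (((Nat.coprime_primes Nat.prime_three hr).2 hr3.symm).pow_right j).coprime_dvd_right hd
  obtain ⟨i, hi⟩ := exists_pow_eq_self_of_coprime hcop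
  have h3 : g ^ 3 ∈ zpowers F.a :=
    F.mem_A_of_odd h1 h2 (hodd.of_dvd_nat (orderOf_pow_dvd 3))
  exact hi ▸ pow_mem h3 i

/-- No element of order three centralizing a torus element permutes the four-group. -/
theorem no_three {r : ℕ} [hrF : Fact r.Prime] {v : G} (hv : v ∈ zpowers F.a) (hvo : orderOf v = r)
    {τ : G} (hτ : orderOf τ = 3) (hτv : Commute τ v) (h1 : τ * T.t * τ⁻¹ = F.u)
    (h2 : τ * F.u * τ⁻¹ = T.t * F.u) : False := by
  have hr := hrF.out
  have hrm : r ∣ m := hvo ▸ F.orderOf_dvd_m hv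
  have hr2 : r ≠ 2 := fun e => T.kit.two_not_m (e ▸ hrm)
  have hr3 : r ≠ 3 := fun e => T.kit.three_not_m (e ▸ hrm)
  have hv1 : v ≠ 1 := fun e => by
    rw [e, orderOf_one] at hvo
    exact hr.one_lt.ne hvo
  have hτ3 : τ ^ 3 = 1 := by rw [← hτ, pow_orderOf_eq_one]
  obtain ⟨s, hs, hτs⟩ := F.exists_fixed hτ3 (Or.inr (Or.inl h1)) (Or.inr (Or.inr h2))
  obtain ⟨hst, hsu, hso, hsV⟩ := hs
  have hs2 := Invol.invol_mul_self hso
  have hinva := F.inverts_of_invol hst hsu hso hsV
  have hinv : s * v * s⁻¹ = v⁻¹ := by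
    obtain ⟨i, rfl⟩ := mem_zpowers_iff.1 hv
    rw [← conj_zpow, hinva, inv_zpow]
  obtain ⟨T', hT'⟩ := T.exists_setup hso
  obtain ⟨O, hOC, hON, hOodd, hOmem, hOcube⟩ := T'.exists_oddPart hτ (hT' ▸ hτs)
  rw [hT'] at hOcube
  have hτO : τ ∈ O := hOmem τ (Commute.refl τ) (by rw [hτ]; decide)
  have hvO : v ∈ O := hOmem v hτv.symm (hvo ▸ hr.odd_of_ne_two hr2)
  have hsN : s ∈ normalizer (O : Set G) :=
    hON (mem_centralizer_singleton_iff.2 hτs.symm.eq)
  have hOτ : ∀ a ∈ O, Commute a τ := fun a ha => mem_centralizer_singleton_iff.1 (hOC ha)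
  have hscard : Nat.card (zpowers s) = 2 := by rw [Nat.card_zpowers, hso]
  have hcop2 : ∀ {H : Subgroup G}, H ≤ O → (Nat.card (zpowers s)).Coprime (Nat.card H) :=
    fun {H} hH => by
      rw [hscard]
      exact Nat.coprime_two_left.2 (hOodd.of_dvd_nat (card_dvd_of_le hH))
  have hsolv : ∀ H : Subgroup G, Group.IsSolvable (zpowers s) ∨ Group.IsSolvable H := fun H =>
    Or.inl (Group.isSolvable_of_comm fun a b => mul_comm' a b)
  -- a Sylow `r`-subgroup inside the torus
  have hvn : zpowers s ≤ normalizer (zpowers v : Set G) := by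
    rw [zpowers_le, mem_normalizer_iff]
    intro a
    constructor
    · intro ha
      obtain ⟨i, rfl⟩ := mem_zpowers_iff.1 ha
      rw [← conj_zpow, hinv]
      exact zpow_mem (inv_mem (mem_zpowers v)) i
    · intro ha
      obtain ⟨i, hi⟩ := mem_zpowers_iff.1 ha
      refine mem_zpowers_iff.2 ⟨-i, ?_⟩
      apply (MulAut.conj s).injective
      rw [map_zpow, MulAut.conj_apply, MulAut.conj_apply, hinv, inv_zpow', neg_neg, hi]
  obtain ⟨R, hR, hvR, hsR⟩ := Coprime.le_invariant_sylow (p := r) (A := zpowers s) (K := O)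
    (zpowers_le.2 hsN) (hcop2 le_rfl) (hsolv O) (U := zpowers v) (zpowers_le.2 hvO)
    (IsPGroup.of_card (n := 1) (by rw [Nat.card_zpowers, hvo, pow_one])) hvn
  have hRinv : ∀ a ∈ R, s * a * s⁻¹ = a⁻¹ := by
    refine inverts_of_fpf hs2
      (fun a ha => (mem_normalizer_iff.1 (hsR (mem_zpowers s)) a).1 ha) fun a ha hc => ?_
    obtain ⟨j, hj⟩ := hR.isPGroup ⟨a, ha⟩
    exact orderOf_eq_one_iff.1 (Nat.eq_one_of_dvd_coprimes
      ((((Nat.coprime_primes hr Nat.prime_three).2 hr3)).pow_left j)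
      (orderOf_dvd_of_pow_eq_one (congrArg Subtype.val hj))
      (orderOf_dvd_of_pow_eq_one (hOcube a (hR.1 ha) (show a * s = s * a from hc.symm))))
  have hvR' : v ∈ R := hvR (mem_zpowers v)
  have hRA : ∀ a ∈ R, a ∈ zpowers F.a := by
    intro a ha
    obtain ⟨j, hj⟩ := hR.isPGroup ⟨a, ha⟩
    exact F.mem_A_of_primePow hv hv1 (comm_of_inverted hRinv a ha v hvR') hr hr2 hr3
      (congrArg Subtype.val hj)
  -- a normal complement
  obtain ⟨M, hMO, hMn, hMr, hMmem⟩ := exists_complement hR (by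
    intro x hx hxR a ha
    set v' := x * v * x⁻¹ with hv'
    have hv'o : orderOf v' = r := (MulEquiv.orderOf_eq (MulAut.conj x) v).trans hvo
    have hv'v : v ∈ zpowers v' := by
      have h := PSLSpectrum.eq_of_le_zpowers (u := F.a) (zpowers_le.2 hv)
        (zpowers_le.2 (hRA _ ((mem_normalizer_iff.1 hxR v).1 hvR')))
        (by rw [Nat.card_zpowers, Nat.card_zpowers, hvo, hv'o])
      exact h ▸ mem_zpowers v
    have hV : ∀ y, F.InV y → F.InV (x * y * x⁻¹) := fun y hy => by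
      refine F.invol_inV hv hv1 (Invol.invol_conj (VFrame.InV.order F hy) x) ?_
      obtain ⟨i, hi⟩ := mem_zpowers_iff.1 hv'v
      have hc : Commute (x * y * x⁻¹) v' := (F.A_comm_V hv hy).symm.map (MulAut.conj x)
      exact hi ▸ hc.zpow_right i
    have hxodd : Odd (orderOf x) := hOodd.of_dvd_nat (Subgroup.orderOf_dvd_natCard O hx)
    have hp : τ * (T.t * F.u) * τ⁻¹ = T.t := by rw [← conj_mul, h1, h2, F.u_mul_tu]
    have haA := hRA a ha
    obtain ⟨τ', hτ'v, hτ'a, z, hz, hzt, hzu⟩ : ∃ τ' : G, Commute τ' v ∧ Commute τ' a ∧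
        ∃ z : G, x = τ' * z ∧ Commute z T.t ∧ Commute z F.u := by
      rcases F.perm_cases (hV _ (Or.inl rfl)) (hV _ (Or.inr (Or.inl rfl))) with
        ⟨e1, e2⟩ | ⟨e1, e2⟩ | ⟨e1, e2⟩
      · exact ⟨1, Commute.one_left _, Commute.one_left _, x, (one_mul x).symm,
          mul_inv_eq_iff_eq_mul.1 e1, mul_inv_eq_iff_eq_mul.1 e2⟩
      · refine ⟨τ, hτv, (hOτ a (hR.1 ha)).symm, τ⁻¹ * x, by group,
          mul_inv_eq_iff_eq_mul.1 ?_, mul_inv_eq_iff_eq_mul.1 ?_⟩
        · calc τ⁻¹ * x * T.t * (τ⁻¹ * x)⁻¹ = τ⁻¹ * (x * T.t * x⁻¹) * τ := by group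
            _ = T.t := by rw [e1, ← h1]; group
        · calc τ⁻¹ * x * F.u * (τ⁻¹ * x)⁻¹ = τ⁻¹ * (x * F.u * x⁻¹) * τ := by group
            _ = F.u := by rw [e2, ← h2]; group
      · refine ⟨τ⁻¹, hτv.inv_left, (hOτ a (hR.1 ha)).symm.inv_left, τ * x, by group,
          mul_inv_eq_iff_eq_mul.1 ?_, mul_inv_eq_iff_eq_mul.1 ?_⟩
        · calc τ * x * T.t * (τ * x)⁻¹ = τ * (x * T.t * x⁻¹) * τ⁻¹ := by group
            _ = T.t := by rw [e1, hp]
        · calc τ * x * F.u * (τ * x)⁻¹ = τ * (x * F.u * x⁻¹) * τ⁻¹ := by group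
            _ = F.u := by rw [e2, h1]
    have hzv : Commute z v := by
      rcases F.struct z hzt hzu with ⟨e, he, i, rfl⟩ | ⟨-, hza⟩
      · refine F.commute_of_mem_A hv (Commute.mul_left ?_ ((Commute.refl F.a).zpow_left i))
        rcases eq_or_ne e 1 with rfl | hne
        · exact Commute.one_left _
        · exact (F.a_comm (he.resolve_left hne)).symm
      · exfalso
        have hzv : z * v * z⁻¹ = v⁻¹ := by
          obtain ⟨i, rfl⟩ := mem_zpowers_iff.1 hv
          rw [← conj_zpow, hza, inv_zpow]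
        have hxv : x * v * x⁻¹ = v⁻¹ := by
          calc x * v * x⁻¹ = τ' * (z * v * z⁻¹) * τ'⁻¹ := by rw [hz]; group
            _ = v⁻¹ := by rw [hzv, hτ'v.inv_right.eq, mul_inv_cancel_right]
        have hxx : Commute (x * x) v := by
          show x * x * v = v * (x * x)
          calc x * x * v = x * (x * v * x⁻¹) * x := by group
            _ = x * v⁻¹ * x⁻¹ * x * x := by rw [hxv]; group
            _ = v * (x * x) := by rw [← conj_inv, hxv, inv_inv, mul_assoc]
        have := (commute_of_odd hxodd hxx).eq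
        rw [this, mul_inv_cancel_right] at hxv
        have h2' : v ^ 2 = 1 := by
          rw [pow_two]
          nth_rw 2 [hxv]
          exact mul_inv_cancel _
        exact hr2 ((Nat.prime_dvd_prime_iff_eq hr Nat.prime_two).1
          (hvo ▸ orderOf_dvd_of_pow_eq_one h2'))
    have hzD := F.cent_inter hv hv1 (Or.inl rfl) hzt hzv
    exact (hz ▸ hτ'a.mul_left (F.commute_of_mem_A haA (F.mem_D.1 hzD).2.2)).eq)
  -- the dihedral group and an invariant Sylow `3`-subgroup
  haveI : Fact (Nat.Prime 3) := ⟨Nat.prime_three⟩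
  set L := zpowers v ⊔ zpowers s with hL
  have hLN : L ≤ normalizer (M : Set G) :=
    sup_le (zpowers_le.2 (hMn (le_normalizer hvO))) (zpowers_le.2 (hMn hsN))
  have hcopL : (Nat.card L).Coprime (Nat.card M) := by
    refine Nat.coprime_of_dvd fun l hl hlL hlM => ?_
    haveI := Fact.mk hl
    obtain ⟨⟨y, hy⟩, hyo⟩ := exists_prime_orderOf_dvd_card' (G := L) l hlL
    rw [orderOf_mk] at hyo
    rcases prime_orderOf_sup hs2 hinv hy with h | h
    · have hd := Subgroup.orderOf_dvd_natCard (zpowers v) h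
      rw [Nat.card_zpowers, hvo, hyo] at hd
      exact hMr ((Nat.prime_dvd_prime_iff_eq hl hr).1 hd ▸ hlM)
    · have hd := orderOf_dvd_of_pow_eq_one ((pow_two y).trans h)
      rw [hyo] at hd
      exact Nat.not_even_iff_odd.2 (hOodd.of_dvd_nat (card_dvd_of_le hMO))
        (even_iff_two_dvd.2 ((Nat.prime_dvd_prime_iff_eq hl Nat.prime_two).1 hd ▸ hlM))
  have hsolvL : Group.IsSolvable L := by
    haveI : IsMulCommutative (zpowers v) := inferInstance
    haveI : ((zpowers v).subgroupOf L).Normal :=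
      (normal_subgroupOf_iff_le_normalizer le_sup_left).2 (sup_le le_normalizer hvn)
    refine solvable_of_ker_le_range ((zpowers v).subgroupOf L).subtype
      (QuotientGroup.mk' ((zpowers v).subgroupOf L)) (by rw [QuotientGroup.ker_mk', range_subtype])
      (hG' := Group.isSolvable_of_comm fun a b => by
        apply Subtype.ext; apply Subtype.ext
        show ((a : L) : G) * ((b : L) : G) = ((b : L) : G) * ((a : L) : G)
        obtain ⟨i, hi⟩ := mem_zpowers_iff.1 (mem_subgroupOf.1 a.2)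
        obtain ⟨j, hj⟩ := mem_zpowers_iff.1 (mem_subgroupOf.1 b.2)
        rw [← hi, ← hj, zpow_mul_comm])
      (hG'' := ?_)
    haveI : IsCyclic (L ⧸ (zpowers v).subgroupOf L) := by
      refine ⟨⟨QuotientGroup.mk ⟨s, le_sup_right (a := zpowers v) (mem_zpowers s)⟩, fun y => ?_⟩⟩
      induction y using QuotientGroup.induction_on with
      | H y =>
        obtain ⟨a, ha, b, hb, hab⟩ := Coprime.mem_sup_exists hvn y.2
        obtain ⟨i, rfl⟩ := mem_zpowers_iff.1 hb
        refine ⟨i, ?_⟩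
        show (QuotientGroup.mk _ : L ⧸ (zpowers v).subgroupOf L) ^ i = _
        rw [← QuotientGroup.mk_zpow, QuotientGroup.eq, mem_subgroupOf]
        push_cast
        rw [← hab]
        have h' : (s ^ i)⁻¹ * a * s ^ i ∈ zpowers v :=
          (mem_normalizer_iff''.1 (zpow_mem (hvn (mem_zpowers s)) i) a).1 ha
        rw [← mul_assoc]
        exact h'
    exact Group.isSolvable_of_comm fun a b => (IsCyclic.commGroup.mul_comm a b)
  obtain ⟨P, hP, hLP⟩ := Coprime.exists_invariant_sylow hLN hcopL (Or.inl hsolvL) 3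
  have hPO : P ≤ O := hP.1.trans hMO
  have hsP : zpowers s ≤ normalizer (P : Set G) := le_sup_right.trans hLP
  set E := O ⊓ centralizer ({s} : Set G) with hE
  have hEcube : ∀ a ∈ E, a ^ 3 = 1 := fun a ha =>
    hOcube a ha.1 (mem_centralizer_singleton_iff.1 ha.2)
  have hEM : E ≤ M := fun a ha => hMmem a ha.1 fun hd => hr3
    ((Nat.prime_dvd_prime_iff_eq hr Nat.prime_three).1
      (hd.trans (orderOf_dvd_of_pow_eq_one (hEcube a ha))))
  have hEP : E ≤ P := by
    have hsM : zpowers s ≤ normalizer (M : Set G) := le_sup_right.trans hLN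
    have hEn : zpowers s ≤ normalizer (E : Set G) :=
      Coprime.inf_le_normalizer (zpowers_le.2 hsN) (zpowers_le.2 (le_normalizer
        (mem_centralizer_singleton_iff.2 rfl)))
    obtain ⟨P₁, hP₁, hEP₁, hsP₁⟩ := Coprime.le_invariant_sylow (p := 3) hsM (hcop2 hMO) (hsolv M)
      hEM (fun a => ⟨1, Subtype.ext (hEcube a a.2)⟩) hEn
    obtain ⟨c, hc, hcP⟩ :=
      Coprime.invariant_sylow_conj hsM (hcop2 hMO) (hsolv M) hP₁ hP hsP₁ hsP
    have hcP₁ : c ∈ P₁ := hEP₁ ⟨hMO hc.1,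
      mem_centralizer_singleton_iff.2 (mem_centralizer_iff.1 hc.2 s (mem_zpowers s)).symm⟩
    rw [Coprime.conjBy_eq_self_iff.2 (le_normalizer hcP₁)] at hcP
    exact hcP ▸ hEP₁
  have hEcard : Nat.card E = q := by
    have hτK := T'.mem_K_of_odd (hT' ▸ hτs) (by rw [hτ]; decide)
    rw [← T'.kit.card_cent_three (x := ⟨τ, hτK⟩) (by rw [Subgroup.orderOf_mk, hτ])]
    refine Nat.card_congr ⟨fun a => ⟨⟨a, ?_⟩, ?_⟩, fun a => ⟨((a : T'.K) : G), ?_⟩,
      fun a => rfl, fun a => rfl⟩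
    · refine T'.mem_K_of_odd ?_ (hOodd.of_dvd_nat (Subgroup.orderOf_dvd_natCard O a.2.1))
      rw [hT']
      exact mem_centralizer_singleton_iff.1 a.2.2
    · exact mem_centralizer_singleton_iff.2 (Subtype.ext (hOτ _ a.2.1).eq)
    · have ha : Commute ((a : T'.K) : G) τ :=
        congrArg Subtype.val (mem_centralizer_singleton_iff.1 a.2)
      have h3 := T'.kit.cent_three_cube (x := ⟨τ, hτK⟩) (by rw [Subgroup.orderOf_mk, hτ]) a.2
      refine ⟨hOmem _ ha ?_, mem_centralizer_singleton_iff.2 ?_⟩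
      · rw [Subgroup.orderOf_coe]
        exact (show Odd 3 by decide).of_dvd_nat (orderOf_dvd_of_pow_eq_one h3)
      · exact hT' ▸ T'.comm_t _ (a : T'.K).2
  -- fixed points
  have hPv : P ⊓ centralizer ({v} : Set G) = zpowers τ := by
    refine le_antisymm (fun x hx => ?_) ?_
    · obtain ⟨hxP, hxv⟩ := hx
      have hxv' : Commute x v := mem_centralizer_singleton_iff.1 hxv
      obtain ⟨ht, hu⟩ := F.cent_perm hv hv1 hxv'
      obtain ⟨j, hj⟩ := hP.isPGroup ⟨x, hxP⟩
      have hj' : x ^ 3 ^ j = 1 := congrArg Subtype.val hj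
      have hoddx : ∀ {y : G} {i : ℕ}, y ^ 3 ^ i = 1 → Odd (orderOf y) := fun h =>
        ((show Odd 3 by decide).pow).of_dvd_nat (orderOf_dvd_of_pow_eq_one h)
      have hA1 : ∀ {y : G} {i : ℕ}, y ∈ zpowers F.a → y ^ 3 ^ i = 1 → y = 1 := fun hy h =>
        orderOf_eq_one_iff.1 (Nat.eq_one_of_dvd_coprimes
          ((Nat.prime_three.coprime_iff_not_dvd.2 T.kit.three_not_m).pow_left _)
          (orderOf_dvd_of_pow_eq_one h) (F.orderOf_dvd_m hy))
      have hxτ : Commute x τ := hOτ x (hPO hxP)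
      have hp : τ * (T.t * F.u) * τ⁻¹ = T.t := by rw [← conj_mul, h1, h2, F.u_mul_tu]
      rcases F.perm_cases ht hu with ⟨e1, e2⟩ | ⟨e1, e2⟩ | ⟨e1, e2⟩
      · rw [hA1 (F.mem_A_of_odd (mul_inv_eq_iff_eq_mul.1 e1) (mul_inv_eq_iff_eq_mul.1 e2)
          (hoddx hj')) hj']
        exact one_mem _
      · have hp' : (τ⁻¹ * x) ^ 3 ^ (j + 1) = 1 := by
          rw [hxτ.symm.inv_left.mul_pow, pow_succ, pow_mul, pow_mul, hj', one_pow, mul_one,
            ← pow_mul, mul_comm, pow_mul, inv_pow, hτ3, inv_one, one_pow]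
        have hmem := hA1 (F.mem_A_of_odd (g := τ⁻¹ * x) (mul_inv_eq_iff_eq_mul.1 (by
            calc τ⁻¹ * x * T.t * (τ⁻¹ * x)⁻¹ = τ⁻¹ * (x * T.t * x⁻¹) * τ := by group
              _ = T.t := by rw [e1, ← h1]; group))
          (mul_inv_eq_iff_eq_mul.1 (by
            calc τ⁻¹ * x * F.u * (τ⁻¹ * x)⁻¹ = τ⁻¹ * (x * F.u * x⁻¹) * τ := by group
              _ = F.u := by rw [e2, ← h2]; group)) (hoddx hp')) hp'
        rw [eq_inv_of_mul_eq_one_right hmem, inv_inv]
        exact mem_zpowers τ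
      · have hp' : (τ * x) ^ 3 ^ (j + 1) = 1 := by
          rw [hxτ.symm.mul_pow, pow_succ, pow_mul, pow_mul, hj', one_pow, mul_one,
            ← pow_mul, mul_comm, pow_mul, hτ3, one_pow]
        have hmem := hA1 (F.mem_A_of_odd (g := τ * x) (mul_inv_eq_iff_eq_mul.1 (by
            calc τ * x * T.t * (τ * x)⁻¹ = τ * (x * T.t * x⁻¹) * τ⁻¹ := by group
              _ = T.t := by rw [e1, hp]))
          (mul_inv_eq_iff_eq_mul.1 (by
            calc τ * x * F.u * (τ * x)⁻¹ = τ * (x * F.u * x⁻¹) * τ⁻¹ := by group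
              _ = F.u := by rw [e2, h1])) (hoddx hp')) hp'
        rw [eq_inv_of_mul_eq_one_right hmem]
        exact inv_mem (mem_zpowers τ)
    · rw [zpowers_le]
      exact ⟨hEP ⟨hτO, mem_centralizer_singleton_iff.2 hτs.eq⟩,
        mem_centralizer_singleton_iff.2 hτv.eq⟩
  have hPs : P ⊓ centralizer ({s} : Set G) = E :=
    le_antisymm (inf_le_inf_right _ hPO) (le_inf hEP inf_le_right)
  have hcz : ∀ y : G, centralizer (zpowers y : Set G) = centralizer ({y} : Set G) := fun y => by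
    rw [zpowers_eq_closure, centralizer_closure]
  have hPvs : P ⊓ centralizer ((zpowers v ⊔ zpowers s : Subgroup G) : Set G) = zpowers τ := by
    refine le_antisymm ?_ ?_
    · rw [← hPv, ← hcz v]
      exact inf_le_inf_left _ (centralizer_le (le_sup_left : zpowers v ≤ _))
    · refine le_inf (hPv ▸ inf_le_left) ?_
      rw [zpowers_eq_closure v, zpowers_eq_closure s, ← Subgroup.closure_union, centralizer_closure,
        zpowers_le, mem_centralizer_iff]
      intro y hy
      rcases hy with hy | hy <;> rw [Set.mem_singleton_iff.1 hy]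
      exacts [hτv.eq.symm, hτs.eq.symm]
  have hform := Char.frobenius_fixed_formula (zpowers v) (zpowers s) P
    (Coprime.disjoint_of_coprime_card (by
      rw [Nat.card_zpowers, hvo, hscard]
      exact (Nat.coprime_primes hr Nat.prime_two).2 hr2))
    (fun e he a ha => (mem_normalizer_iff.1 (hvn he) a).1 ha)
    (fun e he he1 a ha hea => ?_) (fun y hy a ha => (mem_normalizer_iff.1 (hLP hy) a).1 ha)
    (haveI := hP.isPGroup.isNilpotent; inferInstance) (by
      exact (hcopL.coprime_dvd_right (card_dvd_of_le hP.1)).symm)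
  swap
  · obtain ⟨i, rfl⟩ := mem_zpowers_iff.1 he
    rcases Int.even_or_odd i with ⟨l, rfl⟩ | ⟨l, rfl⟩
    · exact absurd (by rw [← two_mul, zpow_mul, zpow_two, hs2, one_zpow]) he1
    · rw [zpow_add, zpow_mul, zpow_two, hs2, one_zpow, one_mul, zpow_one] at hea
      obtain ⟨i, rfl⟩ := mem_zpowers_iff.1 ha
      have h := mul_inv_eq_iff_eq_mul.2 hea
      rw [← conj_zpow, hinv, inv_zpow] at h
      have h2' : (v ^ i) ^ 2 = 1 := by
        rw [pow_two]
        nth_rw 1 [← h]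
        exact inv_mul_cancel _
      exact orderOf_eq_one_iff.1 (Nat.eq_one_of_dvd_coprimes
        ((Nat.coprime_primes hr Nat.prime_two).2 hr2)
        (by
          have hd := Subgroup.orderOf_dvd_natCard (zpowers v) (zpow_mem (mem_zpowers v) i)
          rwa [Nat.card_zpowers, hvo] at hd)
        (orderOf_dvd_of_pow_eq_one h2'))
  rw [hPvs, hcz s, hPs, hcz v, hPv, hEcard, hscard, Nat.card_zpowers, hτ] at hform
  have hfix := card_conj_fixed_modEq (r := r) (j := 1) (by rw [hvo, pow_one]) (hLP (le_sup_left (b := zpowers s) (mem_zpowers v)))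
  rw [hPv, Nat.card_zpowers, hτ] at hfix
  have hqr : ((q : ℕ) : ZMod r) = -1 := by
    have h0 : ((q + 1 : ℕ) : ZMod r) = 0 := (ZMod.natCast_eq_zero_iff _ _).2
      (T.kit.hm ▸ dvd_mul_of_dvd_right hrm 4)
    push_cast at h0
    exact eq_neg_of_add_eq_zero_left h0
  have hfix' : ((Nat.card P : ℕ) : ZMod r) = ((3 : ℕ) : ZMod r) :=
    (ZMod.natCast_eq_natCast_iff _ _ _).2 hfix
  have h9 := congrArg (Nat.cast : ℕ → ZMod r) hform
  push_cast at h9 hfix'
  rw [hqr, hfix'] at h9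
  have h24 : ((24 : ℕ) : ZMod r) = 0 := by
    push_cast
    linear_combination h9
  rw [ZMod.natCast_eq_zero_iff] at h24
  rcases hr.dvd_mul.1 (show r ∣ 3 * 8 from h24) with h | h
  · exact hr3 ((Nat.prime_dvd_prime_iff_eq hr Nat.prime_three).1 h)
  · exact hr2 ((Nat.prime_dvd_prime_iff_eq hr Nat.prime_two).1 (hr.dvd_of_dvd_pow (n := 3) h))

/-- The centralizer of a nontrivial element of the torus `⟨a⟩` is `V × ⟨a⟩`. -/
theorem cent_A {v : G} (hv : v ∈ zpowers F.a) (hv1 : v ≠ 1) {g : G} (hg : Commute g v) :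
    g ∈ F.D := by
  obtain ⟨r, hr, hrd⟩ := Nat.exists_prime_and_dvd (mt orderOf_eq_one_iff.1 hv1)
  haveI := Fact.mk hr
  set y := v ^ (orderOf v / r) with hy
  have hyo : orderOf y = r := orderOf_pow_orderOf_div (orderOf_pos v).ne' hrd
  have hyA : y ∈ zpowers F.a := pow_mem hv _
  have hy1 : y ≠ 1 := fun e => by
    rw [e, orderOf_one] at hyo
    exact hr.one_lt.ne hyo
  have hgy : Commute g y := hg.pow_right _
  obtain ⟨ht, hu⟩ := F.cent_perm hyA hy1 hgy
  suffices h : g * T.t * g⁻¹ = T.t by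
    exact F.cent_inter hv hv1 (Or.inl rfl) (mul_inv_eq_iff_eq_mul.1 h) hg
  rcases F.perm_cases ht hu with ⟨h1, -⟩ | ⟨h1, h2⟩ | ⟨h1, h2⟩
  · exact h1
  · exfalso
    obtain ⟨i, hi, e1, e2⟩ := F.exists_order_three h1 h2
    exact F.no_three hyA hyo hi (hgy.pow_left i) e1 e2
  · exfalso
    have hp : g * (T.t * F.u) * g⁻¹ = (g * T.t * g⁻¹) * (g * F.u * g⁻¹) := conj_mul.symm
    have h1' : (g * g) * T.t * (g * g)⁻¹ = F.u := by
      calc g * g * T.t * (g * g)⁻¹ = g * (g * T.t * g⁻¹) * g⁻¹ := by group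
        _ = F.u := by rw [h1, hp, h1, h2, mul_assoc, F.comm_u.eq, ← mul_assoc, T.t_sq, one_mul]
    have h2' : (g * g) * F.u * (g * g)⁻¹ = T.t * F.u := by
      calc g * g * F.u * (g * g)⁻¹ = g * (g * F.u * g⁻¹) * g⁻¹ := by group
        _ = T.t * F.u := by rw [h2, h1]
    obtain ⟨i, hi, e1, e2⟩ := F.exists_order_three h1' h2'
    exact F.no_three hyA hyo hi ((hgy.mul_left hgy).pow_left i) e1 e2

/-- An element of order three permuting the four-group has no fixed point on the torus. -/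
theorem tau_fpf {τ : G} (h1 : τ * T.t * τ⁻¹ = F.u) {v : G} (hv : v ∈ zpowers F.a)
    (h : Commute τ v) : v = 1 := by
  by_contra hv1
  obtain ⟨ht, -, -⟩ := F.mem_D.1 (F.cent_A hv hv1 h)
  rw [ht.eq, mul_inv_cancel_right] at h1
  exact F.ne h1.symm

end VFrame

end Setup

end CfsgLib.ReeType
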