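import Cfsg.Agent.Lib.Ree.Four
import Cfsg.Agent.Lib.Invol.AbelianCent.Main

/-!
# Groups of Ree type: the centralizer of a torus element of order dividing `(q+1)/4` normalizes the
four-group
-/

set_option autoImplicit false
set_option linter.unusedSectionVars false

namespace CfsgLib.ReeType

open Subgroup
open CfsgLib.Char (TwoChars.elS TwoChars.elS_mul TwoChars.elS_one_zero TwoChars.elS_val)

universe u

namespace Setup

namespace VFrame

variable {G : Type u} [Group G] [Finite G] {q m n : ℕ} {T : Setup G q m n} (F : VFrame T)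

/-- The four-group. -/
def V : Subgroup G where
  carrier := {g | g = 1 ∨ F.InV g}
  one_mem' := Or.inl rfl
  mul_mem' := by
    have h1 := T.t_sq
    have h2 := F.u_sq
    have h3 : F.u * T.t = T.t * F.u := F.comm_u.eq
    have h4 : T.t * (T.t * F.u) = F.u := F.t_mul_tu
    have h5 : F.u * (T.t * F.u) = T.t := F.u_mul_tu
    have h6 : T.t * F.u * T.t = F.u := by rw [mul_assoc, h3, h4]
    have h7 : T.t * F.u * F.u = T.t := by rw [mul_assoc, h2, mul_one]
    have h8 : T.t * F.u * (T.t * F.u) = 1 := Invol.invol_mul_self F.order_tu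
    rintro a b (rfl | rfl | rfl | rfl) (rfl | rfl | rfl | rfl) <;>
      simp only [Set.mem_setOf_eq, VFrame.InV, one_mul, mul_one, h1, h2, h3, h4, h5, h6, h7, h8,
        true_or, or_true]
  inv_mem' := by
    rintro a (rfl | h)
    · exact Or.inl inv_one
    · rw [Invol.invol_inv (VFrame.InV.order F h)]
      exact Or.inr h

theorem mem_V {g : G} : g ∈ F.V ↔ g = 1 ∨ F.InV g := Iff.rfl

theorem sq_V {g : G} (hg : g ∈ F.V) : g * g = 1 := by
  rcases F.mem_V.1 hg with rfl | h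
  · exact one_mul 1
  · exact Invol.invol_mul_self (VFrame.InV.order F h)

theorem card_V : Nat.card F.V = 4 := by
  classical
  have hset : (F.V : Set G) = ↑({1, T.t, F.u, T.t * F.u} : Finset G) := by
    ext g
    simp [V, VFrame.InV]
  rw [show Nat.card F.V = (F.V : Set G).ncard from Nat.card_coe_set_eq _, hset, Set.ncard_coe_finset]
  have e1 : (1 : G) ≠ T.t := (Invol.invol_ne_one T.order_t).symm
  have e2 : (1 : G) ≠ F.u := (Invol.invol_ne_one F.order_u).symm
  have e3 : (1 : G) ≠ T.t * F.u := (Invol.invol_ne_one F.order_tu).symm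
  rw [Finset.card_insert_of_notMem (by simp [e1, e2, e3]),
    Finset.card_insert_of_notMem (by simp [F.ne.symm, F.tu_ne_t.symm]),
    Finset.card_insert_of_notMem (by simpa using F.tu_ne_u.symm), Finset.card_singleton]

/-- `C(t) ∩ C(u) ∩ C(a)`. -/
def D : Subgroup G :=
  centralizer ({T.t} : Set G) ⊓ centralizer ({F.u} : Set G) ⊓ centralizer ({F.a} : Set G)

theorem mem_D {g : G} : g ∈ F.D ↔ Commute g T.t ∧ Commute g F.u ∧ Commute g F.a := by
  simp only [D, mem_inf, mem_centralizer_singleton_iff, and_assoc]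
  rfl

theorem card_D : Nat.card F.D = 4 * m := F.card_parts.1

theorem D_form {g : G} (hg : g ∈ F.D) : ∃ e ∈ F.V, ∃ i : ℤ, g = e * F.a ^ i := by
  obtain ⟨ht, hu, ha⟩ := F.mem_D.1 hg
  rcases F.struct g ht hu with ⟨e, he, h⟩ | ⟨-, h⟩
  · exact ⟨e, he, h⟩
  · exfalso
    rw [ha.eq, mul_inv_cancel_right] at h
    exact F.a_ne_inv h

theorem commute_V {e g : G} (he : e ∈ F.V) (hg : g ∈ F.D) : Commute g e := by
  obtain ⟨ht, hu, -⟩ := F.mem_D.1 hg
  rcases F.mem_V.1 he with rfl | rfl | rfl | rfl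
  exacts [Commute.one_right g, ht, hu, ht.mul_right hu]

theorem D_comm {g h : G} (hg : g ∈ F.D) (hh : h ∈ F.D) : Commute g h := by
  obtain ⟨e, he, i, rfl⟩ := F.D_form hh
  exact (F.commute_V he hg).mul_right ((F.mem_D.1 hg).2.2.zpow_right i)

theorem eq_one_of_a {g : G} (hg : g ∈ zpowers F.a) (h2 : g * g = 1) : g = 1 := by
  obtain ⟨i, rfl⟩ := mem_zpowers_iff.1 hg
  exact orderOf_eq_one_iff.1 (Nat.eq_one_of_dvd_coprimes (Nat.coprime_two_left.2 T.kit.m_odd)
    (orderOf_dvd_of_pow_eq_one (by rw [pow_two, h2]))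
    (orderOf_dvd_of_pow_eq_one (F.a_zpow_pow_m i)))

theorem mem_V_of_sq {g : G} (hg : g ∈ F.D) (h2 : g * g = 1) : g ∈ F.V := by
  obtain ⟨e, he, i, rfl⟩ := F.D_form hg
  have hc : Commute (F.a ^ i) e := by
    rcases F.mem_V.1 he with rfl | h
    · exact Commute.one_right _
    · exact (F.a_comm h).zpow_left i
  have h1 : F.a ^ i * F.a ^ i = 1 := by
    calc F.a ^ i * F.a ^ i = e * e * (F.a ^ i * F.a ^ i) := by rw [F.sq_V he, one_mul]
      _ = e * (e * F.a ^ i) * F.a ^ i := by group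
      _ = e * (F.a ^ i * e) * F.a ^ i := by rw [hc.eq]
      _ = e * F.a ^ i * (e * F.a ^ i) := by group
      _ = 1 := h2
  rw [F.eq_one_of_a (zpow_mem (mem_zpowers _) i) h1, mul_one]
  exact he

theorem commute_of_mem_A {v x : G} (hv : v ∈ zpowers F.a) (hx : Commute x F.a) : Commute x v := by
  obtain ⟨i, rfl⟩ := mem_zpowers_iff.1 hv
  exact hx.zpow_right i

theorem A_comm_V {v x : G} (hv : v ∈ zpowers F.a) (hx : F.InV x) : Commute v x :=
  (F.commute_of_mem_A hv (F.a_comm hx).symm).symm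

theorem orderOf_dvd_m {v : G} (hv : v ∈ zpowers F.a) : orderOf v ∣ m := by
  have := Subgroup.orderOf_dvd_natCard (zpowers F.a) hv
  rwa [Nat.card_zpowers, F.order_a] at this

/-- The centralizer of a torus element inside the centralizer of an involution of the four-group. -/
theorem cent_inter {v : G} (hv : v ∈ zpowers F.a) (hv1 : v ≠ 1) {i : G} (hi : F.InV i) {g : G}
    (hgi : Commute g i) (hgv : Commute g v) : g ∈ F.D := by
  obtain ⟨T', hT'⟩ := T.exists_setup (VFrame.InV.order F hi)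
  have hvi : Commute v T'.t := hT' ▸ F.A_comm_V hv hi
  have hvo : Odd (orderOf v) := T.kit.m_odd.of_dvd_nat (F.orderOf_dvd_m hv)
  have hvK := T'.mem_K_of_odd hvi hvo
  obtain ⟨w, hw, hC⟩ := T'.kit.cent_m (v := ⟨v, hvK⟩) (fun e => hv1 (congrArg Subtype.val e))
    (by rw [Subgroup.orderOf_mk]; exact F.orderOf_dvd_m hv)
  set H := centralizer ({T'.t} : Set G) ⊓ centralizer ({v} : Set G) with hH
  have hcard : Nat.card H = 4 * m := by
    rw [hH, show v = ((⟨v, hvK⟩ : T'.K) : G) from rfl, T'.card_cent_inf, hC, Nat.card_zpowers, hw]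
    ring
  have hle : F.D ≤ H := by
    intro x hx
    obtain ⟨ht, hu, ha⟩ := F.mem_D.1 hx
    rw [hH, mem_inf, mem_centralizer_singleton_iff, mem_centralizer_singleton_iff, hT']
    refine ⟨?_, (F.commute_of_mem_A hv ha).eq⟩
    rcases hi with rfl | rfl | rfl
    exacts [ht.eq, hu.eq, (ht.mul_right hu).eq]
  rw [eq_of_le_of_card_ge hle (by rw [hcard, F.card_D]), hH, mem_inf, mem_centralizer_singleton_iff,
    mem_centralizer_singleton_iff, hT']
  exact ⟨hgi.eq, hgv.eq⟩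

/-- The centralizer of a torus element normalizes the four-group. -/
theorem cent_perm {v : G} (hv : v ∈ zpowers F.a) (hv1 : v ≠ 1) {g : G} (hg : Commute g v) :
    F.InV (g * T.t * g⁻¹) ∧ F.InV (g * F.u * g⁻¹) := by
  classical
  haveI : Fact (Nat.Prime 2) := ⟨Nat.prime_two⟩
  set X := centralizer ({v} : Set G) with hX
  have hVX : F.V ≤ X := by
    intro e he
    rw [hX, mem_centralizer_singleton_iff]
    rcases F.mem_V.1 he with rfl | h
    · simp
    · exact (F.A_comm_V hv h).symm.eq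
  have hp : IsPGroup 2 (F.V.subgroupOf X) :=
    IsPGroup.of_card (n := 2) (by
      rw [Nat.card_congr (subgroupOfEquivOfLe hVX).toEquiv, F.card_V]; norm_num)
  obtain ⟨S, hS⟩ := hp.exists_le_sylow
  -- the Sylow subgroup is the four-group
  have hSV : (S : Subgroup X).map X.subtype = F.V := by
    have hVS : F.V ≤ (S : Subgroup X).map X.subtype := fun e he =>
      ⟨⟨e, hVX he⟩, hS (mem_subgroupOf.2 he), rfl⟩
    refine le_antisymm ?_ hVS
    intro g hg
    have hpS : IsPGroup 2 ((S : Subgroup X).map X.subtype) := S.2.map _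
    have hgv' : Commute g v := mem_centralizer_singleton_iff.1 (map_subtype_le _ hg)
    have hgt : Commute g T.t :=
      T.comm_of_isPGroup hpS hg (hVS (F.mem_V.2 (Or.inr (Or.inl rfl))))
    exact F.mem_V_of_sq (F.cent_inter hv hv1 (Or.inl rfl) hgt hgv')
      (by rw [← pow_two]; exact T.sq_of_isPGroup hpS hg)
  have hScard : Nat.card (S : Subgroup X) = 4 := by
    rw [← F.card_V, ← hSV, card_map_of_injective X.subtype_injective]
  by_cases hn : (S : Subgroup X).Normal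
  · have hmem : ∀ y, F.InV y → F.InV (g * y * g⁻¹) := by
      intro y hy
      have h1 : y ∈ (S : Subgroup X).map X.subtype := hSV ▸ F.mem_V.2 (Or.inr hy)
      obtain ⟨z, hz, rfl⟩ := h1
      have h2 := hn.conj_mem z hz ⟨g, mem_centralizer_singleton_iff.2 hg.eq⟩
      have h3 : g * (z : G) * g⁻¹ ∈ F.V := hSV ▸ ⟨_, h2, rfl⟩
      refine (F.mem_V.1 h3).resolve_left fun e => ?_
      have h4 := VFrame.InV.order F hy
      rw [Subgroup.coe_subtype, conj_eq_one_iff.1 e, orderOf_one] at h4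
      norm_num at h4
    exact ⟨hmem _ (Or.inl rfl), hmem _ (Or.inr (Or.inl rfl))⟩
  exfalso
  have hdata : AbCent.Data S := by
    refine ⟨?_, hn, ?_⟩
    · intro hcyc
      obtain ⟨c, hc⟩ := IsCyclic.exists_ofOrder_eq_natCard (α := (S : Subgroup X))
      have hcV : ((c : X) : G) ∈ F.V := hSV ▸ ⟨c, c.2, rfl⟩
      have h2 := orderOf_dvd_of_pow_eq_one ((pow_two ((c : X) : G)).trans (F.sq_V hcV))
      rw [Subgroup.orderOf_coe, Subgroup.orderOf_coe, hc, hScard] at h2
      norm_num at h2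
    · intro y hy
      obtain ⟨P, hP⟩ := (IsPGroup.of_card (G := zpowers y) (p := 2) (n := 1)
        (by rw [Nat.card_zpowers, hy, pow_one])).exists_le_sylow
      obtain ⟨d, hd⟩ := MulAction.exists_smul_eq X P S
      have hdy : d * y * d⁻¹ ∈ (S : Subgroup X) := by
        rw [← hd, Sylow.coe_subgroup_smul]
        exact mem_map_of_mem _ (hP (mem_zpowers y))
      have hi : F.InV ((d * y * d⁻¹ : X) : G) :=
        (F.mem_V.1 (hSV ▸ ⟨_, hdy, rfl⟩ : ((d * y * d⁻¹ : X) : G) ∈ F.V)).resolve_left fun e => by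
          have h2 := Invol.invol_conj hy d
          rw [← Subgroup.orderOf_coe, e, orderOf_one] at h2
          norm_num at h2
      refine ⟨⟨fun a b => ?_⟩⟩
      have hD : ∀ a : centralizer ({y} : Set X), ((d * (a : X) * d⁻¹ : X) : G) ∈ F.D := by
        intro a
        have ha : Commute (a : X) y := mem_centralizer_singleton_iff.1 a.2
        exact F.cent_inter hv hv1 hi
          ((ha.map (MulAut.conj d)).map X.subtype)
          (mem_centralizer_singleton_iff.1 (d * (a : X) * d⁻¹ : X).2)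
      have h := F.D_comm (hD a) (hD b)
      have h' : Commute (d * (a : X) * d⁻¹) (d * (b : X) * d⁻¹) := Subtype.ext h.eq
      apply Subtype.ext
      apply (MulAut.conj d).injective
      push_cast
      rw [map_mul, map_mul]
      exact h'.eq
  obtain ⟨-, Fl, _, _, hchar, φ, hsur, hker, hodd⟩ := AbCent.target _ X rfl S hdata
  have hq4 : Fintype.card Fl = 4 := by
    obtain ⟨f, hp2, hf⟩ := FiniteField.card Fl 2
    have hc : Nat.card X = Nat.card φ.ker * Nat.card (Matrix.SpecialLinearGroup (Fin 2) Fl) := by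
      rw [← card_mul_index φ.ker, index_ker, MonoidHom.range_eq_top.2 hsur, card_top]
    rw [Classical.card_sl2, hf] at hc
    have hpos : 0 < (2 : ℕ) ^ (f : ℕ) := pow_pos two_pos _
    have hev : (2 : ℕ) ^ (f : ℕ) % 2 = 0 := Nat.mod_eq_zero_of_dvd (dvd_pow_self 2 f.pos.ne')
    have hrest : ¬ 2 ∣ Nat.card φ.ker * ((2 ^ (f : ℕ) - 1) * (2 ^ (f : ℕ) + 1)) := by
      intro hd
      rcases Nat.prime_two.dvd_mul.1 hd with h | h
      · exact Nat.not_even_iff_odd.2 hodd (even_iff_two_dvd.2 h)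
      · rcases Nat.prime_two.dvd_mul.1 h with h | h <;> omega
    have h1 := S.card_eq_multiplicity
    rw [hScard, hc, show Nat.card φ.ker * (2 ^ (f : ℕ) * ((2 ^ (f : ℕ) - 1) * (2 ^ (f : ℕ) + 1))) =
      2 ^ (f : ℕ) * (Nat.card φ.ker * ((2 ^ (f : ℕ) - 1) * (2 ^ (f : ℕ) + 1))) by ring,
      Nat.factorization_mul (pow_pos two_pos _).ne' (fun e => hrest (by rw [e]; exact dvd_zero 2)),
      Finsupp.add_apply, Nat.factorization_eq_zero_of_not_dvd hrest,
      Nat.Prime.factorization_pow Nat.prime_two, Finsupp.single_eq_same, add_zero] at h1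
    rw [hf, ← h1]
  -- the kernel has order prime to six
  have hkerm : ∀ z ∈ φ.ker, (z : X) ^ m = 1 := by
    intro z hz
    have ht : T.t ∈ X := hVX (F.mem_V.2 (Or.inr (Or.inl rfl)))
    have hzt : Commute (z : G) T.t :=
      (congrArg Subtype.val (mem_center_iff.1 (hker hz) ⟨T.t, ht⟩) :).symm
    obtain ⟨-, hzu, -⟩ := F.mem_D.1
      (F.cent_inter hv hv1 (Or.inl rfl) hzt (mem_centralizer_singleton_iff.1 z.2))
    have hA := F.mem_A_of_odd hzt hzu
      (by rw [Subgroup.orderOf_coe]; exact hodd.of_dvd_nat (Subgroup.orderOf_dvd_natCard _ hz))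
    exact Subtype.ext (by push_cast; exact orderOf_dvd_iff_pow_eq_one.1 (F.orderOf_dvd_m hA))
  have hk3 : ¬ 3 ∣ Nat.card φ.ker := by
    intro hd
    haveI : Fact (Nat.Prime 3) := ⟨Nat.prime_three⟩
    obtain ⟨z, hz⟩ := exists_prime_orderOf_dvd_card' (G := φ.ker) 3 hd
    rw [← Subgroup.orderOf_coe] at hz
    exact T.kit.three_not_m (hz ▸ orderOf_dvd_of_pow_eq_one (hkerm _ z.2))
  -- an element of order three of `SL(2, 4)` and its companions
  obtain ⟨ω, hω⟩ : ∃ ω : Flˣ, orderOf ω = 3 := by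
    obtain ⟨ω, hω⟩ := IsCyclic.exists_ofOrder_eq_natCard (α := Flˣ)
    exact ⟨ω, by rw [hω, Nat.card_units, Nat.card_eq_fintype_card, hq4]⟩
  have hω3 : ω ^ 3 = 1 := by rw [← hω, pow_orderOf_eq_one]
  have hω1 : ω ≠ 1 := fun e => by rw [e, orderOf_one] at hω; norm_num at hω
  have hchar2 : ∀ x : Fl, x + x = 0 := CharTwo.add_self_eq_zero
  have hsum : (1 : Fl) + (ω : Fl) * ω = ω := by
    have h1 : ((ω : Fl) - 1) * ((ω : Fl) * ω + ω + 1) = 0 := by
      have h3 : (ω : Fl) ^ 3 = 1 := by rw [← Units.val_pow_eq_pow_val, hω3, Units.val_one]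
      linear_combination h3
    have h2 := (mul_eq_zero.1 h1).resolve_left (sub_ne_zero.2 fun e => hω1 (Units.ext e))
    linear_combination h2 - hchar2 (ω : Fl)
  set d := TwoChars.elS ω (0 : Fl) with hd
  have hd3 : d ^ 3 = 1 := by
    rw [pow_three, hd, TwoChars.elS_mul, TwoChars.elS_mul, mul_zero, zero_mul, add_zero, mul_zero,
      zero_mul, add_zero, show ω * (ω * ω) = 1 by rw [← pow_three, hω3], TwoChars.elS_one_zero]
  let w : Matrix.SpecialLinearGroup (Fin 2) Fl :=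
    ⟨!![0, 1; 1, 0], by simp [Matrix.det_fin_two, CharTwo.neg_eq]⟩
  have hwd : w * d = TwoChars.elS ω⁻¹ (0 : Fl) * w := by
    apply Subtype.ext
    rw [Matrix.SpecialLinearGroup.coe_mul, Matrix.SpecialLinearGroup.coe_mul, hd, TwoChars.elS_val,
      TwoChars.elS_val]
    ext i j
    fin_cases i <;> fin_cases j <;> simp [w, Matrix.mul_apply, Fin.sum_univ_two]
  have hdinv : TwoChars.elS ω⁻¹ (0 : Fl) * d = 1 := by
    rw [hd, TwoChars.elS_mul, inv_mul_cancel, mul_zero, zero_mul, add_zero, TwoChars.elS_one_zero]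
  have hdU : ∀ x : Fl, d * TwoChars.elS 1 x = TwoChars.elS 1 ((ω : Fl) * ω * x) * d := by
    intro x
    rw [hd, TwoChars.elS_mul, TwoChars.elS_mul, mul_one, one_mul]
    congr 1
    rw [inv_one, Units.val_one, zero_mul, mul_zero, add_zero, zero_add,
      mul_comm ((ω : Fl) * ω) x, mul_assoc x, mul_assoc (ω : Fl), Units.mul_inv, mul_one, mul_comm]
  -- lifts
  have hU1 : TwoChars.elS (1 : Flˣ) (1 : Fl) * TwoChars.elS (1 : Flˣ) (1 : Fl) = 1 := by
    rw [TwoChars.elS_mul, mul_one, inv_one, Units.val_one, one_mul, hchar2, TwoChars.elS_one_zero]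
  obtain ⟨s₁, hs₁, hφ₁⟩ := AbCent.exists_lift_invol φ hsur hodd hU1
  obtain ⟨d', hd'⟩ := hsur d
  set k := Nat.card φ.ker with hk
  have hd'3 : d' ^ 3 ∈ φ.ker := by rw [MonoidHom.mem_ker, map_pow, hd', hd3]
  have hkk : ∃ l, k * k = 3 * l + 1 := by
    refine ⟨k * k / 3, ?_⟩
    have : k * k % 3 = 1 := by
      rw [Nat.mul_mod]
      have h1 : k % 3 = 1 ∨ k % 3 = 2 := by omega
      rcases h1 with h1 | h1 <;> rw [h1]
    omega
  obtain ⟨l, hl⟩ := hkk
  set τ := d' ^ (k * k) with hτ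
  have hτd : φ τ = d := by
    rw [hτ, map_pow, hd', hl, pow_succ, pow_mul, hd3, one_pow, one_mul]
  have hτ3 : τ ^ 3 = 1 := by
    rw [hτ, ← pow_mul, mul_comm, pow_mul, pow_mul]
    have : (d' ^ 3) ^ k = 1 :=
      congrArg Subtype.val (pow_card_eq_one' (x := (⟨d' ^ 3, hd'3⟩ : φ.ker)))
    rw [this, one_pow]
  have hτ1 : τ ≠ 1 := by
    intro e
    rw [e, map_one, ← TwoChars.elS_one_zero] at hτd
    exact hω1 (Units.ext (by simpa [hd, TwoChars.elS_val] using
      (congrArg (fun z : Matrix.SpecialLinearGroup (Fin 2) Fl => z.1 0 0) hτd).symm))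
  have huniq : ∀ y z : X, y * y = 1 → z * z = 1 → φ y = φ z → y = z := by
    intro y z hy hz e
    have hc : y * z⁻¹ ∈ φ.ker := by rw [MonoidHom.mem_ker, map_mul, map_inv, e, mul_inv_cancel]
    have hcz : Commute (y * z⁻¹) z := (mem_center_iff.1 (hker hc) z).symm
    have h2 : (y * z⁻¹) * (y * z⁻¹) = 1 := by
      calc (y * z⁻¹) * (y * z⁻¹) = (y * z⁻¹) * (y * z⁻¹) * (z * z) := by rw [hz, mul_one]
        _ = (y * z⁻¹) * ((y * z⁻¹) * z) * z := by group
        _ = (y * z⁻¹) * (z * (y * z⁻¹)) * z := by rw [hcz.eq]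
        _ = y * y := by group
        _ = 1 := hy
    have h3 : orderOf (y * z⁻¹) = 1 := Nat.eq_one_of_dvd_coprimes (Nat.coprime_two_left.2 hodd)
      (orderOf_dvd_of_pow_eq_one ((pow_two _).trans h2)) (Subgroup.orderOf_dvd_natCard _ hc)
    exact mul_inv_eq_one.1 (orderOf_eq_one_iff.1 h3)
  set s₂ := τ * s₁ * τ⁻¹ with hs₂d
  set s₃ := τ * s₂ * τ⁻¹ with hs₃d
  have hs₂ : s₂ * s₂ = 1 := by
    rw [hs₂d, show τ * s₁ * τ⁻¹ * (τ * s₁ * τ⁻¹) = τ * (s₁ * s₁) * τ⁻¹ by group, hs₁, mul_one,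
      mul_inv_cancel]
  have hs₃ : s₃ * s₃ = 1 := by
    rw [hs₃d, show τ * s₂ * τ⁻¹ * (τ * s₂ * τ⁻¹) = τ * (s₂ * s₂) * τ⁻¹ by group, hs₂, mul_one,
      mul_inv_cancel]
  have hφ₂ : φ s₂ = TwoChars.elS 1 ((ω : Fl) * ω) := by
    rw [hs₂d, map_mul, map_mul, map_inv, hτd, hφ₁, hdU, mul_inv_cancel_right, mul_one]
  have hφ₃ : φ s₃ = TwoChars.elS 1 (ω : Fl) := by
    rw [hs₃d, map_mul, map_mul, map_inv, hτd, hφ₂, hdU, mul_inv_cancel_right]
    congr 1
    have h3 : (ω : Fl) ^ 3 = 1 := by rw [← Units.val_pow_eq_pow_val, hω3, Units.val_one]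
    linear_combination (ω : Fl) * h3
  have hUcomm : ∀ a b : Fl, TwoChars.elS (1 : Flˣ) a * TwoChars.elS 1 b = TwoChars.elS 1 (a + b) :=
    fun a b => by
      rw [TwoChars.elS_mul, mul_one, inv_one, Units.val_one, one_mul, mul_one, add_comm]
  have h12 : Commute s₁ s₂ := by
    have h := huniq (s₁ * s₂ * s₁⁻¹) s₂
      (by rw [show s₁ * s₂ * s₁⁻¹ * (s₁ * s₂ * s₁⁻¹) = s₁ * (s₂ * s₂) * s₁⁻¹ by group, hs₂, mul_one,
        mul_inv_cancel]) hs₂
      (by rw [map_mul, map_mul, map_inv, hφ₁, hφ₂, hUcomm, add_comm, ← hUcomm, mul_inv_cancel_right])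
    exact mul_inv_eq_iff_eq_mul.1 h
  have h3eq : s₃ = s₁ * s₂ := huniq _ _ hs₃
    (by rw [← pow_two, h12.mul_pow, pow_two, pow_two, hs₁, hs₂, one_mul])
    (by rw [map_mul φ s₁ s₂, hφ₁, hφ₂, hφ₃, hUcomm, hsum])
  have hUne : ∀ a b : Fl, TwoChars.elS (1 : Flˣ) a = TwoChars.elS 1 b → a = b := fun a b e => by
    simpa [TwoChars.elS_val] using congrArg (fun z : Matrix.SpecialLinearGroup (Fin 2) Fl => z.1 0 1) e
  have hs₁1 : s₁ ≠ 1 := fun e => one_ne_zero (α := Fl) (hUne _ _ (by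
    rw [← hφ₁, e, map_one, TwoChars.elS_one_zero]))
  have hs₂1 : s₂ ≠ 1 := fun e => hs₁1 (conj_eq_one_iff.1 e)
  have hne : s₂ ≠ s₁ := fun e => by
    have h2 := hUne _ _ (hφ₂.symm.trans ((congrArg φ e).trans hφ₁))
    rw [h2, hchar2] at hsum
    exact Units.ne_zero ω hsum.symm
  -- back in `G`
  have ho : ∀ {y : X}, y * y = 1 → y ≠ 1 → orderOf (y : G) = 2 := fun {y} h1 h2 => by
    rw [Subgroup.orderOf_coe, Invol.invol_iff]; exact ⟨h1, h2⟩
  obtain ⟨T', hT'⟩ := T.exists_setup (ho hs₁ hs₁1)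
  obtain ⟨F', hF'⟩ := T'.exists_frame (ho hs₂ hs₂1)
    (hT' ▸ (h12.symm.map X.subtype : Commute (s₂ : G) (s₁ : G)))
    (hT' ▸ fun e => hne (Subtype.ext e))
  obtain ⟨s, hs, hτs⟩ := F'.exists_fixed (g := (τ : G))
    (by rw [← SubgroupClass.coe_pow, hτ3]; rfl)
    (Or.inr (Or.inl (by rw [hT', hF', hs₂d]; push_cast; rfl)))
    (Or.inr (Or.inr (by
      rw [hT', hF', show (s₁ : G) * (s₂ : G) = ((s₁ * s₂ : X) : G) from rfl, ← h3eq, hs₃d]
      push_cast
      rfl)))
  have hτo : orderOf (τ : G) = 3 :=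
    orderOf_eq_prime (by rw [← SubgroupClass.coe_pow, hτ3]; rfl) fun e => hτ1 (Subtype.ext e)
  obtain ⟨w', hw'⟩ := hsur w
  refine T.not_inverted_three (g := (w' : G)) hτo hs.2.2.1 hτs ?_
  set z := w' * τ * w'⁻¹ * τ with hzd
  have hzk : z ∈ φ.ker := by
    rw [MonoidHom.mem_ker, hzd, map_mul, map_mul, map_mul, map_inv, hw', hτd, hwd,
      mul_inv_cancel_right, hdinv]
  have hzτ : Commute z τ⁻¹ := (mem_center_iff.1 (hker hzk) τ⁻¹).symm
  have hz3 : z ^ 3 = 1 := by
    have h1 : (z * τ⁻¹) ^ 3 = 1 := by rw [hzd, mul_inv_cancel_right, conj_pow, hτ3, mul_one,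
      mul_inv_cancel]
    rwa [hzτ.mul_pow, inv_pow, hτ3, inv_one, mul_one] at h1
  have hz1 : z = 1 := orderOf_eq_one_iff.1 (Nat.eq_one_of_dvd_coprimes
    (Nat.prime_three.coprime_iff_not_dvd.2 T.kit.three_not_m)
    (orderOf_dvd_of_pow_eq_one hz3) (orderOf_dvd_of_pow_eq_one (hkerm z hzk)))
  have h := congrArg Subtype.val hz1
  rw [hzd] at h
  push_cast at h
  exact eq_inv_of_mul_eq_one_left h

end VFrame

end Setup

end CfsgLib.ReeType
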