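import Cfsg.Agent.Lib.Ree.TorusA

/-!
# Groups of Ree type: elements of order dividing `(q-1)/2`
-/

set_option autoImplicit false
set_option linter.unusedSectionVars false

namespace CfsgLib.ReeType

open Subgroup

universe u

variable {G : Type u} [Group G] [Finite G]

/-- Two involutions of a subgroup of order twice odd are conjugate in it. -/
theorem conj_of_not_four {H : Subgroup G} (h4 : ¬ 4 ∣ Nat.card H) {i j : G} (hi : i ∈ H)
    (hio : orderOf i = 2) (hj : j ∈ H) (hjo : orderOf j = 2) : ∃ h ∈ H, h * i * h⁻¹ = j := by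
  haveI : Fact (Nat.Prime 2) := ⟨Nat.prime_two⟩
  have hpg : ∀ {y : H}, orderOf y = 2 → ∃ P : Sylow 2 H, (P : Subgroup H) = zpowers y := by
    intro y hy
    obtain ⟨P, hP⟩ := (IsPGroup.of_card (G := zpowers y) (p := 2) (n := 1)
      (by rw [Nat.card_zpowers, hy, pow_one])).exists_le_sylow
    refine ⟨P, (eq_of_le_of_card_ge hP ?_).symm⟩
    obtain ⟨l, hl⟩ := P.2.exists_card_eq
    rw [hl, Nat.card_zpowers, hy]
    rcases l with - | - | l
    · norm_num
    · norm_num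
    · exfalso
      refine h4 (dvd_trans ?_ (card_subgroup_dvd_card (P : Subgroup H)))
      rw [hl, pow_succ, pow_succ, mul_assoc]
      exact dvd_mul_left 4 _
  have hio' : orderOf (⟨i, hi⟩ : H) = 2 := by rw [orderOf_mk, hio]
  have hjo' : orderOf (⟨j, hj⟩ : H) = 2 := by rw [orderOf_mk, hjo]
  obtain ⟨P, hP⟩ := hpg hio'
  obtain ⟨Q, hQ⟩ := hpg hjo'
  obtain ⟨h, hh⟩ := MulAction.exists_smul_eq H P Q
  refine ⟨h, h.2, ?_⟩
  have h1 : h * ⟨i, hi⟩ * h⁻¹ ∈ zpowers (⟨j, hj⟩ : H) := by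
    rw [← hQ, ← hh, Sylow.coe_subgroup_smul]
    exact mem_map_of_mem _ (hP ▸ mem_zpowers _)
  have h2 : h * ⟨i, hi⟩ * h⁻¹ = (⟨j, hj⟩ : H) := by
    obtain ⟨l, hl⟩ := mem_zpowers_iff.1 h1
    rcases Int.even_or_odd l with ⟨c, rfl⟩ | ⟨c, rfl⟩
    · exfalso
      rw [← two_mul, zpow_mul, zpow_two, ← pow_two, ← hjo', pow_orderOf_eq_one, one_zpow] at hl
      rw [conj_eq_one_iff.1 hl.symm, orderOf_one] at hio'
      norm_num at hio'
    · rw [← hl, zpow_add, zpow_mul, zpow_two, ← pow_two, ← hjo', pow_orderOf_eq_one, one_zpow,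
        one_mul, zpow_one]
  exact congrArg Subtype.val h2

namespace Setup

variable {q m n : ℕ} (T : Setup G q m n)

/-- A four-group acting on a subgroup of odd order: generation by fixed points. -/
theorem le_of_four {u : G} (hu : orderOf u = 2) (hc : Commute u T.t) (hne : u ≠ T.t)
    {H W : Subgroup G} (hodd : Odd (Nat.card H)) (htn : T.t ∈ normalizer (H : Set G))
    (hun : u ∈ normalizer (H : Set G)) (h1 : H ⊓ centralizer ({T.t} : Set G) ≤ W)
    (h2 : H ⊓ centralizer ({u} : Set G) ≤ W) (h3 : H ⊓ centralizer ({T.t * u} : Set G) ≤ W) :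
    H ≤ W := by
  obtain ⟨F, rfl⟩ := T.exists_frame hu hc hne
  haveI : IsMulCommutative F.V := ⟨⟨fun a b => Subtype.ext (by
    rcases F.mem_V.1 a.2 with ha | ha
    · push_cast; rw [ha, one_mul, mul_one]
    · rcases F.mem_V.1 b.2 with hb | hb
      · push_cast; rw [hb, one_mul, mul_one]
      · exact (VFrame.InV.commute F ha hb).eq)⟩⟩
  refine Coprime.le_of_centralizers_le (A := F.V) ?_ ?_ ?_ ?_
  · intro hcyc
    obtain ⟨c, hc⟩ := IsCyclic.exists_ofOrder_eq_natCard (α := F.V)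
    have h := orderOf_dvd_of_pow_eq_one ((pow_two (c : G)).trans (F.sq_V c.2))
    rw [Subgroup.orderOf_coe, hc, F.card_V] at h
    norm_num at h
  · intro e he
    rcases F.mem_V.1 he with rfl | rfl | rfl | rfl
    exacts [one_mem _, htn, hun, mul_mem htn hun]
  · rw [F.card_V, show (4 : ℕ) = 2 ^ 2 by norm_num]
    exact (Nat.coprime_two_left.2 hodd).pow_left 2
  · intro e he he1
    rcases (F.mem_V.1 he).resolve_left he1 with rfl | rfl | rfl
    exacts [h1, h2, h3]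

/-- A four-group invariant Sylow subgroup above a given invariant `p`-subgroup. -/
theorem exists_four_sylow {u : G} (hu : orderOf u = 2) (hc : Commute u T.t) (hne : u ≠ T.t)
    {p : ℕ} [Fact p.Prime] {H U : Subgroup G} (hodd : Odd (Nat.card H))
    (htn : T.t ∈ normalizer (H : Set G)) (hun : u ∈ normalizer (H : Set G))
    (hUH : U ≤ H) (hU : IsPGroup p U)
    (htU : T.t ∈ normalizer (U : Set G)) (huU : u ∈ normalizer (U : Set G)) :
    ∃ P : Subgroup G, Coprime.IsSylowIn p P H ∧ U ≤ P ∧ T.t ∈ normalizer (P : Set G) ∧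
      u ∈ normalizer (P : Set G) := by
  obtain ⟨F, rfl⟩ := T.exists_frame hu hc hne
  have hle : ∀ {N : Subgroup G}, T.t ∈ N → F.u ∈ N → F.V ≤ N := fun {N} h1 h2 e he => by
    rcases F.mem_V.1 he with rfl | rfl | rfl | rfl
    exacts [one_mem _, h1, h2, mul_mem h1 h2]
  have hsolv : Group.IsSolvable F.V := Group.isSolvable_of_comm fun a b => Subtype.ext (by
    rcases F.mem_V.1 a.2 with ha | ha
    · push_cast; rw [ha, one_mul, mul_one]
    · rcases F.mem_V.1 b.2 with hb | hb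
      · push_cast; rw [hb, one_mul, mul_one]
      · exact (VFrame.InV.commute F ha hb).eq)
  obtain ⟨P, hP, hUP, hVP⟩ := Coprime.le_invariant_sylow (A := F.V) (K := H) (hle htn hun)
    (by rw [F.card_V, show (4 : ℕ) = 2 ^ 2 by norm_num]
        exact (Nat.coprime_two_left.2 hodd).pow_left 2)
    (Or.inl hsolv) hUH hU (hle htU huU)
  exact ⟨P, hP, hUP, hVP (F.mem_V.2 (Or.inr (Or.inl rfl))),
    hVP (F.mem_V.2 (Or.inr (Or.inr (Or.inl rfl))))⟩

/-- An element of order dividing `(q+1)/4` lies in the torus of some four-group. -/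
theorem exists_frame_mem {x : G} (hxt : Commute x T.t) (hx1 : x ≠ 1) (hxm : orderOf x ∣ m) :
    ∃ F : VFrame T, x ∈ zpowers F.a := by
  have hxo : Odd (orderOf x) := T.kit.m_odd.of_dvd_nat hxm
  have hxK := T.mem_K_of_odd hxt hxo
  obtain ⟨w, hw, hC⟩ := T.kit.cent_m (v := ⟨x, hxK⟩) (fun e => hx1 (congrArg Subtype.val e))
    (by rwa [Subgroup.orderOf_mk])
  have huo : orderOf ((w ^ m : T.K) : G) = 2 := by
    rw [Subgroup.orderOf_coe, orderOf_pow, hw, Nat.gcd_mul_left_left,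
      Nat.mul_div_cancel _ T.kit.m_pos]
  obtain ⟨F, hF⟩ := T.exists_frame huo (T.comm_t _ (w ^ m).2)
    (fun e => T.not_mem (e ▸ (w ^ m).2))
  refine ⟨F, F.mem_A_of_odd hxt ?_ hxo⟩
  rw [hF]
  have h : (w ^ m : T.K) ∈ centralizer ({(⟨x, hxK⟩ : T.K)} : Set T.K) := hC ▸ pow_mem (mem_zpowers w) m
  exact (congrArg Subtype.val (mem_centralizer_singleton_iff.1 h) :).symm

include T in
/-- Odd elements commuting with an element of order dividing `(q+1)/4` have such orders. -/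
theorem orderOf_dvd_m_of_commute {x y i : G} (hi : orderOf i = 2) (hxi : Commute x i) (hx1 : x ≠ 1)
    (hxm : orderOf x ∣ m) (hy : Odd (orderOf y)) (hyx : Commute y x) : orderOf y ∣ m := by
  obtain ⟨T', rfl⟩ := T.exists_setup hi
  obtain ⟨F, hF⟩ := T'.exists_frame_mem hxi hx1 hxm
  obtain ⟨h1, h2, -⟩ := F.mem_D.1 (F.cent_A hF hx1 hyx)
  exact F.orderOf_dvd_m (F.mem_A_of_odd h1 h2 hy)

/-- An element of order dividing `(q-1)/2` with its torus and an inverting involution. -/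
structure NFrame (T : Setup G q m n) where
  v : G
  w : G
  u : G
  v_ne : v ≠ 1
  v_mem : v ∈ zpowers w
  order_w : orderOf w = n
  w_t : Commute w T.t
  order_u : orderOf u = 2
  u_t : Commute u T.t
  u_w : u * w * u⁻¹ = w⁻¹
  cent : ∀ g, Commute g T.t → Commute g v → g ∈ zpowers w ∨ T.t * g ∈ zpowers w
  norm : ∀ g, Commute g T.t → g * v * g⁻¹ ∈ zpowers v →
    ∃ e, (e = 1 ∨ e = T.t ∨ e = u ∨ e = T.t * u) ∧ ∃ i : ℤ, g = e * w ^ i

theorem exists_inverter {v : G} (hv : Commute v T.t) (hv1 : v ≠ 1) (hvn : orderOf v ∣ n) :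
    ∃ u : G, orderOf u = 2 ∧ Commute u T.t ∧ u * v * u⁻¹ = v⁻¹ := by
  have hvo : Odd (orderOf v) := T.kit.data.mo_odd.of_dvd_nat hvn
  have hvK := T.mem_K_of_odd hv hvo
  obtain ⟨w, -, hC, -, u, hu, hinv⟩ := T.kit.cent_n (v := ⟨v, hvK⟩)
    (fun e => hv1 (congrArg Subtype.val e)) (by rwa [Subgroup.orderOf_mk])
  refine ⟨u, (Subgroup.orderOf_coe u).trans hu, T.comm_t _ u.2, ?_⟩
  exact congrArg Subtype.val (hinv ⟨v, hvK⟩ (hC ▸ mem_centralizer_singleton_iff.2 rfl))

theorem exists_nframe {v : G} (hv : Commute v T.t) (hv1 : v ≠ 1) (hvn : orderOf v ∣ n) {u : G}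
    (hu : orderOf u = 2) (hut : Commute u T.t) (huv : u * v * u⁻¹ = v⁻¹) :
    ∃ N : NFrame T, N.v = v ∧ N.u = u := by
  have hvo : Odd (orderOf v) := T.kit.data.mo_odd.of_dvd_nat hvn
  have hvK := T.mem_K_of_odd hv hvo
  obtain ⟨w, hw, hC, hN, u₀, hu₀, hinv⟩ := T.kit.cent_n (v := ⟨v, hvK⟩)
    (fun e => hv1 (congrArg Subtype.val e)) (by rwa [Subgroup.orderOf_mk])
  have hvw : (⟨v, hvK⟩ : T.K) ∈ zpowers w := hC ▸ mem_centralizer_singleton_iff.2 rfl
  have hvw' : v ∈ zpowers (w : G) := by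
    obtain ⟨i, hi⟩ := mem_zpowers_iff.1 hvw
    refine mem_zpowers_iff.2 ⟨i, ?_⟩
    rw [← SubgroupClass.coe_zpow, hi]
  have hwt : Commute (w : G) T.t := T.comm_t _ w.2
  have hu₀v : u₀ * ⟨v, hvK⟩ * u₀⁻¹ = (⟨v, hvK⟩ : T.K)⁻¹ := hinv _ hvw
  have hwN : zpowers w ≤ normalizer (zpowers (⟨v, hvK⟩ : T.K) : Set T.K) := by
    refine le_trans ?_ (Subgroup.centralizer_le_normalizer _)
    exact PSLSpectrum.zpowers_le_centralizer' (zpowers_le.2 hvw)
  have hu₀N : u₀ ∈ normalizer (zpowers (⟨v, hvK⟩ : T.K) : Set T.K) := by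
    rw [mem_normalizer_iff]
    intro y
    constructor
    · intro hy
      obtain ⟨i, rfl⟩ := mem_zpowers_iff.1 hy
      rw [← conj_zpow, hu₀v]
      exact zpow_mem (inv_mem (mem_zpowers _)) i
    · intro hy
      obtain ⟨i, hi⟩ := mem_zpowers_iff.1 hy
      refine mem_zpowers_iff.2 ⟨-i, ?_⟩
      apply (MulAut.conj u₀).injective
      rw [map_zpow, MulAut.conj_apply, MulAut.conj_apply, hu₀v, inv_zpow', neg_neg, hi]
  have hu₀w : u₀ ∉ zpowers w := by
    intro h
    have h1 := Subgroup.orderOf_dvd_natCard _ h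
    rw [Nat.card_zpowers, hw, hu₀] at h1
    exact T.kit.data.two_not_mo h1
  have hidx : ((zpowers w).subgroupOf (normalizer (zpowers (⟨v, hvK⟩ : T.K) : Set T.K))).index = 2 := by
    have h1 := PSLSpectrum.card_mul_relIndex' hwN
    rw [hN, Nat.card_zpowers, hw, mul_comm 2 n] at h1
    exact mul_left_cancel₀ (by have := T.kit.q_ge; have := T.kit.hn; omega) h1
  -- the elements of `C(t)` normalizing `⟨v⟩`
  have hform : ∀ g, Commute g T.t → g * v * g⁻¹ ∈ zpowers v →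
      ∃ e, (e = 1 ∨ e = T.t ∨ e = (u₀ : G) ∨ e = T.t * u₀) ∧ ∃ i : ℤ, g = e * (w : G) ^ i := by
    intro g hgt hgv
    obtain ⟨y, hy⟩ := T.exists_split hgt
    have hyv : (y : G) * v * (y : G)⁻¹ ∈ zpowers v := by
      rcases hy with rfl | rfl
      · exact hgv
      · obtain ⟨i, hi⟩ := mem_zpowers_iff.1 hgv
        refine mem_zpowers_iff.2 ⟨i, ?_⟩
        have h1 : T.t⁻¹ * v ^ i * T.t = v ^ i := by
          rw [mul_assoc, (hv.zpow_left i).eq, inv_mul_cancel_left]
        calc v ^ i = T.t⁻¹ * (T.t * y * v * (T.t * y)⁻¹) * T.t := by rw [← hi, h1]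
          _ = _ := by group
    have hyN : y ∈ normalizer (zpowers (⟨v, hvK⟩ : T.K) : Set T.K) := by
      have h1 : y * ⟨v, hvK⟩ * y⁻¹ ∈ zpowers (⟨v, hvK⟩ : T.K) := by
        obtain ⟨i, hi⟩ := mem_zpowers_iff.1 hyv
        exact mem_zpowers_iff.2 ⟨i, Subtype.ext (by push_cast; exact hi)⟩
      refine mem_normalizer_iff_map_conj_eq.2 (eq_of_le_of_card_ge ?_ ?_)
      · rw [MonoidHom.map_zpowers, zpowers_le]
        exact h1
      · rw [card_map_of_injective (MulAut.conj y).injective]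
    have hy' : y ∈ zpowers w ∨ u₀ * y ∈ zpowers w := by
      by_cases h : y ∈ zpowers w
      · exact Or.inl h
      · refine Or.inr (mem_subgroupOf.1 ((mul_mem_iff_of_index_two hidx (a := ⟨u₀, hu₀N⟩)
          (b := ⟨y, hyN⟩)).2 (iff_of_false (fun e => hu₀w (mem_subgroupOf.1 e))
            fun e => h (mem_subgroupOf.1 e))))
    have hu₂ : (u₀ : G) * (u₀ : G) = 1 := Invol.invol_mul_self ((Subgroup.orderOf_coe u₀).trans hu₀)
    rcases hy' with h | h <;> obtain ⟨i, hi⟩ := mem_zpowers_iff.1 h <;>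
      have hi' := congrArg Subtype.val hi <;> push_cast at hi' <;> rcases hy with rfl | rfl
    · exact ⟨1, Or.inl rfl, i, by rw [one_mul, hi']⟩
    · exact ⟨T.t, Or.inr (Or.inl rfl), i, by rw [hi']⟩
    · exact ⟨u₀, Or.inr (Or.inr (Or.inl rfl)), i, by rw [hi', ← mul_assoc, hu₂, one_mul]⟩
    · exact ⟨T.t * u₀, Or.inr (Or.inr (Or.inr rfl)), i,
        by rw [hi', mul_assoc, ← mul_assoc (u₀ : G), hu₂, one_mul]⟩
  have hu₀w' : (u₀ : G) * (w : G) * (u₀ : G)⁻¹ = (w : G)⁻¹ :=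
    congrArg Subtype.val (hinv w (mem_zpowers w))
  -- the given involution
  obtain ⟨e, he, i, hi⟩ := hform u hut (huv ▸ inv_mem (mem_zpowers v))
  have hwi : ∀ j : ℤ, Commute ((w : G) ^ j) v := fun j => by
    obtain ⟨l, hl⟩ := mem_zpowers_iff.1 hvw'
    rw [← hl]
    exact (Commute.refl (w : G)).zpow_zpow j l
  have hetu : e = (u₀ : G) ∨ e = T.t * u₀ := by
    rcases he with rfl | rfl | h | h
    · exfalso
      rw [hi, one_mul, (hwi i).eq, mul_inv_cancel_right] at huv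
      have h2 : v ^ 2 = 1 := by rw [pow_two]; nth_rw 2 [huv]; exact mul_inv_cancel _
      exact hv1 (orderOf_eq_one_iff.1 (Nat.eq_one_of_dvd_coprimes (Nat.coprime_two_left.2 hvo)
        (orderOf_dvd_of_pow_eq_one h2) dvd_rfl))
    · exfalso
      rw [hi, (hv.symm.mul_left (hwi i)).eq, mul_inv_cancel_right] at huv
      have h2 : v ^ 2 = 1 := by rw [pow_two]; nth_rw 2 [huv]; exact mul_inv_cancel _
      exact hv1 (orderOf_eq_one_iff.1 (Nat.eq_one_of_dvd_coprimes (Nat.coprime_two_left.2 hvo)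
        (orderOf_dvd_of_pow_eq_one h2) dvd_rfl))
    · exact Or.inl h
    · exact Or.inr h
  have hew : e * (w : G) * e⁻¹ = (w : G)⁻¹ := by
    rcases hetu with rfl | rfl
    · exact hu₀w'
    · calc T.t * u₀ * w * (T.t * u₀)⁻¹ = T.t * ((u₀ : G) * w * (u₀ : G)⁻¹) * T.t⁻¹ := by group
        _ = (w : G)⁻¹ := by rw [hu₀w', (hwt.symm.inv_right).eq, mul_inv_cancel_right]
  refine ⟨⟨v, w, u, hv1, hvw', (Subgroup.orderOf_coe w).trans hw, hwt, hu, hut, ?_, ?_, ?_⟩, rfl, rfl⟩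
  · rw [hi]
    calc e * (w : G) ^ i * w * (e * (w : G) ^ i)⁻¹
        = e * ((w : G) ^ i * w * ((w : G) ^ i)⁻¹) * e⁻¹ := by group
      _ = (w : G)⁻¹ := by rw [((Commute.refl (w : G)).zpow_left i).eq, mul_inv_cancel_right, hew]
  · intro g hgt hgv
    obtain ⟨y, hy⟩ := T.exists_split hgt
    have hyv : Commute (y : G) v := by
      rcases hy with rfl | rfl
      · exact hgv
      · have h1 := (hv.symm).mul_left hgv
        rwa [← mul_assoc, T.t_sq, one_mul] at h1
    have hyw : y ∈ zpowers w := hC ▸ mem_centralizer_singleton_iff.2 (Subtype.ext hyv.eq)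
    obtain ⟨j, rfl⟩ := mem_zpowers_iff.1 hyw
    rcases hy with rfl | rfl
    · left; push_cast; exact zpow_mem (mem_zpowers _) j
    · right
      rw [← mul_assoc, T.t_sq, one_mul]
      push_cast
      exact zpow_mem (mem_zpowers _) j
  · intro g hgt hgv
    obtain ⟨f, hf, j, hj⟩ := hform g hgt hgv
    have hu0 : (e = (u₀ : G) → (u₀ : G) = u * (w : G) ^ (-i)) := fun h => by
      rw [← h, hi, mul_assoc, ← zpow_add, add_neg_cancel, zpow_zero, mul_one]
    have hu1 : (e = T.t * u₀ → (u₀ : G) = T.t * u * (w : G) ^ (-i)) := fun h => by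
      rw [hi, h, ← mul_assoc, ← mul_assoc, T.t_sq, one_mul, mul_assoc, ← zpow_add, add_neg_cancel,
        zpow_zero, mul_one]
    rcases hf with rfl | rfl | rfl | rfl
    · exact ⟨1, Or.inl rfl, j, hj⟩
    · exact ⟨T.t, Or.inr (Or.inl rfl), j, hj⟩
    · rcases hetu with h | h
      · exact ⟨u, Or.inr (Or.inr (Or.inl rfl)), -i + j, by rw [hj, hu0 h, mul_assoc, ← zpow_add]⟩
      · exact ⟨T.t * u, Or.inr (Or.inr (Or.inr rfl)), -i + j,
          by rw [hj, hu1 h, mul_assoc, ← zpow_add]⟩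
    · rcases hetu with h | h
      · exact ⟨T.t * u, Or.inr (Or.inr (Or.inr rfl)), -i + j,
          by rw [hj, hu0 h, ← mul_assoc T.t u, mul_assoc, ← zpow_add]⟩
      · exact ⟨u, Or.inr (Or.inr (Or.inl rfl)), -i + j,
          by rw [hj, hu1 h, ← mul_assoc T.t, ← mul_assoc T.t, T.t_sq, one_mul, mul_assoc, ← zpow_add]⟩

namespace NFrame

variable {T} (N : NFrame T)

theorem u_sq : N.u * N.u = 1 := Invol.invol_mul_self N.order_u

theorem u_ne : N.u ≠ T.t := fun e => by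
  have h := N.u_w
  rw [e, N.w_t.symm.eq, mul_inv_cancel_right] at h
  have h2 : N.w ^ 2 = 1 := by rw [pow_two]; nth_rw 2 [h]; exact mul_inv_cancel _
  have h3 := orderOf_dvd_of_pow_eq_one h2
  rw [N.order_w] at h3
  have := Nat.le_of_dvd two_pos h3
  have := T.kit.q_ge
  have := T.kit.hn
  omega

theorem orderOf_dvd_n {a : G} (ha : a ∈ zpowers N.w) : orderOf a ∣ n := by
  have := Subgroup.orderOf_dvd_natCard (zpowers N.w) ha
  rwa [Nat.card_zpowers, N.order_w] at this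

theorem odd_of_mem {a : G} (ha : a ∈ zpowers N.w) : Odd (orderOf a) :=
  T.kit.data.mo_odd.of_dvd_nat (N.orderOf_dvd_n ha)

theorem comm_w {a b : G} (ha : a ∈ zpowers N.w) (hb : b ∈ zpowers N.w) : Commute a b := by
  obtain ⟨i, rfl⟩ := mem_zpowers_iff.1 ha
  obtain ⟨j, rfl⟩ := mem_zpowers_iff.1 hb
  exact (Commute.refl _).zpow_zpow i j

theorem commute_t {a : G} (ha : a ∈ zpowers N.w) : Commute a T.t := by
  obtain ⟨i, rfl⟩ := mem_zpowers_iff.1 ha
  exact N.w_t.zpow_left i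

theorem u_inverts {a : G} (ha : a ∈ zpowers N.w) : N.u * a * N.u⁻¹ = a⁻¹ := by
  obtain ⟨i, rfl⟩ := mem_zpowers_iff.1 ha
  rw [← conj_zpow, N.u_w, inv_zpow]

theorem eq_one_of_inverted_commute {a : G} (ha : a ∈ zpowers N.w) (hu : Commute a N.u) : a = 1 := by
  have h := N.u_inverts ha
  rw [← hu.eq, mul_inv_cancel_right] at h
  have h2 : a ^ 2 = 1 := by rw [pow_two]; nth_rw 2 [h]; exact mul_inv_cancel _
  exact orderOf_eq_one_iff.1 (Nat.eq_one_of_dvd_coprimes (Nat.coprime_two_left.2 (N.odd_of_mem ha))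
    (orderOf_dvd_of_pow_eq_one h2) dvd_rfl)

theorem u_v : N.u * N.v * N.u⁻¹ = N.v⁻¹ := N.u_inverts N.v_mem

theorem v_t : Commute N.v T.t := N.commute_t N.v_mem

/-- The frame with `t u` in place of `u`. -/
def swap : NFrame T where
  v := N.v
  w := N.w
  u := T.t * N.u
  v_ne := N.v_ne
  v_mem := N.v_mem
  order_w := N.order_w
  w_t := N.w_t
  order_u := orderOf_eq_prime
    (by rw [N.u_t.symm.mul_pow, pow_two, pow_two, T.t_sq, N.u_sq, one_mul])
    fun e => N.u_ne ((eq_inv_of_mul_eq_one_left e).trans (Invol.invol_inv N.order_u)).symm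
  u_t := (Commute.refl T.t).mul_left N.u_t
  u_w := by
    calc T.t * N.u * N.w * (T.t * N.u)⁻¹ = T.t * (N.u * N.w * N.u⁻¹) * T.t⁻¹ := by group
      _ = N.w⁻¹ := by rw [N.u_w, N.w_t.symm.inv_right.eq, mul_inv_cancel_right]
  cent := N.cent
  norm := fun g h1 h2 => by
    obtain ⟨e, he, i, hi⟩ := N.norm g h1 h2
    refine ⟨e, ?_, i, hi⟩
    rw [← mul_assoc T.t T.t, T.t_sq, one_mul]
    tauto

theorem cent_two : 2 ∣ Nat.card (centralizer ({N.v} : Set G)) ∧
    ¬ 4 ∣ Nat.card (centralizer ({N.v} : Set G)) := by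
  haveI : Fact (Nat.Prime 2) := ⟨Nat.prime_two⟩
  set D := centralizer ({N.v} : Set G)
  have htD : T.t ∈ D := mem_centralizer_singleton_iff.2 N.v_t.symm.eq
  refine ⟨T.order_t ▸ Subgroup.orderOf_dvd_natCard D htD, fun h4 => ?_⟩
  obtain ⟨P, hP⟩ := (IsPGroup.of_card (G := zpowers (⟨T.t, htD⟩ : D)) (p := 2) (n := 1)
    (by rw [Nat.card_zpowers, Subgroup.orderOf_mk, T.order_t, pow_one])).exists_le_sylow
  set Q := (P : Subgroup D).map D.subtype with hQ
  have hQp : IsPGroup 2 Q := P.2.map _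
  have htQ : T.t ∈ Q := ⟨⟨T.t, htD⟩, hP (mem_zpowers _), rfl⟩
  have hle : Q ≤ zpowers T.t := fun a ha => by
    have hat : Commute a T.t := T.comm_of_isPGroup hQp ha htQ
    have ha2 : a * a = 1 := by rw [← pow_two]; exact T.sq_of_isPGroup hQp ha
    have hzero : ∀ {y : G}, y ∈ zpowers N.w → y * y = 1 → y = 1 := fun hy h2 =>
      orderOf_eq_one_iff.1 (Nat.eq_one_of_dvd_coprimes (Nat.coprime_two_left.2 (N.odd_of_mem hy))
        (orderOf_dvd_of_pow_eq_one ((pow_two _).trans h2)) dvd_rfl)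
    rcases N.cent a hat (mem_centralizer_singleton_iff.1 (map_subtype_le _ ha)) with h | h
    · rw [hzero h ha2]; exact one_mem _
    · have h2 : T.t * a * (T.t * a) = 1 := by
        rw [← pow_two, hat.symm.mul_pow, pow_two, pow_two, T.t_sq, ha2, one_mul]
      rw [eq_inv_of_mul_eq_one_right (hzero h h2)]
      exact inv_mem (mem_zpowers _)
  have hc4 : 2 ^ 2 ∣ Nat.card Q := by
    rw [hQ, card_map_of_injective D.subtype_injective, P.card_eq_multiplicity]
    exact pow_dvd_pow _ ((Nat.Prime.pow_dvd_iff_le_factorization Nat.prime_two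
      Nat.card_pos.ne').1 (by norm_num; exact h4))
  have h1 := hc4.trans (card_dvd_of_le hle)
  rw [Nat.card_zpowers, T.order_t] at h1
  norm_num at h1

/-- The odd part of `C(v)`. -/
noncomputable def O : Subgroup G :=
  (exists_odd_part _ N.cent_two.1 N.cent_two.2).choose

theorem mem_O {a : G} : a ∈ N.O ↔ Commute a N.v ∧ Odd (orderOf a) := by
  obtain ⟨h1, -, h3, -, h5⟩ := (exists_odd_part _ N.cent_two.1 N.cent_two.2).choose_spec
  exact ⟨fun ha => ⟨mem_centralizer_singleton_iff.1 (h1 ha),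
      h3.of_dvd_nat (Subgroup.orderOf_dvd_natCard _ ha)⟩,
    fun ha => h5 a (mem_centralizer_singleton_iff.2 ha.1.eq) ha.2⟩

theorem odd_O : Odd (Nat.card N.O) :=
  (exists_odd_part _ N.cent_two.1 N.cent_two.2).choose_spec.2.2.1

theorem card_cent : Nat.card (centralizer ({N.v} : Set G)) = 2 * Nat.card N.O :=
  (exists_odd_part _ N.cent_two.1 N.cent_two.2).choose_spec.2.2.2.1

theorem w_le_O : zpowers N.w ≤ N.O := fun _ ha =>
  N.mem_O.2 ⟨N.comm_w ha N.v_mem, N.odd_of_mem ha⟩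

/-- Whoever fixes or inverts `v` normalizes the odd part of its centralizer. -/
theorem mem_normalizer_O {g : G} (hg : g * N.v * g⁻¹ = N.v ∨ g * N.v * g⁻¹ = N.v⁻¹) :
    g ∈ normalizer (N.O : Set G) := by
  rw [mem_normalizer_iff]
  intro a
  have hcomm : Commute (g * a * g⁻¹) (g * N.v * g⁻¹) ↔ Commute a N.v := by
    refine ⟨fun h => ?_, fun h => h.map (MulAut.conj g)⟩
    have := h.map (MulAut.conj g⁻¹)
    simp only [MulAut.conj_apply, inv_inv] at this
    rwa [show g⁻¹ * (g * a * g⁻¹) * g = a by group,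
      show g⁻¹ * (g * N.v * g⁻¹) * g = N.v by group] at this
  have hv : Commute (g * a * g⁻¹) N.v ↔ Commute a N.v := by
    rcases hg with h | h
    · rwa [h] at hcomm
    · rw [h, Commute.inv_right_iff] at hcomm
      exact hcomm
  rw [N.mem_O, N.mem_O, hv, ← MulAut.conj_apply, MulEquiv.orderOf_eq]

theorem t_mem_normalizer : T.t ∈ normalizer (N.O : Set G) :=
  N.mem_normalizer_O (Or.inl (by rw [N.v_t.symm.eq, mul_inv_cancel_right]))

theorem u_mem_normalizer : N.u ∈ normalizer (N.O : Set G) :=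
  N.mem_normalizer_O (Or.inr N.u_v)

theorem mem_w_of_commute_t {a : G} (ha : a ∈ N.O) (hat : Commute a T.t) : a ∈ zpowers N.w := by
  obtain ⟨hav, hao⟩ := N.mem_O.1 ha
  rcases N.cent a hat hav with h | h
  · exact h
  · exfalso
    obtain ⟨j, hj⟩ := N.odd_of_mem h
    obtain ⟨i, hi⟩ := hao
    have h1 : (T.t * a) ^ (orderOf (T.t * a) * orderOf a) = 1 := by
      rw [pow_mul, pow_orderOf_eq_one, one_pow]
    rw [hat.symm.mul_pow, mul_comm (orderOf (T.t * a)), pow_mul a, pow_orderOf_eq_one, one_pow,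
      mul_one] at h1
    have h2 := orderOf_dvd_of_pow_eq_one h1
    rw [T.order_t, hi, hj] at h2
    rcases Nat.prime_two.dvd_mul.1 h2 with h | h <;> omega

/-- `t` inverts `C_O(u)`. -/
theorem t_inverts {a : G} (ha : a ∈ N.O) (hau : Commute a N.u) : T.t * a * T.t⁻¹ = a⁻¹ := by
  refine inverts_of_fpf (H := N.O ⊓ centralizer ({N.u} : Set G)) T.t_sq (fun b hb => ?_)
    (fun b hb hbt => ?_) a ⟨ha, mem_centralizer_singleton_iff.2 hau.eq⟩
  · refine ⟨(mem_normalizer_iff.1 N.t_mem_normalizer b).1 hb.1, mem_centralizer_singleton_iff.2 ?_⟩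
    have hc : Commute b N.u := mem_centralizer_singleton_iff.1 hb.2
    exact (((N.u_t.symm).mul_left hc).mul_left (N.u_t.symm.inv_left)).eq
  · exact N.eq_one_of_inverted_commute (N.mem_w_of_commute_t hb.1 (hbt.symm : b * T.t = T.t * b))
      (mem_centralizer_singleton_iff.1 hb.2)

theorem comm_cent_u {a b : G} (ha : a ∈ N.O) (hau : Commute a N.u) (hb : b ∈ N.O)
    (hbu : Commute b N.u) : Commute a b :=
  comm_of_inverted (H := N.O ⊓ centralizer ({N.u} : Set G))
    (fun c hc => N.t_inverts hc.1 (mem_centralizer_singleton_iff.1 hc.2)) a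
    ⟨ha, mem_centralizer_singleton_iff.2 hau.eq⟩ b ⟨hb, mem_centralizer_singleton_iff.2 hbu.eq⟩

/-- The orders in `C_O(u)` divide `(q-1)/2`. -/
theorem orders_u {a : G} (ha : a ∈ N.O) (hau : Commute a N.u) : orderOf a ∣ n := by
  obtain ⟨hav, hao⟩ := N.mem_O.1 ha
  obtain ⟨T', hT'⟩ := T.exists_setup N.order_u
  rcases T'.odd_orders (hT' ▸ hau) hao with h | h | h
  · rcases (Nat.dvd_prime Nat.prime_three).1 h with h | h
    · rw [h]; exact one_dvd _
    · exact absurd (N.t_inverts ha hau) (T.not_inverted_three h N.order_u hau)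
  · rcases eq_or_ne a 1 with rfl | ha1
    · rw [orderOf_one]; exact one_dvd _
    exfalso
    have h1 := T.orderOf_dvd_m_of_commute N.order_u hau ha1 h (N.odd_of_mem N.v_mem) hav.symm
    exact N.v_ne (orderOf_eq_one_iff.1 (Nat.eq_one_of_dvd_coprimes T.kit.cop_mn h1
      (N.orderOf_dvd_n N.v_mem)))
  · exact h

/-- `C_O(u)` is cyclic. -/
theorem cyclic_u : ∃ c : G, N.O ⊓ centralizer ({N.u} : Set G) ≤ zpowers c := by
  by_cases h : N.O ⊓ centralizer ({N.u} : Set G) = ⊥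
  · exact ⟨1, h ▸ bot_le⟩
  obtain ⟨a, ha, ha1⟩ := (Subgroup.bot_or_exists_ne_one _).resolve_left h
  have hau : Commute a N.u := mem_centralizer_singleton_iff.1 ha.2
  obtain ⟨T', hT'⟩ := T.exists_setup N.order_u
  have hinv := N.t_inverts ha.1 hau
  obtain ⟨N', hN'v, -⟩ := T'.exists_nframe (hT' ▸ hau) ha1 (N.orders_u ha.1 hau) T.order_t
    (hT' ▸ N.u_t.symm) hinv
  refine ⟨N'.w, fun b hb => ?_⟩
  have hbu : Commute b N.u := mem_centralizer_singleton_iff.1 hb.2
  refine N'.mem_w_of_commute_t (N'.mem_O.2 ⟨hN'v ▸ N.comm_cent_u hb.1 hbu ha.1 hau, ?_⟩) (hT' ▸ hbu)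
  exact (N.mem_O.1 hb.1).2

/-- Three does not divide the order of the odd part. -/
theorem not_three_dvd : ¬ 3 ∣ Nat.card N.O := by
  intro h3
  haveI : Fact (Nat.Prime 3) := ⟨Nat.prime_three⟩
  obtain ⟨P, hP, -, htP, huP⟩ := T.exists_four_sylow N.order_u N.u_t N.u_ne (p := 3) (U := ⊥)
    N.odd_O N.t_mem_normalizer N.u_mem_normalizer bot_le (IsPGroup.of_bot)
    (by rw [normalizer_eq_top]; exact mem_top _) (by rw [normalizer_eq_top]; exact mem_top _)
  have hbot : ∀ (M : NFrame T), M.v = N.v → P ⊓ centralizer ({M.u} : Set G) ≤ ⊥ := fun M hM a ha => by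
    obtain ⟨j, hj⟩ := hP.isPGroup ⟨a, ha.1⟩
    have haO : a ∈ M.O := by rw [M.mem_O, hM, ← N.mem_O]; exact hP.1 ha.1
    rw [mem_bot, ← orderOf_eq_one_iff]
    exact Nat.eq_one_of_dvd_coprimes
      (((Nat.prime_three.coprime_iff_not_dvd).2 T.kit.three_not_n).pow_left j)
      (orderOf_dvd_of_pow_eq_one (congrArg Subtype.val hj))
      (M.orders_u haO (mem_centralizer_singleton_iff.1 ha.2))
  have hle : P ≤ ⊥ := by
    refine T.le_of_four N.order_u N.u_t N.u_ne (N.odd_O.of_dvd_nat (card_dvd_of_le hP.1)) htP huP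
      (fun a ha => ?_) (hbot N rfl) (hbot N.swap rfl)
    obtain ⟨j, hj⟩ := hP.isPGroup ⟨a, ha.1⟩
    rw [mem_bot, ← orderOf_eq_one_iff]
    exact Nat.eq_one_of_dvd_coprimes
      (((Nat.prime_three.coprime_iff_not_dvd).2 T.kit.three_not_n).pow_left j)
      (orderOf_dvd_of_pow_eq_one (congrArg Subtype.val hj))
      (N.orderOf_dvd_n (N.mem_w_of_commute_t (hP.1 ha.1) (mem_centralizer_singleton_iff.1 ha.2)))
  have hc := hP.2
  rw [le_bot_iff.1 hle, card_bot] at hc
  have h1 := (Nat.prime_three.dvd_iff_one_le_factorization Nat.card_pos.ne').1 h3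
  have h2 := Nat.one_lt_pow (n := (Nat.card N.O).factorization 3) (by omega) (show 1 < 3 by norm_num)
  omega

include N in
/-- Elements of the same prime order in centralizers of involutions are fused into `⟨v⟩`. -/
theorem exists_conj_mem {r : ℕ} (hr : r.Prime) (hv : orderOf N.v = r) {x i : G} (hi : orderOf i = 2)
    (hxi : Commute x i) (hx : orderOf x = r) : ∃ g : G, g * x * g⁻¹ ∈ zpowers N.v := by
  obtain ⟨g, hg⟩ := isConj_iff.1 (T.conj i hi)
  have hx' : Commute (g⁻¹ * x * g) T.t := by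
    have := hxi.map (MulAut.conj g⁻¹)
    simp only [MulAut.conj_apply, inv_inv] at this
    rwa [show g⁻¹ * i * g = T.t by rw [← hg]; group] at this
  have hxo : orderOf (g⁻¹ * x * g) = r := by
    rw [← hx]
    conv_rhs => rw [← MulEquiv.orderOf_eq (MulAut.conj g⁻¹) x, MulAut.conj_apply, inv_inv]
  have hrn : r ∣ n := hv ▸ N.orderOf_dvd_n N.v_mem
  have hro : Odd r := T.kit.data.mo_odd.of_dvd_nat hrn
  obtain ⟨c, hc⟩ := T.kit.conj_n hr hrn
    (v := ⟨N.v, T.mem_K_of_odd N.v_t (hv ▸ hro)⟩)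
    (v' := ⟨g⁻¹ * x * g, T.mem_K_of_odd hx' (hxo ▸ hro)⟩)
    (by rw [Subgroup.orderOf_mk, hv]) (by rw [Subgroup.orderOf_mk, hxo])
  obtain ⟨j, hj⟩ := mem_zpowers_iff.1 hc
  refine ⟨(c : G) * g⁻¹, mem_zpowers_iff.2 ⟨j, ?_⟩⟩
  have h := congrArg Subtype.val hj
  push_cast at h
  rw [h]; group

end NFrame

end Setup

end CfsgLib.ReeType
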