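import Cfsg.Agent.Lib.Ree.TorusNSylow

/-!
# Groups of Ree type: a Sylow subgroup with centre outside the torus

An element of order three permuting the four-group acts on the three lines of `Ω₁Z(P)`; the fixed
element `v v' v''` is both inverted and not inverted in the normalizer of `P`.
-/

set_option autoImplicit false
set_option linter.unusedSectionVars false

namespace CfsgLib.ReeType

open Subgroup
open CfsgLib.Char (TwoChars.elS TwoChars.elS_mul TwoChars.elS_one_zero TwoChars.elS_val)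

universe u

namespace Setup

namespace NFrame

variable {G : Type u} [Group G] [Finite G] {q m n : ℕ} {T : Setup G q m n} (N : NFrame T)
  {p : ℕ} [hpF : Fact p.Prime]

theorem v_mem_omega (hv : orderOf N.v = p) {P : Subgroup G} (hP : Coprime.IsSylowIn p P N.O) :
    N.v ∈ omegaCenter p P :=
  ⟨N.v_mem_sylow hv hP, by rw [← hv, pow_orderOf_eq_one],
    fun _ ha => (N.mem_O.1 (hP.1 ha)).1.symm⟩

/-- The normalizer of `P` in `C(t)` fixes the line of `v`. -/
theorem conj_v_mem (hv : orderOf N.v = p) {P : Subgroup G} (hP : Coprime.IsSylowIn p P N.O) {h : G}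
    (hh : h ∈ normalizer (P : Set G)) (ht : Commute h T.t) :
    h * N.v * h⁻¹ ∈ zpowers N.v := by
  have h1 := conj_mem_omegaCenter hh (N.v_mem_omega hv hP)
  exact N.mem_zpowers_v hv
    (N.mem_w_of_commute_t (hP.1 h1.1) ((ht.mul_left N.v_t).mul_left ht.inv_left)) h1.2.1

theorem e_mem_normalizer {P : Subgroup G} (htP : T.t ∈ normalizer (P : Set G))
    (huP : N.u ∈ normalizer (P : Set G)) {e : G}
    (he : e = 1 ∨ e = T.t ∨ e = N.u ∨ e = T.t * N.u) : e ∈ normalizer (P : Set G) := by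
  rcases he with rfl | rfl | rfl | rfl
  exacts [one_mem _, htP, huP, mul_mem htP huP]

theorem commute_u_of_mem {e : G} (he : e = 1 ∨ e = T.t ∨ e = N.u ∨ e = T.t * N.u) :
    Commute e N.u := by
  rcases he with rfl | rfl | rfl | rfl
  exacts [Commute.one_left _, N.u_t.symm, Commute.refl _, N.u_t.symm.mul_left (Commute.refl _)]

theorem sq_of_mem {e : G} (he : e = 1 ∨ e = T.t ∨ e = N.u ∨ e = T.t * N.u) : e * e = 1 := by
  rcases he with rfl | rfl | rfl | rfl
  · exact one_mul 1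
  · exact T.t_sq
  · exact N.u_sq
  · rw [← pow_two, N.u_t.symm.mul_pow, pow_two, pow_two, T.t_sq, N.u_sq, one_mul]

/-- An element of order three of `N(P)` permuting the four-group. -/
theorem exists_tau_NP (hv : orderOf N.v = p) {P : Subgroup G} (hP : Coprime.IsSylowIn p P N.O)
    (htP : T.t ∈ normalizer (P : Set G)) (huP : N.u ∈ normalizer (P : Set G)) {x : G}
    (hx : x ∈ omegaCenter p P) (hx1 : x ≠ 1) (hxu : Commute x N.u) :
    ∃ τ : G, orderOf τ = 3 ∧ τ ∈ normalizer (P : Set G) ∧ τ * T.t * τ⁻¹ = N.u ∧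
      τ * N.u * τ⁻¹ = T.t * N.u := by
  have hp := hpF.out
  obtain ⟨hxP, hxp, hxc⟩ := hx
  have hxo : orderOf x = p := orderOf_eq_prime hxp hx1
  obtain ⟨g, hg⟩ := N.exists_conj_mem hp hv N.order_u hxu hxo
  have hgv : zpowers (g * x * g⁻¹) = zpowers N.v :=
    eq_of_le_of_card_ge (zpowers_le.2 hg) (by
      rw [Nat.card_zpowers, Nat.card_zpowers, hv, ← MulAut.conj_apply, MulEquiv.orderOf_eq, hxo])
  -- `g` may be taken in the normalizer
  have hPg : Coprime.IsSylowIn p (Coprime.conjBy g P) N.O := by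
    refine ⟨N.le_O hv (hP.isPGroup.map _) ?_, by rw [Coprime.card_conjBy]; exact hP.2⟩
    rintro _ ⟨a, ha, rfl⟩
    obtain ⟨i, hi⟩ := mem_zpowers_iff.1 (hgv ▸ mem_zpowers N.v)
    rw [← hi]
    exact ((hxc a ha).symm.map (MulAut.conj g)).zpow_right i
  obtain ⟨c, hc, hcP⟩ := hPg.exists_conj hP
  rw [Coprime.conjBy_conjBy] at hcP
  set g' := c * g with hg'
  have hgN : g' ∈ normalizer (P : Set G) := Coprime.conjBy_eq_self_iff.1 hcP
  set v' := g * x * g⁻¹ with hv'
  have hcv' : Commute c v' := by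
    obtain ⟨i, hi⟩ := mem_zpowers_iff.1 hg
    exact hi ▸ (N.mem_O.1 hc).1.zpow_right i
  have hiv : Commute (g' * N.u * g'⁻¹) N.v := by
    have h1 : Commute (g' * N.u * g'⁻¹) (g' * x * g'⁻¹) := hxu.symm.map (MulAut.conj g')
    have h2 : g' * x * g'⁻¹ = v' := by
      calc g' * x * g'⁻¹ = c * v' * c⁻¹ := by rw [hg', hv']; group
        _ = v' := by rw [hcv'.eq, mul_inv_cancel_right]
    rw [h2] at h1
    obtain ⟨i, hi⟩ := mem_zpowers_iff.1 (hgv ▸ mem_zpowers N.v)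
    exact hi ▸ h1.zpow_right i
  -- move it to `t`
  set H := centralizer ({N.v} : Set G) ⊓ normalizer (P : Set G) with hH
  obtain ⟨h, hh, hht⟩ := conj_of_not_four (H := H)
    (fun h4 => N.cent_two.2 (h4.trans (card_dvd_of_le inf_le_left)))
    (i := g' * N.u * g'⁻¹) (j := T.t)
    (Subgroup.mem_inf.2 ⟨mem_centralizer_singleton_iff.2 hiv.eq,
      mul_mem (mul_mem hgN huP) (inv_mem hgN)⟩)
    (Invol.invol_conj N.order_u g') ⟨mem_centralizer_singleton_iff.2 N.v_t.symm.eq, htP⟩ T.order_t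
  set k := h * g' with hk
  have hkN : k ∈ normalizer (P : Set G) := mul_mem hh.2 hgN
  have hku : k * N.u * k⁻¹ = T.t := by rw [← hht, hk]; group
  set j := k * T.t * k⁻¹ with hj
  have hjN : j ∈ normalizer (P : Set G) := mul_mem (mul_mem hkN htP) (inv_mem hkN)
  have hjt : Commute j T.t := hku ▸ (N.u_t.symm.map (MulAut.conj k))
  have hjne : j ≠ T.t := fun e => N.u_ne
    (mul_left_cancel (mul_right_cancel (hku.trans e.symm : k * N.u * k⁻¹ = k * T.t * k⁻¹)))
  have hj2 : j * j = 1 := Invol.invol_mul_self (Invol.invol_conj T.order_t k)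
  have hj1 : j ≠ 1 := Invol.invol_ne_one (Invol.invol_conj T.order_t k)
  obtain ⟨e, he, i, hei⟩ := N.norm j hjt (N.conj_v_mem hv hP hjN hjt)
  have hwt : Commute (N.w ^ i) T.t := N.w_t.zpow_left i
  have he' : e = N.u ∨ e = T.t * N.u := by
    have hz : (e = 1 ∨ e = T.t) → False := by
      intro h'
      have hec : Commute e (N.w ^ i) := by
        rcases h' with rfl | rfl
        · exact Commute.one_left _
        · exact hwt.symm
      have h2 : (N.w ^ i) * (N.w ^ i) = 1 := by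
        have : j * j = e * e * (N.w ^ i * N.w ^ i) := by
          rw [hei]
          calc e * N.w ^ i * (e * N.w ^ i) = e * (N.w ^ i * e) * N.w ^ i := by group
            _ = _ := by rw [← hec.eq]; group
        rwa [N.sq_of_mem he, one_mul, hj2, eq_comm] at this
      have h3 : N.w ^ i = 1 := orderOf_eq_one_iff.1 (Nat.eq_one_of_dvd_coprimes
        (Nat.coprime_two_left.2 (N.odd_of_mem (zpow_mem (mem_zpowers _) i)))
        (orderOf_dvd_of_pow_eq_one ((pow_two _).trans h2)) dvd_rfl)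
      rw [h3, mul_one] at hei
      rcases h' with rfl | rfl
      exacts [hj1 hei, hjne hei]
    rcases he with h' | h' | h' | h'
    exacts [(hz (Or.inl h')).elim, (hz (Or.inr h')).elim, Or.inl h', Or.inr h']
  have heN := N.e_mem_normalizer htP huP he
  have hwN : N.w ^ i ∈ normalizer (P : Set G) := by
    have : N.w ^ i = e⁻¹ * j := by rw [hei, inv_mul_cancel_left]
    rw [this]; exact mul_mem (inv_mem heN) hjN
  obtain ⟨l, hl⟩ := T.kit.data.mo_odd
  set c2 := (N.w ^ i) ^ l with hc2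
  have hec2 : c2 * e * c2⁻¹ = j := by
    have hinvl : e * c2 * e⁻¹ = c2⁻¹ := by
      rcases he' with rfl | rfl
      · exact N.u_inverts (pow_mem (zpow_mem (mem_zpowers _) i) l)
      · exact N.swap.u_inverts (pow_mem (zpow_mem (mem_zpowers _) i) l)
    have hpow : (c2 * c2)⁻¹ = N.w ^ i := by
      rw [hc2, ← pow_add, inv_eq_iff_mul_eq_one, ← pow_succ, show l + l + 1 = n by omega,
        ← zpow_natCast, ← zpow_mul, mul_comm, zpow_mul, zpow_natCast,
        show N.w ^ n = 1 by have h := pow_orderOf_eq_one N.w; rwa [N.order_w] at h, one_zpow]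
    calc c2 * e * c2⁻¹ = e * (e⁻¹ * c2 * e) * c2⁻¹ := by group
      _ = e * (c2 * c2)⁻¹ := by
          have : e⁻¹ * c2 * e = c2⁻¹ := by
            rw [← hinvl, inv_eq_of_mul_eq_one_right (N.sq_of_mem he)]
          rw [this]; group
      _ = j := by rw [hpow, hei]
  have hc2N : c2 ∈ normalizer (P : Set G) := pow_mem hwN l
  set y := c2⁻¹ * k with hy
  have hyN : y ∈ normalizer (P : Set G) := mul_mem (inv_mem hc2N) hkN
  have hyu : y * N.u * y⁻¹ = T.t := by
    calc y * N.u * y⁻¹ = c2⁻¹ * (k * N.u * k⁻¹) * c2 := by rw [hy]; group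
      _ = T.t := by
          have hc : Commute c2 T.t := hwt.pow_left l
          rw [hku, mul_assoc, hc.symm.eq, inv_mul_cancel_left]
  have hyt : y * T.t * y⁻¹ = e := by
    calc y * T.t * y⁻¹ = c2⁻¹ * (k * T.t * k⁻¹) * c2 := by rw [hy]; group
      _ = e := by rw [← hj, ← hec2]; group
  obtain ⟨F, hF⟩ := T.exists_frame N.order_u N.u_t N.u_ne
  have het : F.InV (y * T.t * y⁻¹) := by
    rw [hyt]
    rcases he' with h' | h'
    · exact Or.inr (Or.inl (h'.trans hF.symm))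
    · exact Or.inr (Or.inr (by rw [h', hF]))
  have heu : F.InV (y * F.u * y⁻¹) := by rw [hF, hyu]; exact Or.inl rfl
  rcases F.perm_cases het heu with ⟨-, h2⟩ | ⟨-, h2⟩ | ⟨h1, h2⟩
  · rw [hF, hyu] at h2; exact absurd h2.symm N.u_ne
  · rw [hF, hyu, ← hF] at h2; exact absurd h2.symm F.tu_ne_t
  · have h3 : y * y * T.t * (y * y)⁻¹ = F.u := by
      calc y * y * T.t * (y * y)⁻¹ = y * (y * T.t * y⁻¹) * y⁻¹ := by group
        _ = (y * T.t * y⁻¹) * (y * F.u * y⁻¹) := by nth_rw 1 [h1]; rw [conj_mul]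
        _ = F.u := by rw [h1, h2, mul_assoc, F.comm_u.eq, ← mul_assoc, T.t_sq, one_mul]
    have h4 : y * y * F.u * (y * y)⁻¹ = T.t * F.u := by
      calc y * y * F.u * (y * y)⁻¹ = y * (y * F.u * y⁻¹) * y⁻¹ := by group
        _ = T.t * F.u := by rw [h2, h1]
    obtain ⟨i, hi, e1, e2⟩ := F.exists_order_three h3 h4
    rw [hF] at e1 e2
    exact ⟨_, hi, pow_mem (mul_mem hyN hyN) i, e1, e2⟩

/-- The action of `N(P)` on `Ω₁Z(P)` and the final contradiction. -/
theorem false_of_center (hv : orderOf N.v = p) (hmin : ∀ r : ℕ, r.Prime → r ∣ n → p ≤ r)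
    {P : Subgroup G} (hP : Coprime.IsSylowIn p P N.O)
    (htP : T.t ∈ normalizer (P : Set G)) (huP : N.u ∈ normalizer (P : Set G)) {x : G}
    (hx : x ∈ omegaCenter p P) (hx1 : x ≠ 1) (hxu : Commute x N.u) : False := by
  classical
  have hp := hpF.out
  have hpn := N.p_dvd_n hv
  have hp2 := N.p_ne_two hv
  have hp3 : p ≠ 3 := fun e => T.kit.three_not_n (e ▸ hpn)
  obtain ⟨τ, hτ, hτP, hτt, hτu⟩ := N.exists_tau_NP hv hP htP huP hx hx1 hxu
  have hτ3 : τ ^ 3 = 1 := by rw [← hτ, pow_orderOf_eq_one]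
  have hτtu : τ * (T.t * N.u) * τ⁻¹ = T.t := by
    rw [← conj_mul, hτt, hτu, ← mul_assoc, N.u_t.eq, mul_assoc, N.u_sq, mul_one]
  obtain ⟨F, hF⟩ := T.exists_frame N.order_u N.u_t N.u_ne
  obtain ⟨s, hs, hτs⟩ := F.exists_fixed hτ3 (by rw [hτt]; exact Or.inr (Or.inl hF.symm))
    (by rw [hF, hτu]; exact Or.inr (Or.inr (by rw [hF])))
  obtain ⟨-, -, hso, -⟩ := hs
  have hs2 := Invol.invol_mul_self hso
  set Z := omegaCenter p P with hZ
  have hZO : ∀ z ∈ Z, z ∈ N.O := fun z hz => hP.1 hz.1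
  have hvZ : N.v ∈ Z := N.v_mem_omega hv hP
  set z₂ := τ * N.v * τ⁻¹ with hz₂
  set z₃ := τ * z₂ * τ⁻¹ with hz₃
  have hz₂Z : z₂ ∈ Z := conj_mem_omegaCenter hτP hvZ
  have hz₃Z : z₃ ∈ Z := conj_mem_omegaCenter hτP hz₂Z
  have hz₂u : Commute z₂ N.u := hτt ▸ N.v_t.map (MulAut.conj τ)
  have hz₃tu : Commute z₃ (T.t * N.u) := hτu ▸ hz₂u.map (MulAut.conj τ)
  have hz₂t := N.t_inverts (hZO _ hz₂Z) hz₂u
  have hz₃t : T.t * z₃ * T.t⁻¹ = z₃⁻¹ :=
    N.swap.t_inverts (N.swap_O.symm ▸ hZO _ hz₃Z) hz₃tu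
  have hcyc : τ * z₃ * τ⁻¹ = N.v := by
    calc τ * z₃ * τ⁻¹ = τ ^ 3 * N.v * (τ ^ 3)⁻¹ := by rw [hz₃, hz₂, pow_three]; group
      _ = N.v := by rw [hτ3, one_mul, inv_one, mul_one]
  have hcomm : ∀ a ∈ Z, ∀ b ∈ Z, Commute a b := fun a ha b hb => ha.2.2 b hb.1
  have hzp : ∀ {z : G}, z ∈ Z → z * z = 1 → z = 1 := fun {z} hz h => orderOf_eq_one_iff.1
    (Nat.eq_one_of_dvd_coprimes ((Nat.coprime_primes Nat.prime_two hp).2 hp2.symm)
      (orderOf_dvd_of_pow_eq_one ((pow_two z).trans h)) (orderOf_dvd_of_pow_eq_one hz.2.1))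
  have hv1 := N.v_ne
  have hz₂1 : z₂ ≠ 1 := fun e => hv1 (conj_eq_one_iff.1 e)
  have hz₃1 : z₃ ≠ 1 := fun e => hz₂1 (conj_eq_one_iff.1 e)
  have hz₂v : z₂ ≠ N.v := fun e => hv1 (N.eq_one_of_inverted_commute N.v_mem (e ▸ hz₂u))
  clear_value z₂ z₃
  set y₀ := N.v * z₂ * z₃ with hy₀
  clear_value y₀
  have hy₀Z : y₀ ∈ Z := hy₀ ▸ mul_mem (mul_mem hvZ hz₂Z) hz₃Z
  have hτy₀ : Commute τ y₀ := by
    refine mul_inv_eq_iff_eq_mul.1 ?_
    calc τ * y₀ * τ⁻¹ = z₂ * z₃ * (τ * z₃ * τ⁻¹) := by rw [hy₀, hz₂, hz₃, hz₂]; group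
      _ = y₀ := by
          rw [hcyc, hy₀, ((hcomm _ hvZ _ (mul_mem hz₂Z hz₃Z))).symm.eq, ← mul_assoc]
  have hty₀ : T.t * y₀ * T.t⁻¹ = N.v * z₂⁻¹ * z₃⁻¹ := by
    calc T.t * y₀ * T.t⁻¹
        = (T.t * N.v * T.t⁻¹) * (T.t * z₂ * T.t⁻¹) * (T.t * z₃ * T.t⁻¹) := by rw [hy₀]; group
      _ = _ := by rw [N.v_t.symm.eq, mul_inv_cancel_right, hz₂t, hz₃t]
  have hy₀1 : y₀ ≠ 1 := fun e => by
    rw [e, mul_one, mul_inv_cancel] at hty₀
    have h1 : N.v * N.v = 1 := by
      calc N.v * N.v = (N.v * z₂⁻¹ * z₃⁻¹) * (z₃ * z₂ * N.v) := by group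
        _ = (N.v * z₂ * z₃) := by
            rw [← hty₀, one_mul, (hcomm _ hz₃Z _ hz₂Z).eq,
              ((hcomm _ hvZ _ (mul_mem hz₂Z hz₃Z))).symm.eq, ← mul_assoc]
        _ = 1 := by rw [← hy₀, e]
    exact hv1 (hzp hvZ h1)
  -- `τ` centralizes an involution inverting `y₀`
  obtain ⟨T', hT'⟩ := T.exists_setup hso
  obtain ⟨Oτ, hOC, hON, hOodd, hOmem, hOcube⟩ := T'.exists_oddPart hτ (hT' ▸ hτs)
  rw [hT'] at hOcube
  have hy₀o : orderOf y₀ = p := orderOf_eq_prime hy₀Z.2.1 hy₀1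
  have hy₀O : y₀ ∈ Oτ := hOmem y₀ hτy₀.symm (hy₀o ▸ hp.odd_of_ne_two hp2)
  have hsN : zpowers s ≤ normalizer (Oτ : Set G) :=
    zpowers_le.2 (hON (mem_centralizer_singleton_iff.2 hτs.symm.eq))
  obtain ⟨R, hR, hsR⟩ := Coprime.exists_invariant_sylow (A := zpowers s) (K := Oτ) hsN
    (by rw [Nat.card_zpowers, hso]; exact Nat.coprime_two_left.2 hOodd)
    (Or.inl (Group.isSolvable_of_comm fun a b => mul_comm' a b)) p
  obtain ⟨S, hS⟩ := ((IsPGroup.of_card (n := 1) (by rw [Nat.card_zpowers, hy₀o, pow_one]) :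
    IsPGroup p (zpowers y₀)).comap_subtype : IsPGroup p ((zpowers y₀).subgroupOf Oτ)).exists_le_sylow
  obtain ⟨c, hc, hcR⟩ := (Coprime.isSylowIn_map S).exists_conj hR
  have hcy : c * y₀ * c⁻¹ ∈ R := hcR ▸ mem_map_of_mem (MulAut.conj c).toMonoidHom
    (show y₀ ∈ (S : Subgroup Oτ).map Oτ.subtype from
      ⟨⟨y₀, hy₀O⟩, hS (mem_subgroupOf.2 (mem_zpowers y₀)), rfl⟩)
  have hRinv : ∀ a ∈ R, s * a * s⁻¹ = a⁻¹ := by
    refine inverts_of_fpf hs2
      (fun a ha => (mem_normalizer_iff.1 (hsR (mem_zpowers s)) a).1 ha) fun a ha hc' => ?_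
    obtain ⟨j, hj⟩ := hR.isPGroup ⟨a, ha⟩
    exact orderOf_eq_one_iff.1 (Nat.eq_one_of_dvd_coprimes
      (((Nat.coprime_primes hp Nat.prime_three).2 hp3).pow_left j)
      (orderOf_dvd_of_pow_eq_one (congrArg Subtype.val hj))
      (orderOf_dvd_of_pow_eq_one (hOcube a (hR.1 ha) (show a * s = s * a from hc'.symm))))
  set s' := c⁻¹ * s * c with hs'
  have hs'y : s' * y₀ * s'⁻¹ = y₀⁻¹ := by
    calc s' * y₀ * s'⁻¹ = c⁻¹ * (s * (c * y₀ * c⁻¹) * s⁻¹) * c := by rw [hs']; group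
      _ = y₀⁻¹ := by rw [hRinv _ hcy]; group
  -- the kernel of the action
  set H := normalizer (P : Set G) with hH
  set K₀ := H ⊓ centralizer (Z : Set G) with hK₀
  have hK₀c : ∀ {h z}, h ∈ K₀ → z ∈ Z → Commute h z := fun {h z} hh hz =>
    (mem_centralizer_iff.1 hh.2 z hz).symm
  have hZn : H ≤ normalizer (Z : Set G) := normalizer_le_omegaCenter p P
  have hK₀n : H ≤ normalizer (K₀ : Set G) :=
    Coprime.inf_le_normalizer le_normalizer
      (hZn.trans (Coprime.normalizer_le_normalizer_centralizer _))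
  have htK₀ : T.t ∉ K₀ := fun h => hz₂1 (hzp hz₂Z (by
    have h1 := (hK₀c h hz₂Z).eq
    rw [h1, mul_inv_cancel_right] at hz₂t
    nth_rw 2 [hz₂t]
    exact mul_inv_cancel _))
  have hK₀odd : ¬ 2 ∣ Nat.card K₀ := by
    intro h2
    haveI : Fact (Nat.Prime 2) := ⟨Nat.prime_two⟩
    obtain ⟨⟨i, hi⟩, hio⟩ := exists_prime_orderOf_dvd_card' (G := K₀) 2 h2
    rw [orderOf_mk] at hio
    obtain ⟨h, hh, hhi⟩ := conj_of_not_four (H := centralizer ({N.v} : Set G) ⊓ H)
      (fun h4 => N.cent_two.2 (h4.trans (card_dvd_of_le inf_le_left))) (i := i) (j := T.t)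
      ⟨mem_centralizer_singleton_iff.2 (hK₀c hi hvZ).eq, hi.1⟩ hio
      ⟨mem_centralizer_singleton_iff.2 N.v_t.symm.eq, htP⟩ T.order_t
    exact htK₀ (hhi ▸ (mem_normalizer_iff.1 (hK₀n hh.2) i).1 hi)
  have hK₀3 : ¬ 3 ∣ Nat.card K₀ := by
    intro h3
    haveI : Fact (Nat.Prime 3) := ⟨Nat.prime_three⟩
    obtain ⟨⟨i, hi⟩, hio⟩ := exists_prime_orderOf_dvd_card' (G := K₀) 3 h3
    rw [orderOf_mk] at hio
    exact N.not_three_dvd (hio ▸ Subgroup.orderOf_dvd_natCard _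
      (N.mem_O.2 ⟨hK₀c hi hvZ, hio ▸ (by decide : Odd 3)⟩))
  -- elements of `C(t)`
  set X := ({z : G | z ∈ Z ∧ T.t * z * T.t⁻¹ = z⁻¹} : Set G) with hX
  let X₂ : Subgroup G :=
    { carrier := X
      one_mem' := ⟨one_mem _, by group⟩
      mul_mem' := fun {a b} ha hb => ⟨mul_mem ha.1 hb.1, by
        rw [← conj_mul, ha.2, hb.2, mul_inv_rev]
        exact (hcomm _ (inv_mem ha.1) _ (inv_mem hb.1)).eq⟩
      inv_mem' := fun {a} ha => ⟨inv_mem ha.1, by rw [← conj_inv, ha.2]⟩ }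
  have hz₂X : z₂ ∈ X₂ := ⟨hz₂Z, hz₂t⟩
  have hz₃X : z₃ ∈ X₂ := ⟨hz₃Z, hz₃t⟩
  have hline₂ : ∀ z ∈ Z, Commute z N.u → z ∈ zpowers z₂ := fun z hz hzu =>
    N.mem_zpowers_of_u (hZO _ hz₂Z) hz₂u hz₂1 hz₂Z.2.1 (hZO _ hz) hzu hz.2.1
  have hline₃ : ∀ z ∈ Z, Commute z (T.t * N.u) → z ∈ zpowers z₃ := fun z hz hzu =>
    N.swap.mem_zpowers_of_u (N.swap_O.symm ▸ hZO _ hz₃Z) hz₃tu hz₃1 hz₃Z.2.1
      (N.swap_O.symm ▸ hZO _ hz) hzu hz.2.1
  have hgen : ∀ W : Subgroup G, N.v ∈ W → z₂ ∈ W → z₃ ∈ W → Z ≤ W := by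
    intro W h1 h2 h3
    refine T.le_of_four N.order_u N.u_t N.u_ne
      (N.odd_of_isPGroup hv (hP.isPGroup.to_le (omegaCenter_le p P))) (hZn htP) (hZn huP)
      (fun a ha => ?_) (fun a ha => ?_) (fun a ha => ?_)
    · exact zpowers_le.2 h1 (N.mem_zpowers_v hv
        (N.mem_w_of_commute_t (hZO _ ha.1) (mem_centralizer_singleton_iff.1 ha.2)) ha.1.2.1)
    · exact zpowers_le.2 h2 (hline₂ a ha.1 (mem_centralizer_singleton_iff.1 ha.2))
    · exact zpowers_le.2 h3 (hline₃ a ha.1 (mem_centralizer_singleton_iff.1 ha.2))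
  have hcardX : Nat.card X₂ = p * p := by
    have h2 : Nat.card (zpowers z₂) = p := by
      rw [Nat.card_zpowers, orderOf_eq_prime hz₂Z.2.1 hz₂1]
    have h3 : Nat.card (zpowers z₃) = p := by
      rw [Nat.card_zpowers, orderOf_eq_prime hz₃Z.2.1 hz₃1]
    let f : zpowers z₂ × zpowers z₃ → X₂ := fun a =>
      ⟨(a.1 : G) * a.2, mul_mem (zpowers_le.2 hz₂X a.1.2) (zpowers_le.2 hz₃X a.2.2)⟩
    have hf : Function.Bijective f := by
      constructor
      · rintro ⟨a, b⟩ ⟨a', b'⟩ e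
        have e' : (a : G) * b = a' * b' := congrArg Subtype.val e
        have hd : (a' : G)⁻¹ * a = b' * (b : G)⁻¹ := by
          rw [eq_mul_inv_iff_mul_eq, mul_assoc, e', inv_mul_cancel_left]
        set d := (a' : G)⁻¹ * a with hdd
        have hdu : Commute d N.u := by
          obtain ⟨i, hi⟩ := mem_zpowers_iff.1 (mul_mem (inv_mem a'.2) a.2)
          rw [hdd, ← hi]; exact hz₂u.zpow_left i
        have hdtu : Commute d (T.t * N.u) := by
          obtain ⟨i, hi⟩ := mem_zpowers_iff.1 (mul_mem b'.2 (inv_mem b.2))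
          rw [hd, ← hi]; exact hz₃tu.zpow_left i
        have hdt : Commute d T.t := by
          have := hdtu.mul_right hdu
          rwa [mul_assoc, N.u_sq, mul_one] at this
        have hd1 : d = 1 := N.eq_one_of_inverted_commute (N.mem_w_of_commute_t
          (hZO _ (zpowers_le.2 hz₂Z (mul_mem (inv_mem a'.2) a.2))) hdt) hdu
        exact Prod.ext (Subtype.ext (inv_mul_eq_one.1 hd1).symm)
          (Subtype.ext (mul_inv_eq_one.1 (hd ▸ hd1)).symm)
      · rintro ⟨z, hz, hzt⟩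
        have hle : Z ≤ zpowers N.v ⊔ (zpowers z₂ ⊔ zpowers z₃) := hgen _
          (mem_sup_left (mem_zpowers _)) (mem_sup_right (mem_sup_left (mem_zpowers _)))
          (mem_sup_right (mem_sup_right (mem_zpowers _)))
        have hcz : ∀ a b : G, a ∈ Z → b ∈ Z → zpowers b ≤ normalizer (zpowers a : Set G) := by
          intro a b ha hb
          refine zpowers_le.2 (Subgroup.centralizer_le_normalizer _ ?_)
          rw [zpowers_eq_closure, centralizer_closure, mem_centralizer_singleton_iff]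
          exact (hcomm b hb a ha).eq
        obtain ⟨a, ha, b, hb, rfl⟩ := Coprime.mem_sup_exists (sup_le (hcz _ _ hvZ hz₂Z)
          (hcz _ _ hvZ hz₃Z)) (hle hz)
        obtain ⟨c, hc, d, hd, rfl⟩ := Coprime.mem_sup_exists (hcz _ _ hz₂Z hz₃Z) hb
        have hcd : (c * d) ∈ X₂ := mul_mem (zpowers_le.2 hz₂X hc) (zpowers_le.2 hz₃X hd)
        have hat : T.t * a * T.t⁻¹ = a := by
          rw [(N.commute_t (zpowers_le.2 N.v_mem ha)).symm.eq, mul_inv_cancel_right]
        rw [← conj_mul, hat, hcd.2, mul_inv_rev a (c * d),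
          (hcomm _ (inv_mem hcd.1) _ (inv_mem (zpowers_le.2 hvZ ha))).eq] at hzt
        have ha1 : a = 1 := hzp (zpowers_le.2 hvZ ha) (by
          nth_rw 2 [mul_right_cancel hzt]; exact mul_inv_cancel _)
        exact ⟨⟨⟨c, hc⟩, ⟨d, hd⟩⟩, Subtype.ext (by simp [f, ha1])⟩
    rw [← Nat.card_congr (Equiv.ofBijective f hf), Nat.card_prod, h2, h3]
  have hact_t : ∀ h ∈ H, Commute h T.t →
      ∃ e, (e = 1 ∨ e = T.t ∨ e = N.u ∨ e = T.t * N.u) ∧ e⁻¹ * h ∈ K₀ := by
    intro h hh hht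
    obtain ⟨e, he, i, hi⟩ := N.norm h hht (N.conj_v_mem hv hP hh hht)
    refine ⟨e, he, ?_⟩
    rw [hi, inv_mul_cancel_left]
    set c := N.w ^ i with hc
    have hcw : c ∈ zpowers N.w := zpow_mem (mem_zpowers _) i
    have hcH : c ∈ H := by
      have : c = e⁻¹ * h := by rw [hi, inv_mul_cancel_left]
      rw [this]; exact mul_mem (inv_mem (N.e_mem_normalizer htP huP he)) hh
    have hcv : Commute c N.v := N.comm_w hcw N.v_mem
    suffices hcX : ∀ z ∈ X₂, Commute c z by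
      refine ⟨hcH, mem_centralizer_iff.2 fun z hz => ?_⟩
      have := hgen (centralizer ({c} : Set G)) (mem_centralizer_singleton_iff.2 hcv.symm.eq)
        (mem_centralizer_singleton_iff.2 (hcX _ hz₂X).symm.eq)
        (mem_centralizer_singleton_iff.2 (hcX _ hz₃X).symm.eq) hz
      exact (mem_centralizer_singleton_iff.1 this :)
    -- every primary part of `c` centralizes the plane
    let S' : Subgroup G := zpowers c ⊓ centralizer (X₂ : Set G)
    suffices hdvd : orderOf c ∣ Nat.card S' by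
      intro z hz
      have : S' = zpowers c := eq_of_le_of_card_ge inf_le_left
        (by rw [Nat.card_zpowers]; exact Nat.le_of_dvd Nat.card_pos hdvd)
      exact (mem_centralizer_iff.1 (this.symm ▸ mem_zpowers c : c ∈ S').2 z hz).symm
    refine (Nat.dvd_iff_prime_pow_dvd_dvd _ _).2 fun r k hr hrk => ?_
    rcases Nat.eq_zero_or_pos k with rfl | hk
    · exact (pow_zero r).symm ▸ one_dvd _
    haveI := Fact.mk hr
    set y := c ^ (orderOf c / r ^ k) with hy
    have hyo : orderOf y = r ^ k := orderOf_pow_orderOf_div (orderOf_pos c).ne' hrk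
    have hyc : y ∈ zpowers c := pow_mem (mem_zpowers c) _
    have hyw : y ∈ zpowers N.w := zpowers_le.2 hcw hyc
    have hrn : r ∣ n := ((dvd_pow_self r hk.ne').trans hrk).trans (N.orderOf_dvd_n hcw)
    have hyH : y ∈ H := pow_mem hcH _
    suffices hyX : y ∈ centralizer (X₂ : Set G) by
      rw [← hyo]
      exact Subgroup.orderOf_dvd_natCard _ (⟨hyc, hyX⟩ : y ∈ S')
    rcases eq_or_ne r p with rfl | hrp
    · -- the `p`-part lies in `P`
      have hsup : IsPGroup r (zpowers y ⊔ P : Subgroup G) :=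
        (IsPGroup.of_card (n := k) (by rw [Nat.card_zpowers, hyo])).to_sup_of_normal_right'
          hP.isPGroup (zpowers_le.2 hyH)
      have hall : ∀ a ∈ zpowers y ⊔ P, Commute a N.v := by
        intro a ha
        rw [sup_comm] at ha
        obtain ⟨a', ha', b', hb', rfl⟩ := Coprime.mem_sup_exists (zpowers_le.2 hyH) ha
        exact ((N.mem_O.1 (hP.1 ha')).1).mul_left
          (N.comm_w (zpowers_le.2 hyw hb') N.v_mem)
      have hyP : y ∈ P := (eq_of_le_of_card_ge le_sup_right (N.card_le hv hP hsup hall)).symm ▸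
        mem_sup_left (mem_zpowers y)
      exact mem_centralizer_iff.2 fun z hz => (hz.1.2.2 y hyP).eq
    · have hyn : y ∈ normalizer (X₂ : Set G) := by
        have hyt : Commute y T.t := N.commute_t hyw
        have hstep : ∀ g : G, g ∈ H → Commute g T.t → ∀ z ∈ X₂, g * z * g⁻¹ ∈ X₂ := by
          intro g hg hgt z hz
          refine ⟨conj_mem_omegaCenter hg hz.1, ?_⟩
          calc T.t * (g * z * g⁻¹) * T.t⁻¹ = (T.t * g) * z * (T.t * g)⁻¹ := by group
            _ = (g * T.t) * z * (g * T.t)⁻¹ := by rw [hgt.eq]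
            _ = g * (T.t * z * T.t⁻¹) * g⁻¹ := by group
            _ = (g * z * g⁻¹)⁻¹ := by rw [hz.2]; group
        rw [mem_normalizer_iff]
        refine fun z => ⟨hstep y hyH hyt z, fun h' => ?_⟩
        have := hstep y⁻¹ (inv_mem hyH) hyt.inv_left _ h'
        rwa [show y⁻¹ * (y * z * y⁻¹) * y⁻¹⁻¹ = z by group] at this
      have hmod := card_conj_fixed_modEq hyo hyn
      rw [hcardX] at hmod
      have hd : Nat.card ↥(X₂ ⊓ centralizer ({y} : Set G)) ∣ p ^ 2 := by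
        rw [pow_two, ← hcardX]; exact card_dvd_of_le inf_le_left
      obtain ⟨f, hf, hfeq⟩ := (Nat.dvd_prime_pow hp).1 hd
      rw [hfeq] at hmod
      have hr2 : r ≠ 2 := fun e => T.kit.data.two_not_mo (e ▸ hrn)
      have hpr : p < r := lt_of_le_of_ne (hmin r hr hrn) (Ne.symm hrp)
      have hpodd : p % 2 = 1 := Nat.odd_iff.1 (hp.odd_of_ne_two hp2)
      have hrodd : r % 2 = 1 := Nat.odd_iff.1 (hr.odd_of_ne_two hr2)
      have hdd : (r : ℤ) ∣ ((p ^ f : ℕ) : ℤ) - ((p * p : ℕ) : ℤ) := Nat.modEq_iff_dvd.1 hmod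
      have hrI : Prime (r : ℤ) := Nat.prime_iff_prime_int.1 hr
      have hsmall : ∀ z : ℤ, 0 < z → z < r → ¬ (r : ℤ) ∣ z := fun z h1 h2 h3 =>
        absurd (Int.le_of_dvd h1 h3) (not_le.2 h2)
      have h2p := hp.two_le
      have hf2 : f = 2 := by
        interval_cases f
        · exfalso
          have h1 : (r : ℤ) ∣ ((p : ℤ) - 1) * ((p : ℤ) + 1) := by
            rw [show ((p : ℤ) - 1) * ((p : ℤ) + 1) =
              -(((p ^ 0 : ℕ) : ℤ) - ((p * p : ℕ) : ℤ)) by push_cast; ring]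
            exact dvd_neg.2 hdd
          rcases hrI.dvd_mul.1 h1 with h | h
          · exact hsmall _ (by omega) (by omega) h
          · exact hsmall _ (by omega) (by omega) h
        · exfalso
          have h1 : (r : ℤ) ∣ (p : ℤ) * ((p : ℤ) - 1) := by
            rw [show (p : ℤ) * ((p : ℤ) - 1) =
              -(((p ^ 1 : ℕ) : ℤ) - ((p * p : ℕ) : ℤ)) by push_cast; ring]
            exact dvd_neg.2 hdd
          rcases hrI.dvd_mul.1 h1 with h | h
          · exact hsmall _ (by omega) (by omega) h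
          · exact hsmall _ (by omega) (by omega) h
        · rfl
      rw [hf2] at hfeq
      have heq : X₂ ⊓ centralizer ({y} : Set G) = X₂ :=
        eq_of_le_of_card_ge inf_le_left (by rw [hfeq, hcardX, pow_two])
      exact mem_centralizer_iff.2 fun z hz =>
        (mem_centralizer_singleton_iff.1 (heq.symm ▸ hz : z ∈ X₂ ⊓ centralizer ({y} : Set G)).2)
  -- centralizers modulo the kernel
  have hfix : ∀ i, (i = T.t ∨ i = N.u ∨ i = T.t * N.u) → ∀ h ∈ H, h * i * h⁻¹ * i⁻¹ ∈ K₀ →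
      ∃ k ∈ K₀, Commute (h * k) i := by
    intro i hi h hh hhi
    have hiV : i = 1 ∨ i = T.t ∨ i = N.u ∨ i = T.t * N.u := Or.inr hi
    have hiH : i ∈ H := N.e_mem_normalizer htP huP hiV
    have hodd2 : Odd (Nat.card K₀) := Nat.not_even_iff_odd.1 fun h => hK₀odd h.two_dvd
    obtain ⟨k, hk, hkc⟩ := Coprime.exists_fixed_in_coset (A := zpowers i) (N := K₀)
      (zpowers_le.2 (hK₀n hiH)) (by
        rw [Nat.card_zpowers]
        have : orderOf i ∣ 2 := orderOf_dvd_of_pow_eq_one (by rw [pow_two]; exact N.sq_of_mem hiV)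
        exact (Nat.coprime_two_left.2 hodd2).coprime_dvd_left this)
      (Or.inl (Group.isSolvable_of_comm fun a b => mul_comm' a b)) (k := h) (hK₀n hh) (by
        intro a ha
        obtain ⟨j, rfl⟩ := mem_zpowers_iff.1 ha
        rcases Int.even_or_odd j with ⟨l, rfl⟩ | ⟨l, rfl⟩
        · rw [← two_mul, zpow_mul, zpow_two, N.sq_of_mem hiV, one_zpow, one_mul, inv_one, mul_one,
            mul_inv_cancel]
          exact one_mem _
        · rw [zpow_add, zpow_mul, zpow_two, N.sq_of_mem hiV, one_zpow, one_mul, zpow_one,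
            show i * h * i⁻¹ * h⁻¹ = (h * i * h⁻¹ * i⁻¹)⁻¹ by group]
          exact inv_mem hhi)
    exact ⟨k, hk, (mem_centralizer_iff.1 hkc i (mem_zpowers i)).symm⟩
  have hτK₀ : τ ∉ K₀ := fun h => hz₂v (by rw [hz₂, (hK₀c h hvZ).eq, mul_inv_cancel_right])
  have hconjK : ∀ {g k}, g ∈ H → k ∈ K₀ → g * k * g⁻¹ ∈ K₀ := fun {g k} hg hk =>
    (mem_normalizer_iff.1 (hK₀n hg) k).1 hk
  have hτtu' : τ⁻¹ * N.u * τ = T.t := by rw [← hτt]; group
  have hτt'' : τ⁻¹ * T.t * τ = T.t * N.u := by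
    calc τ⁻¹ * T.t * τ = τ⁻¹ * (τ * (T.t * N.u) * τ⁻¹) * τ := by rw [hτtu]
      _ = _ := by group
  have hτu'' : τ⁻¹ * (T.t * N.u) * τ = N.u := by
    calc τ⁻¹ * (T.t * N.u) * τ = τ⁻¹ * (τ * N.u * τ⁻¹) * τ := by rw [hτu]
      _ = _ := by group
  -- the elements of the four-group are their own centralizers modulo the kernel
  have hactV : ∀ i, (i = T.t ∨ i = N.u ∨ i = T.t * N.u) → ∀ h ∈ H, h * i * h⁻¹ * i⁻¹ ∈ K₀ →
      ∃ e, (e = 1 ∨ e = T.t ∨ e = N.u ∨ e = T.t * N.u) ∧ e⁻¹ * h ∈ K₀ := by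
    intro i hi h hh hhi
    obtain ⟨k, hk, hkc⟩ := hfix i hi h hh hhi
    have hhk : h * k ∈ H := mul_mem hh hk.1
    have hkey : ∃ e, (e = 1 ∨ e = T.t ∨ e = N.u ∨ e = T.t * N.u) ∧ e⁻¹ * (h * k) ∈ K₀ := by
      rcases hi with rfl | rfl | rfl
      · exact hact_t _ hhk hkc
      · have h1 : Commute (τ⁻¹ * (h * k) * τ) T.t := by
          rw [← hτtu']
          simpa [mul_assoc] using hkc.map (MulAut.conj τ⁻¹)
        obtain ⟨e, he, hek⟩ := hact_t _ (mul_mem (mul_mem (inv_mem hτP) hhk) hτP) h1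
        refine ⟨τ * e * τ⁻¹, ?_, ?_⟩
        · rcases he with rfl | rfl | rfl | rfl
          exacts [Or.inl (by group), Or.inr (Or.inr (Or.inl hτt)), Or.inr (Or.inr (Or.inr hτu)),
            Or.inr (Or.inl hτtu)]
        · rw [show (τ * e * τ⁻¹)⁻¹ * (h * k) = τ * (e⁻¹ * (τ⁻¹ * (h * k) * τ)) * τ⁻¹ by group]
          exact hconjK hτP hek
      · have h1 : Commute (τ * (h * k) * τ⁻¹) T.t := hτtu ▸ hkc.map (MulAut.conj τ)
        obtain ⟨e, he, hek⟩ := hact_t _ (mul_mem (mul_mem hτP hhk) (inv_mem hτP)) h1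
        refine ⟨τ⁻¹ * e * τ, ?_, ?_⟩
        · rcases he with rfl | rfl | rfl | rfl
          exacts [Or.inl (by group), Or.inr (Or.inr (Or.inr hτt'')),
            Or.inr (Or.inl hτtu'), Or.inr (Or.inr (Or.inl hτu''))]
        · rw [show (τ⁻¹ * e * τ)⁻¹ * (h * k) = τ⁻¹ * (e⁻¹ * (τ * (h * k) * τ⁻¹)) * τ⁻¹⁻¹ by group]
          exact hconjK (inv_mem hτP) hek
    obtain ⟨e, he, hek⟩ := hkey
    refine ⟨e, he, ?_⟩
    rw [show e⁻¹ * h = e⁻¹ * (h * k) * k⁻¹ by group]
    exact mul_mem hek (inv_mem hk)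
  -- the quotient
  haveI hKn : (K₀.subgroupOf H).Normal := (normal_subgroupOf_iff_le_normalizer inf_le_left).2 hK₀n
  let π : H →* H ⧸ K₀.subgroupOf H := QuotientGroup.mk' _
  have hπ : ∀ a b : H, π a = π b ↔ (a : G)⁻¹ * b ∈ K₀ := fun a b => by
    rw [QuotientGroup.mk'_apply, QuotientGroup.mk'_apply, QuotientGroup.eq, mem_subgroupOf]
    rfl
  have hπs : Function.Surjective π := QuotientGroup.mk'_surjective _
  haveI : Fact (Nat.Prime 2) := ⟨Nat.prime_two⟩
  have hVH : F.V ≤ H := fun e he => by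
    rcases F.mem_V.1 he with rfl | rfl | rfl | rfl
    · exact one_mem _
    · exact htP
    · exact hF.symm ▸ huP
    · exact mul_mem htP (hF.symm ▸ huP)
  have hV' : ∀ {e}, e ∈ F.V ↔ (e = 1 ∨ e = T.t ∨ e = N.u ∨ e = T.t * N.u) := fun {e} => by
    rw [F.mem_V, VFrame.InV, hF]
  obtain ⟨S₀, hS₀⟩ := (IsPGroup.of_card (n := 2) (by
    rw [Nat.card_congr (subgroupOfEquivOfLe hVH).toEquiv, F.card_V]; norm_num) :
      IsPGroup 2 (F.V.subgroupOf H)).exists_le_sylow
  have hS₀V : ∀ a : H, a ∈ (S₀ : Subgroup H) ↔ (a : G) ∈ F.V := by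
    intro a
    refine ⟨fun ha => ?_, fun ha => hS₀ (mem_subgroupOf.2 ha)⟩
    have hpS : IsPGroup 2 ((S₀ : Subgroup H).map H.subtype) := S₀.2.map _
    have haS : (a : G) ∈ (S₀ : Subgroup H).map H.subtype := ⟨a, ha, rfl⟩
    have hmem : ∀ e ∈ F.V, e ∈ (S₀ : Subgroup H).map H.subtype := fun e he =>
      ⟨⟨e, hVH he⟩, hS₀ (mem_subgroupOf.2 he), rfl⟩
    have hat := T.comm_of_isPGroup hpS haS (hmem _ (hV'.2 (Or.inr (Or.inl rfl))))
    have hau := T.comm_of_isPGroup hpS haS (hmem _ (hV'.2 (Or.inr (Or.inr (Or.inl rfl)))))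
    obtain ⟨e, he, i, hi⟩ := N.norm a hat (N.conj_v_mem hv hP a.2 hat)
    have hwu : Commute (N.w ^ i) N.u := by
      have := (N.commute_u_of_mem he).inv_left.mul_left hau
      rwa [hi, inv_mul_cancel_left] at this
    rw [N.eq_one_of_inverted_commute (zpow_mem (mem_zpowers _) i) hwu, mul_one] at hi
    exact hi ▸ hV'.2 he
  let S := S₀.mapSurjective hπs
  have hScoe : (S : Subgroup (H ⧸ K₀.subgroupOf H)) = (S₀ : Subgroup H).map π := rfl
  have hVK : ∀ e ∈ F.V, e ∈ K₀ → e = 1 := fun e he heK => by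
    by_contra he1
    refine hK₀odd ?_
    rw [← VFrame.InV.order F ((F.mem_V.1 he).resolve_left he1)]
    exact Subgroup.orderOf_dvd_natCard _ heK
  have hScard : Nat.card S = 4 := by
    show Nat.card ↥((S₀ : Subgroup H).map π) = 4
    have hinj : Function.Injective (π.comp (S₀ : Subgroup H).subtype) := by
      rw [injective_iff_map_eq_one]
      intro a ha
      have h1 : ((a : H) : G) ∈ K₀ := mem_subgroupOf.1 ((QuotientGroup.eq_one_iff _).1 ha)
      exact Subtype.ext (Subtype.ext (hVK _ ((hS₀V a).1 a.2) h1))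
    rw [← F.card_V, ← Subgroup.range_subtype (S₀ : Subgroup H), MonoidHom.map_range,
      ← Nat.card_congr (MonoidHom.ofInjective hinj).toEquiv]
    exact Nat.card_congr ⟨fun a => ⟨((a : H) : G), (hS₀V a).1 a.2⟩,
      fun a => ⟨⟨a, hVH a.2⟩, hS₀ (mem_subgroupOf.2 a.2)⟩, fun a => rfl, fun a => rfl⟩
  have hS_e : ∀ a : H, π a ∈ S → ∃ e ∈ F.V, e⁻¹ * (a : G) ∈ K₀ := by
    intro a ha
    change π a ∈ (S : Subgroup (H ⧸ K₀.subgroupOf H)) at ha
    rw [hScoe] at ha
    obtain ⟨b, hb, hba⟩ := ha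
    exact ⟨b, (hS₀V b).1 hb, (hπ b a).1 hba⟩
  have hmain : ∀ h ∈ H, ∃ l : ℕ, ∃ e, (e = 1 ∨ e = T.t ∨ e = N.u ∨ e = T.t * N.u) ∧
      ∀ z ∈ Z, h * z * h⁻¹ = τ ^ l * (e * z * e⁻¹) * (τ ^ l)⁻¹ := by
    by_cases hn : (S : Subgroup (H ⧸ K₀.subgroupOf H)).Normal
    · intro h hh
      have h1 : π (⟨h, hh⟩ * ⟨T.t, htP⟩ * ⟨h, hh⟩⁻¹) ∈ S := by
        rw [map_mul, map_mul, map_inv]
        refine hn.conj_mem _ ?_ _
        rw [hScoe]
        exact mem_map_of_mem _ ((hS₀V _).2 (hV'.2 (Or.inr (Or.inl rfl))))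
      obtain ⟨e, he, hek⟩ := hS_e _ h1
      push_cast at hek
      have he1 : e ≠ 1 := by
        rintro rfl
        rw [inv_one, one_mul] at hek
        have := hconjK (inv_mem hh) hek
        rw [show h⁻¹ * (h * T.t * h⁻¹) * h⁻¹⁻¹ = T.t by group] at this
        exact htK₀ this
      have heI := (F.mem_V.1 he).resolve_left he1
      have he2 : e * e = 1 := F.sq_V he
      have hprod : h * T.t * h⁻¹ * e ∈ K₀ := by
        have := hconjK (hVH he) hek
        rwa [show e * (e⁻¹ * (h * T.t * h⁻¹)) * e⁻¹ = h * T.t * h⁻¹ * e by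
          rw [inv_eq_of_mul_eq_one_right he2, ← mul_assoc, he2, one_mul]] at this
      obtain ⟨k, hk, hke⟩ := conj_of_odd_prod
        (Invol.invol_mul_self (Invol.invol_conj T.order_t h)) he2
        ((Nat.not_even_iff_odd.1 fun h => hK₀odd h.two_dvd).of_dvd_nat
          (Subgroup.orderOf_dvd_natCard _ hprod))
      have hkK : k ∈ K₀ := zpowers_le.2 hprod hk
      set h' := k * h with hh'
      have hh'H : h' ∈ H := mul_mem hkK.1 hh
      have hh't : h' * T.t * h'⁻¹ = e := by rw [← hke, hh']; group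
      have hfinal : ∀ l : ℕ, Commute ((τ ^ l)⁻¹ * h') T.t → ∃ l : ℕ, ∃ e,
          (e = 1 ∨ e = T.t ∨ e = N.u ∨ e = T.t * N.u) ∧
          ∀ z ∈ Z, h * z * h⁻¹ = τ ^ l * (e * z * e⁻¹) * (τ ^ l)⁻¹ := by
        intro l hl
        obtain ⟨e', he', hk'⟩ := hact_t _ (mul_mem (inv_mem (pow_mem hτP l)) hh'H) hl
        refine ⟨l, e', he', fun z hz => ?_⟩
        set k' := e'⁻¹ * ((τ ^ l)⁻¹ * h') with hk'd
        have hw : h * z * h⁻¹ = k⁻¹ * (τ ^ l * (e' * (k' * z * k'⁻¹) * e'⁻¹) * (τ ^ l)⁻¹) * k := by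
          rw [hk'd, hh']; group
        have hwZ : τ ^ l * (e' * z * e'⁻¹) * (τ ^ l)⁻¹ ∈ Z :=
          conj_mem_omegaCenter (pow_mem hτP l)
            (conj_mem_omegaCenter (N.e_mem_normalizer htP huP he') hz)
        rw [hw, (hK₀c hk' hz).eq, mul_inv_cancel_right, mul_assoc,
          (hK₀c hkK hwZ).symm.eq, inv_mul_cancel_left]
      rcases heI with rfl | rfl | rfl
      · exact hfinal 0 (by
          rw [pow_zero, inv_one, one_mul]; exact mul_inv_eq_iff_eq_mul.1 hh't)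
      · refine hfinal 1 (mul_inv_eq_iff_eq_mul.1 ?_)
        rw [pow_one, show τ⁻¹ * h' * T.t * (τ⁻¹ * h')⁻¹ = τ⁻¹ * (h' * T.t * h'⁻¹) * τ by group,
          hh't, hF, hτtu']
      · refine hfinal 2 (mul_inv_eq_iff_eq_mul.1 ?_)
        have hτ2 : (τ ^ 2)⁻¹ = τ :=
          inv_eq_of_mul_eq_one_right (by rw [← pow_succ, hτ3])
        rw [hτ2, show τ * h' * T.t * (τ * h')⁻¹ = τ * (h' * T.t * h'⁻¹) * τ⁻¹ by group,
          hh't, hF, hτtu]
    · exfalso
      have hexp : ∀ a ∈ S, a * a = 1 := by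
        intro a ha
        change a ∈ (S : Subgroup (H ⧸ K₀.subgroupOf H)) at ha
        rw [hScoe] at ha
        obtain ⟨b, hb, rfl⟩ := ha
        rw [← map_mul, show b * b = 1 from Subtype.ext (F.sq_V ((hS₀V b).1 hb)), map_one]
      have hcS : ∀ a : H, (a : G) ∈ F.V → a ≠ 1 → ∀ y, Commute y (π a) → y ∈ S := by
        intro a ha ha1 y hy
        obtain ⟨h, rfl⟩ := hπs y
        have hai : (a : G) = T.t ∨ (a : G) = N.u ∨ (a : G) = T.t * N.u :=
          (hV'.1 ha).resolve_left fun e => ha1 (Subtype.ext e)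
        have h1 : (h : G) * a * (h : G)⁻¹ * (a : G)⁻¹ ∈ K₀ := by
          have h2 : π (h * a * h⁻¹ * a⁻¹) = 1 := by
            rw [map_mul, map_mul, map_mul, map_inv, map_inv, hy.eq, mul_inv_cancel_right,
              mul_inv_cancel]
          exact mem_subgroupOf.1 ((QuotientGroup.eq_one_iff _).1 h2)
        obtain ⟨e, he, hek⟩ := hactV _ hai h h.2 h1
        show π h ∈ (S : Subgroup (H ⧸ K₀.subgroupOf H))
        rw [hScoe]
        exact ⟨⟨e, hVH (hV'.2 he)⟩, (hS₀V _).2 (hV'.2 he), (hπ _ _).2 hek⟩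
      have hdata : AbCent.Data S := by
        refine ⟨?_, hn, ?_⟩
        · intro hcyc
          obtain ⟨c, hc⟩ := IsCyclic.exists_ofOrder_eq_natCard
            (α := (S : Subgroup (H ⧸ K₀.subgroupOf H)))
          have h2 := orderOf_dvd_of_pow_eq_one
            ((pow_two (c : H ⧸ K₀.subgroupOf H)).trans (hexp _ c.2))
          rw [Subgroup.orderOf_coe, hc, hScard] at h2
          norm_num at h2
        · intro i hi
          obtain ⟨Q, hQ⟩ := (IsPGroup.of_card (G := zpowers i) (p := 2) (n := 1)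
            (by rw [Nat.card_zpowers, hi, pow_one])).exists_le_sylow
          obtain ⟨d, hd⟩ := MulAction.exists_smul_eq (H ⧸ K₀.subgroupOf H) Q S
          have hdi : d * i * d⁻¹ ∈ (S : Subgroup (H ⧸ K₀.subgroupOf H)) := by
            rw [← hd, Sylow.coe_subgroup_smul]
            exact mem_map_of_mem _ (hQ (mem_zpowers i))
          rw [hScoe] at hdi
          obtain ⟨a, ha, hai⟩ := hdi
          have ha1 : a ≠ 1 := by
            rintro rfl
            rw [map_one] at hai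
            rw [conj_eq_one_iff.1 hai.symm, orderOf_one] at hi
            norm_num at hi
          refine ⟨⟨fun b c => ?_⟩⟩
          have hmem : ∀ b : centralizer ({i} : Set (H ⧸ K₀.subgroupOf H)),
              d * (b : H ⧸ K₀.subgroupOf H) * d⁻¹ ∈ S := fun b =>
            hcS a ((hS₀V a).1 ha) ha1 _ (hai ▸
              (show Commute (b : H ⧸ K₀.subgroupOf H) i from mem_centralizer_singleton_iff.1 b.2).map
                (MulAut.conj d))
          have hSc : ∀ z ∈ S, ∀ z' ∈ S, z * z' = z' * z := by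
            intro z hz z' hz'
            have e1 : ∀ {w}, w ∈ S → w⁻¹ = w := fun hw => inv_eq_of_mul_eq_one_right (hexp _ hw)
            calc z * z' = (z * z')⁻¹ := (e1 (mul_mem hz hz')).symm
              _ = _ := by rw [mul_inv_rev, e1 hz, e1 hz']
          apply Subtype.ext
          apply (MulAut.conj d).injective
          push_cast
          rw [map_mul, map_mul]
          exact hSc _ (hmem b) _ (hmem c)
      obtain ⟨-, Fl, _, _, hchar, φ, hsur, hker, hodd⟩ := AbCent.target _ _ rfl S hdata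
      have hπt : π ⟨T.t, htP⟩ ≠ 1 := fun h =>
        htK₀ (mem_subgroupOf.1 ((QuotientGroup.eq_one_iff _).1 h))
      have hφinj : Function.Injective φ := by
        rw [injective_iff_map_eq_one]
        intro a ha
        have haS : a ∈ S := hcS ⟨T.t, htP⟩ (hV'.2 (Or.inr (Or.inl rfl)))
          (fun e => Invol.invol_ne_one T.order_t (congrArg Subtype.val e)) a
          (mem_center_iff.1 (hker (MonoidHom.mem_ker.2 ha)) _).symm
        exact orderOf_eq_one_iff.1 (Nat.eq_one_of_dvd_coprimes (Nat.coprime_two_left.2 hodd)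
          (orderOf_dvd_of_pow_eq_one ((pow_two a).trans (hexp a haS)))
          (Subgroup.orderOf_dvd_natCard _ (MonoidHom.mem_ker.2 ha)))
      have hcard : Nat.card (H ⧸ K₀.subgroupOf H) =
          Nat.card (Matrix.SpecialLinearGroup (Fin 2) Fl) :=
        Nat.card_congr (Equiv.ofBijective φ ⟨hφinj, hsur⟩)
      obtain ⟨f, -, hf⟩ := FiniteField.card Fl 2
      rw [Classical.card_sl2, hf] at hcard
      have hpos : 0 < (2 : ℕ) ^ (f : ℕ) := pow_pos two_pos _
      have hev : (2 : ℕ) ^ (f : ℕ) % 2 = 0 := Nat.mod_eq_zero_of_dvd (dvd_pow_self 2 f.pos.ne')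
      have hrest : ¬ 2 ∣ (2 ^ (f : ℕ) - 1) * (2 ^ (f : ℕ) + 1) := by
        intro hd
        rcases Nat.prime_two.dvd_mul.1 hd with h | h <;> omega
      have hq4 : (2 : ℕ) ^ (f : ℕ) = 4 := by
        have h1 := S.card_eq_multiplicity
        rw [hScard, hcard, Nat.factorization_mul (pow_pos two_pos _).ne'
          (fun e => hrest (by rw [e]; exact dvd_zero 2)), Finsupp.add_apply,
          Nat.factorization_eq_zero_of_not_dvd hrest, Nat.Prime.factorization_pow Nat.prime_two,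
          Finsupp.single_eq_same, add_zero] at h1
        exact h1.symm
      rw [hq4] at hf
      obtain ⟨ω, hω⟩ : ∃ ω : Flˣ, orderOf ω = 3 := by
        obtain ⟨ω, hω⟩ := IsCyclic.exists_ofOrder_eq_natCard (α := Flˣ)
        exact ⟨ω, by rw [hω, Nat.card_units, Nat.card_eq_fintype_card, hf]⟩
      set d := TwoChars.elS ω (0 : Fl) with hd
      have hd3 : d ^ 3 = 1 := by
        rw [pow_three, hd, TwoChars.elS_mul, TwoChars.elS_mul, mul_zero, zero_mul, add_zero,
          mul_zero, zero_mul, add_zero,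
          show ω * (ω * ω) = 1 by rw [← pow_three, ← hω, pow_orderOf_eq_one],
          TwoChars.elS_one_zero]
      have hd1 : d ≠ 1 := fun e => by
        have h := congrArg (fun z : Matrix.SpecialLinearGroup (Fin 2) Fl => z.1 0 0) e
        simp [hd, TwoChars.elS_val] at h
        rw [h, orderOf_one] at hω
        norm_num at hω
      let w : Matrix.SpecialLinearGroup (Fin 2) Fl :=
        ⟨!![0, 1; 1, 0], by simp [Matrix.det_fin_two, CharTwo.neg_eq]⟩
      have hwd : w * d * w⁻¹ = d⁻¹ := by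
        have h1 : w * d = TwoChars.elS ω⁻¹ (0 : Fl) * w := by
          apply Subtype.ext
          rw [Matrix.SpecialLinearGroup.coe_mul, Matrix.SpecialLinearGroup.coe_mul, hd,
            TwoChars.elS_val, TwoChars.elS_val]
          ext i j
          fin_cases i <;> fin_cases j <;> simp [w, Matrix.mul_apply, Fin.sum_univ_two]
        rw [h1, mul_inv_cancel_right]
        refine eq_inv_of_mul_eq_one_left ?_
        rw [hd, TwoChars.elS_mul, inv_mul_cancel, mul_zero, zero_mul, add_zero,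
          TwoChars.elS_one_zero]
      haveI : Fact (Nat.Prime 3) := ⟨Nat.prime_three⟩
      set a := φ (π ⟨τ, hτP⟩) with ha
      have ha1 : a ≠ 1 := by
        intro e
        have h := hφinj (e.trans (map_one φ).symm)
        exact hτK₀ (mem_subgroupOf.1 ((QuotientGroup.eq_one_iff _).1 h))
      have ha3 : a ^ 3 = 1 := by
        rw [ha, ← map_pow, ← map_pow,
          show (⟨τ, hτP⟩ : H) ^ 3 = 1 from Subtype.ext hτ3, map_one, map_one]
      have hf3 : (Nat.card (Matrix.SpecialLinearGroup (Fin 2) Fl)).factorization 3 = 1 := by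
        rw [Classical.card_sl2, hf, show 4 * ((4 - 1) * (4 + 1)) = 3 * 20 by norm_num,
          Nat.factorization_mul (by norm_num) (by norm_num), Finsupp.add_apply,
          Nat.Prime.factorization_self Nat.prime_three,
          Nat.factorization_eq_zero_of_not_dvd (by norm_num)]
      have hsyl : ∀ b : Matrix.SpecialLinearGroup (Fin 2) Fl, b ^ 3 = 1 → b ≠ 1 →
          Nat.card (zpowers b) = 3 ^ (Nat.card (Matrix.SpecialLinearGroup (Fin 2) Fl)).factorization 3 :=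
        fun b hb hb1 => by rw [hf3, pow_one, Nat.card_zpowers, orderOf_eq_prime hb hb1]
      obtain ⟨g, hg⟩ := MulAction.exists_smul_eq (Matrix.SpecialLinearGroup (Fin 2) Fl) (Sylow.ofCard _ (hsyl a ha3 ha1))
        (Sylow.ofCard _ (hsyl d hd3 hd1))
      have hga : g * a * g⁻¹ ∈ zpowers d := by
        have h1 : g * a * g⁻¹ ∈ ((g • Sylow.ofCard _ (hsyl a ha3 ha1) : Sylow 3 _) :
            Subgroup (Matrix.SpecialLinearGroup (Fin 2) Fl)) := by
          rw [Sylow.coe_subgroup_smul]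
          exact mem_map_of_mem _ (mem_zpowers a)
        rw [hg] at h1
        exact h1
      obtain ⟨j, hj⟩ := mem_zpowers_iff.1 hga
      have hinv : (g⁻¹ * w * g) * a * (g⁻¹ * w * g)⁻¹ = a⁻¹ := by
        calc (g⁻¹ * w * g) * a * (g⁻¹ * w * g)⁻¹ = g⁻¹ * (w * (g * a * g⁻¹) * w⁻¹) * g := by group
          _ = g⁻¹ * (g * a * g⁻¹)⁻¹ * g := by rw [← hj, ← conj_zpow, hwd, inv_zpow]
          _ = a⁻¹ := by group
      obtain ⟨y, hy⟩ := hsur (g⁻¹ * w * g)
      obtain ⟨h, rfl⟩ := hπs y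
      have hk : (h : G) * τ * (h : G)⁻¹ * τ ∈ K₀ := by
        have h1 : π (h * ⟨τ, hτP⟩ * h⁻¹ * ⟨τ, hτP⟩) = 1 := by
          apply hφinj
          rw [map_mul, map_mul, map_mul, map_inv, map_mul, map_mul, map_mul, map_inv, hy, ← ha,
            hinv, inv_mul_cancel, map_one]
        exact mem_subgroupOf.1 ((QuotientGroup.eq_one_iff _).1 h1)
      have hcardτ : Nat.card (zpowers τ) = 3 := by rw [Nat.card_zpowers, hτ]
      obtain ⟨c, hc, hcA⟩ := Coprime.sz_conj_in (A := zpowers τ)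
        (B := Coprime.conjBy (h : G) (zpowers τ)) (N := K₀) (zpowers_le.2 (hK₀n hτP))
        (by rw [hcardτ]; exact (Nat.prime_three.coprime_iff_not_dvd.2 hK₀3).symm)
        (by
          rw [Coprime.conjBy, MonoidHom.map_zpowers, zpowers_le]
          show (h : G) * τ * (h : G)⁻¹ ∈ _
          rw [show (h : G) * τ * (h : G)⁻¹ = (h : G) * τ * (h : G)⁻¹ * τ * τ⁻¹ by group]
          exact mul_mem (mem_sup_right hk) (mem_sup_left (inv_mem (mem_zpowers τ))))
        (Coprime.card_conjBy _ _) (Or.inl (Group.isSolvable_of_comm fun a b => mul_comm' a b))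
      rw [Coprime.conjBy_conjBy] at hcA
      have hb : c * h * τ * (c * h)⁻¹ ∈ zpowers τ :=
        (mem_normalizer_iff.1 (Coprime.conjBy_eq_self_iff.1 hcA) τ).1 (mem_zpowers τ)
      have hbK : c * h * τ * (c * h)⁻¹ * τ ∈ K₀ := by
        rw [show c * (h : G) * τ * (c * h)⁻¹ * τ =
          c * ((h : G) * τ * (h : G)⁻¹ * τ) * (τ⁻¹ * c⁻¹ * τ⁻¹⁻¹) by group]
        exact mul_mem (mul_mem hc hk) (hconjK (inv_mem hτP) (inv_mem hc))
      have hb1 : c * h * τ * (c * h)⁻¹ * τ = 1 := by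
        have hd' := Subgroup.orderOf_dvd_natCard (zpowers τ) (mul_mem hb (mem_zpowers τ))
        rw [hcardτ] at hd'
        exact orderOf_eq_one_iff.1 (Nat.eq_one_of_dvd_coprimes
          (Nat.prime_three.coprime_iff_not_dvd.2 hK₀3) hd' (Subgroup.orderOf_dvd_natCard _ hbK))
      exact T.not_inverted_three hτ hso hτs (eq_inv_of_mul_eq_one_left hb1)
  -- neither fixing nor inverting `y₀` is possible outside `P`
  have hye : ∀ e, (e = 1 ∨ e = T.t ∨ e = N.u ∨ e = T.t * N.u) → ∀ (l : ℕ) (z : G),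
      τ ^ l * (e * y₀ * e⁻¹) * (τ ^ l)⁻¹ = z → Commute τ z → e * y₀ * e⁻¹ = z := by
    intro e _ l z h1 h2
    rw [← h1] at h2 ⊢
    calc e * y₀ * e⁻¹ = (τ ^ l)⁻¹ * (τ ^ l * (e * y₀ * e⁻¹) * (τ ^ l)⁻¹) * τ ^ l := by group
      _ = τ ^ l * (e * y₀ * e⁻¹) * (τ ^ l)⁻¹ := by
          rw [(h2.symm.pow_right l).inv_right.symm.eq, mul_assoc, inv_mul_cancel, mul_one]
  have huv := N.u_v
  have huz₂ : N.u * z₂ * N.u⁻¹ = z₂ := by rw [hz₂u.symm.eq, mul_inv_cancel_right]
  have htuz₃ : T.t * N.u * z₃ * (T.t * N.u)⁻¹ = z₃ := by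
    rw [hz₃tu.symm.eq, mul_inv_cancel_right]
  have huz₃ : N.u * z₃ * N.u⁻¹ = z₃⁻¹ := by
    calc N.u * z₃ * N.u⁻¹ = T.t * (T.t * N.u * z₃ * (T.t * N.u)⁻¹) * T.t⁻¹ := by
          rw [show T.t * (T.t * N.u * z₃ * (T.t * N.u)⁻¹) * T.t⁻¹
            = (T.t * T.t) * N.u * z₃ * N.u⁻¹ * (T.t * T.t)⁻¹ by group, T.t_sq, one_mul, inv_one,
            mul_one]
      _ = z₃⁻¹ := by rw [htuz₃, hz₃t]
  have huy : N.u * y₀ * N.u⁻¹ = N.v⁻¹ * z₂ * z₃⁻¹ := by
    calc N.u * y₀ * N.u⁻¹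
        = (N.u * N.v * N.u⁻¹) * (N.u * z₂ * N.u⁻¹) * (N.u * z₃ * N.u⁻¹) := by rw [hy₀]; group
      _ = _ := by rw [huv, huz₂, huz₃]
  have htuy : T.t * N.u * y₀ * (T.t * N.u)⁻¹ = N.v⁻¹ * z₂⁻¹ * z₃ := by
    calc T.t * N.u * y₀ * (T.t * N.u)⁻¹ = T.t * (N.u * y₀ * N.u⁻¹) * T.t⁻¹ := by group
      _ = (T.t * N.v * T.t⁻¹)⁻¹ * (T.t * z₂ * T.t⁻¹) * (T.t * z₃ * T.t⁻¹)⁻¹ := by rw [huy]; group
      _ = _ := by rw [N.v_t.symm.eq, mul_inv_cancel_right, hz₂t, hz₃t, inv_inv]
  have hsq : ∀ {a b : G}, a ∈ Z → b ∈ Z → a * b⁻¹ = b * a → b = 1 := fun {a b} ha hb h => by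
    refine hzp hb ?_
    rw [(hcomm b hb a ha).eq] at h
    have := mul_left_cancel h
    nth_rw 2 [← this]
    exact mul_inv_cancel _
  have hnotinv : ∀ h ∈ H, h * y₀ * h⁻¹ ≠ y₀⁻¹ := by
    intro h hh hinv
    obtain ⟨l, e, he, hl⟩ := hmain h hh
    have h1 := hye e he l _ ((hl _ hy₀Z).symm.trans hinv) hτy₀.inv_right
    have hy₀inv : y₀⁻¹ = N.v⁻¹ * z₂⁻¹ * z₃⁻¹ := by
      rw [hy₀, mul_inv_rev (N.v * z₂) z₃, mul_inv_rev N.v z₂,
        (hcomm _ (inv_mem hz₃Z) _ (mul_mem (inv_mem hz₂Z) (inv_mem hvZ))).eq,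
        (hcomm _ (inv_mem hz₂Z) _ (inv_mem hvZ)).eq]
    rw [hy₀inv] at h1
    rcases he with rfl | rfl | rfl | rfl
    · rw [one_mul, inv_one, mul_one] at h1
      refine hy₀1 (hzp hy₀Z ?_)
      rw [hy₀]
      nth_rw 1 [← hy₀, h1]
      rw [show N.v⁻¹ * z₂⁻¹ * z₃⁻¹ = (z₃ * z₂ * N.v)⁻¹ by group, inv_mul_eq_one]
      rw [(hcomm _ hvZ _ (mul_mem hz₃Z hz₂Z)).symm.eq, (hcomm _ hz₃Z _ hz₂Z).eq, ← mul_assoc]
    · rw [hty₀] at h1
      have h2 := mul_right_cancel (mul_right_cancel h1)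
      exact hv1 (hzp hvZ (by nth_rw 2 [h2]; exact mul_inv_cancel _))
    · rw [huy] at h1
      have h2 := mul_left_cancel (mul_right_cancel h1)
      exact hz₂1 (hzp hz₂Z (by nth_rw 2 [h2]; exact mul_inv_cancel _))
    · rw [htuy] at h1
      have h2 := mul_left_cancel h1
      exact hz₃1 (hzp hz₃Z (by nth_rw 2 [h2]; exact mul_inv_cancel _))
  have hfixP : ∀ h ∈ H, Commute h y₀ → (∃ j : ℕ, h ^ p ^ j = 1) → h ∈ P := by
    intro h hh hhy ⟨j, hj⟩
    obtain ⟨l, e, he, hl⟩ := hmain h hh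
    have h1 := hye e he l y₀ ((hl _ hy₀Z).symm.trans (by rw [hhy.eq, mul_inv_cancel_right])) hτy₀
    have he1 : e = 1 := by
      rcases he with rfl | rfl | rfl | rfl
      · rfl
      · exfalso
        rw [hty₀, hy₀, mul_assoc, mul_assoc] at h1
        have h2 : z₂⁻¹ * z₃⁻¹ = z₂ * z₃ := mul_left_cancel h1
        have h3 : z₂ * z₃ = 1 := hzp (mul_mem hz₂Z hz₃Z) (by
          nth_rw 2 [← h2]; rw [(hcomm _ hz₂Z _ hz₃Z).eq]; group)
        have h4 : z₂ = z₃⁻¹ := eq_inv_of_mul_eq_one_left h3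
        have h5 : Commute z₂ (T.t * N.u) := h4 ▸ hz₃tu.inv_left
        have h6 : Commute z₂ T.t := by
          have := h5.mul_right hz₂u
          rwa [mul_assoc, N.u_sq, mul_one] at this
        exact hz₂1 (N.eq_one_of_inverted_commute (N.mem_w_of_commute_t (hZO _ hz₂Z) h6) hz₂u)
      · exfalso
        rw [huy, hy₀] at h1
        have h3 : N.v * z₃ = 1 := hzp (mul_mem hvZ hz₃Z) (by
          have h2 : N.v⁻¹ * z₃⁻¹ = N.v * z₃ := by
            rw [mul_assoc, mul_assoc, (hcomm _ hz₂Z _ (inv_mem hz₃Z)).eq, (hcomm _ hz₂Z _ hz₃Z).eq,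
              ← mul_assoc, ← mul_assoc] at h1
            exact mul_right_cancel h1
          nth_rw 2 [← h2]; rw [(hcomm _ hvZ _ hz₃Z).eq]; group)
        have h4 : Commute N.v (T.t * N.u) := eq_inv_of_mul_eq_one_left h3 ▸ hz₃tu.inv_left
        exact hv1 (N.swap.eq_one_of_inverted_commute N.v_mem h4)
      · exfalso
        rw [htuy, hy₀] at h1
        have h3 : N.v * z₂ = 1 := hzp (mul_mem hvZ hz₂Z) (by
          have h2 := mul_right_cancel h1
          nth_rw 2 [← h2]; rw [(hcomm _ hvZ _ hz₂Z).eq]; group)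
        exact hv1 (N.eq_one_of_inverted_commute N.v_mem
          (eq_inv_of_mul_eq_one_left h3 ▸ hz₂u.inv_left))
    subst he1
    have hpow : ∀ i : ℕ, ∀ z ∈ Z, h ^ i * z * (h ^ i)⁻¹ = τ ^ (l * i) * z * (τ ^ (l * i))⁻¹ := by
      intro i
      induction i with
      | zero => intro z _; simp
      | succ i ih =>
        intro z hz
        have hzi : τ ^ l * z * (τ ^ l)⁻¹ ∈ Z := conj_mem_omegaCenter (pow_mem hτP l) hz
        calc h ^ (i + 1) * z * (h ^ (i + 1))⁻¹ = h ^ i * (h * z * h⁻¹) * (h ^ i)⁻¹ := by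
              rw [pow_succ]; group
          _ = h ^ i * (τ ^ l * z * (τ ^ l)⁻¹) * (h ^ i)⁻¹ := by
              rw [hl z hz, one_mul, inv_one, mul_one]
          _ = τ ^ (l * i) * (τ ^ l * z * (τ ^ l)⁻¹) * (τ ^ (l * i))⁻¹ := ih _ hzi
          _ = τ ^ (l * (i + 1)) * z * (τ ^ (l * (i + 1)))⁻¹ := by
              rw [Nat.mul_succ, pow_add]; group
    have hτc : τ ^ (l * p ^ j) ∈ K₀ := by
      refine ⟨pow_mem hτP _, mem_centralizer_iff.2 fun z hz => ?_⟩
      have h2 := hpow (p ^ j) z hz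
      rw [hj, one_mul, inv_one, mul_one] at h2
      nth_rw 1 [h2]
      group
    have h3l : 3 ∣ l := by
      have h2 : τ ^ (l * p ^ j) = 1 := orderOf_eq_one_iff.1 (Nat.eq_one_of_dvd_coprimes
        (Nat.prime_three.coprime_iff_not_dvd.2 hK₀3)
        (orderOf_dvd_of_pow_eq_one (by rw [← pow_mul, mul_comm, pow_mul, hτ3, one_pow]))
        (Subgroup.orderOf_dvd_natCard _ hτc))
      exact (Nat.Coprime.dvd_mul_right
        (((Nat.coprime_primes Nat.prime_three hp).2 hp3.symm).pow_right j)).1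
        (hτ ▸ orderOf_dvd_of_pow_eq_one h2)
    obtain ⟨l', rfl⟩ := h3l
    have hhv : Commute h N.v := by
      refine mul_inv_eq_iff_eq_mul.1 ?_
      rw [hl _ hvZ, pow_mul, hτ3, one_pow]
      group
    have hhp : IsPGroup p (zpowers h) := by
      obtain ⟨i, -, hi⟩ := (Nat.dvd_prime_pow hp).1 (orderOf_dvd_of_pow_eq_one hj)
      exact IsPGroup.of_card (n := i) (by rw [Nat.card_zpowers, hi])
    have hall : ∀ a ∈ P ⊔ zpowers h, Commute a N.v := by
      intro a ha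
      obtain ⟨a', ha', b', hb', rfl⟩ := Coprime.mem_sup_exists (zpowers_le.2 hh) ha
      obtain ⟨i, rfl⟩ := mem_zpowers_iff.1 hb'
      exact ((N.mem_O.1 (hP.1 ha')).1).mul_left (hhv.zpow_left i)
    have hsup : IsPGroup p (P ⊔ zpowers h : Subgroup G) :=
      hP.isPGroup.to_sup_of_normal_left' hhp (zpowers_le.2 hh)
    exact (eq_of_le_of_card_ge le_sup_left (N.card_le hv hP hsup hall)).symm ▸
      mem_sup_right (mem_zpowers h)
  -- Frattini argument in the centralizer of `y₀`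
  set C := centralizer ({y₀} : Set G) with hC
  have hPC : P ≤ C := fun a ha => mem_centralizer_singleton_iff.2 (hy₀Z.2.2 a ha).symm.eq
  obtain ⟨Q, hQ⟩ := (hP.isPGroup.comap_subtype : IsPGroup p (P.subgroupOf C)).exists_le_sylow
  have hQP : (Q : Subgroup C) = P.subgroupOf C := by
    refine le_antisymm ?_ hQ
    by_contra hle
    haveI : Group.IsNilpotent (Q : Subgroup C) := Q.2.isNilpotent
    have hlt : (P.subgroupOf C).subgroupOf (Q : Subgroup C) < ⊤ := lt_top_iff_ne_top.2 fun e =>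
      hle (subgroupOf_eq_top.1 e)
    obtain ⟨a, ha, hna⟩ := SetLike.exists_of_lt (Group.normalizerCondition_of_isNilpotent _ hlt)
    apply hna
    refine mem_subgroupOf.2 (mem_subgroupOf.2 ?_)
    have hmemP : ∀ b : G, b ∈ P → ∃ b' : (Q : Subgroup C), ((b' : C) : G) = b := fun b hb =>
      ⟨⟨⟨b, hPC hb⟩, hQ (mem_subgroupOf.2 hb)⟩, rfl⟩
    obtain ⟨j, hj⟩ := Q.2 a
    refine hfixP _ ?_ (mem_centralizer_singleton_iff.1 (a : C).2)
      ⟨j, congrArg (fun b : (Q : Subgroup C) => ((b : C) : G)) hj⟩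
    have hmap : P.map (MulAut.conj ((a : C) : G)).toMonoidHom ≤ P := by
      rintro _ ⟨b, hb, rfl⟩
      obtain ⟨b', rfl⟩ := hmemP b hb
      have h1 := (mem_normalizer_iff.1 ha b').1 (mem_subgroupOf.2 (mem_subgroupOf.2 hb))
      exact mem_subgroupOf.1 (mem_subgroupOf.1 h1)
    exact mem_normalizer_iff_map_conj_eq.2 (eq_of_le_of_card_ge hmap
      (by rw [card_map_of_injective (MulAut.conj _).injective]))
  have hs'C : ∀ a ∈ C, s' * a * s'⁻¹ ∈ C := by
    intro a ha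
    have h1 := (show Commute a y₀ from mem_centralizer_singleton_iff.1 ha).map (MulAut.conj s')
    simp only [MulAut.conj_apply, hs'y] at h1
    exact mem_centralizer_singleton_iff.2 (Commute.inv_right_iff.1 h1).eq
  set P' := P.map (MulAut.conj s').toMonoidHom with hP'
  have hP'C : P' ≤ C := by
    rintro _ ⟨a, ha, rfl⟩
    exact hs'C a (hPC ha)
  obtain ⟨Q', hQ'⟩ := ((hP.isPGroup.map (MulAut.conj s').toMonoidHom).comap_subtype :
    IsPGroup p (P'.subgroupOf C)).exists_le_sylow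
  obtain ⟨c', hc'⟩ := MulAction.exists_smul_eq C Q' Q
  refine hnotinv ((c' : G) * s') ?_ ?_
  · refine mem_normalizer_iff_map_conj_eq.2 (eq_of_le_of_card_ge ?_
      (by rw [card_map_of_injective (MulAut.conj _).injective]))
    rintro _ ⟨a, ha, rfl⟩
    have ha' : s' * a * s'⁻¹ ∈ P' := mem_map_of_mem (MulAut.conj s').toMonoidHom ha
    have h1 : c' * ⟨_, hP'C ha'⟩ * c'⁻¹ ∈ (Q : Subgroup C) := by
      rw [← hc', Sylow.coe_subgroup_smul]
      exact mem_map_of_mem _ (hQ' (mem_subgroupOf.2 ha'))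
    rw [hQP, mem_subgroupOf] at h1
    push_cast at h1
    show (c' : G) * s' * a * ((c' : G) * s')⁻¹ ∈ P
    rwa [show (c' : G) * s' * a * ((c' : G) * s')⁻¹ = (c' : G) * (s' * a * s'⁻¹) * (c' : G)⁻¹ by group]
  · have hcy : Commute (c' : G) y₀ := mem_centralizer_singleton_iff.1 c'.2
    calc (c' : G) * s' * y₀ * ((c' : G) * s')⁻¹ = c' * (s' * y₀ * s'⁻¹) * (c' : G)⁻¹ := by group
      _ = y₀⁻¹ := by rw [hs'y, hcy.inv_right.eq, mul_inv_cancel_right]

end NFrame

end Setup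

end CfsgLib.ReeType
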