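import Cfsg.Agent.Lib.Ree.TorusNCase

/-!
# Groups of Ree type: centralizers of elements of the torus of order `(q-1)/2`

For an element `v` whose order is the smallest prime divisor of `(q-1)/2` the centralizer is
`⟨t⟩ × ⟨w⟩`.
-/

set_option autoImplicit false
set_option linter.unusedSectionVars false

namespace CfsgLib.ReeType

open Subgroup

universe u

variable {G : Type u} [Group G] [Finite G]

/-- Whoever fixes or inverts an element normalizes its cyclic group. -/
theorem mem_normalizer_zpowers_of {g x : G} (h : g * x * g⁻¹ = x ∨ g * x * g⁻¹ = x⁻¹) :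
    g ∈ normalizer (zpowers x : Set G) := by
  refine mem_normalizer_iff_map_conj_eq.2 ?_
  rw [MonoidHom.map_zpowers]
  show zpowers (g * x * g⁻¹) = zpowers x
  rcases h with h | h
  · rw [h]
  · rw [h, zpowers_inv]

/-- A nontrivial element of a `p`-group has a power of order `p`. -/
theorem orderOf_pow_prime {p : ℕ} [hp : Fact p.Prime] {Q : Subgroup G} (hQ : IsPGroup p Q) {a : G}
    (ha : a ∈ Q) (ha1 : a ≠ 1) : orderOf (a ^ (orderOf a / p)) = p := by
  obtain ⟨j, hj⟩ := hQ ⟨a, ha⟩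
  have hd : orderOf a ∣ p ^ j := orderOf_dvd_of_pow_eq_one (congrArg Subtype.val hj)
  obtain ⟨i, -, hi⟩ := (Nat.dvd_prime_pow hp.out).1 hd
  refine orderOf_pow_orderOf_div (orderOf_pos a).ne' ?_
  rw [hi]
  refine dvd_pow_self p ?_
  rintro rfl
  exact ha1 (orderOf_eq_one_iff.1 (by rw [hi, pow_zero]))

namespace Setup

namespace NFrame

variable {q m n : ℕ} {T : Setup G q m n} (N : NFrame T) {p : ℕ} [hpF : Fact p.Prime]

/-- Invariant `p`-subgroups of the odd part lie in the torus, for the smallest prime `p`. -/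
theorem sylow_le (hv : orderOf N.v = p) (hmin : ∀ r : ℕ, r.Prime → r ∣ n → p ≤ r) {U : Subgroup G}
    (hUO : U ≤ N.O) (hU : IsPGroup p U) (htU : T.t ∈ normalizer (U : Set G))
    (huU : N.u ∈ normalizer (U : Set G)) : U ≤ zpowers N.w := by
  have hp := hpF.out
  obtain ⟨P, hP, hUP, htP, huP⟩ := T.exists_four_sylow N.order_u N.u_t N.u_ne (p := p) N.odd_O
    N.t_mem_normalizer N.u_mem_normalizer hUO hU htU huU
  refine hUP.trans ?_
  have hodd : ∀ H : Subgroup G, H ≤ P → Odd (Nat.card H) := fun H hH =>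
    (N.odd_of_isPGroup hv hP.isPGroup).of_dvd_nat (card_dvd_of_le hH)
  have htuP : T.t * N.u ∈ normalizer (P : Set G) := mul_mem htP huP
  have hswapP : Coprime.IsSylowIn p P N.swap.O := N.swap_O.symm ▸ hP
  by_cases hI : ∃ z ∈ omegaCenter p P, z ≠ 1 ∧ (Commute z N.u ∨ Commute z (T.t * N.u))
  · obtain ⟨z, hz, hz1, hzc | hzc⟩ := hI
    · exact (N.false_of_center hv hmin hP htP huP hz hz1 hzc).elim
    · exact (N.swap.false_of_center hv hmin hswapP htP htuP hz hz1 hzc).elim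
  push Not at hI
  -- the centre lies in the torus
  set Zc := P ⊓ centralizer (P : Set G) with hZc
  have hZn : normalizer (P : Set G) ≤ normalizer (Zc : Set G) :=
    Coprime.inf_le_normalizer le_rfl (Coprime.normalizer_le_normalizer_centralizer _)
  have hZfix : ∀ a ∈ Zc, Commute a N.u ∨ Commute a (T.t * N.u) → a = 1 := by
    intro a ha hac
    by_contra ha1
    have ho := orderOf_pow_prime hP.isPGroup ha.1 ha1
    have hz : a ^ (orderOf a / p) ∈ omegaCenter p P :=
      ⟨pow_mem ha.1 _, (ho ▸ pow_orderOf_eq_one _ :),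
        fun y hy => (show Commute a y from (mem_centralizer_iff.1 ha.2 y hy).symm).pow_left _⟩
    have hz1 : a ^ (orderOf a / p) ≠ 1 := fun e => hp.one_lt.ne (by rw [← ho, e, orderOf_one])
    rcases hac with h | h
    · exact (hI _ hz hz1).1 (h.pow_left _)
    · exact (hI _ hz hz1).2 (h.pow_left _)
  have hZw : Zc ≤ zpowers N.w := by
    refine T.le_of_four N.order_u N.u_t N.u_ne (hodd _ inf_le_left) (hZn htP) (hZn huP)
      (fun a ha => ?_) (fun a ha => ?_) (fun a ha => ?_)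
    · exact N.mem_w_of_commute_t (hP.1 ha.1.1) (mem_centralizer_singleton_iff.1 ha.2)
    · rw [hZfix a ha.1 (Or.inl (mem_centralizer_singleton_iff.1 ha.2))]; exact one_mem _
    · rw [hZfix a ha.1 (Or.inr (mem_centralizer_singleton_iff.1 ha.2))]; exact one_mem _
  have hZmem : ∀ {c}, c ∈ Zc → ∀ y ∈ P, Commute c y := fun {c} hc y hy =>
    (mem_centralizer_iff.1 hc.2 y hy).symm
  -- the second centre
  let Z2 : Subgroup G :=
    { carrier := {y | y ∈ P ∧ ∀ a ∈ P, a * y * a⁻¹ * y⁻¹ ∈ Zc}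
      one_mem' := ⟨one_mem _, fun a _ => by simp⟩
      mul_mem' := fun {x y} hx hy => ⟨mul_mem hx.1 hy.1, fun a ha => by
        have h : a * (x * y) * a⁻¹ * (x * y)⁻¹ =
            (a * x * a⁻¹ * x⁻¹) * (x * (a * y * a⁻¹ * y⁻¹) * x⁻¹) := by group
        rw [h, ((hZmem (hy.2 a ha) x hx.1).symm).eq, mul_inv_cancel_right]
        exact mul_mem (hx.2 a ha) (hy.2 a ha)⟩
      inv_mem' := fun {x} hx => ⟨inv_mem hx.1, fun a ha => by
        have h : a * x⁻¹ * a⁻¹ * x⁻¹⁻¹ = x⁻¹ * (a * x * a⁻¹ * x⁻¹)⁻¹ * x := by group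
        rw [h, ((hZmem (inv_mem (hx.2 a ha)) x⁻¹ (inv_mem hx.1)).symm).eq, mul_assoc,
          inv_mul_cancel, mul_one]
        exact inv_mem (hx.2 a ha)⟩ }
  have hZ2n : ∀ g ∈ normalizer (P : Set G), g ∈ normalizer (Z2 : Set G) := by
    have hstep : ∀ g ∈ normalizer (P : Set G), ∀ y ∈ Z2, g * y * g⁻¹ ∈ Z2 := by
      intro g hg y hy
      refine ⟨(mem_normalizer_iff.1 hg y).1 hy.1, fun a ha => ?_⟩
      have ha' : g⁻¹ * a * g ∈ P := by
        have := (mem_normalizer_iff.1 (inv_mem hg) a).1 ha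
        rwa [inv_inv] at this
      have := (mem_normalizer_iff.1 (hZn hg) _).1 (hy.2 _ ha')
      rwa [show g * (g⁻¹ * a * g * y * (g⁻¹ * a * g)⁻¹ * y⁻¹) * g⁻¹ =
        a * (g * y * g⁻¹) * a⁻¹ * (g * y * g⁻¹)⁻¹ by group] at this
    intro g hg
    rw [mem_normalizer_iff]
    refine fun y => ⟨hstep g hg y, fun h => ?_⟩
    have := hstep g⁻¹ (inv_mem hg) _ h
    rwa [show g⁻¹ * (g * y * g⁻¹) * g⁻¹⁻¹ = y by group] at this
  have hsec : ∀ M : NFrame T, M.v = N.v → M.u ∈ normalizer (P : Set G) →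
      ∀ x ∈ Z2, Commute x M.u → x = 1 := by
    intro M hM hMu x hx hxu
    by_contra hx1
    have hMO : M.O = N.O := by
      ext a
      rw [M.mem_O, N.mem_O, hM]
    have hMv : orderOf M.v = p := hM.symm ▸ hv
    have ho := orderOf_pow_prime hP.isPGroup hx.1 hx1
    set x' := x ^ (orderOf x / p) with hx'
    have hx'Z : x' ∈ Z2 := pow_mem hx _
    have hx'1 : x' ≠ 1 := fun e => hp.one_lt.ne (by rw [← ho, e, orderOf_one])
    have hx'p : x' ^ p = 1 := (ho ▸ pow_orderOf_eq_one _ :)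
    have hwM : ∀ c ∈ Zc, c ∈ zpowers M.w := fun c hc =>
      M.mem_w_of_commute_t (hMO ▸ hP.1 hc.1) (N.commute_t (hZw hc))
    refine M.false_of_second hMv (hMO ▸ hP) htP hMu
      (fun z hz hzc => hwM z ⟨hz, mem_centralizer_iff.2 fun y hy => (hzc y hy).symm.eq⟩)
      hx'Z.1 (hxu.pow_left _) hx'1 hx'p fun y hy => ?_
    set c := y * x' * y⁻¹ * x'⁻¹ with hc
    have hcZ : c ∈ Zc := hx'Z.2 y hy
    refine M.mem_zpowers_v hMv (hwM c hcZ) ?_
    have h1 : (c * x') ^ p = 1 := by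
      rw [hc, inv_mul_cancel_right, conj_pow, hx'p, mul_one, mul_inv_cancel]
    rwa [(hZmem hcZ x' hx'Z.1).mul_pow, hx'p, mul_one] at h1
  have hZ2w : Z2 ≤ zpowers N.w := by
    refine T.le_of_four N.order_u N.u_t N.u_ne (hodd _ fun y hy => hy.1) (hZ2n _ htP) (hZ2n _ huP)
      (fun a ha => ?_) (fun a ha => ?_) (fun a ha => ?_)
    · exact N.mem_w_of_commute_t (hP.1 ha.1.1) (mem_centralizer_singleton_iff.1 ha.2)
    · rw [hsec N rfl huP a ha.1 (mem_centralizer_singleton_iff.1 ha.2)]; exact one_mem _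
    · rw [hsec N.swap rfl htuP a ha.1 (mem_centralizer_singleton_iff.1 ha.2)]; exact one_mem _
  have hZ2c : ∀ y ∈ Z2, ∀ a ∈ P, Commute a y := by
    intro y hy
    have hle : P ≤ centralizer ({y} : Set G) := by
      have hyt : Commute y T.t := N.commute_t (hZ2w hy)
      have hcase : ∀ a ∈ P, T.t * a * T.t⁻¹ = a⁻¹ → Commute a y := fun a ha hinv => by
        have hc : y * a * y⁻¹ * a⁻¹ ∈ Zc := by
          rw [show y * a * y⁻¹ * a⁻¹ = (a * y * a⁻¹ * y⁻¹)⁻¹ by group]
          exact inv_mem (hy.2 a ha)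
        exact (N.comm_trick hyt hinv (hZw hc) (hZmem hc a ha)).symm
      refine T.le_of_four N.order_u N.u_t N.u_ne (hodd _ le_rfl) htP huP
        (fun a ha => ?_) (fun a ha => ?_) (fun a ha => ?_)
      · exact mem_centralizer_singleton_iff.2 (N.comm_w (N.mem_w_of_commute_t (hP.1 ha.1)
          (mem_centralizer_singleton_iff.1 ha.2)) (hZ2w hy)).eq
      · exact mem_centralizer_singleton_iff.2 (hcase a ha.1
          (N.t_inverts (hP.1 ha.1) (mem_centralizer_singleton_iff.1 ha.2))).eq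
      · exact mem_centralizer_singleton_iff.2 (hcase a ha.1
          (N.swap.t_inverts (N.swap_O.symm ▸ hP.1 ha.1)
            (mem_centralizer_singleton_iff.1 ha.2))).eq
    exact fun a ha => (mem_centralizer_singleton_iff.1 (hle ha) :)
  -- hence `P` is abelian
  have hab : center P = ⊤ := by
    by_contra hne
    haveI : Nontrivial (P ⧸ center P) := by
      by_contra h
      rw [not_nontrivial_iff_subsingleton] at h
      exact hne (QuotientGroup.subsingleton_iff.1 h)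
    haveI := (hP.isPGroup.to_quotient (center P)).center_nontrivial
    obtain ⟨⟨yq, hyq⟩, hy1⟩ := exists_ne (1 : center (P ⧸ center P))
    obtain ⟨y, rfl⟩ := QuotientGroup.mk'_surjective (center P) yq
    refine hy1 (Subtype.ext ((QuotientGroup.eq_one_iff y).2 (mem_center_iff.2 fun a => ?_)))
    refine Subtype.ext ?_
    push_cast
    refine hZ2c (y : G) ⟨y.2, fun b hb => ?_⟩ a a.2
    have h2 := mem_center_iff.1 hyq (QuotientGroup.mk' (center P) ⟨b, hb⟩)
    have h3 : (QuotientGroup.mk' (center P)) (⟨b, hb⟩ * y * ⟨b, hb⟩⁻¹ * y⁻¹) = 1 := by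
      rw [map_mul, map_mul, map_mul, map_inv, map_inv, h2, mul_inv_cancel_right, mul_inv_cancel]
    have h4 : (⟨b, hb⟩ * y * ⟨b, hb⟩⁻¹ * y⁻¹ : P) ∈ center P := (QuotientGroup.eq_one_iff _).1 h3
    exact ⟨(⟨b, hb⟩ * y * ⟨b, hb⟩⁻¹ * y⁻¹ : P).2, mem_centralizer_iff.2 fun d hd =>
      congrArg Subtype.val (mem_center_iff.1 h4 ⟨d, hd⟩)⟩
  refine fun a ha => hZw ⟨ha, mem_centralizer_iff.2 fun d hd => ?_⟩
  exact congrArg Subtype.val (mem_center_iff.1 (hab ▸ mem_top (⟨a, ha⟩ : P)) ⟨d, hd⟩)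

end NFrame

variable {q m n : ℕ} (T : Setup G q m n) {p : ℕ} [hpF : Fact p.Prime]

include T in
/-- An invariant `p`-subgroup with a central element in the centralizer of `i` is cyclic. -/
theorem cyclic_of_pair (hmin : ∀ r : ℕ, r.Prime → r ∣ n → p ≤ r) (hpn : p ∣ n) {P : Subgroup G}
    (hP : IsPGroup p P) {i j : G} (hi : orderOf i = 2) (hj : orderOf j = 2) (hij : Commute i j)
    (hne : i ≠ j) (hiP : i ∈ normalizer (P : Set G)) (hjP : j ∈ normalizer (P : Set G)) {z : G}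
    (hz : z ∈ omegaCenter p P) (hz1 : z ≠ 1) (hzi : Commute z i) : ∃ c : G, P ≤ zpowers c := by
  have hp := hpF.out
  obtain ⟨T', rfl⟩ := T.exists_setup hi
  have hord : ∀ a ∈ omegaCenter p P, a ≠ 1 → orderOf a = p := fun a ha h1 =>
    orderOf_eq_prime ha.2.1 h1
  have hjZ : j ∈ normalizer (omegaCenter p P : Set G) := normalizer_le_omegaCenter p P hjP
  have hinv : j * z * j⁻¹ = z⁻¹ := by
    refine inverts_of_fpf (H := omegaCenter p P ⊓ centralizer ({T'.t} : Set G))
      (Invol.invol_mul_self hj) (fun a ha => ⟨(mem_normalizer_iff.1 hjZ a).1 ha.1, ?_⟩)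
      (fun a ha haj => ?_) z ⟨hz, mem_centralizer_singleton_iff.2 hzi.eq⟩
    · have hat : Commute a T'.t := mem_centralizer_singleton_iff.1 ha.2
      exact mem_centralizer_singleton_iff.2 ((hij.symm.mul_left hat).mul_left hij.symm.inv_left).eq
    · by_contra ha1
      have hat : Commute a T'.t := mem_centralizer_singleton_iff.1 ha.2
      have han : orderOf a ∣ n := (hord a ha.1 ha1).symm ▸ hpn
      obtain ⟨u, hu, hut, huv⟩ := T'.exists_inverter hat ha1 han
      obtain ⟨M, hMv, -⟩ := T'.exists_nframe hat ha1 han hu hut huv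
      have hzero : ∀ e : G, orderOf e ∣ 2 → e ∈ zpowers M.w → e = 1 := fun e he hew =>
        orderOf_eq_one_iff.1 (Nat.eq_one_of_dvd_coprimes
          (Nat.coprime_two_left.2 (M.odd_of_mem hew)) he dvd_rfl)
      rcases M.cent j hij.symm (hMv ▸ (haj : j * a = a * j)) with h | h
      · have := hzero j hj.dvd h
        rw [this, orderOf_one] at hj
        norm_num at hj
      · have h2 : T'.t * j = 1 := hzero _ (orderOf_dvd_of_pow_eq_one (by
          rw [hij.mul_pow, pow_two, pow_two, T'.t_sq, Invol.invol_mul_self hj, one_mul])) h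
        exact hne ((eq_inv_of_mul_eq_one_left h2).trans (Invol.invol_inv hj))
  obtain ⟨M, hMv, hMu⟩ := T'.exists_nframe hzi hz1 ((hord z hz hz1).symm ▸ hpn) hj hij.symm hinv
  have hMo : orderOf M.v = p := hMv.symm ▸ hord z hz hz1
  exact ⟨M.w, M.sylow_le hMo hmin (M.le_O hMo hP fun a ha => hMv.symm ▸ (hz.2.2 a ha).symm) hP hiP
    (hMu.symm ▸ hjP)⟩

/-- For the smallest prime `p`, every four-group invariant `p`-subgroup is cyclic. -/
theorem cyclic_of_four (hmin : ∀ r : ℕ, r.Prime → r ∣ n → p ≤ r) (hpn : p ∣ n) {u : G}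
    (hu : orderOf u = 2) (hc : Commute u T.t) (hne : u ≠ T.t) {P : Subgroup G} (hP : IsPGroup p P)
    (htP : T.t ∈ normalizer (P : Set G)) (huP : u ∈ normalizer (P : Set G)) :
    ∃ c : G, P ≤ zpowers c := by
  have hp := hpF.out
  rcases P.bot_or_exists_ne_one with rfl | ⟨a, ha, ha1⟩
  · exact ⟨1, bot_le⟩
  haveI : Nontrivial P := ⟨⟨⟨a, ha⟩, 1, fun e => ha1 (congrArg Subtype.val e)⟩⟩
  haveI := hP.center_nontrivial
  obtain ⟨⟨z₀, hz₀⟩, hz₁⟩ := exists_ne (1 : center P)
  have hz₀1 : (z₀ : G) ≠ 1 := fun e => hz₁ (Subtype.ext (Subtype.ext e))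
  have ho := orderOf_pow_prime hP z₀.2 hz₀1
  set z := (z₀ : G) ^ (orderOf (z₀ : G) / p) with hz
  have hzZ : z ∈ omegaCenter p P := ⟨pow_mem z₀.2 _, (ho ▸ pow_orderOf_eq_one z :),
    fun y hy => (show Commute (z₀ : G) y from
      congrArg Subtype.val (mem_center_iff.1 hz₀ ⟨y, hy⟩).symm).pow_left _⟩
  have htu : orderOf (T.t * u) = 2 :=
    orderOf_eq_prime (by rw [hc.symm.mul_pow, pow_two, pow_two, T.t_sq, Invol.invol_mul_self hu,
      one_mul]) fun e => hne ((eq_inv_of_mul_eq_one_left e).trans (Invol.invol_inv hu)).symm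
  by_contra hcon
  have hnone : ∀ i j, orderOf i = 2 → orderOf j = 2 → Commute i j → i ≠ j →
      i ∈ normalizer (P : Set G) → j ∈ normalizer (P : Set G) →
      omegaCenter p P ⊓ centralizer ({i} : Set G) ≤ ⊥ := by
    intro i j hi hj hij hne' hiP hjP b hb
    rw [mem_bot]
    by_contra hb1
    exact hcon (T.cyclic_of_pair hmin hpn hP hi hj hij hne' hiP hjP hb.1 hb1
      (mem_centralizer_singleton_iff.1 hb.2))
  have hodd : Odd (Nat.card (omegaCenter p P)) := by
    obtain ⟨k, hk⟩ := (hP.to_le (omegaCenter_le p P)).exists_card_eq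
    rw [hk]
    exact ((T.kit.data.mo_odd.of_dvd_nat hpn)).pow
  have hbot : omegaCenter p P ≤ ⊥ :=
    T.le_of_four hu hc hne hodd (normalizer_le_omegaCenter p P htP) (normalizer_le_omegaCenter p P huP)
      (hnone _ _ T.order_t hu hc.symm hne.symm htP huP)
      (hnone _ _ hu T.order_t hc hne huP htP)
      (hnone _ _ htu T.order_t ((Commute.refl T.t).mul_left hc)
        (fun e => Invol.invol_ne_one hu (mul_eq_left.1 e)) (mul_mem htP huP) htP)
  have := (mem_bot.1 (hbot hzZ))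
  rw [this, orderOf_one] at ho
  exact hp.one_lt.ne ho

namespace NFrame

variable {T} (N : NFrame T)

/-- Only the identity of the odd part commutes with `u`. -/
theorem eq_one_of_commute_u (hv : orderOf N.v = p) (hmin : ∀ r : ℕ, r.Prime → r ∣ n → p ≤ r) {x : G}
    (hxO : x ∈ N.O) (hxu : Commute x N.u) : x = 1 := by
  by_contra hx1
  obtain ⟨r, hr, hrd⟩ := Nat.exists_prime_and_dvd (mt orderOf_eq_one_iff.1 hx1)
  haveI := Fact.mk hr
  set y := x ^ (orderOf x / r) with hy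
  have hyo : orderOf y = r := orderOf_pow_orderOf_div (orderOf_pos x).ne' hrd
  have hy1 : y ≠ 1 := fun e => hr.one_lt.ne (by rw [← hyo, e, orderOf_one])
  have hyO : y ∈ N.O := pow_mem hxO _
  have hyu : Commute y N.u := hxu.pow_left _
  have hyt := N.t_inverts hyO hyu
  have hpn := N.p_dvd_n hv
  rcases eq_or_ne r p with rfl | hrp
  · refine hy1 (N.eq_one_of_inverted_commute ?_ hyu)
    exact N.sylow_le hv hmin (zpowers_le.2 hyO)
      (IsPGroup.of_card (n := 1) (by rw [Nat.card_zpowers, hyo, pow_one]))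
      (mem_normalizer_zpowers_of (Or.inr hyt))
      (mem_normalizer_zpowers_of (Or.inl (by rw [hyu.symm.eq, mul_inv_cancel_right])))
      (mem_zpowers y)
  have hrn : r ∣ n := hyo ▸ N.orders_u hyO hyu
  -- an element of order `r` in the torus
  set x' := N.w ^ (orderOf N.w / r) with hx'
  have hx'o : orderOf x' = r := orderOf_pow_orderOf_div (orderOf_pos _).ne' (N.order_w.symm ▸ hrn)
  have hx'w : x' ∈ zpowers N.w := pow_mem (mem_zpowers _) _
  have hx'1 : x' ≠ 1 := fun e => hr.one_lt.ne (by rw [← hx'o, e, orderOf_one])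
  obtain ⟨M, hMv, hMu⟩ := T.exists_nframe (N.commute_t hx'w) hx'1 (N.orderOf_dvd_n hx'w) N.order_u
    N.u_t (N.u_inverts hx'w)
  obtain ⟨g, hg⟩ := M.exists_conj_mem hr (hMv.symm ▸ hx'o) N.order_u hyu hyo
  set x'' := g * y * g⁻¹ with hx''
  rw [hMv] at hg
  have hx''w : x'' ∈ zpowers N.w := zpowers_le.2 hx'w hg
  have hx''o : orderOf x'' = r := by rw [hx'', ← MulAut.conj_apply, MulEquiv.orderOf_eq, hyo]
  have hgen : zpowers x'' = zpowers x' := eq_of_le_of_card_ge (zpowers_le.2 hg)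
    (by rw [Nat.card_zpowers, Nat.card_zpowers, hx''o, hx'o])
  -- the Sylow `p`-subgroup above `v` in the centralizer of `x'`
  have hvM : N.v ∈ M.O := M.mem_O.2 ⟨hMv ▸ N.comm_w N.v_mem hx'w, N.odd_of_mem N.v_mem⟩
  have hvp : IsPGroup p (zpowers N.v) :=
    IsPGroup.of_card (n := 1) (by rw [Nat.card_zpowers, hv, pow_one])
  obtain ⟨P, hP, hvP, htP, huP⟩ := T.exists_four_sylow M.order_u M.u_t M.u_ne (p := p) M.odd_O
    M.t_mem_normalizer M.u_mem_normalizer (zpowers_le.2 hvM) hvp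
    (mem_normalizer_zpowers_of (Or.inl (by rw [N.v_t.symm.eq, mul_inv_cancel_right])))
    (mem_normalizer_zpowers_of (Or.inr (by rw [hMu]; exact N.u_v)))
  obtain ⟨c₀, hc₀⟩ := T.cyclic_of_four hmin hpn M.order_u M.u_t M.u_ne hP.isPGroup htP huP
  set v' := g * N.v * g⁻¹ with hv'
  have hv'o : orderOf v' = p := by rw [hv', ← MulAut.conj_apply, MulEquiv.orderOf_eq, hv]
  have hv'M : v' ∈ M.O := by
    refine M.mem_O.2 ⟨?_, hv'o ▸ hv ▸ N.odd_of_mem N.v_mem⟩
    obtain ⟨i, hi⟩ := mem_zpowers_iff.1 (hgen.symm ▸ mem_zpowers x' : x' ∈ zpowers x'')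
    rw [hMv, ← hi]
    exact (((N.mem_O.1 hyO).1.symm).map (MulAut.conj g)).zpow_right i
  obtain ⟨S, hS⟩ := ((IsPGroup.of_card (n := 1) (by rw [Nat.card_zpowers, hv'o, pow_one]) :
    IsPGroup p (zpowers v')).comap_subtype : IsPGroup p ((zpowers v').subgroupOf M.O)).exists_le_sylow
  obtain ⟨c, hc, hcP⟩ := (Coprime.isSylowIn_map S).exists_conj hP
  have hcv : c * v' * c⁻¹ ∈ P := hcP ▸ mem_map_of_mem (MulAut.conj c).toMonoidHom
    (show v' ∈ (S : Subgroup M.O).map M.O.subtype from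
      ⟨⟨v', hv'M⟩, hS (mem_subgroupOf.2 (mem_zpowers v')), rfl⟩)
  set h := c * g with hh
  have hhv : h * N.v * h⁻¹ = c * v' * c⁻¹ := by rw [hh, hv']; group
  have hhvo : orderOf (h * N.v * h⁻¹) = p := by rw [← MulAut.conj_apply, MulEquiv.orderOf_eq, hv]
  have hline : zpowers (h * N.v * h⁻¹) = zpowers N.v :=
    PSLSpectrum.eq_of_le_zpowers (u := c₀) (zpowers_le.2 (hc₀ (hhv ▸ hcv)))
      (zpowers_le.2 (hc₀ (hvP (mem_zpowers _))))
      (by rw [Nat.card_zpowers, Nat.card_zpowers, hhvo, hv])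
  have hhy : h * y * h⁻¹ = x'' := by
    obtain ⟨i, hi⟩ := mem_zpowers_iff.1 hg
    calc h * y * h⁻¹ = c * x'' * c⁻¹ := by rw [hh, hx'']; group
      _ = x'' := by
          rw [← hi, ((hMv ▸ (M.mem_O.1 hc).1 : Commute c x').zpow_right i).eq, mul_inv_cancel_right]
  -- move the involution back to `t`
  have hit : Commute (h⁻¹ * T.t * h) N.v := by
    obtain ⟨i, hi⟩ := mem_zpowers_iff.1
      (hline ▸ mem_zpowers (h * N.v * h⁻¹) : h * N.v * h⁻¹ ∈ zpowers N.v)
    have h1 : Commute (h * N.v * h⁻¹) T.t := hi ▸ N.v_t.zpow_left i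
    have h2 := h1.symm.map (MulAut.conj h⁻¹)
    simp only [MulAut.conj_apply, inv_inv] at h2
    rwa [show h⁻¹ * (h * N.v * h⁻¹) * h = N.v by group] at h2
  obtain ⟨d, hd, hdt⟩ := conj_of_not_four (H := centralizer ({N.v} : Set G)) N.cent_two.2
    (i := h⁻¹ * T.t * h) (j := T.t) (mem_centralizer_singleton_iff.2 hit.eq)
    (by
      have := Invol.invol_conj T.order_t h⁻¹
      rwa [inv_inv] at this)
    (mem_centralizer_singleton_iff.2 N.v_t.symm.eq) T.order_t
  set k := h * d⁻¹ with hk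
  have hdv : Commute d N.v := mem_centralizer_singleton_iff.1 hd
  have hkt : Commute k T.t := by
    refine mul_inv_eq_iff_eq_mul.1 ?_
    calc k * T.t * k⁻¹ = k * (d * (h⁻¹ * T.t * h) * d⁻¹) * k⁻¹ := by rw [hdt]
      _ = T.t := by rw [hk]; group
  have hkv : k * N.v * k⁻¹ ∈ zpowers N.v := by
    rw [hk, show h * d⁻¹ * N.v * (h * d⁻¹)⁻¹ = h * (d⁻¹ * N.v * d) * h⁻¹ by group,
      hdv.inv_left.eq, inv_mul_cancel_right]
    exact hline ▸ mem_zpowers _
  obtain ⟨e, he, i, hi⟩ := N.norm k hkt hkv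
  have hkn : ∀ b ∈ zpowers N.w, k⁻¹ * b * k ∈ zpowers N.w := by
    intro b hb
    have hew : e⁻¹ * b * e ∈ zpowers N.w := by
      have he2 := N.sq_of_mem he
      rw [inv_eq_of_mul_eq_one_right he2]
      have hconj : e * b * e⁻¹ ∈ zpowers N.w := by
        rcases he with rfl | rfl | rfl | rfl
        · simpa using hb
        · rw [(N.commute_t hb).symm.eq, mul_inv_cancel_right]; exact hb
        · rw [N.u_inverts hb]; exact inv_mem hb
        · rw [show T.t * N.u * b * (T.t * N.u)⁻¹ = T.t * (N.u * b * N.u⁻¹) * T.t⁻¹ by group,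
            N.u_inverts hb, (N.commute_t hb).inv_left.symm.eq, mul_inv_cancel_right]
          exact inv_mem hb
      rwa [inv_eq_of_mul_eq_one_right he2] at hconj
    rw [hi, show (e * N.w ^ i)⁻¹ * b * (e * N.w ^ i) =
      (N.w ^ i)⁻¹ * (e⁻¹ * b * e) * N.w ^ i by group]
    exact mul_mem (mul_mem (inv_mem (zpow_mem (mem_zpowers _) i)) hew) (zpow_mem (mem_zpowers _) i)
  -- so `y` is conjugate to its inverse inside the odd part
  have hdy : d * y * d⁻¹ ∈ zpowers N.w := by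
    have : d * y * d⁻¹ = k⁻¹ * x'' * k := by rw [← hhy, hk]; group
    rw [this]; exact hkn _ hx''w
  set d' := d⁻¹ * (T.t * d * T.t⁻¹) with hd'
  have hd'y : d' * y * d'⁻¹ = y⁻¹ := by
    have h1 : (T.t * d * T.t⁻¹) * y⁻¹ * (T.t * d * T.t⁻¹)⁻¹ = d * y * d⁻¹ := by
      rw [← hyt]
      calc (T.t * d * T.t⁻¹) * (T.t * y * T.t⁻¹) * (T.t * d * T.t⁻¹)⁻¹
          = T.t * (d * y * d⁻¹) * T.t⁻¹ := by group
        _ = d * y * d⁻¹ := by rw [(N.commute_t hdy).symm.eq, mul_inv_cancel_right]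
    have h2 : d' * y⁻¹ * d'⁻¹ = y := by
      calc d' * y⁻¹ * d'⁻¹
          = d⁻¹ * ((T.t * d * T.t⁻¹) * y⁻¹ * (T.t * d * T.t⁻¹)⁻¹) * d := by rw [hd']; group
        _ = y := by rw [h1]; group
    calc d' * y * d'⁻¹ = (d' * y⁻¹ * d'⁻¹)⁻¹ := by group
      _ = y⁻¹ := by rw [h2]
  have hd'O : d' ∈ N.O := by
    set C := centralizer ({N.v} : Set G) with hC
    have hOC : N.O ≤ C := fun a ha => mem_centralizer_singleton_iff.2 (N.mem_O.1 ha).1.eq
    have h2 : (N.O.subgroupOf C).index = 2 := by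
      have h := (N.O.subgroupOf C).card_mul_index
      rw [Nat.card_congr (subgroupOfEquivOfLe hOC).toEquiv,
        show Nat.card C = 2 * Nat.card N.O from N.card_cent, mul_comm 2] at h
      exact Nat.eq_of_mul_eq_mul_left Nat.card_pos h
    set dC : C := ⟨d, hd⟩
    set tC : C := ⟨T.t, mem_centralizer_singleton_iff.2 N.v_t.symm.eq⟩
    have hmem : dC⁻¹ * (tC * dC * tC⁻¹) ∈ N.O.subgroupOf C := by
      simp only [mul_mem_iff_of_index_two h2, inv_mem_iff]
      tauto
    exact mem_subgroupOf.1 hmem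
  have hd'o : Odd (orderOf d') := (N.mem_O.1 hd'O).2
  have hd2 : Commute (d' * d') y := by
    refine mul_inv_eq_iff_eq_mul.1 ?_
    calc d' * d' * y * (d' * d')⁻¹ = d' * (d' * y * d'⁻¹) * d'⁻¹ := by group
      _ = d' * y⁻¹ * d'⁻¹ := by rw [hd'y]
      _ = (d' * y * d'⁻¹)⁻¹ := by group
      _ = y := by rw [hd'y, inv_inv]
  rw [(commute_of_odd hd'o hd2).eq, mul_inv_cancel_right] at hd'y
  refine hy1 (orderOf_eq_one_iff.1 (Nat.eq_one_of_dvd_coprimes
    ((Nat.coprime_primes Nat.prime_two hr).2 ?_) (orderOf_dvd_of_pow_eq_one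
      (by rw [pow_two]; nth_rw 2 [hd'y]; exact mul_inv_cancel _)) hyo.dvd))
  rintro rfl
  exact T.kit.data.two_not_mo hrn

/-- The odd part of `C(v)` is the torus. -/
theorem O_eq (hv : orderOf N.v = p) (hmin : ∀ r : ℕ, r.Prime → r ∣ n → p ≤ r) :
    N.O = zpowers N.w := by
  refine le_antisymm ?_ N.w_le_O
  refine T.le_of_four N.order_u N.u_t N.u_ne N.odd_O N.t_mem_normalizer N.u_mem_normalizer
    (fun a ha => N.mem_w_of_commute_t ha.1 (mem_centralizer_singleton_iff.1 ha.2))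
    (fun a ha => ?_) (fun a ha => ?_)
  · rw [N.eq_one_of_commute_u hv hmin ha.1 (mem_centralizer_singleton_iff.1 ha.2)]
    exact one_mem _
  · rw [N.swap.eq_one_of_commute_u hv hmin (N.swap_O.symm ▸ ha.1)
      (mem_centralizer_singleton_iff.1 ha.2)]
    exact one_mem _

/-- The centralizer of `v` is `⟨t⟩ × ⟨w⟩`. -/
theorem cent_N (hv : orderOf N.v = p) (hmin : ∀ r : ℕ, r.Prime → r ∣ n → p ≤ r) {g : G}
    (hg : Commute g N.v) : Commute g T.t ∧ (g ∈ zpowers N.w ∨ T.t * g ∈ zpowers N.w) := by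
  suffices ht : Commute g T.t from ⟨ht, N.cent g ht hg⟩
  set C := centralizer ({N.v} : Set G) with hC
  have hOC : N.O ≤ C := fun a ha => mem_centralizer_singleton_iff.2 (N.mem_O.1 ha).1.eq
  have h2 : (N.O.subgroupOf C).index = 2 := by
    have h := (N.O.subgroupOf C).card_mul_index
    rw [Nat.card_congr (subgroupOfEquivOfLe hOC).toEquiv,
      show Nat.card C = 2 * Nat.card N.O from N.card_cent, mul_comm 2] at h
    exact Nat.eq_of_mul_eq_mul_left Nat.card_pos h
  have hw : ∀ {a}, a ∈ N.O → Commute a T.t := fun ha => N.commute_t (N.O_eq hv hmin ▸ ha)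
  have hnt : T.t ∉ N.O := fun h => by
    have := (N.mem_O.1 h).2
    rw [T.order_t] at this
    exact absurd this (by decide)
  by_cases hgO : g ∈ N.O
  · exact hw hgO
  · have : (⟨T.t, mem_centralizer_singleton_iff.2 N.v_t.symm.eq⟩ : C) *
        ⟨g, mem_centralizer_singleton_iff.2 hg.eq⟩ ∈ N.O.subgroupOf C := by
      rw [mul_mem_iff_of_index_two h2, mem_subgroupOf, mem_subgroupOf]
      exact iff_of_false hnt hgO
    have h3 := ((Commute.refl T.t).inv_left).mul_left (hw (mem_subgroupOf.1 this))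
    push_cast at h3
    rwa [inv_mul_cancel_left] at h3

end NFrame

end Setup

end CfsgLib.ReeType
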