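import Cfsg.Agent.Lib.Ree.TorusN

/-!
# Groups of Ree type: invariant Sylow subgroups of `C(v)`, `v` of prime order dividing `(q-1)/2`

If the centre lies in the torus, the Sylow subgroup lies in the torus.
-/

set_option autoImplicit false
set_option linter.unusedSectionVars false

namespace CfsgLib.ReeType

open Subgroup

universe u

variable {G : Type u} [Group G] [Finite G]

/-- A `p`-element normalizing a group of order `p` centralizes it. -/
theorem commute_of_pPow {p : ℕ} [hp : Fact p.Prime] {y v : G} (hv : orderOf v = p) {j : ℕ}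
    (hy : y ^ p ^ j = 1) (h : y * v * y⁻¹ ∈ zpowers v) : Commute y v := by
  obtain ⟨a, ha⟩ := mem_zpowers_iff.1 h
  have hpow : ∀ l : ℕ, y ^ l * v * (y ^ l)⁻¹ = v ^ (a ^ l) := by
    intro l
    induction l with
    | zero => simp
    | succ l ih =>
      calc y ^ (l + 1) * v * (y ^ (l + 1))⁻¹ = y * (y ^ l * v * (y ^ l)⁻¹) * y⁻¹ := by
            rw [pow_succ']; group
        _ = v ^ (a ^ (l + 1)) := by rw [ih, ← conj_zpow, ← ha, ← zpow_mul, pow_succ']
  have h1 := hpow (p ^ j)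
  rw [hy, one_mul, inv_one, mul_one] at h1
  have hdvd : (p : ℤ) ∣ a ^ p ^ j - 1 := by
    have h0 := (orderOf_dvd_iff_zpow_eq_one (x := v) (i := a ^ p ^ j - 1)).2
      (by rw [zpow_sub, zpow_one, ← h1, mul_inv_cancel])
    rwa [hv] at h0
  have h2 : (((a ^ p ^ j - 1 : ℤ)) : ZMod p) = 0 := (ZMod.intCast_zmod_eq_zero_iff_dvd _ _).2 hdvd
  push_cast at h2
  rw [ZMod.pow_card_pow, sub_eq_zero] at h2
  have hdvd' : (p : ℤ) ∣ a - 1 := by
    rw [← ZMod.intCast_zmod_eq_zero_iff_dvd]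
    push_cast
    rw [h2, sub_self]
  rw [← hv, orderOf_dvd_iff_zpow_eq_one, zpow_sub, zpow_one, ha, mul_inv_eq_one] at hdvd'
  exact mul_inv_eq_iff_eq_mul.1 hdvd'

/-- Powers of a transvection. -/
theorem conj_zpow_shift {y v d : G} (h : y * v * y⁻¹ = v * d) (hyd : Commute y d) (i : ℤ) :
    y ^ i * v * (y ^ i)⁻¹ = v * d ^ i := by
  have h1 : v⁻¹ * y * v = d * y := by
    calc v⁻¹ * y * v = v⁻¹ * (y * v * y⁻¹) * y := by group
      _ = d * y := by rw [h]; group
  have h2 : (v⁻¹ * y * v) ^ i = v⁻¹ * y ^ i * v := by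
    have := conj_zpow (i := i) (a := v⁻¹) (b := y)
    rwa [inv_inv] at this
  rw [h1, hyd.symm.mul_zpow] at h2
  calc y ^ i * v * (y ^ i)⁻¹ = v * (v⁻¹ * y ^ i * v) * (y ^ i)⁻¹ := by group
    _ = v * d ^ i := by rw [← h2]; group

namespace Setup

namespace NFrame

variable {q m n : ℕ} {T : Setup G q m n} (N : NFrame T) {p : ℕ} [hpF : Fact p.Prime]

theorem swap_O : N.swap.O = N.O := by
  ext a
  rw [N.swap.mem_O, N.mem_O]
  rfl

theorem p_dvd_n (hv : orderOf N.v = p) : p ∣ n := hv ▸ N.orderOf_dvd_n N.v_mem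

include N in
theorem p_ne_two (hv : orderOf N.v = p) : p ≠ 2 := fun e =>
  T.kit.data.two_not_mo (e ▸ N.p_dvd_n hv)

theorem odd_of_isPGroup (hv : orderOf N.v = p) {Q : Subgroup G} (hQ : IsPGroup p Q) :
    Odd (Nat.card Q) := by
  obtain ⟨j, hj⟩ := hQ.exists_card_eq
  rw [hj]
  exact (hpF.out.odd_of_ne_two (N.p_ne_two hv)).pow

/-- A `p`-subgroup commuting with `v` lies in the odd part. -/
theorem le_O (hv : orderOf N.v = p) {Q : Subgroup G} (hQ : IsPGroup p Q)
    (hc : ∀ a ∈ Q, Commute a N.v) : Q ≤ N.O := fun a ha =>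
  N.mem_O.2 ⟨hc a ha, (N.odd_of_isPGroup hv hQ).of_dvd_nat (Subgroup.orderOf_dvd_natCard Q ha)⟩

theorem card_le (hv : orderOf N.v = p) {P Q : Subgroup G} (hP : Coprime.IsSylowIn p P N.O)
    (hQ : IsPGroup p Q) (hc : ∀ a ∈ Q, Commute a N.v) : Nat.card Q ≤ Nat.card P := by
  obtain ⟨j, hj⟩ := hQ.exists_card_eq
  rw [hj, hP.2]
  exact Nat.pow_le_pow_right hpF.out.pos ((hpF.out.pow_dvd_iff_le_factorization Nat.card_pos.ne').1
    (hj ▸ card_dvd_of_le (N.le_O hv hQ hc)))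

theorem v_mem_sylow (hv : orderOf N.v = p) {P : Subgroup G} (hP : Coprime.IsSylowIn p P N.O) :
    N.v ∈ P := by
  have hcomm : ∀ a ∈ P, Commute a N.v := fun a ha => (N.mem_O.1 (hP.1 ha)).1
  have hvp : IsPGroup p (zpowers N.v) :=
    IsPGroup.of_card (n := 1) (by rw [Nat.card_zpowers, hv, pow_one])
  have hn : P ≤ normalizer (zpowers N.v : Set G) := by
    refine fun a ha => Subgroup.centralizer_le_normalizer _ ?_
    rw [zpowers_eq_closure, centralizer_closure, mem_centralizer_singleton_iff]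
    exact (hcomm a ha).eq
  have hsup : IsPGroup p (zpowers N.v ⊔ P : Subgroup G) :=
    hvp.to_sup_of_normal_left' hP.isPGroup hn
  have hall : ∀ a ∈ zpowers N.v ⊔ P, Commute a N.v := by
    intro a ha
    obtain ⟨x, hx, y, hy, rfl⟩ := Coprime.mem_sup_exists hn ha
    obtain ⟨i, rfl⟩ := mem_zpowers_iff.1 hx
    exact ((Commute.refl N.v).zpow_left i).mul_left (hcomm y hy)
  have h := eq_of_le_of_card_ge le_sup_right (N.card_le hv hP hsup hall)
  exact h.symm ▸ mem_sup_left (mem_zpowers N.v)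

/-- Elements of the torus killed by `p` are powers of `v`. -/
theorem mem_zpowers_v (hv : orderOf N.v = p) {z : G} (hz : z ∈ zpowers N.w) (hzp : z ^ p = 1) :
    z ∈ zpowers N.v := by
  rcases eq_or_ne z 1 with rfl | hz1
  · exact one_mem _
  have := PSLSpectrum.eq_of_le_zpowers (u := N.w) (zpowers_le.2 hz) (zpowers_le.2 N.v_mem)
    (by rw [Nat.card_zpowers, Nat.card_zpowers, hv, orderOf_eq_prime hzp hz1])
  exact this ▸ mem_zpowers z

/-- Elements of `C_O(u)` killed by `p` are powers of each nontrivial one. -/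
theorem mem_zpowers_of_u {x z : G} (hx : x ∈ N.O) (hxu : Commute x N.u) (hx1 : x ≠ 1)
    (hxp : x ^ p = 1) (hz : z ∈ N.O) (hzu : Commute z N.u) (hzp : z ^ p = 1) : z ∈ zpowers x := by
  rcases eq_or_ne z 1 with rfl | hz1
  · exact one_mem _
  obtain ⟨c, hc⟩ := N.cyclic_u
  have := PSLSpectrum.eq_of_le_zpowers (u := c)
    (zpowers_le.2 (hc ⟨hz, mem_centralizer_singleton_iff.2 hzu.eq⟩))
    (zpowers_le.2 (hc ⟨hx, mem_centralizer_singleton_iff.2 hxu.eq⟩))
    (by rw [Nat.card_zpowers, Nat.card_zpowers, orderOf_eq_prime hxp hx1, orderOf_eq_prime hzp hz1])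
  exact this ▸ mem_zpowers z

/-- A commutator in the torus with an element inverted by `t` is trivial. -/
theorem comm_trick {a y : G} (hat : Commute a T.t) (hy : T.t * y * T.t⁻¹ = y⁻¹)
    (hc : a * y * a⁻¹ * y⁻¹ ∈ zpowers N.w) (hcy : Commute (a * y * a⁻¹ * y⁻¹) y) : Commute a y := by
  set c := a * y * a⁻¹ * y⁻¹ with hcdef
  have hconj : ∀ b : G, T.t * (a * b * a⁻¹) * T.t⁻¹ = a * (T.t * b * T.t⁻¹) * a⁻¹ := fun b => by
    calc T.t * (a * b * a⁻¹) * T.t⁻¹ = (T.t * a) * b * (T.t * a)⁻¹ := by group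
      _ = (a * T.t) * b * (a * T.t)⁻¹ := by rw [hat.eq]
      _ = _ := by group
  have hct : T.t * c * T.t⁻¹ = c := by
    rw [(N.commute_t hc).symm.eq, mul_inv_cancel_right]
  have h1 : a * y⁻¹ * a⁻¹ * y = c := by
    rw [← hct, hcdef]
    calc a * y⁻¹ * a⁻¹ * y = a * (T.t * y * T.t⁻¹) * a⁻¹ * (T.t * y * T.t⁻¹)⁻¹ := by rw [hy, inv_inv]
      _ = T.t * (a * y * a⁻¹) * T.t⁻¹ * (T.t * y * T.t⁻¹)⁻¹ := by rw [hconj]
      _ = T.t * (a * y * a⁻¹ * y⁻¹) * T.t⁻¹ := by group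
  have h2 : c * c = 1 := by
    have h3 : a * y⁻¹ * a⁻¹ * y = y⁻¹ * c⁻¹ * y := by rw [hcdef]; group
    rw [h1, mul_assoc, hcy.inv_left.eq, inv_mul_cancel_left] at h3
    nth_rw 1 [h3]
    exact inv_mul_cancel _
  have h4 : c = 1 := orderOf_eq_one_iff.1 (Nat.eq_one_of_dvd_coprimes
    (Nat.coprime_two_left.2 (N.odd_of_mem hc)) (orderOf_dvd_of_pow_eq_one ((pow_two c).trans h2))
    dvd_rfl)
  exact mul_inv_eq_iff_eq_mul.1 (mul_inv_eq_one.1 h4)

/-- The case of an element of the second centre. -/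
theorem false_of_second (hv : orderOf N.v = p) {P : Subgroup G} (hP : Coprime.IsSylowIn p P N.O)
    (htP : T.t ∈ normalizer (P : Set G)) (huP : N.u ∈ normalizer (P : Set G))
    (hZ : ∀ z ∈ P, (∀ y ∈ P, Commute z y) → z ∈ zpowers N.w) {x : G} (hx : x ∈ P)
    (hxu : Commute x N.u) (hx1 : x ≠ 1) (hxp : x ^ p = 1)
    (hcomm : ∀ y ∈ P, y * x * y⁻¹ * x⁻¹ ∈ zpowers N.v) : False := by
  have hp := hpF.out
  have hv1 := N.v_ne
  have hvP := N.v_mem_sylow hv hP
  have hcent : ∀ a ∈ P, Commute a N.v := fun a ha => (N.mem_O.1 (hP.1 ha)).1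
  have hxo : orderOf x = p := orderOf_eq_prime hxp hx1
  have hxO := hP.1 hx
  have hindep : ∀ z, z ∈ zpowers N.w → z ∈ zpowers x → z = 1 := fun z hz1 hz2 => by
    obtain ⟨i, rfl⟩ := mem_zpowers_iff.1 hz2
    exact N.eq_one_of_inverted_commute hz1 (hxu.zpow_left i)
  have hxnv : x ∉ zpowers N.v := fun h =>
    hx1 (hindep x ((zpowers_le.2 N.v_mem) h) (mem_zpowers x))
  -- the commutator map
  let φ : P →* zpowers N.v :=
    { toFun := fun y => ⟨(y : G) * x * (y : G)⁻¹ * x⁻¹, hcomm y y.2⟩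
      map_one' := Subtype.ext (by simp)
      map_mul' := fun a b => by
        apply Subtype.ext
        push_cast
        obtain ⟨i, hi⟩ := mem_zpowers_iff.1 (hcomm b b.2)
        have hc : Commute (a : G) ((b : G) * x * (b : G)⁻¹ * x⁻¹) := hi ▸ (hcent a a.2).zpow_right i
        calc (a : G) * b * x * ((a : G) * b)⁻¹ * x⁻¹
            = ((a : G) * ((b : G) * x * (b : G)⁻¹ * x⁻¹)) * x * (a : G)⁻¹ * x⁻¹ := by group
          _ = ((b : G) * x * (b : G)⁻¹ * x⁻¹) * ((a : G) * x * (a : G)⁻¹ * x⁻¹) := by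
              rw [hc.eq]; group
          _ = _ := congrArg Subtype.val (mul_comm' (⟨_, hcomm b b.2⟩ : zpowers N.v)
              ⟨_, hcomm a a.2⟩) }
  obtain ⟨y₀, hy₀, hy₀x⟩ : ∃ y ∈ P, ¬ Commute y x := by
    by_contra h
    push Not at h
    exact hx1 (hindep x (hZ x hx fun y hy => (h y hy).symm) (mem_zpowers x))
  set Q := P ⊓ centralizer ({x} : Set G) with hQ
  have hker : φ.ker = Q.subgroupOf P := by
    ext a
    rw [MonoidHom.mem_ker, mem_subgroupOf, hQ, mem_inf, mem_centralizer_singleton_iff]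
    constructor
    · intro h
      exact ⟨a.2, mul_inv_eq_iff_eq_mul.1 (mul_inv_eq_one.1 (congrArg Subtype.val h))⟩
    · intro h
      apply Subtype.ext
      show (a : G) * x * (a : G)⁻¹ * x⁻¹ = 1
      rw [h.2, mul_inv_cancel_right, mul_inv_cancel]
  have hrange : φ.range = ⊤ := by
    have hne : φ.range ≠ ⊥ := by
      intro h
      have h1 : φ ⟨y₀, hy₀⟩ ∈ φ.range := ⟨_, rfl⟩
      rw [h, mem_bot] at h1
      have h2 : φ.ker = Q.subgroupOf P := hker
      have h3 : (⟨y₀, hy₀⟩ : P) ∈ φ.ker := h1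
      rw [hker, mem_subgroupOf] at h3
      exact hy₀x (mem_centralizer_singleton_iff.1 h3.2)
    haveI : Fact (Nat.Prime (Nat.card (zpowers N.v))) := ⟨by rw [Nat.card_zpowers, hv]; exact hp⟩
    exact (Subgroup.eq_bot_or_eq_top_of_prime_card _).resolve_left hne
  have hcardPQ : Nat.card P = p * Nat.card Q := by
    have h1 := card_mul_index φ.ker
    rw [index_ker, hrange, card_top, Nat.card_zpowers, hv, hker,
      Nat.card_congr (subgroupOfEquivOfLe inf_le_left).toEquiv] at h1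
    rw [← h1, mul_comm]
  -- a Sylow subgroup of `C(x)` above `Q`
  obtain ⟨g, hg⟩ := N.exists_conj_mem hp hv N.order_u hxu hxo
  have hgv : zpowers (g * x * g⁻¹) = zpowers N.v :=
    eq_of_le_of_card_ge (zpowers_le.2 hg) (by
      rw [Nat.card_zpowers, Nat.card_zpowers, hv, ← MulAut.conj_apply, MulEquiv.orderOf_eq, hxo])
  have hgc : ∀ a, Commute a x → Commute (g * a * g⁻¹) N.v := by
    intro a ha
    obtain ⟨i, hi⟩ := mem_zpowers_iff.1 (hgv ▸ mem_zpowers N.v)
    rw [← hi]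
    exact (ha.map (MulAut.conj g)).zpow_right i
  have hgc' : ∀ a, Commute (g * a * g⁻¹) N.v → Commute a x := by
    intro a ha
    obtain ⟨i, hi⟩ := mem_zpowers_iff.1 hg
    have h := ha.zpow_right i
    rw [hi] at h
    have := h.map (MulAut.conj g⁻¹)
    simpa [mul_assoc] using this
  have hQp : IsPGroup p Q := hP.isPGroup.to_le inf_le_left
  have hQg : Q.map (MulAut.conj g).toMonoidHom ≤ N.O := N.le_O hv (hQp.map _) (by
    rintro _ ⟨a, ha, rfl⟩
    exact hgc a (mem_centralizer_singleton_iff.1 ha.2))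
  obtain ⟨S, hS⟩ := ((hQp.map (MulAut.conj g).toMonoidHom).comap_subtype :
    IsPGroup p ((Q.map (MulAut.conj g).toMonoidHom).subgroupOf N.O)).exists_le_sylow
  have hS' := Coprime.isSylowIn_map S
  set Px := ((S : Subgroup N.O).map N.O.subtype).map (MulAut.conj g⁻¹).toMonoidHom with hPx
  have hmemPx : ∀ a, a ∈ Px ↔ g * a * g⁻¹ ∈ (S : Subgroup N.O).map N.O.subtype := fun a => by
    constructor
    · rintro ⟨b, hb, rfl⟩
      show g * MulAut.conj g⁻¹ b * g⁻¹ ∈ _
      rw [MulAut.conj_apply, show g * (g⁻¹ * b * g⁻¹⁻¹) * g⁻¹ = b by group]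
      exact hb
    · intro h
      exact ⟨_, h, by simp [mul_assoc]⟩
  have hQPx : Q ≤ Px := fun a ha => by
    rw [hmemPx]
    have h1 : g * a * g⁻¹ ∈ Q.map (MulAut.conj g).toMonoidHom := mem_map_of_mem _ ha
    exact ⟨⟨_, hQg h1⟩, hS (mem_subgroupOf.2 h1), rfl⟩
  have hPxc : ∀ a ∈ Px, Commute a x := fun a ha =>
    hgc' a (N.mem_O.1 (map_subtype_le _ ((hmemPx a).1 ha))).1
  have hPxp : IsPGroup p Px := hS'.isPGroup.map _
  have hPxcard : Nat.card Px = Nat.card P := by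
    rw [hPx, card_map_of_injective (MulAut.conj g⁻¹).injective, hS'.2, hP.2]
  have hQn : Px ≤ normalizer (Q : Set G) := le_normalizer_of_card hPxp hQPx (hPxcard.trans hcardPQ)
  have hPQn : P ≤ normalizer (Q : Set G) := le_normalizer_of_card hP.isPGroup inf_le_left hcardPQ
  obtain ⟨y, hy, hyQ⟩ : ∃ y ∈ Px, y ∉ Q := by
    by_contra h
    push Not at h
    have h1 := Subgroup.card_le_of_le (h : Px ≤ Q)
    rw [hPxcard, hcardPQ] at h1
    have h2 := (Nat.lt_mul_iff_one_lt_left (Nat.card_pos (α := Q))).2 hp.one_lt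
    omega
  -- the centre of `Q`
  set Z' := omegaCenter p Q with hZ'
  have hvZ : N.v ∈ Z' := ⟨⟨hvP, mem_centralizer_singleton_iff.2 (hcent x hx).symm.eq⟩,
    by rw [← hv, pow_orderOf_eq_one], fun a ha => (hcent a ha.1).symm⟩
  have hxZ : x ∈ Z' := ⟨⟨hx, mem_centralizer_singleton_iff.2 rfl⟩, hxp,
    fun a ha => (mem_centralizer_singleton_iff.1 ha.2 : Commute a x).symm⟩
  by_cases hz : ∃ z ∈ Z', z ≠ 1 ∧ Commute z (T.t * N.u)
  · -- an element of the third line is central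
    obtain ⟨z, hz, hz1, hztu⟩ := hz
    refine hz1 (N.swap.eq_one_of_inverted_commute (hZ z hz.1.1 fun b hb => ?_) hztu)
    suffices h : P ≤ centralizer ({z} : Set G) from (mem_centralizer_singleton_iff.1 (h hb) :).symm
    refine T.le_of_four N.order_u N.u_t N.u_ne (N.odd_of_isPGroup hv hP.isPGroup) htP huP
      (fun a ha => ?_) (fun a ha => ?_) (fun a ha => ?_) <;> rw [mem_centralizer_singleton_iff]
    · have hat : Commute a T.t := mem_centralizer_singleton_iff.1 ha.2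
      obtain ⟨i, hi⟩ := mem_zpowers_iff.1 (hcomm a ha.1)
      have hax : Commute a x := N.comm_trick hat (N.t_inverts hxO hxu)
        (hi ▸ zpow_mem N.v_mem i) (hi ▸ (hcent x hx).symm.zpow_left i)
      exact (hz.2.2 a ⟨ha.1, mem_centralizer_singleton_iff.2 hax.eq⟩).symm.eq
    · have hau : Commute a N.u := mem_centralizer_singleton_iff.1 ha.2
      exact (hz.2.2 a ⟨ha.1, mem_centralizer_singleton_iff.2
        (N.comm_cent_u (hP.1 ha.1) hau hxO hxu).eq⟩).symm.eq
    · exact (N.swap.comm_cent_u (N.swap_O.symm ▸ hP.1 ha.1) (mem_centralizer_singleton_iff.1 ha.2)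
        (N.swap_O.symm ▸ hP.1 hz.1.1) hztu).eq
  -- the centre of `Q` is the plane
  push Not at hz
  set X := zpowers N.v ⊔ zpowers x with hX
  have hvx : Commute N.v x := (hcent x hx).symm
  have hXn : zpowers x ≤ normalizer (zpowers N.v : Set G) := by
    refine (zpowers_le.2 ?_)
    refine Subgroup.centralizer_le_normalizer _ ?_
    rw [zpowers_eq_closure, centralizer_closure, mem_centralizer_singleton_iff]
    exact hvx.symm.eq
  have htn : T.t ∈ normalizer (Q : Set G) := by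
    refine Coprime.inf_le_normalizer (A := zpowers T.t) (zpowers_le.2 htP) ?_ (mem_zpowers _)
    rw [zpowers_le, ← centralizer_closure, ← zpowers_eq_closure]
    refine Coprime.normalizer_le_normalizer_centralizer _ (mem_normalizer_iff_map_conj_eq.2 ?_)
    rw [MonoidHom.map_zpowers]
    show zpowers (T.t * x * T.t⁻¹) = zpowers x
    rw [N.t_inverts hxO hxu, zpowers_inv]
  have hun : N.u ∈ normalizer (Q : Set G) := by
    refine Coprime.inf_le_normalizer (A := zpowers N.u) (zpowers_le.2 huP) ?_ (mem_zpowers _)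
    rw [zpowers_le, ← centralizer_closure, ← zpowers_eq_closure]
    refine Coprime.normalizer_le_normalizer_centralizer _ (mem_normalizer_iff_map_conj_eq.2 ?_)
    rw [MonoidHom.map_zpowers]
    show zpowers (N.u * x * N.u⁻¹) = zpowers x
    rw [hxu.symm.eq, mul_inv_cancel_right]
  have hZX : Z' ≤ X := by
    refine T.le_of_four N.order_u N.u_t N.u_ne
      (N.odd_of_isPGroup hv (hQp.to_le (omegaCenter_le p Q))) (normalizer_le_omegaCenter p Q htn)
      (normalizer_le_omegaCenter p Q hun) (fun a ha => ?_) (fun a ha => ?_) (fun a ha => ?_)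
    · exact mem_sup_left (N.mem_zpowers_v hv (N.mem_w_of_commute_t (hP.1 ha.1.1.1)
        (mem_centralizer_singleton_iff.1 ha.2)) ha.1.2.1)
    · exact mem_sup_right (N.mem_zpowers_of_u hxO hxu hx1 hxp (hP.1 ha.1.1.1)
        (mem_centralizer_singleton_iff.1 ha.2) ha.1.2.1)
    · by_contra h
      exact hz a ha.1 (fun e => h (e ▸ one_mem _)) (mem_centralizer_singleton_iff.1 ha.2)
  have hyx : Commute y x := hPxc y hy
  obtain ⟨a, ha, b, hb, hab⟩ := Coprime.mem_sup_exists hXn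
    (hZX (conj_mem_omegaCenter (hQn hy) hvZ))
  -- `y` does not fix the line of `v`
  have hb1 : b ≠ 1 := by
    rintro rfl
    rw [mul_one] at hab
    obtain ⟨j, hj⟩ := hPxp ⟨y, hy⟩
    have hyv : Commute y N.v := commute_of_pPow hv (congrArg Subtype.val hj) (hab ▸ ha)
    -- then `x` would be central in a Sylow subgroup of `C(v)`
    have hle : Q ≤ Px ⊓ centralizer ({N.v} : Set G) := le_inf hQPx fun c hc =>
      mem_centralizer_singleton_iff.2 (hcent c hc.1).eq
    have hall : Px ≤ centralizer ({N.v} : Set G) := by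
      set H := Px ⊓ centralizer ({N.v} : Set G) with hH
      obtain ⟨c, hc⟩ := card_dvd_of_le hle
      have hc1 : c ≠ 1 := by
        rintro rfl
        rw [mul_one] at hc
        exact hyQ ((eq_of_le_of_card_ge hle hc.le).symm ▸
          (⟨hy, mem_centralizer_singleton_iff.2 hyv.eq⟩ : y ∈ H))
      have hd := card_dvd_of_le (inf_le_left : H ≤ Px)
      rw [hc, hPxcard, hcardPQ, mul_comm p] at hd
      have hcp : c = p :=
        ((Nat.dvd_prime hp).1 (Nat.dvd_of_mul_dvd_mul_left Nat.card_pos hd)).resolve_left hc1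
      have heq : H = Px := eq_of_le_of_card_ge inf_le_left
        (by rw [hPxcard, hcardPQ, hc, hcp, mul_comm])
      exact heq ▸ inf_le_right
    have hPxO : Coprime.IsSylowIn p Px N.O :=
      ⟨N.le_O hv hPxp fun c hc => mem_centralizer_singleton_iff.1 (hall hc), hPxcard.trans hP.2⟩
    obtain ⟨c, hc, hcP⟩ := hPxO.exists_conj hP
    have hxPx : x ∈ Px := hQPx ⟨hx, mem_centralizer_singleton_iff.2 rfl⟩
    have hcx : c * x * c⁻¹ ∈ zpowers N.w := by
      refine hZ _ (hcP ▸ mem_map_of_mem _ hxPx) fun d hd => ?_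
      rw [← hcP] at hd
      obtain ⟨e, he, rfl⟩ := hd
      exact (hPxc e he).symm.map (MulAut.conj c)
    have hcv := N.mem_zpowers_v hv hcx (by rw [conj_pow, hxp, mul_one, mul_inv_cancel])
    obtain ⟨i, hi⟩ := mem_zpowers_iff.1 hcv
    refine hxnv (mem_zpowers_iff.2 ⟨i, ?_⟩)
    have hcvc : Commute c (N.v ^ i) := ((N.mem_O.1 hc).1).zpow_right i
    calc N.v ^ i = c⁻¹ * (c * N.v ^ i) := by group
      _ = c⁻¹ * (N.v ^ i * c) := by rw [hcvc.eq]
      _ = x := by rw [hi]; group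
  obtain ⟨a', rfl⟩ := mem_zpowers_iff.1 ha
  obtain ⟨b', rfl⟩ := mem_zpowers_iff.1 hb
  -- the eigenvalue is one
  have ha1 : N.v ^ a' = N.v := by
    have hpow : ∀ l : ℕ, ∃ c : ℤ, y ^ l * N.v * (y ^ l)⁻¹ = N.v ^ (a' ^ l) * x ^ c := by
      intro l
      induction l with
      | zero => exact ⟨0, by simp⟩
      | succ l ih =>
        obtain ⟨c, hc⟩ := ih
        refine ⟨b' * a' ^ l + c, ?_⟩
        calc y ^ (l + 1) * N.v * (y ^ (l + 1))⁻¹
            = y * (y ^ l * N.v * (y ^ l)⁻¹) * y⁻¹ := by rw [pow_succ']; group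
          _ = (y * N.v * y⁻¹) ^ (a' ^ l) * x ^ c := by
              rw [hc, conj_zpow]
              calc y * (N.v ^ a' ^ l * x ^ c) * y⁻¹
                  = y * N.v ^ a' ^ l * y⁻¹ * (y * x ^ c * y⁻¹) := by group
                _ = _ := by rw [(hyx.zpow_right c).eq, mul_inv_cancel_right]
          _ = N.v ^ (a' ^ (l + 1)) * x ^ (b' * a' ^ l + c) := by
              rw [← hab, (hvx.zpow_zpow a' b').mul_zpow, ← zpow_mul, ← zpow_mul, mul_assoc,
                ← zpow_add, pow_succ']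
    obtain ⟨j, hj⟩ := hPxp ⟨y, hy⟩
    obtain ⟨c, hc⟩ := hpow (p ^ j)
    rw [show y ^ p ^ j = 1 from congrArg Subtype.val hj, one_mul, inv_one, mul_one] at hc
    have h1 : N.v ^ (a' ^ p ^ j - 1) = x ^ (-c) := by
      rw [zpow_sub, zpow_one, zpow_neg, mul_inv_eq_iff_eq_mul, eq_inv_mul_iff_mul_eq]
      rw [(hvx.zpow_zpow _ c).symm.eq, ← hc]
    have h2 : N.v ^ (a' ^ p ^ j - 1) = 1 := hindep _ (zpow_mem N.v_mem _)
      (h1 ▸ zpow_mem (mem_zpowers x) _)
    have hdvd : (p : ℤ) ∣ a' ^ p ^ j - 1 := by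
      have h0 := (orderOf_dvd_iff_zpow_eq_one (x := N.v) (i := a' ^ p ^ j - 1)).2 h2
      rwa [hv] at h0
    have h3 : (((a' ^ p ^ j - 1 : ℤ)) : ZMod p) = 0 := (ZMod.intCast_zmod_eq_zero_iff_dvd _ _).2 hdvd
    push_cast at h3
    rw [ZMod.pow_card_pow, sub_eq_zero] at h3
    have hdvd' : (p : ℤ) ∣ a' - 1 := by
      rw [← ZMod.intCast_zmod_eq_zero_iff_dvd]
      push_cast
      rw [h3, sub_self]
    rw [← hv, orderOf_dvd_iff_zpow_eq_one, zpow_sub, zpow_one, mul_inv_eq_one] at hdvd'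
    exact hdvd'
  rw [ha1] at hab
  -- two transvections generate an element of order four
  have hd1 : ∃ i : ℤ, (x ^ b') ^ i = x ^ (-2 : ℤ) := by
    have h := PSLSpectrum.eq_of_le_zpowers (u := x) (zpowers_le.2 (zpow_mem (mem_zpowers x) b'))
      le_rfl (by
        rw [Nat.card_zpowers, Nat.card_zpowers, hxo]
        exact orderOf_eq_prime (by
          rw [← zpow_natCast, ← zpow_mul, mul_comm, zpow_mul, zpow_natCast, hxp, one_zpow]) hb1)
    exact mem_zpowers_iff.1 (h.symm ▸ zpow_mem (mem_zpowers x) _)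
  obtain ⟨i, hi⟩ := hd1
  set c₀ := y₀ * x * y₀⁻¹ * x⁻¹ with hc₀
  have hc₀v : c₀ ∈ zpowers N.v := hcomm y₀ hy₀
  obtain ⟨k₀, hk₀⟩ := mem_zpowers_iff.1 hc₀v
  have hc₀1 : c₀ ≠ 1 := fun e => hy₀x (mul_inv_eq_iff_eq_mul.1 (mul_inv_eq_one.1 e))
  obtain ⟨j, hj⟩ : ∃ j : ℤ, c₀ ^ j = N.v := by
    have h := PSLSpectrum.eq_of_le_zpowers (u := N.v) (zpowers_le.2 hc₀v) le_rfl (by
      rw [Nat.card_zpowers, Nat.card_zpowers, hv]
      exact orderOf_eq_prime (by
        rw [← hk₀, ← zpow_natCast, ← zpow_mul, mul_comm, zpow_mul, zpow_natCast, ← hv,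
          pow_orderOf_eq_one, one_zpow]) hc₀1)
    exact mem_zpowers_iff.1 (h.symm ▸ mem_zpowers _)
  have hβ : y₀ ^ j * x * (y₀ ^ j)⁻¹ = x * N.v := by
    rw [conj_zpow_shift (d := c₀) ?_ ?_ j, hj]
    · have hxc : Commute x c₀ := hk₀ ▸ hvx.symm.zpow_right k₀
      rw [hxc.eq, hc₀, inv_mul_cancel_right]
    · exact hk₀ ▸ (hcent y₀ hy₀).zpow_right k₀
  have hα : y ^ i * N.v * (y ^ i)⁻¹ = N.v * x ^ (-2 : ℤ) := by
    rw [conj_zpow_shift hab.symm (hyx.zpow_right b') i, hi]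
  set g' := y ^ i * y₀ ^ j with hg'
  have hgv' : g' * N.v * g'⁻¹ = N.v * x ^ (-2 : ℤ) := by
    rw [← hα, hg']
    calc y ^ i * y₀ ^ j * N.v * (y ^ i * y₀ ^ j)⁻¹
        = y ^ i * (y₀ ^ j * N.v * (y₀ ^ j)⁻¹) * (y ^ i)⁻¹ := by group
      _ = _ := by rw [((hcent y₀ hy₀).zpow_left j).eq, mul_inv_cancel_right]
  have hgx : g' * x * g'⁻¹ = N.v * x⁻¹ := by
    calc g' * x * g'⁻¹ = y ^ i * (y₀ ^ j * x * (y₀ ^ j)⁻¹) * (y ^ i)⁻¹ := by rw [hg']; group
      _ = (y ^ i * x * (y ^ i)⁻¹) * (y ^ i * N.v * (y ^ i)⁻¹) := by rw [hβ]; group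
      _ = x * (N.v * x ^ (-2 : ℤ)) := by rw [(hyx.zpow_left i).eq, mul_inv_cancel_right, hα]
      _ = N.v * x⁻¹ := by rw [← mul_assoc, ← hvx.eq]; group
  set h := g' * g' with hh
  have hhv : h * N.v * h⁻¹ = N.v⁻¹ := by
    calc h * N.v * h⁻¹ = g' * (g' * N.v * g'⁻¹) * g'⁻¹ := by rw [hh]; group
      _ = (g' * N.v * g'⁻¹) * (g' * x * g'⁻¹) ^ (-2 : ℤ) := by
          conv_lhs => rw [hgv']
          rw [conj_zpow]; group
      _ = (N.v * x ^ (-2 : ℤ)) * (N.v ^ (-2 : ℤ) * x⁻¹ ^ (-2 : ℤ)) := by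
          rw [hgv', hgx, hvx.inv_right.mul_zpow]
      _ = N.v⁻¹ := by
          rw [mul_assoc, ← mul_assoc (x ^ (-2 : ℤ)), (hvx.zpow_zpow (-2 : ℤ) (-2 : ℤ)).symm.eq]
          group
  have hhodd : Odd (orderOf h) := by
    rw [hh, ← pow_two, orderOf_pow, ← Nat.not_even_iff_odd, even_iff_two_dvd]
    intro hd
    rcases Nat.even_or_odd (orderOf g') with he | ho
    · rw [Nat.gcd_eq_right he.two_dvd] at hd
      refine T.not_four_dvd g' ?_
      obtain ⟨c, hc⟩ := hd
      obtain ⟨e, he'⟩ := he.two_dvd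
      rw [he', Nat.mul_div_cancel_left _ two_pos] at hc
      exact ⟨c, by omega⟩
    · rw [Nat.coprime_two_right.2 ho, Nat.div_one] at hd
      exact Nat.not_even_iff_odd.2 ho (even_iff_two_dvd.2 hd)
  have hh2 : Commute (h * h) N.v := by
    show h * h * N.v = N.v * (h * h)
    calc h * h * N.v = h * (h * N.v * h⁻¹) * h := by group
      _ = h * N.v⁻¹ * h⁻¹ * h * h := by rw [hhv]; group
      _ = N.v * (h * h) := by rw [← conj_inv, hhv, inv_inv, mul_assoc]
  rw [(commute_of_odd hhodd hh2).eq, mul_inv_cancel_right] at hhv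
  exact N.v_ne (orderOf_eq_one_iff.1 (Nat.eq_one_of_dvd_coprimes
    (Nat.coprime_two_left.2 (N.odd_of_mem N.v_mem))
    (orderOf_dvd_of_pow_eq_one (by rw [pow_two]; nth_rw 2 [hhv]; exact mul_inv_cancel _)) dvd_rfl))

end NFrame

end Setup

end CfsgLib.ReeType
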